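import Mathlib
import Cfsg.Prelude.Def_GeometricClasses
import Cfsg.Agent.LieClassical.OrthFinite
import Cfsg.Agent.ClassicalGeometry.TwoFamilies
import Cfsg.Agent.H884.SingMax
set_option linter.all false

/-!
# Dictionary between `omegaGL Q` and `E Q`; maximal totally singular subspaces (helper884)

* `bundle Q hQ` : the Mathlib quadratic form of a function `Q` with `IsNondegenerateQuadraticForm Q`;
* `mem_omegaGL` : `g ∈ omegaGL Q ↔ glEquiv ι F g ∈ E (bundle Q hQ)` (finite field, dimension at least five);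
* `singular_stabilizer_isMaximalIn` : the stabiliser in `omegaGL Q` of a totally singular `W ≠ 0` is maximal,
  if `W^⊥ \ W` has no singular vector or `2 dim W + 3 ≤ n`;
* `even_finrank_inf_map` : for `W` totally singular, `dim V = 2 dim W`, `g` in the commutator subgroup of `O Q`,
  `dim (W ⊓ g W) + dim W` is even.
-/

set_option autoImplicit false
set_option linter.unusedSectionVars false

namespace Cfsg.Agent.H884.OmegaGL

open QuadraticMap Cfsg.Geo Cfsg.Agent.LieClassical.OrthCore Cfsg.Agent.LieClassical.OrthTrans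
  Cfsg.Agent.LieClassical.OrthFinite Cfsg.Agent.H884.SingMax
open scoped MatrixGroups Matrix commutatorElement

section Abstract

variable {F V : Type*} [Field F] [AddCommGroup V] [Module F V] {Q : QuadraticForm F V}

theorem map_eq_of_le [FiniteDimensional F V] {W : Submodule F V} {g : V ≃ₗ[F] V}
    (h : ∀ w ∈ W, g w ∈ W) : W.map g.toLinearMap = W := by
  apply Submodule.eq_of_le_of_finrank_eq
  · rintro _ ⟨w, hw, rfl⟩
    exact h w hw
  · exact LinearEquiv.finrank_map_eq g W

theorem mem_iff_of_le [FiniteDimensional F V] {W : Submodule F V} {g : V ≃ₗ[F] V}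
    (h : ∀ w ∈ W, g w ∈ W) (v : V) : v ∈ W ↔ g v ∈ W := by
  constructor
  · exact h v
  · intro hv
    rw [← map_eq_of_le h] at hv
    obtain ⟨w, hw, e⟩ := hv
    have e' : w = v := g.injective e
    rw [← e']
    exact hw

/-- The parity homomorphism attached to a maximal totally singular subspace. -/
theorem even_finrank_inf_map [FiniteDimensional F V] (hQ : Nondeg Q) {W : Submodule F V}
    (hW : ∀ w ∈ W, Q w = 0) (hdim : Module.finrank F V = 2 * Module.finrank F W)
    {g : V ≃ₗ[F] V} (hg : g ∈ ⁅O Q, O Q⁆) :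
    Even (Module.finrank F ↥(W ⊓ W.map g.toLinearMap) + Module.finrank F W) := by
  set m := Module.finrank F W with hm
  have hcomp : ∀ g h : V ≃ₗ[F] V, W.map (g * h).toLinearMap =
      (W.map h.toLinearMap).map g.toLinearMap := by
    intro g h
    rw [← Submodule.map_comp]
    rfl
  have hts : ∀ g : V ≃ₗ[F] V, g ∈ O Q → ∀ u ∈ W.map g.toLinearMap, Q u = 0 := by
    rintro g hg _ ⟨w, hw, rfl⟩
    have := mem_O.1 hg w
    rw [hW w hw] at this
    exact this
  have hfr : ∀ g : V ≃ₗ[F] V, Module.finrank F ↥(W.map g.toLinearMap) = m := fun g =>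
    LinearEquiv.finrank_map_eq g W
  have key : ∀ g h : V ≃ₗ[F] V, g ∈ O Q → h ∈ O Q →
      Even (Module.finrank F ↥(W ⊓ W.map g.toLinearMap) + Module.finrank F ↥(W ⊓ W.map h.toLinearMap)
        + Module.finrank F ↥(W ⊓ W.map (g * h).toLinearMap) + m) := by
    intro g h hg hh
    have h1 := Cfsg.Agent.ClassicalGeometry.TwoFamilies.even_intersections (polarBilin Q) (fun v => Q v)
      (fun u w => Q_add u w) (nondegenerate_of_nondeg hQ) (isRefl_polarBilin Q) m hdim W
      (W.map g.toLinearMap) (W.map (g * h).toLinearMap) hm.symm (hfr g) (hfr (g * h)) hW (hts g hg)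
      (hts (g * h) ((O Q).mul_mem hg hh))
    have h2 : Module.finrank F ↥(W.map g.toLinearMap ⊓ W.map (g * h).toLinearMap) =
        Module.finrank F ↥(W ⊓ W.map h.toLinearMap) := by
      rw [hcomp, ← Submodule.map_inf _ g.injective]
      exact LinearEquiv.finrank_map_eq g _
    rw [h2] at h1
    exact h1
  let f : O Q →* Multiplicative (ZMod 2) :=
    { toFun := fun g => Multiplicative.ofAdd
        ((Module.finrank F ↥(W ⊓ W.map (g : V ≃ₗ[F] V).toLinearMap) + m : ℕ) : ZMod 2)
      map_one' := by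
        have h1 : W.map ((1 : O Q) : V ≃ₗ[F] V).toLinearMap = W := by
          have : ((1 : O Q) : V ≃ₗ[F] V).toLinearMap = LinearMap.id := rfl
          rw [this, Submodule.map_id]
        rw [h1, inf_idem, ← hm, ← two_mul]
        rw [Nat.cast_mul]
        have : ((2 : ℕ) : ZMod 2) = 0 := rfl
        rw [this, zero_mul]
        rfl
      map_mul' := by
        rintro ⟨g, hg⟩ ⟨h, hh⟩
        rw [← ofAdd_add]
        congr 1
        have h1 := key g h hg hh
        rw [← ZMod.natCast_eq_zero_iff_even] at h1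
        have h3 : ∀ x : ZMod 2, x + x = 0 := by decide
        push_cast at h1 ⊢
        show ((Module.finrank F ↥(W ⊓ W.map (g * h).toLinearMap) : ℕ) : ZMod 2) + (m : ZMod 2) = _
        have e1 := h3 (Module.finrank F ↥(W ⊓ W.map g.toLinearMap) : ZMod 2)
        have e2 := h3 (Module.finrank F ↥(W ⊓ W.map h.toLinearMap) : ZMod 2)
        have e3 := h3 (m : ZMod 2)
        linear_combination h1 - e1 - e2 - e3 }
  have hle : ⁅O Q, O Q⁆ ≤ f.ker.map (O Q).subtype := by
    rw [Subgroup.commutator_le]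
    intro a ha b hb
    refine ⟨⁅(⟨a, ha⟩ : O Q), (⟨b, hb⟩ : O Q)⁆, ?_, rfl⟩
    rw [SetLike.mem_coe, MonoidHom.mem_ker, map_commutatorElement]
    exact commutatorElement_eq_one_iff_mul_comm.2 (mul_comm _ _)
  obtain ⟨⟨g', hg'⟩, hker, rfl⟩ := hle hg
  rw [SetLike.mem_coe, MonoidHom.mem_ker] at hker
  rw [← ZMod.natCast_eq_zero_iff_even]
  exact hker

end Abstract

section Matrices

variable {ι : Type} [Fintype ι] [DecidableEq ι] {F : Type*} [Field F]

/-- The bundled quadratic form. -/
def bundle (Q : (ι → F) → F) (hQ : IsNondegenerateQuadraticForm Q) : QuadraticForm F (ι → F) where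
  toFun := Q
  toFun_smul a x := by rw [hQ.smul, smul_eq_mul, _root_.sq]
  exists_companion' := ⟨LinearMap.mk₂ F (polar Q) hQ.polar_bilinear.add_left
    (fun c x y => by rw [hQ.polar_bilinear.smul_left, smul_eq_mul])
    (fun x y z => hQ.polar_bilinear.add_right x y z)
    (fun c x y => by rw [hQ.polar_bilinear.smul_right, smul_eq_mul]), fun x y => by
      rw [LinearMap.mk₂_apply, polar]; ring⟩

@[simp] theorem coe_bundle (Q : (ι → F) → F) (hQ : IsNondegenerateQuadraticForm Q) :
    (⇑(bundle Q hQ) : (ι → F) → F) = Q := rfl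

theorem bundle_apply (Q : (ι → F) → F) (hQ : IsNondegenerateQuadraticForm Q) (v : ι → F) :
    bundle Q hQ v = Q v := rfl

theorem nondeg_bundle (Q : (ι → F) → F) (hQ : IsNondegenerateQuadraticForm Q) :
    Nondeg (bundle Q hQ) := by
  intro x hx
  by_contra hne
  obtain ⟨-, y, hy⟩ := hQ.nondegenerate x hne
  exact hy (hx y)

theorem good_bundle [Finite F] (Q : (ι → F) → F) (hQ : IsNondegenerateQuadraticForm Q)
    (hn : 5 ≤ Fintype.card ι) : Good (bundle Q hQ) :=
  good_of_finite (nondeg_bundle Q hQ) (by rwa [Module.finrank_fintype_fun_eq_card])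

theorem map_omegaGL (Q : (ι → F) → F) (hQ : IsNondegenerateQuadraticForm Q) :
    (omegaGL Q).map (glEquiv ι F).toMonoidHom = ⁅O (bundle Q hQ), O (bundle Q hQ)⁆ := by
  have h := map_Omega (bundle Q hQ)
  rw [← h, isometryHom, omegaGL, ← Subgroup.map_map]
  rfl

/-- **Dictionary.** -/
theorem mem_omegaGL_iff_commutator (Q : (ι → F) → F) (hQ : IsNondegenerateQuadraticForm Q)
    (g : GL ι F) : g ∈ omegaGL Q ↔ glEquiv ι F g ∈ ⁅O (bundle Q hQ), O (bundle Q hQ)⁆ := by
  rw [← map_omegaGL Q hQ]
  constructor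
  · intro h
    exact ⟨g, h, rfl⟩
  · rintro ⟨g', hg', e⟩
    have : g' = g := (glEquiv ι F).injective e
    rw [← this]
    exact hg'

theorem mem_omegaGL [Finite F] (Q : (ι → F) → F) (hQ : IsNondegenerateQuadraticForm Q)
    (hn : 5 ≤ Fintype.card ι) (g : GL ι F) : g ∈ omegaGL Q ↔ glEquiv ι F g ∈ E (bundle Q hQ) := by
  rw [mem_omegaGL_iff_commutator Q hQ, (good_bundle Q hQ hn).commutator_eq_E]

theorem mem_subspaceStabilizer {W : Submodule F (ι → F)} {g : GL ι F} :
    g ∈ subspaceStabilizer W ↔ ∀ w ∈ W, glEquiv ι F g w ∈ W := by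
  constructor
  · intro h w hw
    exact (h w).1 hw
  · intro h v
    exact mem_iff_of_le h v

/-- The stabiliser in `omegaGL Q` of a totally singular subspace is proper. -/
theorem stabilizer_lt [Finite F] (Q : (ι → F) → F) (hQ : IsNondegenerateQuadraticForm Q)
    (hn : 5 ≤ Fintype.card ι) {W : Submodule F (ι → F)} (hW0 : W ≠ ⊥)
    (hW : IsTotallySingularQuad Q W) : subspaceStabilizer W ⊓ omegaGL Q < omegaGL Q := by
  refine lt_of_le_of_ne inf_le_right fun he => ?_
  obtain ⟨g, hg, w, hw, hgw⟩ := exists_moving (good_bundle Q hQ hn) (W := W) hW hW0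
  have h1 : (glEquiv ι F).symm g ∈ omegaGL Q := by
    rw [mem_omegaGL Q hQ hn, MulEquiv.apply_symm_apply]
    exact hg
  rw [← he] at h1
  have h2 := mem_subspaceStabilizer.1 h1.1 w hw
  rw [MulEquiv.apply_symm_apply] at h2
  exact hgw h2

/-- **Stabilisers of totally singular subspaces in `Ω` are maximal**, unless `W^⊥/W` is a hyperbolic plane. -/
theorem singular_stabilizer_isMaximalIn [Finite F] (Q : (ι → F) → F)
    (hQ : IsNondegenerateQuadraticForm Q) (hn : 5 ≤ Fintype.card ι) {W : Submodule F (ι → F)}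
    (hW0 : W ≠ ⊥) (hW : IsTotallySingularQuad Q W)
    (hbig : (∃ x, Q x = 0 ∧ (∀ w ∈ W, polar Q w x = 0) ∧ x ∉ W) →
      2 * Module.finrank F W + 3 ≤ Fintype.card ι) :
    IsMaximalIn (omegaGL Q) (subspaceStabilizer W ⊓ omegaGL Q) := by
  have hG := good_bundle Q hQ hn
  refine ⟨stabilizer_lt Q hQ hn hW0 hW, fun M hM1 hM2 => ?_⟩
  have h := stabilizer_maximal hG (W := W) hW
    (by rw [Module.finrank_fintype_fun_eq_card]; exact hbig) (M.map (glEquiv ι F).toMonoidHom) ?_ ?_
  · rcases h with h | h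
    · left
      apply le_antisymm
      · refine le_inf (fun g hg => mem_subspaceStabilizer.2 fun w hw => ?_) hM2
        exact h _ ⟨g, hg, rfl⟩ w hw
      · exact hM1
    · right
      apply le_antisymm hM2
      intro g hg
      rw [mem_omegaGL Q hQ hn, ← h] at hg
      obtain ⟨g', hg', e⟩ := hg
      have : g' = g := (glEquiv ι F).injective e
      rw [← this]
      exact hg'
  · rintro _ ⟨g, hg, rfl⟩
    exact (mem_omegaGL Q hQ hn g).1 (hM2 hg)
  · intro g hg hgW
    refine ⟨(glEquiv ι F).symm g, hM1 ⟨mem_subspaceStabilizer.2 fun w hw => ?_, ?_⟩,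
      (glEquiv ι F).apply_symm_apply g⟩
    · rw [MulEquiv.apply_symm_apply]
      exact hgW w hw
    · show (glEquiv ι F).symm g ∈ omegaGL Q
      rw [mem_omegaGL Q hQ hn, MulEquiv.apply_symm_apply]
      exact hg

end Matrices

end Cfsg.Agent.H884.OmegaGL
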