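import Mathlib
import Cfsg.Prelude.Def_GeometricClasses
import Cfsg.Agent.H884.OmegaGL
set_option linter.all false

/-!
# The stabiliser of a submaximal totally singular subspace in plus type is not maximal (helper884)
-/

set_option autoImplicit false
set_option linter.unusedSectionVars false

namespace Cfsg.Agent.H884.SingMaxPlus

open QuadraticMap Cfsg.Geo Cfsg.Agent.LieClassical.OrthCore Cfsg.Agent.LieClassical.OrthTrans
  Cfsg.Agent.LieClassical.OrthFinite Cfsg.Agent.H884.SingMax Cfsg.Agent.H884.OmegaGL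
open scoped MatrixGroups Matrix commutatorElement

section Abstract

variable {F V : Type*} [Field F] [AddCommGroup V] [Module F V] {Q : QuadraticForm F V}

/-- A totally singular subspace has dimension at most half. -/
theorem two_mul_finrank_le [FiniteDimensional F V] (hQ : Nondeg Q) {W : Submodule F V}
    (hW : ∀ w ∈ W, Q w = 0) : 2 * Module.finrank F W ≤ Module.finrank F V := by
  have h1 : W ≤ LinearMap.BilinForm.orthogonal (polarBilin Q) W := fun w hw =>
    mem_orthogonal_iff.2 (perp_of_mem hW hw)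
  have h2 := Submodule.finrank_mono h1
  have h3 : Module.finrank F (LinearMap.BilinForm.orthogonal (polarBilin Q) W) =
      Module.finrank F V - Module.finrank F W :=
    LinearMap.BilinForm.finrank_orthogonal (nondegenerate_of_nondeg hQ) W
  have h4 := Submodule.finrank_le W
  omega

theorem finrank_orthogonal [FiniteDimensional F V] (hQ : Nondeg Q) (W : Submodule F V) :
    Module.finrank F (LinearMap.BilinForm.orthogonal (polarBilin Q) W) + Module.finrank F W =
      Module.finrank F V := by
  have h3 : Module.finrank F (LinearMap.BilinForm.orthogonal (polarBilin Q) W) =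
      Module.finrank F V - Module.finrank F W :=
    LinearMap.BilinForm.finrank_orthogonal (nondegenerate_of_nondeg hQ) W
  have h4 := Submodule.finrank_le W
  omega

/-- If `U` is totally singular of dimension larger than `W` totally singular, there is a singular vector of
`W^⊥` in `U` outside `W`. -/
theorem exists_extend [FiniteDimensional F V] (hQ : Nondeg Q) {W U : Submodule F V}
    (hU : ∀ w ∈ U, Q w = 0) (hlt : Module.finrank F W < Module.finrank F U) :
    ∃ z ∈ U, Perp Q W z ∧ z ∉ W := by
  by_contra hcon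
  push Not at hcon
  -- `U ⊓ W^⊥ ≤ U ⊓ W`
  have h1 : LinearMap.BilinForm.orthogonal (polarBilin Q) W ⊓ U ≤ W ⊓ U := by
    intro z hz
    exact ⟨hcon z hz.2 (mem_orthogonal_iff.1 hz.1), hz.2⟩
  have h2 := Submodule.finrank_mono h1
  have h3 := Submodule.finrank_sup_add_finrank_inf_eq
    (LinearMap.BilinForm.orthogonal (polarBilin Q) W) U
  have h4 := finrank_orthogonal hQ W
  -- `W^⊥ ⊔ U ≤ (W ⊓ U)^⊥`
  have h5 : LinearMap.BilinForm.orthogonal (polarBilin Q) W ⊔ U ≤
      LinearMap.BilinForm.orthogonal (polarBilin Q) (W ⊓ U) := by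
    apply sup_le
    · exact LinearMap.BilinForm.orthogonal_le inf_le_left
    · intro u hu
      rw [mem_orthogonal_iff]
      intro w hw
      exact perp_of_mem hU hu w hw.2
  have h6 := Submodule.finrank_mono h5
  have h7 := finrank_orthogonal hQ (W ⊓ U)
  omega

theorem sup_span_singular {W : Submodule F V} (hW : ∀ w ∈ W, Q w = 0) {z : V} (hz : Q z = 0)
    (hzW : Perp Q W z) : ∀ w ∈ W ⊔ Submodule.span F {z}, Q w = 0 := by
  intro x hx
  obtain ⟨w, hw, s, hs, rfl⟩ := Submodule.mem_sup.1 hx
  obtain ⟨c, rfl⟩ := Submodule.mem_span_singleton.1 hs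
  rw [Q_add, hW w hw, QuadraticMap.map_smul, hz, polar_smul_right, hzW w hw]
  simp

theorem finrank_sup_span [FiniteDimensional F V] {W : Submodule F V} {z : V} (hz : z ∉ W) :
    Module.finrank F ↥(W ⊔ Submodule.span F {z}) = Module.finrank F W + 1 := by
  have hz0 : z ≠ 0 := fun h => hz (h ▸ W.zero_mem)
  have h1 := Submodule.finrank_sup_add_finrank_inf_eq W (Submodule.span F {z})
  have h2 : W ⊓ Submodule.span F {z} = ⊥ := by
    rw [eq_bot_iff]
    rintro x ⟨hx, hx'⟩
    obtain ⟨c, rfl⟩ := Submodule.mem_span_singleton.1 hx'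
    by_cases hc : c = 0
    · rw [hc, zero_smul]; exact Submodule.zero_mem _
    · exfalso
      apply hz
      have := W.smul_mem c⁻¹ hx
      rwa [smul_smul, inv_mul_cancel₀ hc, one_smul] at this
  rw [h2, finrank_bot, finrank_span_singleton hz0, add_zero] at h1
  exact h1

/-- In plus type, an element of the commutator subgroup which stabilises a submaximal totally singular `W`
stabilises each maximal totally singular subspace above it. -/
theorem stabilizes_above [FiniteDimensional F V] (hQ : Nondeg Q) {W W1 : Submodule F V}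
    (hW1 : ∀ w ∈ W1, Q w = 0) (hle : W ≤ W1) (hd : Module.finrank F W1 = Module.finrank F W + 1)
    (hdim : Module.finrank F V = 2 * Module.finrank F W1) {g : V ≃ₗ[F] V} (hg : g ∈ ⁅O Q, O Q⁆)
    (hgW : ∀ w ∈ W, g w ∈ W) : ∀ w ∈ W1, g w ∈ W1 := by
  have h1 := even_finrank_inf_map hQ hW1 hdim hg
  have h2 : W ≤ W1 ⊓ W1.map g.toLinearMap := by
    rw [← map_eq_of_le hgW]
    refine le_inf ?_ (Submodule.map_mono hle)
    rw [map_eq_of_le hgW]
    exact hle
  have h3 := Submodule.finrank_mono h2
  have h4 := Submodule.finrank_mono (inf_le_left : W1 ⊓ W1.map g.toLinearMap ≤ W1)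
  have h5 : Module.finrank F ↥(W1 ⊓ W1.map g.toLinearMap) = Module.finrank F W1 := by
    rw [Nat.even_iff] at h1
    omega
  have h6 : W1 ⊓ W1.map g.toLinearMap = W1 :=
    Submodule.eq_of_le_of_finrank_eq inf_le_left h5
  have h7 : W1 ≤ W1.map g.toLinearMap := inf_eq_left.1 h6
  have h8 : W1 = W1.map g.toLinearMap :=
    Submodule.eq_of_le_of_finrank_eq h7 (LinearEquiv.finrank_map_eq g W1).symm
  intro w hw
  rw [h8]
  exact ⟨w, hw, rfl⟩

/-- For `W < W1` totally singular, `W ≠ 0`, some element of `E Q` stabilises `W1` and not `W`. -/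
theorem exists_stab_above [FiniteDimensional F V] (hQ : Nondeg Q) {W W1 : Submodule F V}
    (hW1 : ∀ w ∈ W1, Q w = 0) (hle : W ≤ W1) (hne : W ≠ W1) (hW0 : W ≠ ⊥) :
    ∃ g ∈ E Q, (∀ w ∈ W1, g w ∈ W1) ∧ ∃ w ∈ W, g w ∉ W := by
  obtain ⟨z, hz1, hzW⟩ : ∃ z ∈ W1, z ∉ W := by
    by_contra h
    push Not at h
    exact hne (le_antisymm hle h)
  obtain ⟨w, hw, hw0⟩ := (Submodule.ne_bot_iff W).1 hW0
  have hwz : w ∉ Submodule.span F {z} := by
    intro h
    obtain ⟨c, rfl⟩ := Submodule.mem_span_singleton.1 h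
    have hc : c ≠ 0 := by
      rintro rfl
      exact hw0 (zero_smul _ _)
    apply hzW
    have := W.smul_mem c⁻¹ hw
    rwa [smul_smul, inv_mul_cancel₀ hc, one_smul] at this
  obtain ⟨v, hv, hwv⟩ := exists_perp_polar_ne hQ _ hwz
  have hzv : polar Q z v = 0 := hv z (Submodule.mem_span_singleton_self z)
  have hzQ := hW1 z hz1
  refine ⟨siegel Q z v hzQ hzv, siegel_mem_E _ _, ?_, w, hw, ?_⟩
  · intro x hx
    rw [siegel_apply, perp_of_mem hW1 hx z hz1]
    simp only [zero_smul, add_zero, mul_zero, sub_zero]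
    exact W1.sub_mem hx (W1.smul_mem _ hz1)
  · intro h
    rw [siegel_apply, perp_of_mem hW1 (hle hw) z hz1] at h
    simp only [zero_smul, add_zero, mul_zero, sub_zero] at h
    have h2 := W.sub_mem hw h
    rw [sub_sub_cancel] at h2
    have hne : polar Q v w ≠ 0 := by rw [polar_comm]; exact hwv
    have h3 := W.smul_mem (polar Q v w)⁻¹ h2
    rw [smul_smul, inv_mul_cancel₀ hne, one_smul] at h3
    exact hzW h3

end Abstract

end Cfsg.Agent.H884.SingMaxPlus
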