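import Mathlib
import Cfsg.Agent.Lib.Zsigmondy
import Cfsg.Agent.H251.GeoCardC
import Cfsg.Agent.H919.AschDefs2
import Cfsg.Agent.H954.TSing9
import Cfsg.Agent.H200.LinFixE_m3
import Cfsg.Agent.H884.HermGL
import Cfsg.Agent.H884.OddForm
import Cfsg.Agent.H925.OrthBasic
import Cfsg.Agent.H925.EvenFine
import Cfsg.Agent.H925.OrthRed
import Cfsg.Agent.H954.TSBridge
import Cfsg.Agent.H946.ExcNum_m3
import Cfsg.Agent.H982.LawFam
import Cfsg.Agent.LieClassical.OmegaReindex
import Cfsg.Agent.Prune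
set_option linter.all false

section
prune_inst 0x7fffa9fdbbbcdddfffff7e75f6fccdfdfeb9bfffa6dff9fbffe069dfabdf7b9ac9edf38d6beb11fe0ed6ca1410ec7bc3f97ecfffe26bdc7ffffd5ff45ffbffdfedf7bd0071948c340fbc2ffee3f0678e7f3fffffffffffffffffffffffffffaeffbfffffffff

-- part: H884/ElNum
section
set_option linter.all false
open scoped Cfsg.Agent.FastGrp

/-!
# Primitive prime divisors: arithmetic for the geometric classes (TEAM ELUSIVE, helper884)
-/

set_option autoImplicit false

namespace Cfsg.Agent.H884.El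

/-- `r` is a prime with `ord_r(q) = e`. -/
structure PP (q e r : ℕ) : Prop where
  prime : r.Prime
  ord : orderOf (q : ZMod r) = e

variable {q e r : ℕ}

theorem PP.ne_zero (h : PP q e r) (he : 1 ≤ e) : (q : ZMod r) ≠ 0 := by
  have := Fact.mk h.prime
  intro h0
  have h1 := h.ord
  rw [h0, orderOf_eq_zero] at h1
  · omega
  · rw [isOfFinOrder_iff_pow_eq_one]
    rintro ⟨n, hn, h2⟩
    rw [zero_pow hn.ne'] at h2
    exact zero_ne_one h2

theorem PP.dvd_sub_one (h : PP q e r) (he : 1 ≤ e) : e ∣ r - 1 := by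
  have := Fact.mk h.prime
  rw [← h.ord]
  exact ZMod.orderOf_dvd_card_sub_one (h.ne_zero he)

theorem PP.lt (h : PP q e r) (he : 1 ≤ e) : e < r := by
  have h1 := h.dvd_sub_one he
  have h2 := h.prime.two_le
  have := Nat.le_of_dvd (by omega) h1
  omega

theorem PP.odd (h : PP q e r) (he : 2 ≤ e) : Odd r :=
  h.prime.odd_of_ne_two (by have := h.lt (by omega); omega)

theorem PP.two_mul_dvd (h : PP q e r) (he : 3 ≤ e) (ho : Odd e) : 2 * e ∣ r - 1 := by
  have h1 := h.dvd_sub_one (by omega)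
  have h2 := h.odd (by omega)
  have h3 : 2 ∣ r - 1 := by
    obtain ⟨k, hk⟩ := h2
    exact ⟨k, by omega⟩
  exact Nat.Coprime.mul_dvd_of_dvd_of_dvd (Nat.coprime_two_left.mpr ho) h3 h1

theorem PP.not_dvd (h : PP q e r) (he : 1 ≤ e) : ¬ r ∣ q := by
  intro h1
  exact h.ne_zero he ((ZMod.natCast_eq_zero_iff _ _).2 h1)

theorem PP.dvd_iff (h : PP q e r) (hq : 1 ≤ q) (i : ℕ) : r ∣ q ^ i - 1 ↔ e ∣ i := by
  rw [Cfsg.Agent.Lib.Zsigmondy.dvd_pow_sub_one_iff hq, h.ord]

theorem PP.ne_of_ne {e' : ℕ} {s : ℕ} (h : PP q e r) (h' : PP q e' s) (hne : e ≠ e') : r ≠ s := by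
  rintro rfl
  exact hne (h.ord.symm.trans h'.ord)

/-- two primes `≡ 1 (mod c)` below `2c + 1` coincide. -/
theorem eq_of_dvd {c a b : ℕ} (ha : c ∣ a - 1) (hb : c ∣ b - 1) (ha2 : 2 ≤ a) (hb2 : 2 ≤ b)
    (hac : a < 2 * c + 1) (hbc : b < 2 * c + 1) : a = b := by
  obtain ⟨x, hx⟩ := ha
  obtain ⟨y, hy⟩ := hb
  have hx1 : x = 1 := by
    have h1 : x < 2 := by
      by_contra hcon
      push Not at hcon
      have := Nat.mul_le_mul_left c hcon
      omega
    have h2 : x ≠ 0 := by rintro rfl; omega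
    omega
  have hy1 : y = 1 := by
    have h1 : y < 2 := by
      by_contra hcon
      push Not at hcon
      have := Nat.mul_le_mul_left c hcon
      omega
    have h2 : y ≠ 0 := by rintro rfl; omega
    omega
  subst hx1 hy1
  omega

/-- the odd one of the exponents `m`, `m - 1`. -/
def oddE (m : ℕ) : ℕ := if Even m then m - 1 else m

theorem oddE_odd {m : ℕ} (hm : 1 ≤ m) : Odd (oddE m) := by
  unfold oddE
  split_ifs with h
  · exact Nat.Even.sub_odd hm h odd_one
  · exact Nat.not_even_iff_odd.1 h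

theorem oddE_of_even {m : ℕ} (h : Even m) : oddE m = m - 1 := if_pos h

theorem oddE_of_odd {m : ℕ} (h : Odd m) : oddE m = m := if_neg (Nat.not_even_iff_odd.2 h)

/-- odd `m`: the primes `r_2m` and `r_m` are not both at most `4m`. -/
theorem false_of_odd {m r s : ℕ} (hm : 3 ≤ m) (ho : Odd m) (hr : PP q (2 * m) r) (hs : PP q m s)
    (h1 : r ≤ 4 * m) (h2 : s ≤ 4 * m) : False := by
  refine hr.ne_of_ne hs (by omega) ?_
  have := hr.prime.two_le
  have := hs.prime.two_le
  exact eq_of_dvd (c := 2 * m) (hr.dvd_sub_one (by omega)) (hs.two_mul_dvd hm ho) (by omega)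
    (by omega) (by omega) (by omega)

/-- even `m`: the primes `r_(2m-2)` and `r_(m-1)` are not both at most `4m - 4`. -/
theorem false_of_even {m r s : ℕ} (hm : 4 ≤ m) (he : Even m) (hr : PP q (2 * m - 2) r) (hs : PP q (m - 1) s)
    (h1 : r ≤ 4 * m - 4) (h2 : s ≤ 4 * m - 4) : False := by
  refine hr.ne_of_ne hs (by omega) ?_
  have := hr.prime.two_le
  have := hs.prime.two_le
  have h3 := hs.two_mul_dvd (by omega) (Nat.Even.sub_odd (by omega) he odd_one)
  rw [show 2 * (m - 1) = 2 * m - 2 by omega] at h3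
  exact eq_of_dvd (c := 2 * m - 2) (hr.dvd_sub_one (by omega)) h3 (by omega) (by omega)
    (by omega) (by omega)

end Cfsg.Agent.H884.El
end

-- part: H884/ElKill
section
set_option linter.all false
open scoped Cfsg.Agent.FastGrp

/-!
# Killing the geometric classes by primitive prime divisors (TEAM ELUSIVE, helper884)
-/

set_option autoImplicit false

namespace Cfsg.Agent.H884.El

open Cfsg.Geo Cfsg.Agent.H251.GeoCard
open scoped MatrixGroups

theorem le_of_div {q d r n : ℕ} (hr : PP q d r) (hq : 1 ≤ q) (h : Div r q n) : d ≤ n := by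
  obtain ⟨i, h1, h2, h3⟩ := h
  exact (Nat.le_of_dvd h1 ((hr.dvd_iff hq i).1 h3)).trans h2

variable {ι : Type} [Fintype ι] [DecidableEq ι] {F : Type*} [Field F] [Fintype F]

theorem one_lt_q (F : Type*) [Field F] [Finite F] : 1 < Nat.card F := Finite.one_lt_card

theorem kill_tensor {n₁ n₂ : ℕ} (e : ι ≃ Fin n₁ × Fin n₂) (P : GL ι F) {H : Subgroup (GL ι F)}
    (hH : H ≤ tensorProductSubgroup n₁ n₂ e P) (h1 : 2 ≤ n₁) (h2 : 2 ≤ n₂) (h12 : n₁ * n₂ = Fintype.card ι)
    {r d : ℕ} (hr : PP (Nat.card F) d r) (hd : Fintype.card ι < 2 * d) (hdvd : r ∣ Nat.card H) : False := by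
  have hq := one_lt_q F
  have h3 := tensor e P hr.prime (hr.not_dvd (by omega)) (hdvd.trans (Subgroup.card_dvd_of_le hH))
  have h4 := le_of_div hr hq.le h3
  have h5 : 2 * n₁ ≤ n₁ * n₂ := by rw [mul_comm 2]; exact Nat.mul_le_mul_left _ h2
  have h6 : 2 * n₂ ≤ n₁ * n₂ := Nat.mul_le_mul_right _ h1
  rcases le_max_iff.1 h4 with h | h <;> omega

/-- an `m`-decomposition: the prime is at most the number of blocks. -/
theorem decomp_le {t k : ℕ} {D : Fin t → Submodule F (ι → F)} (hD : IsMDecomposition k D) {H : Subgroup (GL ι F)}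
    (hH : H ≤ decompositionStabilizer D) {r d : ℕ} (hr : PP (Nat.card F) d r) (hd : k < d)
    (hdvd : r ∣ Nat.card H) : r ≤ t := by
  have hq := one_lt_q F
  rcases decomp hD hr.prime (hr.not_dvd (by omega)) (hdvd.trans (Subgroup.card_dvd_of_le hH)) with h | h
  · exact h
  · have := le_of_div hr hq.le h
    omega

theorem kill_wreath {k t : ℕ} {e : ι ≃ (Fin t → Fin k)} {P : GL ι F} {E : Fin t → Subgroup (GL ι F)}
    {H : Subgroup (GL ι F)} (hW : H919.WreathData H k t e P E) (hkt : k ^ t = Fintype.card ι)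
    {r d : ℕ} (hr : PP (Nat.card F) d r) (hd : Fintype.card ι < 2 * d) (hdvd : r ∣ Nat.card H) : False := by
  have hq := one_lt_q F
  have h2k := hW.two_le_m
  have h2t := hW.two_le_t
  have hrd := hr.lt (by omega)
  rcases wreath e P hr.prime (hr.not_dvd (by omega)) (hdvd.trans (Subgroup.card_dvd_of_le hW.wreath)) with h | h
  · -- `t < 2 ^ (t - 1) + 1`
    have h3 : 2 ^ t ≤ k ^ t := Nat.pow_le_pow_left h2k t
    have h4 : t - 1 < 2 ^ (t - 1) := Nat.lt_two_pow_self
    have h5 : 2 ^ t = 2 * 2 ^ (t - 1) := by rw [← pow_succ']; congr 1; omega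
    omega
  · have h3 := le_of_div hr hq.le h
    have h4 : k ^ 2 ≤ k ^ t := Nat.pow_le_pow_right (by omega) h2t
    have h5 : 2 * k ≤ k ^ 2 := by rw [pow_two]; exact Nat.mul_le_mul_right _ h2k
    omega

/-- subfields: `r` is a primitive prime divisor of `p ^ (a d) - 1`, `q = p ^ a`. -/
theorem kill_subfield {F₁ : Subfield F} {B : GL ι F} {H : Subgroup (GL ι F)} (hH : H ≤ subfieldSubgroup F₁ B)
    {s : ℕ} (hs : s.Prime) (hcard : Nat.card F = Nat.card F₁ ^ s) {p a : ℕ} (hp : p.Prime)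
    (hpa : Nat.card F = p ^ a) {r d : ℕ} (hr : PP p (a * d) r) (hd : Fintype.card ι < 2 * d) (hd2 : 2 ≤ d)
    (hdvd : r ∣ Nat.card H) : False := by
  have hq := one_lt_q F
  have ha : 1 ≤ a := by
    rcases Nat.eq_zero_or_pos a with rfl | h
    · rw [pow_zero] at hpa; omega
    · exact h
  have had : 1 ≤ a * d := Nat.mul_pos ha (by omega)
  have hrp : ¬ r ∣ p := hr.not_dvd had
  have hrF : ¬ r ∣ Nat.card F := by
    rw [hpa]
    exact fun h => hrp (hr.prime.dvd_of_dvd_pow h)
  -- `|F₁| = p ^ b`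
  obtain ⟨b, -, hb⟩ : ∃ b ≤ a, Nat.card F₁ = p ^ b := by
    have h1 : Nat.card F₁ ∣ p ^ a := by rw [← hpa, hcard]; exact dvd_pow_self _ hs.ne_zero
    exact (Nat.dvd_prime_pow hp).1 h1
  have hab : a = b * s := by
    have h1 : p ^ a = p ^ (b * s) := by rw [← hpa, hcard, hb, pow_mul]
    exact Nat.pow_right_injective hp.two_le h1
  have hb1 : 1 ≤ b := by
    rcases Nat.eq_zero_or_pos b with rfl | h
    · rw [zero_mul] at hab; omega
    · exact h
  rcases subfield hr.prime hrF (hdvd.trans (Subgroup.card_dvd_of_le hH)) with h | ⟨i, hi1, hi2, hi3⟩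
  · rw [hpa, hr.dvd_iff hp.one_le] at h
    have := Nat.le_of_dvd (by omega) h
    have h3 : a * 2 ≤ a * d := Nat.mul_le_mul_left a hd2
    omega
  · rw [hb, ← pow_mul, hr.dvd_iff hp.one_le] at hi3
    have h1 := Nat.le_of_dvd (Nat.mul_pos hb1 hi1) hi3
    rw [hab, mul_assoc] at h1
    have h2 := Nat.le_of_mul_le_mul_left h1 hb1
    have h3 : 2 * d ≤ s * d := Nat.mul_le_mul_right d hs.two_le
    omega

theorem PP.of_pow {p a d r : ℕ} (h : PP p (a * d) r) (ha : 1 ≤ a) : PP (p ^ a) d r := by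
  refine ⟨h.prime, ?_⟩
  rw [Nat.cast_pow, orderOf_pow' _ (by omega), h.ord, Nat.gcd_eq_right (Dvd.intro _ rfl), Nat.mul_div_cancel_left _ ha]

/-- the normaliser of a group of symplectic type. -/
theorem symp_le [Nonempty ι] {s m : ℕ} {R H : Subgroup (GL ι F)} (hH : H ≤ subgroupNormalizer R)
    (habs : ActsAbsolutelyIrreducibly (matrixSet R)) (hR : IsSymplecticTypeGroup s R) (hm : 1 ≤ m)
    (hcard : Fintype.card ι = s ^ m)
    (ht : (Odd s ∧ Nat.card (Subgroup.center R) = s ∧ Nat.card R = s ^ (1 + 2 * m)) ∨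
       (s = 2 ∧ Nat.card (Subgroup.center R) = 4 ∧ Nat.card R = 2 ^ (2 + 2 * m)) ∨
       (s = 2 ∧ Nat.card (Subgroup.center R) = 2 ∧ Nat.card R = 2 ^ (1 + 2 * m)))
    {r d : ℕ} (hr : PP (Nat.card F) d r) (hd : 2 ≤ d) (hdvd : r ∣ Nat.card H) :
    r ≤ Fintype.card ι + 1 := by
  have hq := one_lt_q F
  have hfin : Finite (GL ι F) := inferInstance
  have hpr := Fact.mk hR.prime
  have hcomm : ∀ x ∈ R, ∀ y ∈ R, x * y * x⁻¹ * y⁻¹ ∈ scalars ι F := by
    intro x hx y hy
    have hZ : Odd s → Nat.card (Subgroup.center R) = s := by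
      intro hodd
      rcases ht with h | h | h
      · exact h.2.1
      · rw [h.1] at hodd; exact absurd hodd (by decide)
      · rw [h.1] at hodd; exact absurd hodd (by decide)
    exact H920.mem_scalars_of_mem_center habs (H921.commutator_mem_center hR hZ ⟨x, hx⟩ ⟨y, hy⟩)
  have hpow : ∀ x ∈ R, x ^ s ∈ scalars ι F := by
    rcases ht with h | h | h
    · exact H920.pow_of_type hR habs (Or.inl h)
    · exact H920.pow_of_type hR habs (Or.inr h)
    · obtain ⟨rfl, hZ, -⟩ := h
      intro x hx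
      have hexp : Monoid.exponent R = 4 := by rw [hR.exponent_eq]; norm_num
      have h4 : ∀ q : R, q ^ 4 = 1 := fun q => by rw [← hexp]; exact Monoid.pow_exponent_eq_one q
      have : Nontrivial (Subgroup.center R) := Finite.one_lt_card_iff_nontrivial.1 (by rw [hZ]; norm_num)
      obtain ⟨z, hz⟩ := exists_ne (1 : Subgroup.center R)
      have hz2 : orderOf z = 2 := by
        have h1 : orderOf z ∣ 2 := by rw [← hZ]; exact orderOf_dvd_natCard z
        rcases (Nat.dvd_prime Nat.prime_two).1 h1 with h2 | h2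
        · exact absurd (orderOf_eq_one_iff.1 h2) hz
        · exact h2
      have hz2' : orderOf (z : R) = 2 := by rw [Subgroup.orderOf_coe, hz2]
      have hst := (Cfsg.Agent.ClassificationK.SymplecticExpFour.structure_exp_four
        ⟨hR.pGroup, hR.cyclic_of_characteristic⟩ h4 hz2' z.2).2.1 ⟨x, hx⟩
      rcases hst with h | h
      · have h5 : x ^ 2 = 1 := congrArg Subtype.val h
        rw [h5]; exact Subgroup.one_mem _
      · have h5 : x ^ 2 = ((z : R) : GL ι F) := congrArg Subtype.val h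
        rw [h5]; exact H920.mem_scalars_of_mem_center habs z.2
  obtain ⟨C⟩ := H920.exists_coord habs hcomm hR.prime hm hpow hcard
  have hle : s ≤ Fintype.card ι := by
    rw [hcard]; exact Nat.le_self_pow (by omega) s
  rcases of_coord hR.prime hR.pGroup habs C hr.prime (hdvd.trans (Subgroup.card_dvd_of_le hH)) with h | h | h
  · omega
  · have h1 : r ∣ Nat.card F ^ 1 - 1 := by rwa [pow_one]
    rw [hr.dvd_iff hq.le] at h1
    have := Nat.le_of_dvd one_pos h1
    omega
  · rw [hcard]; exact h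

/-- field extensions. -/
theorem ext_cases [Nonempty ι] {s : ℕ} (hs : s.Prime) {K : Subalgebra F (Matrix ι ι F)} (hK : IsFieldSubalgebra s K)
    {H : Subgroup (GL ι F)} (hH : H ≤ subalgebraNormalizer K) (hsn : s ∣ Fintype.card ι)
    {r d : ℕ} (hr : PP (Nat.card F) d r) (hd : Fintype.card ι < 2 * d) (hdvd : r ∣ Nat.card H) :
    r = s ∨ s ∣ d := by
  have hq := one_lt_q F
  rcases extension hs hK hr.prime (hr.not_dvd (by omega)) (hdvd.trans (Subgroup.card_dvd_of_le hH)) with h | h
  · exact Or.inl h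
  · right
    obtain ⟨i, h1, h2, h3⟩ := h
    rw [← pow_mul, hr.dvd_iff hq.le] at h3
    have h4 : s * i ≤ Fintype.card ι := by
      have := Nat.mul_le_mul_left s h2
      rwa [Nat.mul_div_cancel' hsn] at this
    obtain ⟨c, hc⟩ := h3
    have hsi : 0 < s * i := Nat.mul_pos hs.pos h1
    have hc1 : c = 1 := by
      have h5 : c < 2 := by
        by_contra hcon
        push Not at hcon
        have := Nat.mul_le_mul_left d hcon
        omega
      have h6 : c ≠ 0 := by rintro rfl; omega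
      omega
    rw [hc1, mul_one] at hc
    exact ⟨i, hc.symm⟩

end Cfsg.Agent.H884.El
end

-- part: H884/ElLin
section
prune_inst 0x40020043220000000182080212000102000040000400000204000020800406120c2280102c00112021280c110000008120000000000000000000000000001208002c000b3080104240011000100000000000000000000000000000000010000000000000
set_option linter.all false
open scoped Cfsg.Agent.FastGrp

/-!
# Isometries of prime order: shapes, and fields commuting with them (TEAM ELUSIVE, helper884)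
-/

set_option autoImplicit false

namespace Cfsg.Agent.H884.El

open Module QuadraticMap Cfsg.Geo Cfsg.Agent.LieClassical.OrthCore Cfsg.Agent.H955 Cfsg.Agent.H954.TSing
open Cfsg.Agent.H951 (fx cm Inv)
open scoped MatrixGroups Matrix

universe u v

section Abs

variable {F : Type u} [Field F] [Fintype F] {V : Type v} [AddCommGroup V] [Module F V] [FiniteDimensional F V]
  {Q : QuadraticForm F V} {x : Module.End F V} {r e : ℕ}

/-- `x` is an isometry with `x ^ r = 1`, `r` an odd prime different from the characteristic. -/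
structure Iso (Q : QuadraticForm F V) (x : Module.End F V) (r : ℕ) : Prop where
  prime : r.Prime
  two_lt : 2 < r
  ne0 : (r : F) ≠ 0
  pow : x ^ r = 1
  iso : ∀ v, Q (x v) = Q v

theorem PP.ne0 (h : PP (Nat.card F) e r) (he : 1 ≤ e) : (r : F) ≠ 0 := by
  intro h0
  obtain ⟨p, hp⟩ := CharP.exists F
  obtain ⟨n, hpp, hn⟩ := FiniteField.card F p
  have h1 : p ∣ r := (CharP.cast_eq_zero_iff F p r).1 h0
  have h2 : p = r := (Nat.prime_dvd_prime_iff_eq hpp h.prime).1 h1
  apply h.not_dvd he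
  rw [Nat.card_eq_fintype_card, hn, h2]
  exact dvd_pow_self _ n.ne_zero

omit [FiniteDimensional F V] in
theorem Iso.mk' (h : PP (Nat.card F) e r) (he : 2 ≤ e) (hx : x ^ r = 1) (hQ : ∀ v, Q (x v) = Q v) : Iso Q x r :=
  ⟨h.prime, by have := h.lt (by omega); omega, h.ne0 (by omega), hx, hQ⟩

omit [Field F] in
theorem ord_eq (h : PP (Nat.card F) e r) : orderOf (Fintype.card F : ZMod r) = e := by
  rw [← h.ord, Nat.card_eq_fintype_card]

omit [Fintype F] [FiniteDimensional F V] in
theorem cm_ne_bot (hx1 : x ≠ 1) : cm x ≠ ⊥ := by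
  intro h
  apply hx1
  have h1 : x - 1 = 0 := LinearMap.range_eq_bot.1 h
  exact sub_eq_zero.1 h1

theorem Iso.dvd (h : Iso Q x r) (hr : PP (Nat.card F) e r) {W : Submodule F V} (hW : Inv x W) :
    e ∣ finrank F ↥(W ⊓ cm x) := by
  have := Fact.mk h.prime
  rw [← ord_eq hr]
  exact H951.ord_dvd_finrank h.pow (hW.inf H951.inv_cm) (H951.inf_fx_of_le_cm h.ne0 h.pow inf_le_right)

theorem Iso.dvd_cm (h : Iso Q x r) (hr : PP (Nat.card F) e r) : e ∣ finrank F (cm x) := by
  have := h.dvd hr (W := ⊤) H951.inv_top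
  rwa [top_inf_eq] at this

/-- an invariant subspace of dimension less than `e` is fixed pointwise. -/
theorem Iso.le_fx (h : Iso Q x r) (hr : PP (Nat.card F) e r) {W : Submodule F V} (hW : Inv x W)
    (hd : finrank F W < e) : W ≤ fx x := by
  have h1 := h.dvd hr hW
  have h2 : finrank F ↥(W ⊓ cm x) ≤ finrank F W := Submodule.finrank_mono inf_le_left
  have h3 : finrank F ↥(W ⊓ cm x) = 0 := by
    by_contra hne
    have := Nat.le_of_dvd (Nat.pos_of_ne_zero hne) h1
    omega
  have h4 : W ⊓ cm x = ⊥ := Submodule.finrank_eq_zero.1 h3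
  have h5 := H951.inf_fx_sup_inf_cm h.ne0 h.pow hW
  rw [h4, sup_bot_eq] at h5
  rw [← h5]
  exact inf_le_right

theorem Iso.even_case (h : Iso Q x r) (hQ : Nondeg Q) (hx1 : x ≠ 1) (hr : PP (Nat.card F) e r) (he : Even e)
    (hn : finrank F V < 2 * e) : finrank F (cm x) = e ∧ ¬ IsPlus (res Q (cm x)) := by
  have := Fact.mk h.prime
  have h1 := h.dvd_cm hr
  obtain ⟨A, hA⟩ := h1
  have h2 : finrank F (cm x) ≤ finrank F V := Submodule.finrank_le _
  have h3 : finrank F (cm x) ≠ 0 := fun h0 => cm_ne_bot hx1 (Submodule.finrank_eq_zero.1 h0)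
  have hA1 : A = 1 := by
    have h4 : A < 2 := by
      by_contra hcon
      push Not at hcon
      have := Nat.mul_le_mul_left e hcon
      omega
    have h5 : A ≠ 0 := by rintro rfl; omega
    omega
  refine ⟨by rw [hA, hA1, mul_one], ?_⟩
  rw [isPlus_cm_iff h.two_lt hQ h.iso h.ne0 h.pow (ord_eq hr) he hA, hA1]
  decide

theorem Iso.even_two (h : Iso Q x r) (hQ : Nondeg Q) (hr : PP (Nat.card F) e r) (he : Even e)
    (hn : finrank F (cm x) = e * 2) : IsPlus (res Q (cm x)) := by
  have := Fact.mk h.prime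
  rw [isPlus_cm_iff h.two_lt hQ h.iso h.ne0 h.pow (ord_eq hr) he hn]
  decide

theorem Iso.odd_case (h : Iso Q x r) (hQ : Nondeg Q) (hx1 : x ≠ 1) (hr : PP (Nat.card F) e r) (he : Odd e)
    (hn : finrank F V < 4 * e) : finrank F (cm x) = 2 * e ∧ IsPlus (res Q (cm x)) ∧
      ∃ W ≤ cm x, Inv x W ∧ TS Q W ∧ finrank F W = e := by
  have := Fact.mk h.prime
  have ho : Odd (orderOf (Fintype.card F : ZMod r)) := by rw [ord_eq hr]; exact he
  obtain ⟨A, hA, hP, -⟩ := exists_inv_ts_of_odd h.two_lt h.ne0 ho hQ h.iso h.pow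
  rw [ord_eq hr] at hA
  have h2 : finrank F (cm x) ≤ finrank F V := Submodule.finrank_le _
  have h3 : finrank F (cm x) ≠ 0 := fun h0 => cm_ne_bot hx1 (Submodule.finrank_eq_zero.1 h0)
  have hA1 : A = 1 := by
    have h4 : A < 2 := by
      by_contra hcon
      push Not at hcon
      have := Nat.mul_le_mul_left e hcon
      omega
    have h5 : A ≠ 0 := by rintro rfl; omega
    omega
  rw [hA1, mul_one] at hA
  refine ⟨hA, hP, ?_⟩
  obtain ⟨W, hWU, hW, hWs, hd⟩ := exists_ts_half h.iso this h.two_lt h.ne0 h.pow H951.inv_cm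
    (nondeg_cm hQ h.iso h.ne0 h.pow) (by
      rw [inf_comm]; exact (H951.isCompl_fx_cm h.ne0 h.pow).inf_eq_bot) ho
  exact ⟨W, hWU, hW, hWs, by omega⟩

omit [Fintype F] in
theorem Iso.finrank_add (h : Iso Q x r) : finrank F ↥(fx x) + finrank F ↥(cm x) = finrank F V :=
  H951.finrank_fx_add_cm h.ne0 h.pow

/-- `J` commutes with an isometry whose commutator space is a sum of two odd-dimensional irreducible totally singular
subspaces: impossible if `J` generates a quadratic field. -/
theorem Iso.no_quadratic (h : Iso Q x r) (hQ : Nondeg Q) (hx1 : x ≠ 1) (hr : PP (Nat.card F) e r) (he : Odd e)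
    (he1 : 3 ≤ e) (hn : finrank F V < 4 * e) {J : Module.End F V}
    (hJx : ∀ v, J (x v) = x (J v)) (heven : ∀ W : Submodule F V, (∀ w ∈ W, J w ∈ W) → Even (finrank F W)) : False := by
  have hprime := Fact.mk h.prime
  have hfin : Finite V := Module.finite_of_finite F
  obtain ⟨hcm, -, W, hWcm, hW, hWs, hWd⟩ := h.odd_case hQ hx1 hr he hn
  have hWne : W ≠ ⊥ := by
    rintro rfl
    rw [finrank_bot] at hWd
    omega
  -- `W` is irreducible
  have hirr : ∀ U : Submodule F V, U ≤ W → Inv x U → U = ⊥ ∨ U = W := by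
    intro U hU hUi
    have h1 := h.dvd hr hUi
    rw [inf_eq_left.2 (hU.trans hWcm)] at h1
    have h2 := Submodule.finrank_mono hU
    rcases Nat.eq_zero_or_pos (finrank F U) with h0 | h0
    · exact Or.inl (Submodule.finrank_eq_zero.1 h0)
    · right
      have := Nat.le_of_dvd h0 h1
      exact Submodule.eq_of_le_of_finrank_eq hU (by omega)
  by_cases hJW : ∀ w ∈ W, J w ∈ W
  · have h1 := heven W hJW
    rw [hWd] at h1
    exact (Nat.not_even_iff_odd.2 he) h1
  · -- the form `polar u (J v)`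
    let c : LinearMap.BilinForm F V := LinearMap.BilinForm.comp (polarBilin Q) LinearMap.id J
    have hc : ∀ u v, c u v = polar Q u (J v) := fun u v => rfl
    have hinv : ∀ u v, c (x u) (x v) = c u v := by
      intro u v
      rw [hc, hc, hJx, polar_isom h.iso]
    have hnd : ∀ v ∈ W, (∀ u ∈ W, c u v = 0) → v = 0 := by
      let N : Submodule F V :=
        { carrier := {v | v ∈ W ∧ ∀ u ∈ W, c u v = 0}
          add_mem' := fun {a b} ha hb => ⟨W.add_mem ha.1 hb.1, fun u hu => by
            rw [map_add, ha.2 u hu, hb.2 u hu, add_zero]⟩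
          zero_mem' := ⟨W.zero_mem, fun u _ => map_zero _⟩
          smul_mem' := fun a v hv => ⟨W.smul_mem a hv.1, fun u hu => by
            rw [map_smul, hv.2 u hu, smul_zero]⟩ }
      have hNW : N ≤ W := fun v hv => hv.1
      have hNi : Inv x N := by
        rintro v ⟨hv, hv2⟩
        refine ⟨hW v hv, fun u hu => ?_⟩
        -- `u = x u'`
        obtain ⟨u', hu', rfl⟩ : ∃ u' ∈ W, x u' = u := by
          refine ⟨(x ^ (r - 1)) u, hW.pow _ u hu, ?_⟩
          rw [← Module.End.mul_apply, ← pow_succ', Nat.sub_add_cancel h.prime.one_le, h.pow]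
          rfl
        rw [hinv]
        exact hv2 u' hu'
      rcases hirr N hNW hNi with hN | hN
      · intro v hv hv2
        have : v ∈ N := ⟨hv, hv2⟩
        rw [hN] at this
        exact (Submodule.mem_bot F).1 this
      · exfalso
        apply hJW
        -- `J W` lies in the perp of `W` inside `cm x`
        have hperp : ∀ w ∈ W, ∀ u ∈ W, polar Q u (J w) = 0 := by
          intro w hw u hu
          rw [← hN] at hw
          exact hw.2 u hu
        have hJcm : ∀ w ∈ W, J w ∈ cm x := by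
          intro w hw
          obtain ⟨y, hy⟩ := H951.mem_cm.1 (hWcm hw)
          refine H951.mem_cm.2 ⟨J y, ?_⟩
          rw [← hJx, ← map_sub, hy]
        have hcmn := nondeg_cm hQ h.iso h.ne0 h.pow
        have h1 := finrank_inf_perp hcmn hWcm
        have h2 : W ≤ cm x ⊓ perp Q W := by
          intro w hw
          exact ⟨hWcm hw, fun u hu => hWs.polar hu hw⟩
        have h3 : W = cm x ⊓ perp Q W := by
          apply Submodule.eq_of_le_of_finrank_eq h2
          omega
        intro w hw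
        rw [h3]
        exact ⟨hJcm w hw, fun u hu => hperp w hw u hu⟩
    have h2 : r ≠ 2 := by have := h.two_lt; omega
    have hev := H200.LinFix.even_of_irr (l := r) h2 h.ne0 (y := x) h.pow (W := W) hWcm hW
      (fun s hs hi => hirr s hs hi) hWne c (fun u _ v _ => hinv u v) hnd
    rw [hWd] at hev
    exact (Nat.not_even_iff_odd.2 he) hev

end Abs

section Mat

variable {ι : Type} [Fintype ι] [DecidableEq ι] {F : Type u} [Field F] [Fintype F] {Q : QuadraticForm F (ι → F)}
  {H : Subgroup (GL ι F)} {r e : ℕ}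

/-- the endomorphism of a matrix. -/
abbrev lin (g : GL ι F) : Module.End F (ι → F) := Matrix.toLin' (g : Matrix ι ι F)

omit [Fintype F] in
theorem lin_one : lin (1 : GL ι F) = 1 := by
  rw [lin, Units.val_one, Matrix.toLin'_one]; rfl

omit [Fintype F] in
theorem lin_injective {g h : GL ι F} (hgh : lin g = lin h) : g = h :=
  Units.ext (Matrix.toLin'.injective hgh)

omit [Fintype F] in
theorem lin_ne_one {g : GL ι F} (hg : g ≠ 1) : lin g ≠ 1 := by
  intro h
  rw [← lin_one] at h
  exact hg (lin_injective h)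

omit [Fintype F] in
theorem lin_iso (hH : H ≤ Cfsg.isometryGroup F (⇑Q)) {g : GL ι F} (hg : g ∈ H) (v : ι → F) : Q (lin g v) = Q v := by
  rw [lin, Matrix.toLin'_apply]
  exact H925.mem_iso_iff.1 (hH hg) v

theorem exists_elt (hH : H ≤ Cfsg.isometryGroup F (⇑Q)) (hr : PP (Nat.card F) e r) (he : 2 ≤ e)
    (hdvd : r ∣ Nat.card H) : ∃ g ∈ H, Iso Q (lin g) r ∧ g ^ r = 1 ∧ g ≠ 1 := by
  have hfin : Finite (GL ι F) := inferInstance
  have := Fact.mk hr.prime
  obtain ⟨g, hg⟩ := exists_prime_orderOf_dvd_card' r hdvd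
  have hgr : (g : GL ι F) ^ r = 1 := by
    rw [← Subgroup.coe_pow, ← hg, pow_orderOf_eq_one]; rfl
  refine ⟨g, g.2, Iso.mk' hr he ?_ (lin_iso hH g.2), hgr, ?_⟩
  · rw [← H251.GeoCard.toLin_pow, hgr]; exact lin_one
  · intro h1
    have hg2 : g = 1 := Subtype.ext h1
    rw [hg2, orderOf_one] at hg
    exact hr.prime.one_lt.ne hg

omit [Fintype F] in
theorem inv_of_mem {W : Submodule F (ι → F)} {g : GL ι F} (hg : g ∈ subspaceStabilizer W) : Inv (lin g) W := by
  intro w hw
  rw [lin, Matrix.toLin'_apply]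
  exact (Cfsg.Agent.H884.OmegaGL.mem_subspaceStabilizer.1 hg) w hw

/-- elements of odd prime order commute with a normalised quadratic field. -/
theorem comm_field [Nonempty ι] {s : ℕ} (hs : s.Prime) {K : Subalgebra F (Matrix ι ι F)} (hK : IsFieldSubalgebra s K)
    {g : GL ι F} (hgK : g ∈ subalgebraNormalizer K) {r : ℕ} (hr : r.Prime) (hrs : r ≠ s) (hgr : g ^ r = 1) :
    ∀ x ∈ K, (g : Matrix ι ι F) * x = x * (g : Matrix ι ι F) := by
  have hN : H912.NormAlg (subalgebraNormalizer K) K := fun _ hh a ha => (hh a).mp ha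
  let _ : Field K := (H912.isField_of_fieldSub hK).toField
  have hfd : Module.Finite F K := inferInstance
  have hKfin : Finite K := Module.finite_of_finite F
  have hgal : IsGalois F K := inferInstance
  let σ : K ≃ₐ[F] K := H912.conjSub hN ⟨g, hgK⟩
  have hσk : ∀ (k : ℕ) (x : K), (((σ ^ k) x : K) : Matrix ι ι F) =
      ((g ^ k : GL ι F) : Matrix ι ι F) * x * (((g ^ k)⁻¹ : GL ι F) : Matrix ι ι F) := by
    intro k
    induction k with
    | zero => intro x; simp
    | succ k ih =>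
      intro x
      rw [pow_succ, AlgEquiv.mul_apply, ih, H912.conjSub_coe, pow_succ, _root_.mul_inv_rev, Units.val_mul,
        Units.val_mul]
      simp only [Matrix.mul_assoc]
  have hσs : σ ^ r = 1 := by
    apply AlgEquiv.ext
    intro x
    apply Subtype.ext
    rw [hσk, hgr]
    simp
  have hσ1 : σ = 1 := by
    have h1 : orderOf σ ∣ r := orderOf_dvd_of_pow_eq_one hσs
    have h2 : orderOf σ ∣ s := by
      have h3 : Nat.card (K ≃ₐ[F] K) = s := by
        rw [IsGalois.card_aut_eq_finrank, hK.finrank_eq]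
      rw [← h3]
      exact orderOf_dvd_natCard σ
    have h3 : Nat.Coprime r s := (Nat.coprime_primes hr hs).2 hrs
    have h4 : orderOf σ ∣ 1 := by
      rw [← Nat.Coprime.gcd_eq_one h3]
      exact Nat.dvd_gcd h1 h2
    exact orderOf_eq_one_iff.1 (Nat.dvd_one.1 h4)
  intro x hx
  have h1 := H912.conjSub_coe hN ⟨g, hgK⟩ ⟨x, hx⟩
  have h2 : (H912.conjSub hN ⟨g, hgK⟩ ⟨x, hx⟩ : K) = ⟨x, hx⟩ := by
    change σ ⟨x, hx⟩ = ⟨x, hx⟩
    rw [hσ1]; rfl
  rw [h2] at h1
  have h3 : x = (g : Matrix ι ι F) * x * ((g⁻¹ : GL ι F) : Matrix ι ι F) := h1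
  conv_rhs => rw [h3]
  rw [Matrix.mul_assoc, ← Units.val_mul, inv_mul_cancel, Units.val_one, Matrix.mul_one]

omit [Fintype F] in
/-- subspaces invariant under a field subalgebra of degree two have even dimension. -/
theorem even_of_field [Nonempty ι] {K : Subalgebra F (Matrix ι ι F)} (hK : IsFieldSubalgebra 2 K)
    {W : Submodule F (ι → F)} (hW : ∀ k ∈ K, ∀ w ∈ W, k *ᵥ w ∈ W) : Even (finrank F W) := by
  let _ : Field K := (H912.isField_of_fieldSub hK).toField
  let W' : Submodule K (ι → F) :=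
    { carrier := W
      add_mem' := fun ha hb => W.add_mem ha hb
      zero_mem' := W.zero_mem
      smul_mem' := fun k w hw => hW k k.2 w hw }
  have h1 := Module.finrank_mul_finrank F K W'
  rw [hK.finrank_eq] at h1
  let e : W' ≃ₗ[F] W :=
    { toFun := fun w => ⟨w.1, w.2⟩
      invFun := fun w => ⟨w.1, w.2⟩
      map_add' := fun _ _ => rfl
      map_smul' := fun _ _ => rfl
      left_inv := fun _ => rfl
      right_inv := fun _ => rfl }
  rw [← e.finrank_eq, ← h1]
  exact even_two_mul _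

/-- **No quadratic field** is normalised by a group of isometries whose order is divisible by a primitive prime divisor
of `q ^ e - 1`, `e` odd, `n < 4 e`. -/
theorem no_quadratic_field (hQ : Nondeg Q) (hH : H ≤ Cfsg.isometryGroup F (⇑Q)) (hr : PP (Nat.card F) e r)
    (he : Odd e) (he3 : 3 ≤ e) (hn : Fintype.card ι < 4 * e) (hdvd : r ∣ Nat.card H)
    {K : Subalgebra F (Matrix ι ι F)} (hK : IsFieldSubalgebra 2 K) (hHK : H ≤ subalgebraNormalizer K) : False := by
  obtain ⟨g, hgH, hiso, hgr, hg1⟩ := exists_elt hH hr (by omega) hdvd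
  have hne : Nonempty ι := by
    by_contra h
    rw [not_nonempty_iff] at h
    exact hg1 (Subsingleton.elim _ _)
  have hr2 : r ≠ 2 := by have := hiso.two_lt; omega
  have hcomm := comm_field Nat.prime_two hK (hHK hgH) hr.prime hr2 hgr
  obtain ⟨J, hJK, hJ, hgen⟩ := Cfsg.Agent.H884.HermGL.exists_gen hK
  refine hiso.no_quadratic hQ (lin_ne_one hg1) hr he he3 ?_ (J := Matrix.toLin' J) ?_ ?_
  · rw [Module.finrank_fintype_fun_eq_card]; exact hn
  · intro v
    rw [lin, Matrix.toLin'_apply, Matrix.toLin'_apply, Matrix.toLin'_apply, Matrix.toLin'_apply,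
      Matrix.mulVec_mulVec, Matrix.mulVec_mulVec, hcomm J hJK]
  · intro W hW
    refine even_of_field hK fun k hk w hw => ?_
    obtain ⟨s, t, rfl⟩ := hgen k hk
    rw [Matrix.add_mulVec, Matrix.smul_mulVec, Matrix.smul_mulVec, Matrix.one_mulVec]
    refine W.add_mem (W.smul_mem _ hw) (W.smul_mem _ ?_)
    have := hW w hw
    rwa [Matrix.toLin'_apply] at this

end Mat

end Cfsg.Agent.H884.El

private theorem dce_111a007e38a8 : _root_.True := by
  try have : _root_.True := by simp only [_root_.Cfsg.Agent.H884.El.lin.eq_1]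
  exact _root_.True.intro
end

-- part: H884/ElIrr
section
set_option linter.all false
open scoped Cfsg.Agent.FastGrp

/-!
# Irreducible groups of isometries hitting a large primitive prime divisor (TEAM ELUSIVE, helper884)
-/

set_option autoImplicit false

namespace Cfsg.Agent.H884.El

open Module QuadraticMap Cfsg.Geo Cfsg.Agent.LieClassical.OrthCore
open scoped MatrixGroups Matrix

universe u

variable {ι : Type} [Fintype ι] [DecidableEq ι] {F : Type u} [Field F] [Fintype F] {Q : QuadraticForm F (ι → F)}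
  {H : Subgroup (GL ι F)}

/-- an irreducible group of isometries whose order is divisible by a large `p`-primitive prime. -/
theorem irr_main (hn : 3 ≤ Fintype.card ι) (hQ : Nondeg Q) (hH : H ≤ Cfsg.isometryGroup F (⇑Q))
    (hirr : ActsIrreducibly (matrixSet H)) {p a d r : ℕ} (hp : p.Prime) (ha : 1 ≤ a) (hpa : Nat.card F = p ^ a)
    (hr : PP p (a * d) r) (hd : Fintype.card ι < 2 * d) (h0 : r ∣ Nat.card H) :
    (∀ e s, 2 ≤ e → PP (Nat.card F) e s → s ∣ Nat.card H → s ≤ Fintype.card ι) ∨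
    (∃ (s : ℕ) (K : Subalgebra F (Matrix ι ι F)), s.Prime ∧ s ∣ Fintype.card ι ∧ IsFieldSubalgebra s K ∧
      H ≤ subalgebraNormalizer K ∧ (r = s ∨ s ∣ d)) ∨
    (∃ s m, s.Prime ∧ 1 ≤ m ∧ Fintype.card ι = s ^ m ∧
      ∀ e t, 2 ≤ e → PP (Nat.card F) e t → t ∣ Nat.card H → t ≤ Fintype.card ι + 1) ∨
    InOrthogonalResidualClass H := by
  have hne : Nonempty ι := Fintype.card_pos_iff.1 (by omega)
  have hrq : PP (Nat.card F) d r := by rw [hpa]; exact hr.of_pow ha
  have hdr := hrq.lt (by omega)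
  rcases Cfsg.Agent.H925.orth_irreducible_fine hn (Cfsg.Agent.H884.OddForm.isNondegenerate_of_nondeg Q hQ) hH hirr with
    ⟨t, k, D, htk, hD, hHD, -⟩ | ⟨k, D, hk, hD, -, hHD⟩ | ⟨s, K, hs, hsn, hK, -, hHK⟩ |
    ⟨n₁, n₂, e, P, -, -, -, h1, h2, h12, -, -, -, -, hHT⟩ | ⟨F₁, s, B, -, -, hs, hcard, -, -, hHF⟩ |
    ⟨s, m, R, -, -, hHR, habs, hR, -, hm, hsm, -, ht, -⟩ | ⟨k, t, e, P, E, hkt, hW⟩ | hS
  · -- (C2a)
    left
    have h2t := hD.decomp.decomp.two_le
    have hkd : k < d := by
      by_contra hcon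
      push Not at hcon
      have := Nat.mul_le_mul h2t hcon
      omega
    have hrt := decomp_le hD.decomp.decomp hHD hrq hkd h0
    have hk1 : k = 1 := by
      have h3 : k < 2 := by
        by_contra hcon
        push Not at hcon
        have := Nat.mul_le_mul hrt hcon
        omega
      have := hD.decomp.decomp.pos
      omega
    intro e s he hs hsH
    have := decomp_le hD.decomp.decomp hHD hs (by omega) hsH
    rw [hk1, mul_one] at htk
    omega
  · -- (C2b)
    exfalso
    have := decomp_le hD hHD hrq (by omega) h0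
    omega
  · -- (C3)
    right; left
    exact ⟨s, K, hs, hsn, hK, hHK, ext_cases hs hK hHK hsn hrq hd h0⟩
  · exact absurd (kill_tensor e P hHT h1 h2 h12 hrq hd h0) id
  · exact absurd (kill_subfield hHF hs hcard hp hpa hr hd (by omega) h0) id
  · -- (C6)
    right; right; left
    exact ⟨s, m, hR.prime, hm, hsm, fun e t he ht' htH => symp_le hHR habs hR hm hsm ht ht' he htH⟩
  · exact absurd (kill_wreath hW hkt hrq hd h0) id
  · exact Or.inr (Or.inr (Or.inr hS))

end Cfsg.Agent.H884.El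
end

-- part: H884/ElRows
section
prune_inst 0x4602004322000000018a080012020146400049000000000696200420800406120c228410a401302120e90c118018008120000900000000020003000400201208003d006b32ca3042c0011000100000000000000000000000000000000010004000000000
set_option linter.all false
open scoped Cfsg.Agent.FastGrp

/-!
# Groups of isometries hitting the large primitive prime divisors (TEAM ELUSIVE, helper884)

`row_minus`, `row_odd`, `row_plus` : such a group lies in the residual class, or (plus type and odd dimension, `m` even)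
it fixes a nonsingular point.
-/

set_option autoImplicit false

namespace Cfsg.Agent.H884.El

open Module QuadraticMap Cfsg.Geo Cfsg.Agent.LieClassical.OrthCore Cfsg.Agent.H955 Cfsg.Agent.H954.TSing
open Cfsg.Agent.H951 (fx cm Inv)
open scoped MatrixGroups Matrix

universe u v

section Abs

variable {F : Type u} [Field F] [Fintype F] {V : Type v} [AddCommGroup V] [Module F V] [FiniteDimensional F V]
  {Q : QuadraticForm F V} {x : Module.End F V} {r e : ℕ}

omit [Fintype F] [FiniteDimensional F V] in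
theorem ts_not_nondeg {W U : Submodule F V} (hW : TS Q W) (hUW : U ≤ W) (hU : U ≠ ⊥) : ¬ Nondeg (res Q U) := by
  intro h
  apply hU
  rw [Submodule.eq_bot_iff]
  intro u hu
  have := h ⟨u, hu⟩ fun w => by
    rw [polar_res]
    exact hW.polar (hUW hu) (hUW w.2)
  exact congrArg Subtype.val this

/-- irreducible commutator space: invariant subspaces contain it or are fixed pointwise. -/
theorem Iso.le_or (h : Iso Q x r) (hr : PP (Nat.card F) e r) (hcm : finrank F (cm x) = e) {W : Submodule F V}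
    (hW : Inv x W) : W ≤ fx x ∨ cm x ≤ W := by
  have h1 := h.dvd hr hW
  have h2 : finrank F ↥(W ⊓ cm x) ≤ finrank F (cm x) := Submodule.finrank_mono inf_le_right
  rcases Nat.eq_zero_or_pos (finrank F ↥(W ⊓ cm x)) with h0 | h0
  · left
    have h4 : W ⊓ cm x = ⊥ := Submodule.finrank_eq_zero.1 h0
    have h5 := H951.inf_fx_sup_inf_cm h.ne0 h.pow hW
    rw [h4, sup_bot_eq] at h5
    rw [← h5]
    exact inf_le_right
  · right
    have := Nat.le_of_dvd h0 h1
    have h6 : W ⊓ cm x = cm x := Submodule.eq_of_le_of_finrank_eq inf_le_right (by omega)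
    rw [← h6]
    exact inf_le_left

/-- a totally singular invariant subspace is fixed pointwise. -/
theorem Iso.ts_le (h : Iso Q x r) (hQ : Nondeg Q) (hx1 : x ≠ 1) (hr : PP (Nat.card F) e r)
    (hcm : finrank F (cm x) = e) {W : Submodule F V} (hW : Inv x W) (hWs : TS Q W) : W ≤ fx x := by
  rcases h.le_or hr hcm hW with h1 | h1
  · exact h1
  · exact absurd (nondeg_cm hQ h.iso h.ne0 h.pow) (ts_not_nondeg hWs h1 (cm_ne_bot hx1))

/-- type of the fixed space. -/
theorem Iso.isPlus_fx (h : Iso Q x r) (hQ : Nondeg Q) (hV : Even (finrank F V)) (hc : Even (finrank F (cm x))) :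
    IsPlus Q ↔ (IsPlus (res Q (cm x)) ↔ IsPlus (res Q (fx x))) := by
  rw [isPlus_iff_perp hQ (nondeg_cm hQ h.iso h.ne0 h.pow) hV hc, perp_cm hQ h.iso h.ne0 h.pow]

omit [Fintype F] [FiniteDimensional F V] in
/-- a line in a nondegenerate plane which is not of plus type is nonsingular. -/
theorem aniso_of_not_plus {U : Submodule F V} (hd : finrank F U = 2) (hU : ¬ IsPlus (res Q U)) {u : V} (hu : u ∈ U)
    (h0 : Q u = 0) : u = 0 := by
  by_contra hne
  apply hU
  refine ⟨F ∙ (⟨u, hu⟩ : U), ?_, ?_⟩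
  · intro w hw
    obtain ⟨c, rfl⟩ := Submodule.mem_span_singleton.1 hw
    rw [QuadraticMap.map_smul, res_apply, h0, smul_zero]
  · rw [hd, finrank_span_singleton (fun h => hne (congrArg Subtype.val h))]

end Abs

section Mat

variable {ι : Type} [Fintype ι] [DecidableEq ι] {F : Type u} [Field F] [Fintype F] {Q : QuadraticForm F (ι → F)}
  {H : Subgroup (GL ι F)}

/-- the order of `H` is divisible by all primes `r` with `ord_r(q) = e`. -/
def Hits (H : Subgroup (GL ι F)) (e : ℕ) : Prop := ∀ r, PP (Nat.card F) e r → r ∣ Nat.card H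

theorem exists_char (F : Type*) [Field F] [Fintype F] : ∃ p a : ℕ, p.Prime ∧ 1 ≤ a ∧ Nat.card F = p ^ a := by
  obtain ⟨p, hp⟩ := CharP.exists F
  obtain ⟨n, hpp, hn⟩ := FiniteField.card F p
  exact ⟨p, n, hpp, n.pos, by rw [Nat.card_eq_fintype_card, hn]⟩

theorem exists_pp {q e : ℕ} (hq : 2 ≤ q) (he : 3 ≤ e) (h6 : ¬ (q = 2 ∧ e = 6)) : ∃ r, PP q e r := by
  obtain ⟨r, h1, h2⟩ := Cfsg.Agent.Lib.Zsigmondy.exists_prime_orderOf hq (by omega) (fun h => by omega) h6
  exact ⟨r, h1, h2⟩

theorem exists_ppp {p a e : ℕ} (hp : p.Prime) (ha : 1 ≤ a) (he : 3 ≤ e) (h6 : ¬ (p ^ a = 2 ∧ e = 6))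
    (he2 : ∀ b, 2 ≤ b → b * e ≠ 6) : ∃ r, PP p (a * e) r := by
  apply exists_pp hp.two_le
  · have := Nat.mul_le_mul ha he; omega
  · rintro ⟨h1, h2⟩
    apply h6
    have ha1 : a = 1 := by
      by_contra hne
      exact he2 a (by omega) h2
    subst ha1
    rw [one_mul] at h2
    exact ⟨by rw [h1, pow_one], h2⟩

/-- `s` prime dividing `2m` and `s ∣ 2m - 2` or `s` a large prime: `s = 2`. -/
theorem eq_two {m s r : ℕ} (hm : 3 ≤ m) (hs : s.Prime) (hsn : s ∣ 2 * m) (hr : 2 * m - 2 < r)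
    (h : r = s ∨ s ∣ 2 * m - 2) : s = 2 := by
  rcases h with h | h
  · subst h
    exfalso
    have h1 := Nat.le_of_dvd (by omega) hsn
    obtain ⟨c, hc⟩ := hsn
    have hc1 : c = 1 := by
      have h3 : c < 2 := by
        by_contra hcon
        push Not at hcon
        have := Nat.mul_le_mul_left r hcon
        omega
      have h4 : c ≠ 0 := by rintro rfl; omega
      omega
    rw [hc1, mul_one] at hc
    rw [← hc] at hs
    have := (Nat.dvd_prime hs).1 (Dvd.intro m rfl : 2 ∣ 2 * m)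
    omega
  · have h1 : s ∣ 2 := by
      have := Nat.dvd_sub hsn h
      rwa [show 2 * m - (2 * m - 2) = 2 by omega] at this
    exact (Nat.prime_dvd_prime_iff_eq hs Nat.prime_two).1 h1

theorem even_of_pow {m s k : ℕ} (hm : 3 ≤ m) (hs : s.Prime) (h : 2 * m = s ^ k) : Even m := by
  have h1 : 2 ∣ s ^ k := by rw [← h]; exact Dvd.intro _ rfl
  have h2 : 2 = s := (Nat.prime_dvd_prime_iff_eq Nat.prime_two hs).1 (Nat.prime_two.dvd_of_dvd_pow h1)
  rw [← h2] at h
  match k, h with
  | 0, h => omega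
  | 1, h => omega
  | k + 2, h =>
    rw [pow_succ, pow_succ] at h
    exact ⟨2 ^ k, by omega⟩

/-- **Minus type.** -/
theorem row_minus {m e₃ : ℕ} (hm : 4 ≤ m) (hn : Fintype.card ι = 2 * m) (hQ : Nondeg Q)
    (hH : H ≤ Cfsg.isometryGroup F (⇑Q)) (he₃ : Odd e₃) (he₃3 : 3 ≤ e₃) (he₃n : 2 * m < 4 * e₃)
    (he₃m : Even m → e₃ = m - 1) (h1 : Hits H (2 * m)) (h2 : Hits H (2 * m - 2)) (h3 : Hits H e₃) :
    InOrthogonalResidualClass H := by
  have hq := one_lt_q F
  obtain ⟨p, a, hp, ha, hpa⟩ := exists_char F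
  obtain ⟨r₀, hr₀⟩ := exists_ppp (e := 2 * m) hp ha (by omega) (by omega) (fun b hb => by
    have := Nat.mul_le_mul hb (show 8 ≤ 2 * m by omega); omega)
  have hr₀q : PP (Nat.card F) (2 * m) r₀ := by rw [hpa]; exact hr₀.of_pow ha
  obtain ⟨r₃, hr₃⟩ := exists_pp (q := Nat.card F) (e := e₃) (by omega) he₃3 (by
    rintro ⟨-, rfl⟩
    exact absurd he₃ (by decide))
  have hfin : finrank F (ι → F) = 2 * m := by rw [Module.finrank_fintype_fun_eq_card, hn]
  have hlt := hr₀q.lt (by omega)
  -- irreducibility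
  have hirr : ActsIrreducibly (matrixSet H) := by
    by_contra hred
    obtain ⟨g, hgH, hiso, -, hg1⟩ := exists_elt hH hr₀q (by omega) (h1 _ hr₀q)
    obtain ⟨hcm, -⟩ := hiso.even_case hQ (lin_ne_one hg1) hr₀q (even_two_mul m) (by omega)
    have hcmt : cm (lin g) = ⊤ := Submodule.eq_top_of_finrank_eq (by rw [hcm, hfin])
    have key : ∀ W : Submodule F (ι → F), W ≠ ⊥ → H ≤ subspaceStabilizer W → W = ⊤ := by
      intro W hW hHW
      rcases hiso.le_or hr₀q hcm (inv_of_mem (hHW hgH)) with h | h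
      · exfalso
        apply hW
        rw [eq_bot_iff]
        refine h.trans ?_
        have := (H951.isCompl_fx_cm hiso.ne0 hiso.pow).inf_eq_bot
        rw [hcmt, inf_top_eq] at this
        rw [this]
      · rw [hcmt] at h
        exact top_le_iff.1 h
    rcases Cfsg.Agent.H925.reducible_cases (Cfsg.Agent.H884.OddForm.isNondegenerate_of_nondeg Q hQ) hH hred with
      ⟨W, hW0, hWs, hHW⟩ | ⟨W, hW0, -, hd, hHW⟩ | ⟨-, v, hv, hHW⟩
    · have hW := key W hW0 hHW
      exact ts_not_nondeg (Q := Q) (W := W) (U := cm (lin g)) hWs (by rw [hW]; exact le_top)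
        (cm_ne_bot (lin_ne_one hg1)) (nondeg_cm hQ hiso.iso hiso.ne0 hiso.pow)
    · rw [key W hW0 hHW, finrank_top, hfin] at hd
      omega
    · have hv0 : v ≠ 0 := by
        rintro rfl
        exact hv (QuadraticMap.map_zero Q)
      have hs0 : Submodule.span F {v} ≠ ⊥ := by
        rwa [Ne, Submodule.span_singleton_eq_bot]
      have h5 := finrank_span_singleton (K := F) hv0
      rw [key _ hs0 hHW, finrank_top, hfin] at h5
      omega
  rcases irr_main (by omega) hQ hH hirr hp ha hpa hr₀ (by omega) (h1 _ hr₀q) with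
    h | ⟨s, K, hs, hsn, hK, hHK, h⟩ | ⟨s, k, hs, hk, hsk, h⟩ | h
  · have := h _ _ (by omega) hr₀q (h1 _ hr₀q)
    omega
  · exfalso
    rw [hn] at hsn
    have hs2 : s = 2 := by
      by_cases hexc : Nat.card F = 2 ∧ 2 * m - 2 = 6
      · have hm4 : m = 4 := by omega
        rw [hm4] at hsn
        have : s ∣ 2 ^ 3 := by norm_num; exact hsn
        exact (Nat.prime_dvd_prime_iff_eq hs Nat.prime_two).1 (hs.dvd_of_dvd_pow this)
      · obtain ⟨r₁, hr₁⟩ := exists_pp (q := Nat.card F) (e := 2 * m - 2) (by omega) (by omega) hexc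
        have hne : Nonempty ι := Fintype.card_pos_iff.1 (by omega)
        have h5 := ext_cases hs hK hHK (by rw [hn]; exact hsn) hr₁ (by omega) (h2 _ hr₁)
        exact eq_two (by omega) hs hsn (hr₁.lt (by omega)) h5
    subst hs2
    exact no_quadratic_field hQ hH hr₃ he₃ he₃3 (by omega) (h3 _ hr₃) hK hHK
  · exfalso
    rw [hn] at hsk
    have hme := even_of_pow (by omega) hs hsk
    have h5 := h _ _ (by omega) hr₀q (h1 _ hr₀q)
    by_cases hexc : Nat.card F = 2 ∧ 2 * m - 2 = 6
    · have hr9 : r₀ = 9 := by omega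
      have := hr₀q.prime
      rw [hr9] at this
      exact absurd this (by norm_num)
    · obtain ⟨r₁, hr₁⟩ := exists_pp (q := Nat.card F) (e := 2 * m - 2) (by omega) (by omega) hexc
      rw [he₃m hme] at hr₃ h3
      have h6 := h _ _ (by omega) hr₁ (h2 _ hr₁)
      have h7 := h _ _ (by omega) hr₃ (h3 _ hr₃)
      exact false_of_even hm hme hr₁ hr₃ (by omega) (by omega)
  · exact h

/-- **Odd dimension.** -/
theorem row_odd {m : ℕ} (h2F : (2 : F) ≠ 0) (hm : 3 ≤ m) (hn : Fintype.card ι = 2 * m + 1) (hQ : Nondeg Q)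
    (hH : H ≤ Cfsg.isometryGroup F (⇑Q)) (h1 : Hits H (2 * m)) (h2 : Hits H (2 * m - 2)) (h3 : Hits H (oddE m)) :
    InOrthogonalResidualClass H ∨ (Even m ∧ ∃ v : ι → F, Q v ≠ 0 ∧ H ≤ subspaceStabilizer (Submodule.span F {v}) ∧
      ¬ IsPlus (res Q (perp Q (Submodule.span F {v})))) := by
  have hq := one_lt_q F
  have hq2 : Nat.card F ≠ 2 := by
    intro h
    apply h2F
    have h5 : ((Fintype.card F : ℕ) : F) = 0 := FiniteField.cast_card_eq_zero F
    rw [← Nat.card_eq_fintype_card, h] at h5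
    exact_mod_cast h5
  obtain ⟨p, a, hp, ha, hpa⟩ := exists_char F
  obtain ⟨r₀, hr₀⟩ := exists_ppp (e := 2 * m) hp ha (by omega) (by rw [← hpa]; omega) (fun b hb => by
    have := Nat.mul_le_mul hb (show 6 ≤ 2 * m by omega); omega)
  have hr₀q : PP (Nat.card F) (2 * m) r₀ := by rw [hpa]; exact hr₀.of_pow ha
  have ho3 := oddE_odd (m := m) (by omega)
  have he33 : 3 ≤ oddE m := by
    rcases Nat.even_or_odd m with he | ho
    · rw [oddE_of_even he]
      obtain ⟨k, hk⟩ := he
      omega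
    · rw [oddE_of_odd ho]; exact hm
  obtain ⟨r₃, hr₃⟩ := exists_pp (q := Nat.card F) (e := oddE m) (by omega) he33 (by omega)
  obtain ⟨r₁, hr₁⟩ := exists_pp (q := Nat.card F) (e := 2 * m - 2) (by omega) (by omega) (by omega)
  have hfin : finrank F (ι → F) = 2 * m + 1 := by rw [Module.finrank_fintype_fun_eq_card, hn]
  have hlt := hr₀q.lt (by omega)
  by_cases hirr : ActsIrreducibly (matrixSet H)
  · left
    -- the three primes are not all at most `2m + 2`
    have hbound : ¬ ∀ e t, 2 ≤ e → PP (Nat.card F) e t → t ∣ Nat.card H → t ≤ Fintype.card ι + 1 := by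
      intro h
      rcases Nat.even_or_odd m with he | ho
      · have hm4 : 4 ≤ m := by
          obtain ⟨k, hk⟩ := he
          omega
        rw [oddE_of_even he] at hr₃ h3
        have h6 := h _ _ (by omega) hr₁ (h2 _ hr₁)
        have h7 := h _ _ (by omega) hr₃ (h3 _ hr₃)
        exact false_of_even hm4 he hr₁ hr₃ (by omega) (by omega)
      · rw [oddE_of_odd ho] at hr₃ h3
        have h6 := h _ _ (by omega) hr₀q (h1 _ hr₀q)
        have h7 := h _ _ (by omega) hr₃ (h3 _ hr₃)
        exact false_of_odd hm ho hr₀q hr₃ (by omega) (by omega)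
    rcases irr_main (by omega) hQ hH hirr hp ha hpa hr₀ (by omega) (h1 _ hr₀q) with
      h | ⟨s, K, hs, hsn, hK, hHK, h⟩ | ⟨s, k, hs, hk, hsk, h⟩ | h
    · exact absurd (fun e t he ht htH => (h e t he ht htH).trans (Nat.le_succ _)) hbound
    · exfalso
      rw [hn] at hsn
      have hne : Nonempty ι := Fintype.card_pos_iff.1 (by omega)
      have hnot : ¬ s ∣ 2 * m := by
        intro h5
        have h6 : s ∣ 1 := by
          have := Nat.dvd_sub hsn h5
          rwa [show 2 * m + 1 - 2 * m = 1 by omega] at this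
        exact hs.one_lt.ne' (Nat.dvd_one.1 h6)
      rcases h with h | h
      · subst h
        have h5 := ext_cases hs hK hHK (by rw [hn]; exact hsn) hr₁ (by omega) (h2 _ hr₁)
        rcases h5 with h5 | h5
        · exact hr₁.ne_of_ne hr₀q (by omega) h5
        · have := Nat.le_of_dvd (by omega) h5
          omega
      · exact hnot h
    · exact absurd h hbound
    · exact h
  · right
    obtain ⟨g, hgH, hiso, -, hg1⟩ := exists_elt hH hr₀q (by omega) (h1 _ hr₀q)
    obtain ⟨hcm, hcmP⟩ := hiso.even_case hQ (lin_ne_one hg1) hr₀q (even_two_mul m) (by omega)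
    have hadd := hiso.finrank_add
    have hfx : finrank F ↥(fx (lin g)) = 1 := by omega
    obtain ⟨v, hv0, hspan⟩ := finrank_eq_one_iff'.1 hfx
    have hv0' : (v : ι → F) ≠ 0 := fun h => hv0 (Subtype.ext h)
    have hfxs : fx (lin g) = Submodule.span F {(v : ι → F)} := by
      apply le_antisymm
      · intro w hw
        obtain ⟨c, hc⟩ := hspan ⟨w, hw⟩
        exact Submodule.mem_span_singleton.2 ⟨c, congrArg Subtype.val hc⟩
      · rw [Submodule.span_singleton_le_iff_mem]
        exact v.2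
    have hnfx := nondeg_fx hQ hiso.iso hiso.ne0 hiso.pow
    have hQv : Q (v : ι → F) ≠ 0 := by
      intro h0
      refine ts_not_nondeg (Q := Q) (W := fx (lin g)) (U := fx (lin g)) ?_ le_rfl ?_ hnfx
      · intro w hw
        obtain ⟨c, hc⟩ := hspan ⟨w, hw⟩
        have : w = c • (v : ι → F) := (congrArg Subtype.val hc).symm
        rw [this, QuadraticMap.map_smul, h0, smul_zero]
      · intro hb
        rw [hb, finrank_bot] at hfx
        omega
    -- an invariant subspace of small dimension is the fixed line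
    have key : ∀ W : Submodule F (ι → F), W ≠ ⊥ → H ≤ subspaceStabilizer W → W ≤ fx (lin g) → W = fx (lin g) := by
      intro W hW hHW hle
      apply Submodule.eq_of_le_of_finrank_eq hle
      have h5 := Submodule.finrank_mono hle
      have h6 : finrank F W ≠ 0 := fun h => hW (Submodule.finrank_eq_zero.1 h)
      omega
    obtain ⟨W, hHW, hWeq⟩ : ∃ W : Submodule F (ι → F), H ≤ subspaceStabilizer W ∧ W = fx (lin g) := by
      rcases Cfsg.Agent.H925.reducible_cases (Cfsg.Agent.H884.OddForm.isNondegenerate_of_nondeg Q hQ) hH hirr with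
        ⟨W, hW0, hWs, hHW⟩ | ⟨W, hW0, -, hd, hHW⟩ | ⟨h2', -⟩
      · exact ⟨W, hHW, key W hW0 hHW
          (hiso.ts_le hQ (lin_ne_one hg1) hr₀q hcm (inv_of_mem (hHW hgH)) hWs)⟩
      · exact ⟨W, hHW, key W hW0 hHW (hiso.le_fx hr₀q (inv_of_mem (hHW hgH)) (by omega))⟩
      · exact absurd h2' h2F
    have hperp : perp Q (Submodule.span F {(v : ι → F)}) = cm (lin g) := by
      rw [← hfxs, perp_fx hQ hiso.iso hiso.ne0 hiso.pow]
    have hme : Even m := by
      by_contra hodd
      rw [Nat.not_even_iff_odd] at hodd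
      rw [oddE_of_odd hodd] at hr₃ h3
      obtain ⟨z, hzH, hziso, -, hz1⟩ := exists_elt hH hr₃ (by omega) (h3 _ hr₃)
      obtain ⟨hzcm, hzP, -⟩ := hziso.odd_case hQ (lin_ne_one hz1) hr₃ hodd (by omega)
      have hzadd := hziso.finrank_add
      have hWz : W ≤ fx (lin z) := hziso.le_fx hr₃ (inv_of_mem (hHW hzH)) (by rw [hWeq]; omega)
      have hWz' : W = fx (lin z) := Submodule.eq_of_le_of_finrank_eq hWz (by rw [hWeq]; omega)
      have h5 := perp_fx hQ hziso.iso hziso.ne0 hziso.pow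
      rw [← hWz', hWeq, perp_fx hQ hiso.iso hiso.ne0 hiso.pow] at h5
      rw [← h5] at hzP
      exact hcmP hzP
    refine ⟨hme, v, hQv, ?_, ?_⟩
    · rw [← hfxs, ← hWeq]; exact hHW
    · rw [hperp]; exact hcmP

/-- **Plus type.** -/
theorem row_plus {m : ℕ} (hm : 4 ≤ m) (hn : Fintype.card ι = 2 * m) (hQ : Nondeg Q) (hP : IsPlus Q)
    (hexc : ¬ (Nat.card F = 2 ∧ m = 4))
    (hH : H ≤ Cfsg.isometryGroup F (⇑Q)) (h2 : Hits H (2 * m - 2)) (h3 : Hits H (oddE m)) :
    InOrthogonalResidualClass H ∨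
      (Even m ∧ ∃ v : ι → F, Q v ≠ 0 ∧ H ≤ subspaceStabilizer (Submodule.span F {v})) := by
  have hq := one_lt_q F
  obtain ⟨p, a, hp, ha, hpa⟩ := exists_char F
  obtain ⟨r₁, hr₁⟩ := exists_ppp (e := 2 * m - 2) hp ha (by omega) (by rw [← hpa]; omega) (fun b hb => by
    have := Nat.mul_le_mul hb (show 6 ≤ 2 * m - 2 by omega); omega)
  have hr₁q : PP (Nat.card F) (2 * m - 2) r₁ := by rw [hpa]; exact hr₁.of_pow ha
  have ho3 := oddE_odd (m := m) (by omega)
  have he33 : 3 ≤ oddE m := by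
    rcases Nat.even_or_odd m with he | ho
    · rw [oddE_of_even he]; omega
    · rw [oddE_of_odd ho]; omega
  have he3g : m - 1 ≤ oddE m := by
    rcases Nat.even_or_odd m with he | ho
    · rw [oddE_of_even he]
    · rw [oddE_of_odd ho]; omega
  have he3n : 2 * m < 4 * oddE m := by omega
  obtain ⟨r₃, hr₃⟩ := exists_pp (q := Nat.card F) (e := oddE m) (by omega) he33 (by
    rintro ⟨-, h⟩
    rw [h] at ho3
    exact absurd ho3 (by decide))
  have hfin : finrank F (ι → F) = 2 * m := by rw [Module.finrank_fintype_fun_eq_card, hn]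
  have hlt := hr₁q.lt (by omega)
  by_cases hirr : ActsIrreducibly (matrixSet H)
  · left
    rcases irr_main (by omega) hQ hH hirr hp ha hpa hr₁ (by omega) (h2 _ hr₁q) with
      h | ⟨s, K, hs, hsn, hK, hHK, h⟩ | ⟨s, k, hs, hk, hsk, h⟩ | h
    · exfalso
      rcases Nat.even_or_odd m with he | ho
      · rw [oddE_of_even he] at hr₃ h3
        have h6 := h _ _ (by omega) hr₁q (h2 _ hr₁q)
        have h7 := h _ _ (by omega) hr₃ (h3 _ hr₃)
        exact false_of_even hm he hr₁q hr₃ (by omega) (by omega)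
      · rw [oddE_of_odd ho] at hr₃ h3
        have h7 := h _ _ (by omega) hr₃ (h3 _ hr₃)
        have h8 := hr₃.two_mul_dvd (by omega) ho
        have h9 := hr₃.prime.two_le
        have := Nat.le_of_dvd (by omega) h8
        omega
    · exfalso
      rw [hn] at hsn
      have hs2 := eq_two (by omega) hs hsn hlt h
      subst hs2
      exact no_quadratic_field hQ hH hr₃ ho3 he33 (by omega) (h3 _ hr₃) hK hHK
    · exfalso
      rw [hn] at hsk
      have hme := even_of_pow (by omega) hs hsk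
      rw [oddE_of_even hme] at hr₃ h3
      have h6 := h _ _ (by omega) hr₁q (h2 _ hr₁q)
      have h7 := h _ _ (by omega) hr₃ (h3 _ hr₃)
      exact false_of_even hm hme hr₁q hr₃ (by omega) (by omega)
    · exact h
  · right
    obtain ⟨g, hgH, hiso, -, hg1⟩ := exists_elt hH hr₁q (by omega) (h2 _ hr₁q)
    have hev : Even (2 * m - 2) := ⟨m - 1, by omega⟩
    obtain ⟨hcm, hcmP⟩ := hiso.even_case hQ (lin_ne_one hg1) hr₁q hev (by omega)
    have hadd := hiso.finrank_add
    have hfx : finrank F ↥(fx (lin g)) = 2 := by omega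
    have hfxP : ¬ IsPlus (res Q (fx (lin g))) := by
      intro h
      have h5 := (hiso.isPlus_fx hQ (by rw [hfin]; exact even_two_mul m) (by rw [hcm]; exact hev)).1 hP
      exact hcmP (h5.2 h)
    -- the other element
    obtain ⟨z, hzH, hziso, -, hz1⟩ := exists_elt hH hr₃ (by omega) (h3 _ hr₃)
    obtain ⟨hzcm, hzP, -⟩ := hziso.odd_case hQ (lin_ne_one hz1) hr₃ ho3 (by omega)
    have hzadd := hziso.finrank_add
    have hzfxP : IsPlus (res Q (fx (lin z))) := by
      have h5 := (hziso.isPlus_fx hQ (by rw [hfin]; exact even_two_mul m) (by rw [hzcm]; exact even_two_mul _)).1 hP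
      exact h5.1 hzP
    -- a stabilised line
    have key : ∀ W : Submodule F (ι → F), finrank F W = 1 → H ≤ subspaceStabilizer W → Even m := by
      intro W hW hHW
      by_contra hodd
      rw [Nat.not_even_iff_odd] at hodd
      have h5 := hziso.le_fx hr₃ (inv_of_mem (hHW hzH)) (by omega)
      have h6 := Submodule.finrank_mono h5
      rw [oddE_of_odd hodd] at hzcm
      omega
    rcases Cfsg.Agent.H925.reducible_cases (Cfsg.Agent.H884.OddForm.isNondegenerate_of_nondeg Q hQ) hH hirr with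
      ⟨W, hW0, hWs, hHW⟩ | ⟨W, hW0, hWn, hd, hHW⟩ | ⟨-, v, hv, hHW⟩
    · exfalso
      have h5 := hiso.ts_le hQ (lin_ne_one hg1) hr₁q hcm (inv_of_mem (hHW hgH)) hWs
      apply hW0
      rw [Submodule.eq_bot_iff]
      intro w hw
      exact aniso_of_not_plus hfx hfxP (h5 hw) (hWs w hw)
    · have h5 := hiso.le_fx hr₁q (inv_of_mem (hHW hgH)) (by omega)
      have h6 := Submodule.finrank_mono h5
      have h7 : finrank F W ≠ 0 := fun h => hW0 (Submodule.finrank_eq_zero.1 h)
      by_cases hW1 : finrank F W = 1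
      · refine ⟨key W hW1 hHW, ?_⟩
        obtain ⟨v, hv0, hspan⟩ := finrank_eq_one_iff'.1 hW1
        have hWs : W = Submodule.span F {(v : ι → F)} := by
          apply le_antisymm
          · intro w hw
            obtain ⟨c, hc⟩ := hspan ⟨w, hw⟩
            exact Submodule.mem_span_singleton.2 ⟨c, congrArg Subtype.val hc⟩
          · rw [Submodule.span_singleton_le_iff_mem]
            exact v.2
        refine ⟨v, fun h0 => hv0 (Subtype.ext (aniso_of_not_plus hfx hfxP (h5 v.2) h0)), ?_⟩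
        rw [← hWs]; exact hHW
      · exfalso
        have hW2 : finrank F W = 2 := by omega
        have h8 : W = fx (lin g) := Submodule.eq_of_le_of_finrank_eq h5 (by omega)
        have h9 := hziso.le_fx hr₃ (inv_of_mem (hHW hzH)) (by omega)
        have h10 := Submodule.finrank_mono h9
        have h11 : W = fx (lin z) := Submodule.eq_of_le_of_finrank_eq h9 (by omega)
        rw [← h11, h8] at hzfxP
        exact hfxP hzfxP
    · refine ⟨key _ ?_ hHW, v, hv, hHW⟩
      apply finrank_span_singleton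
      rintro rfl
      exact hv (QuadraticMap.map_zero Q)

end Mat

end Cfsg.Agent.H884.El
end

-- part: H375/O8/TypeB
section
prune_inst 0x400000100000000000800002000000000000000000000080020040000000000040000000000002100000000000004811000080020000000a000000000000000000000000040000000000000000000000000000000000000000000000000000000000000
set_option linter.all false
open scoped Cfsg.Agent.FastGrp

/-!
# COV-O8+ (S2499): elements of type `B`
-/

set_option autoImplicit false

namespace Cfsg.Agent.H375.O8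

open Module QuadraticMap Cfsg Cfsg.Geo Cfsg.Agent.LieClassical.OrthCore Cfsg.Agent.H954.TSing Polynomial
open Cfsg.Agent.LieClassical.OmegaReindex Cfsg.Agent.H957
open Cfsg.Agent.H951 (fx cm Inv)
open Cfsg.Agent.H884.El
open Cfsg.Agent.H436 (Prim)
open scoped MatrixGroups Matrix

/-! ### the field -/

section Fld

variable {F K : Type} [Field F] [Fintype F] [Field K] [Algebra F K]

theorem num_B {q i : ℕ} (hq : 2 ≤ q) (hi : i < 4) : ¬ (q ^ 4 - 1) ∣ 4 * (q ^ i + 1) := by
  intro hd
  have hle := Nat.le_of_dvd (by positivity) hd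
  rcases (show q = 2 ∨ q = 3 ∨ q = 4 ∨ 5 ≤ q by omega) with rfl | rfl | rfl | h5
  · interval_cases i <;> revert hd <;> decide
  · interval_cases i <;> revert hd <;> decide
  · interval_cases i <;> revert hd <;> decide
  · have h1 : q ^ i ≤ q ^ 3 := Nat.pow_le_pow_right (by omega) (by omega)
    have h2 : 5 ^ 3 ≤ q ^ 3 := Nat.pow_le_pow_left h5 3
    have h3 : q ^ 4 = q * q ^ 3 := by ring
    have h4 : 5 * q ^ 3 ≤ q * q ^ 3 := Nat.mul_le_mul_right _ h5
    omega

variable [Finite K] {θ : Kˣ}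

theorem not_conj (hK : finrank F K = 4) (hθ : orderOf θ = Fintype.card F ^ 4 - 1) :
    aeval ((θ ^ 4 : Kˣ) : K) (minpoly F (((θ ^ 4)⁻¹ : Kˣ) : K)) ≠ 0 := by
  intro h
  have hq : 2 ≤ Fintype.card F := Fintype.one_lt_card
  have halg : IsAlgebraic F (((θ ^ 4)⁻¹ : Kˣ) : K) := Algebra.IsAlgebraic.isAlgebraic _
  have h1 : IsConjRoot F (((θ ^ 4)⁻¹ : Kˣ) : K) ((θ ^ 4 : Kˣ) : K) := (minpoly.eq_of_root halg h).symm
  obtain ⟨σ, hσ⟩ := isConjRoot_iff_exists_algEquiv.1 h1
  obtain ⟨i, hi⟩ := (FiniteField.bijective_frobeniusAlgEquivOfAlgebraic_pow F K).2 σ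
  have h2 : ∀ (j : ℕ) (x : K), (FiniteField.frobeniusAlgEquivOfAlgebraic F K ^ j) x = x ^ Fintype.card F ^ j := by
    intro j
    induction j with
    | zero => intro x; rw [pow_zero, pow_zero, pow_one]; rfl
    | succ j ih =>
      intro x
      rw [pow_succ, AlgEquiv.mul_apply, ih, FiniteField.coe_frobeniusAlgEquivOfAlgebraic, ← pow_mul, pow_succ, mul_comm]
  have h3 : (θ ^ 4) ^ Fintype.card F ^ (i : ℕ) = (θ ^ 4)⁻¹ := by
    apply Units.ext
    rw [← hσ, ← hi]
    push_cast
    rw [h2]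
  have h4 : θ ^ (4 * (Fintype.card F ^ (i : ℕ) + 1)) = 1 := by
    rw [pow_mul, pow_succ, h3, inv_mul_cancel]
  have h5 := orderOf_dvd_of_pow_eq_one h4
  rw [hθ] at h5
  exact num_B hq (by have := i.2; omega) h5

theorem exists_poly (hK : finrank F K = 4) (hθ : orderOf θ = Fintype.card F ^ 4 - 1) (β : K) :
    ∃ P : F[X], aeval ((θ ^ 4 : Kˣ) : K) P = β := by
  have hq : 2 ≤ Fintype.card F := Fintype.one_lt_card
  set α : K := ((θ ^ 4 : Kˣ) : K) with hα
  have hint : IsIntegral F α := Algebra.IsIntegral.isIntegral α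
  have h1 : IntermediateField.adjoin F {α} = ⊤ := by
    rw [Field.primitive_element_iff_minpoly_natDegree_eq, hK]
    have h2 : (minpoly F α).natDegree ∣ 4 := hK ▸ minpoly.degree_dvd hint
    have h3 : finrank F (IntermediateField.adjoin F {α}) = (minpoly F α).natDegree := IntermediateField.adjoin.finrank hint
    by_contra h4
    have h5 : (minpoly F α).natDegree ∣ 2 := by
      have h6 := Nat.le_of_dvd (by norm_num) h2
      have h7 : 0 < (minpoly F α).natDegree := minpoly.natDegree_pos hint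
      interval_cases h8 : (minpoly F α).natDegree
      · exact one_dvd _
      · exact dvd_rfl
      · exact absurd h2 (by decide)
      · exact absurd rfl h4
    obtain ⟨k, hk⟩ := h5
    have h6 : Nat.card (IntermediateField.adjoin F {α}) = Fintype.card F ^ (minpoly F α).natDegree := by
      rw [Module.natCard_eq_pow_finrank (K := F), h3, Nat.card_eq_fintype_card]
    have h7 : α ^ (Fintype.card F ^ (minpoly F α).natDegree) = α := by
      have := Fintype.ofFinite (IntermediateField.adjoin F {α})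
      have h8 := FiniteField.pow_card (⟨α, IntermediateField.mem_adjoin_simple_self F α⟩ : IntermediateField.adjoin F {α})
      rw [← Nat.card_eq_fintype_card, h6] at h8
      exact congrArg Subtype.val h8
    have h9 : α ^ (Fintype.card F ^ 2) = α := by
      rw [hk, pow_mul]
      generalize (minpoly F α).natDegree = d at h7
      clear hk
      induction k with
      | zero => rw [pow_zero, pow_one]
      | succ k ih => rw [pow_succ, pow_mul, ih, h7]
    have h10 : θ ^ (4 * (Fintype.card F ^ 2 - 1)) = 1 := by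
      rw [pow_mul]
      have h11 : 1 ≤ Fintype.card F ^ 2 := Nat.one_le_pow _ _ (by omega)
      have h12 : (θ ^ 4) ^ (Fintype.card F ^ 2) = θ ^ 4 := by
        apply Units.ext
        rw [Units.val_pow_eq_pow_val]
        exact h9
      have h13 : (θ ^ 4) ^ (Fintype.card F ^ 2 - 1) * θ ^ 4 = 1 * θ ^ 4 := by
        rw [← pow_succ, Nat.sub_add_cancel h11, h12, one_mul]
      exact mul_right_cancel h13
    have h11 := orderOf_dvd_of_pow_eq_one h10
    rw [hθ] at h11
    have h12 : 2 ^ 2 ≤ Fintype.card F ^ 2 := Nat.pow_le_pow_left hq 2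
    have h13 : Fintype.card F ^ 4 - 1 = (Fintype.card F ^ 2 + 1) * (Fintype.card F ^ 2 - 1) := by
      have : Fintype.card F ^ 4 = (Fintype.card F ^ 2) ^ 2 := by ring
      rw [this, ← Nat.sq_sub_sq, one_pow]
    rw [h13] at h11
    have h14 := Nat.dvd_of_mul_dvd_mul_right (by omega) h11
    have h15 := Nat.le_of_dvd (by norm_num) h14
    omega
  have h2 : β ∈ (IntermediateField.adjoin F {α}).toSubalgebra := by
    rw [h1]
    trivial
  rw [IntermediateField.adjoin_simple_toSubalgebra_of_isAlgebraic (Algebra.IsAlgebraic.isAlgebraic α),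
    Algebra.adjoin_singleton_eq_range_aeval] at h2
  exact h2

/-- the polynomial projecting onto the first factor -/
theorem exists_proj (hK : finrank F K = 4) (hθ : orderOf θ = Fintype.card F ^ 4 - 1) :
    ∃ P : F[X], aeval ((θ ^ 4 : Kˣ) : K) P = 1 ∧ aeval (((θ ^ 4)⁻¹ : Kˣ) : K) P = 0 := by
  obtain ⟨v, hv⟩ := exists_poly hK hθ (aeval ((θ ^ 4 : Kˣ) : K) (minpoly F (((θ ^ 4)⁻¹ : Kˣ) : K)))⁻¹
  refine ⟨v * minpoly F (((θ ^ 4)⁻¹ : Kˣ) : K), ?_, ?_⟩
  · rw [map_mul, hv, inv_mul_cancel₀ (not_conj hK hθ)]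
  · rw [map_mul, minpoly.aeval, mul_zero]

end Fld

/-! ### the matrices -/

section Mat

variable {F K : Type} [Field F] [Field K] [Algebra F K] (b : Basis (Fin 4) F K)

/-- the torus -/
noncomputable def tor : Kˣ →* isometryGroup F (quadFormPlus 4 F) :=
  (Cfsg.Agent.H982.LawFam.gPlus F 4).comp (Units.map (Algebra.leftMulMatrix b).toRingHom.toMonoidHom)

/-- its action -/
noncomputable def act (x y : K) (v : Fin 4 ⊕ Fin 4 → F) : Fin 4 ⊕ Fin 4 → F :=
  Sum.elim (Algebra.leftMulMatrix b x *ᵥ (v ∘ Sum.inl)) ((Algebra.leftMulMatrix b y)ᵀ *ᵥ (v ∘ Sum.inr))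

theorem tor_mulVec (α : Kˣ) (v : Fin 4 ⊕ Fin 4 → F) :
    (((tor b α : isometryGroup F (quadFormPlus 4 F)) : GL (Fin 4 ⊕ Fin 4) F) : Matrix (Fin 4 ⊕ Fin 4) (Fin 4 ⊕ Fin 4) F) *ᵥ v =
      act b (α : K) ((α⁻¹ : Kˣ) : K) v :=
  Cfsg.Agent.H982.LawFam.hyp_mulVec F 4 _ v

theorem lin_tor (α : Kˣ) (v : Fin 4 ⊕ Fin 4 → F) :
    Matrix.toLin' (((tor b α : isometryGroup F (quadFormPlus 4 F)) : GL (Fin 4 ⊕ Fin 4) F) : Matrix (Fin 4 ⊕ Fin 4) (Fin 4 ⊕ Fin 4) F) v =
      act b (α : K) ((α⁻¹ : Kˣ) : K) v := by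
  rw [Matrix.toLin'_apply]
  exact tor_mulVec b α v

theorem tor_injective : Function.Injective (tor b) := by
  intro x y h
  have h1 := Cfsg.Agent.H982.LawFam.gPlus_injective F 4 h
  apply Units.ext
  exact Algebra.leftMulMatrix_injective b (congrArg Units.val h1)

theorem act_add (x y x' y' : K) (v : Fin 4 ⊕ Fin 4 → F) : act b (x + x') (y + y') v = act b x y v + act b x' y' v := by
  rw [act, map_add, map_add, Matrix.transpose_add, Matrix.add_mulVec, Matrix.add_mulVec]
  ext i
  cases i <;> rfl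

theorem act_smul (c : F) (x y : K) (v : Fin 4 ⊕ Fin 4 → F) : act b (c • x) (c • y) v = c • act b x y v := by
  rw [act, map_smul, map_smul, Matrix.transpose_smul, Matrix.smul_mulVec, Matrix.smul_mulVec]
  ext i
  cases i <;> rfl

theorem act_one (v : Fin 4 ⊕ Fin 4 → F) : act b (1 : K) (1 : K) v = v := by
  rw [act, map_one, Matrix.transpose_one, Matrix.one_mulVec, Matrix.one_mulVec]
  ext i
  cases i <;> rfl

theorem act_mul (x y x' y' : K) (v : Fin 4 ⊕ Fin 4 → F) : act b (x * x') (y * y') v = act b x y (act b x' y' v) := by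
  rw [act, act, map_mul, mul_comm y y', map_mul, Matrix.transpose_mul, ← Matrix.mulVec_mulVec, ← Matrix.mulVec_mulVec, act]
  rfl

theorem act_pow (x y : K) (T : Module.End F (Fin 4 ⊕ Fin 4 → F)) (hT : ∀ v, T v = act b x y v) (n : ℕ) (v : Fin 4 ⊕ Fin 4 → F) :
    (T ^ n) v = act b (x ^ n) (y ^ n) v := by
  induction n generalizing v with
  | zero => rw [pow_zero, pow_zero, pow_zero, act_one]; rfl
  | succ n ih => rw [pow_succ, pow_succ, pow_succ, Module.End.mul_apply, ih, hT, act_mul]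

theorem act_aeval (x y : K) (T : Module.End F (Fin 4 ⊕ Fin 4 → F)) (hT : ∀ v, T v = act b x y v) (P : F[X])
    (v : Fin 4 ⊕ Fin 4 → F) : (aeval T P) v = act b (aeval x P) (aeval y P) v := by
  induction P using Polynomial.induction_on' with
  | add p q hp hq => rw [map_add, map_add, map_add, LinearMap.add_apply, hp, hq, act_add]
  | monomial n c =>
    rw [← C_mul_X_pow_eq_monomial, map_mul, map_mul, map_mul, map_pow, map_pow, map_pow, aeval_X, aeval_X, aeval_X, aeval_C,
      aeval_C, aeval_C, ← Algebra.smul_def, ← Algebra.smul_def, ← Algebra.smul_def, LinearMap.smul_apply, act_pow b x y T hT,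
      act_smul]

theorem inv_aeval {V : Type} [AddCommGroup V] [Module F V] {T : Module.End F V} {W : Submodule F V} (hW : _root_.Cfsg.Agent.H951.Inv T W)
    (P : F[X]) : _root_.Cfsg.Agent.H951.Inv (aeval T P) W := by
  induction P using Polynomial.induction_on' with
  | add p q hp hq =>
    intro w hw
    rw [map_add, LinearMap.add_apply]
    exact W.add_mem (hp w hw) (hq w hw)
  | monomial n c =>
    intro w hw
    rw [← C_mul_X_pow_eq_monomial, map_mul, map_pow, aeval_X, aeval_C, ← Algebra.smul_def, LinearMap.smul_apply]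
    apply W.smul_mem
    induction n generalizing w with
    | zero => exact hw
    | succ n ih => rw [pow_succ, Module.End.mul_apply]; exact ih _ (hW w hw)

theorem surj_left (hK : finrank F K = 4) {a : Fin 4 → F} (ha : a ≠ 0) (c : Fin 4 → F) :
    ∃ β : K, Algebra.leftMulMatrix b β *ᵥ a = c := by
  have : FiniteDimensional F K := Module.Finite.of_basis b
  let f : K →ₗ[F] (Fin 4 → F) :=
    { toFun := fun β => Algebra.leftMulMatrix b β *ᵥ a
      map_add' := fun x y => by rw [map_add, Matrix.add_mulVec]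
      map_smul' := fun c x => by rw [map_smul, Matrix.smul_mulVec]; rfl }
  have hinj : Function.Injective f := by
    rw [← LinearMap.ker_eq_bot, LinearMap.ker_eq_bot']
    intro x hx
    by_contra hx0
    apply ha
    have h1 : Algebra.leftMulMatrix b x *ᵥ a = 0 := hx
    have h2 : Algebra.leftMulMatrix b x⁻¹ *ᵥ (Algebra.leftMulMatrix b x *ᵥ a) = a := by
      rw [Matrix.mulVec_mulVec, ← map_mul, inv_mul_cancel₀ hx0, map_one, Matrix.one_mulVec]
    rw [← h2, h1, Matrix.mulVec_zero]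
  have hsurj := (LinearMap.injective_iff_surjective_of_finrank_eq_finrank (f := f)
    (by rw [hK, Module.finrank_fintype_fun_eq_card, Fintype.card_fin])).1 hinj
  exact hsurj c

theorem surj_right (hK : finrank F K = 4) {a : Fin 4 → F} (ha : a ≠ 0) (c : Fin 4 → F) :
    ∃ β : K, (Algebra.leftMulMatrix b β)ᵀ *ᵥ a = c := by
  have : FiniteDimensional F K := Module.Finite.of_basis b
  let f : K →ₗ[F] (Fin 4 → F) :=
    { toFun := fun β => (Algebra.leftMulMatrix b β)ᵀ *ᵥ a
      map_add' := fun x y => by rw [map_add, Matrix.transpose_add, Matrix.add_mulVec]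
      map_smul' := fun c x => by rw [map_smul, Matrix.transpose_smul, Matrix.smul_mulVec]; rfl }
  have hinj : Function.Injective f := by
    rw [← LinearMap.ker_eq_bot, LinearMap.ker_eq_bot']
    intro x hx
    by_contra hx0
    apply ha
    have h1 : (Algebra.leftMulMatrix b x)ᵀ *ᵥ a = 0 := hx
    have h2 : (Algebra.leftMulMatrix b x⁻¹)ᵀ *ᵥ ((Algebra.leftMulMatrix b x)ᵀ *ᵥ a) = a := by
      rw [Matrix.mulVec_mulVec, ← Matrix.transpose_mul, ← map_mul, mul_inv_cancel₀ hx0, map_one, Matrix.transpose_one,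
        Matrix.one_mulVec]
    rw [← h2, h1, Matrix.mulVec_zero]
  have hsurj := (LinearMap.injective_iff_surjective_of_finrank_eq_finrank (f := f)
    (by rw [hK, Module.finrank_fintype_fun_eq_card, Fintype.card_fin])).1 hinj
  exact hsurj c

theorem only_aux (hK : finrank F K = 4) {α : Kˣ} (h1 : ∀ β : K, ∃ P : F[X], aeval (α : K) P = β)
    (h2 : ∀ β : K, ∃ P : F[X], aeval ((α⁻¹ : Kˣ) : K) P = β)
    (h3 : ∃ P : F[X], aeval (α : K) P = 1 ∧ aeval ((α⁻¹ : Kˣ) : K) P = 0)
    {T : Module.End F (Fin 4 ⊕ Fin 4 → F)} (hT : ∀ v, T v = act b (α : K) ((α⁻¹ : Kˣ) : K) v)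
    {X Y : Submodule F (Fin 4 ⊕ Fin 4 → F)} (hX : ∀ v, v ∈ X ↔ ∀ i, v (.inr i) = 0) (hY : ∀ v, v ∈ Y ↔ ∀ i, v (.inl i) = 0)
    {W : Submodule F (Fin 4 ⊕ Fin 4 → F)} (hW : _root_.Cfsg.Agent.H951.Inv T W) : W = ⊥ ∨ W = X ∨ W = Y ∨ W = ⊤ := by
  obtain ⟨P, hP1, hP2⟩ := h3
  have hl : ∀ w ∈ W, (Sum.elim (w ∘ Sum.inl) 0 : Fin 4 ⊕ Fin 4 → F) ∈ W := by
    intro w hw
    have h4 := inv_aeval hW P w hw
    rw [act_aeval b _ _ T hT, hP1, hP2, act, map_one, map_zero, Matrix.transpose_zero, Matrix.zero_mulVec,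
      Matrix.one_mulVec] at h4
    exact h4
  have hr : ∀ w ∈ W, (Sum.elim 0 (w ∘ Sum.inr) : Fin 4 ⊕ Fin 4 → F) ∈ W := by
    intro w hw
    have h4 := W.sub_mem hw (hl w hw)
    have h5 : w - Sum.elim (w ∘ Sum.inl) 0 = (Sum.elim 0 (w ∘ Sum.inr) : Fin 4 ⊕ Fin 4 → F) := by
      ext i
      cases i <;> simp
    rw [h5] at h4
    exact h4
  have hXW : ∀ w ∈ W, w ∘ Sum.inl ≠ 0 → X ≤ W := by
    intro w hw hw0 v hv
    obtain ⟨β, hβ⟩ := surj_left b hK hw0 (v ∘ Sum.inl)
    obtain ⟨R, hR⟩ := h1 β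
    have h4 := inv_aeval hW R _ (hl w hw)
    rw [act_aeval b _ _ T hT, hR, act, Sum.elim_comp_inl, Sum.elim_comp_inr, hβ, Matrix.mulVec_zero] at h4
    have h5 : v = Sum.elim (v ∘ Sum.inl) (0 : Fin 4 → F) := by
      ext i
      cases i with
      | inl i => rfl
      | inr i => exact (hX v).1 hv i
    rw [h5]
    exact h4
  have hYW : ∀ w ∈ W, w ∘ Sum.inr ≠ 0 → Y ≤ W := by
    intro w hw hw0 v hv
    obtain ⟨β, hβ⟩ := surj_right b hK hw0 (v ∘ Sum.inr)
    obtain ⟨R, hR⟩ := h2 β
    have h4 := inv_aeval hW R _ (hr w hw)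
    rw [act_aeval b _ _ T hT, hR, act, Sum.elim_comp_inl, Sum.elim_comp_inr, hβ, Matrix.mulVec_zero] at h4
    have h5 : v = Sum.elim (0 : Fin 4 → F) (v ∘ Sum.inr) := by
      ext i
      cases i with
      | inl i => exact (hY v).1 hv i
      | inr i => rfl
    rw [h5]
    exact h4
  by_cases hA : ∃ w ∈ W, w ∘ Sum.inl ≠ 0
  · obtain ⟨w, hw, hw0⟩ := hA
    have hXW' := hXW w hw hw0
    by_cases hB : ∃ w ∈ W, w ∘ Sum.inr ≠ 0
    · obtain ⟨w', hw', hw0'⟩ := hB
      have hYW' := hYW w' hw' hw0'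
      right; right; right
      rw [eq_top_iff]
      intro v _
      have h4 : v = Sum.elim (v ∘ Sum.inl) (0 : Fin 4 → F) + Sum.elim (0 : Fin 4 → F) (v ∘ Sum.inr) := by
        ext i
        cases i <;> simp
      rw [h4]
      exact W.add_mem (hXW' ((hX _).2 fun i => rfl)) (hYW' ((hY _).2 fun i => rfl))
    · right; left
      push Not at hB
      refine le_antisymm (fun v hv => (hX v).2 fun i => ?_) hXW'
      exact congrFun (hB v hv) i
  · push Not at hA
    by_cases hB : ∃ w ∈ W, w ∘ Sum.inr ≠ 0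
    · obtain ⟨w', hw', hw0'⟩ := hB
      right; right; left
      refine le_antisymm (fun v hv => (hY v).2 fun i => ?_) (hYW w' hw' hw0')
      exact congrFun (hA v hv) i
    · push Not at hB
      left
      rw [eq_bot_iff]
      intro v hv
      rw [Submodule.mem_bot]
      ext i
      cases i with
      | inl i => exact congrFun (hA v hv) i
      | inr i => exact congrFun (hB v hv) i

theorem cm_top {β : Kˣ} (hβ : β ≠ 1) {T : Module.End F (Fin 4 ⊕ Fin 4 → F)}
    (hT : ∀ v, T v = act b (β : K) ((β⁻¹ : Kˣ) : K) v) : cm T = ⊤ := by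
  rw [eq_top_iff]
  intro v _
  rw [Cfsg.Agent.H951.mem_cm]
  have h1 : (β : K) - 1 ≠ 0 := fun h => hβ (Units.ext (by rw [sub_eq_zero.1 h]; rfl))
  have h2 : ((β⁻¹ : Kˣ) : K) - 1 ≠ 0 := fun h => hβ (inv_eq_one.1 (Units.ext (by rw [sub_eq_zero.1 h]; rfl)))
  refine ⟨act b ((β : K) - 1)⁻¹ (((β⁻¹ : Kˣ) : K) - 1)⁻¹ v, ?_⟩
  set w := act b ((β : K) - 1)⁻¹ (((β⁻¹ : Kˣ) : K) - 1)⁻¹ v with hw
  have h3 : act b ((β : K) - 1) (((β⁻¹ : Kˣ) : K) - 1) w = v := by
    rw [hw, ← act_mul, mul_inv_cancel₀ h1, mul_inv_cancel₀ h2, act_one]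
  have h4 : act b (β : K) ((β⁻¹ : Kˣ) : K) w = act b ((β : K) - 1) (((β⁻¹ : Kˣ) : K) - 1) w + act b 1 1 w := by
    rw [← act_add, sub_add_cancel, sub_add_cancel]
  rw [hT, h4, h3, act_one, add_sub_cancel_right]

end Mat

/-! ### the element -/

theorem sq_mem_omegaGL {ι : Type} [Fintype ι] [DecidableEq ι] {F : Type} [Field F] {Q : QuadraticForm F (ι → F)}
    (hQ : (polarBilin Q).Nondegenerate) (h : Nat.card F ≠ 2 ∨ Fintype.card ι ≠ 4) {g : GL ι F}
    (hg : g ∈ isometryGroup F (⇑Q)) : g ^ 2 ∈ omegaGL (⇑Q) := by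
  rw [Cfsg.Agent.H957.mem_omegaGL]
  refine ⟨pow_mem hg 2, ?_⟩
  have h1 : (⟨g ^ 2, pow_mem hg 2⟩ : isometryGroup F (⇑Q)) = ⟨g, hg⟩ ^ 2 := rfl
  rw [h1]
  refine sq_mem_commutator (ClassicalGeometry.GenReflections.closure_refls_eq_top Q hQ h) ?_ _
  rintro s ⟨v, hv, hs⟩
  have : s = ClassicalGeometry.Reflection.reflIso Q v hv := Subtype.ext (Units.ext hs)
  rw [this, pow_two]
  exact ClassicalGeometry.Reflection.reflIso_mul_self Q v hv

theorem exists_typeB_aux {F : Type} [Field F] [Fintype F] {p a r b : ℕ} (hF : Nat.card F = p ^ a) (hp : p.Prime)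
    (ha : 1 ≤ a) (hprim : Prim p (4 * a) r) (hb : 1 ≤ b) (hdvd : r ^ b ∣ p ^ (2 * a) + 1)
    (hnd : ¬ r ^ (b + 1) ∣ p ^ (2 * a) + 1)
    {X Y : Submodule F (Fin 4 ⊕ Fin 4 → F)} (hX : ∀ v, v ∈ X ↔ ∀ i, v (.inr i) = 0) (hY : ∀ v, v ∈ Y ↔ ∀ i, v (.inl i) = 0) :
    ∃ x : GL (Fin 4 ⊕ Fin 4) F, x ∈ omegaGL (quadFormPlus 4 F) ∧ (∀ v ∈ X, quadFormPlus 4 F v = 0) ∧
      (∀ v ∈ Y, quadFormPlus 4 F v = 0) ∧ finrank F X = 4 ∧ finrank F Y = 4 ∧ IsCompl X Y ∧ _root_.Cfsg.Agent.H951.Inv (lin x) X ∧ _root_.Cfsg.Agent.H951.Inv (lin x) Y ∧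
      (∀ W : Submodule F (Fin 4 ⊕ Fin 4 → F), _root_.Cfsg.Agent.H951.Inv ((lin (x ^ 2) :)) W → W = ⊥ ∨ W = X ∨ W = Y ∨ W = ⊤) ∧
      (∃ m : ℕ, Nat.Coprime r m ∧ x ^ (r ^ b * m) = 1 ∧ cm (lin (x ^ (r ^ (b - 1) * m))) = ⊤) ∧
      ((Nat.card F = 2 → orderOf x = 15) ∧
        (Nat.card F = 3 → orderOf x = 40 ∧ ((x ^ 20 : GL (Fin 4 ⊕ Fin 4) F) : Matrix (Fin 4 ⊕ Fin 4) (Fin 4 ⊕ Fin 4) F) = -1)) := by
  have hF' : Fintype.card F = p ^ a := by rw [← Nat.card_eq_fintype_card]; exact hF
  have hpp := Fact.mk hp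
  have hrp := hprim.prime
  have hq : 2 ≤ Fintype.card F := Fintype.one_lt_card
  have hch : CharP F p := by
    obtain ⟨n, hn1, hn2⟩ := FiniteField.card F (ringChar F)
    have h1 : ringChar F = p := by
      have h2 : (ringChar F) ∣ p ^ a := by
        rw [← hF', hn2]
        exact dvd_pow_self _ n.2.ne'
      exact (Nat.prime_dvd_prime_iff_eq hn1 hp).1 (hn1.dvd_of_dvd_pow h2)
    rw [← h1]
    exact ringChar.charP F
  let K := FiniteField.Extension F p 4
  have hK : finrank F K = 4 := FiniteField.finrank_extension F p 4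
  have hKc : Nat.card K = Fintype.card F ^ 4 := by
    rw [← Nat.card_eq_fintype_card]
    exact FiniteField.natCard_extension F p 4
  have hKfin : Finite K := inferInstance
  let e : Basis (Fin 4) F K := (Module.finBasis F K).reindex (finCongr hK)
  obtain ⟨θ, hθ⟩ : ∃ θ : Kˣ, orderOf θ = Fintype.card F ^ 4 - 1 := by
    obtain ⟨θ, hθ⟩ := IsCyclic.exists_generator (α := Kˣ)
    refine ⟨θ, ?_⟩
    rw [orderOf_eq_card_of_forall_mem_zpowers hθ, Nat.card_units, hKc]
  have hp1 : 1 ≤ Fintype.card F ^ 4 - 1 := by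
    have : 2 ^ 4 ≤ Fintype.card F ^ 4 := Nat.pow_le_pow_left hq 4
    omega
  set! x : GL (Fin 4 ⊕ Fin 4) F := ((tor e (θ ^ 2) : isometryGroup F (quadFormPlus 4 F)) : GL (Fin 4 ⊕ Fin 4) F) with hx
  have hxpow : ∀ n : ℕ, x ^ n = ((tor e (θ ^ (2 * n)) : isometryGroup F (quadFormPlus 4 F)) : GL (Fin 4 ⊕ Fin 4) F) := by
    intro n
    rw [hx, pow_mul, map_pow (tor e) (θ ^ 2) n, Subgroup.coe_pow]
  have hlin : ∀ (n : ℕ) (v : Fin 4 ⊕ Fin 4 → F), lin (x ^ n) v = act e ((θ ^ (2 * n) : Kˣ) : K) (((θ ^ (2 * n))⁻¹ : Kˣ) : K) v := by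
    intro n v
    rw [hxpow]
    exact lin_tor e _ v
  have hlin1 : ∀ (v : Fin 4 ⊕ Fin 4 → F), lin x v = act e ((θ ^ 2 : Kˣ) : K) (((θ ^ 2)⁻¹ : Kˣ) : K) v := fun v => lin_tor e _ v
  have hordx : orderOf x = orderOf (θ ^ 2) := by
    rw [hx, Subgroup.orderOf_coe]
    exact orderOf_injective (tor e) (tor_injective e) _
  have hXf : finrank F X = 4 := by
    let f : X ≃ₗ[F] (Fin 4 → F) :=
      { toFun := fun v i => ((v : Fin 4 ⊕ Fin 4 → F) (.inl i) :)
        map_add' := fun _ _ => rfl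
        map_smul' := fun _ _ => rfl
        invFun := fun u => ⟨Sum.elim u 0, (hX _).2 fun _ => rfl⟩
        left_inv := fun v => by
          apply Subtype.ext
          ext i
          cases i with
          | inl i => rfl
          | inr i => exact ((hX _).1 v.2 i).symm
        right_inv := fun u => rfl }
    rw [f.finrank_eq, Module.finrank_fintype_fun_eq_card, Fintype.card_fin]
  have hYf : finrank F Y = 4 := by
    let f : Y ≃ₗ[F] (Fin 4 → F) :=
      { toFun := fun v i => ((v : Fin 4 ⊕ Fin 4 → F) (.inr i) :)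
        map_add' := fun _ _ => rfl
        map_smul' := fun _ _ => rfl
        invFun := fun u => ⟨Sum.elim 0 u, (hY _).2 fun _ => rfl⟩
        left_inv := fun v => by
          apply Subtype.ext
          ext i
          cases i with
          | inl i => exact ((hY _).1 v.2 i).symm
          | inr i => rfl
        right_inv := fun u => rfl }
    rw [f.finrank_eq, Module.finrank_fintype_fun_eq_card, Fintype.card_fin]
  refine ⟨x, ?_, ?_, ?_, hXf, hYf, ?_, ?_, ?_, ?_, ?_, ?_, ?_⟩
  · have hcoe : (⇑(quadPlus 4 F)) = quadFormPlus 4 F := coe_quadPlus 4 F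
    have h1 : x = ((tor e θ : isometryGroup F (quadFormPlus 4 F)) : GL (Fin 4 ⊕ Fin 4) F) ^ 2 := by
      rw [hx, map_pow, Subgroup.coe_pow]
    have h2 : ((tor e θ : isometryGroup F (quadFormPlus 4 F)) : GL (Fin 4 ⊕ Fin 4) F) ∈ isometryGroup F (⇑(quadPlus 4 F)) := by
      rw [hcoe]
      exact (tor e θ).2
    have h3 := sq_mem_omegaGL quadPlus_nondegenerate (Or.inr (by decide)) h2
    rw [← h1, hcoe] at h3
    exact h3
  · intro v hv
    rw [quadFormPlus]
    refine Finset.sum_eq_zero fun i _ => ?_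
    rw [(hX v).1 hv i, mul_zero]
  · intro v hv
    rw [quadFormPlus]
    refine Finset.sum_eq_zero fun i _ => ?_
    rw [(hY v).1 hv i, zero_mul]
  · constructor
    · rw [Submodule.disjoint_def]
      intro v hv hw
      ext i
      cases i with
      | inl i => exact (hY v).1 hw i
      | inr i => exact (hX v).1 hv i
    · rw [codisjoint_iff, eq_top_iff]
      intro v _
      have h4 : v = Sum.elim (v ∘ Sum.inl) (0 : Fin 4 → F) + Sum.elim (0 : Fin 4 → F) (v ∘ Sum.inr) := by
        ext i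
        cases i <;> simp
      rw [h4]
      exact Submodule.add_mem_sup ((hX _).2 fun i => rfl) ((hY _).2 fun i => rfl)
  · intro v hv
    rw [hlin1, hX]
    intro i
    have h1 : v ∘ Sum.inr = 0 := _root_.funext fun i => (hX v).1 hv i
    rw [act, Sum.elim_inr, h1, Matrix.mulVec_zero]
    rfl
  · intro v hv
    rw [hlin1, hY]
    intro i
    have h1 : v ∘ Sum.inl = 0 := _root_.funext fun i => (hY v).1 hv i
    rw [act, Sum.elim_inl, h1, Matrix.mulVec_zero]
    rfl
  · intro W hW
    have hθi : orderOf θ⁻¹ = Fintype.card F ^ 4 - 1 := by rw [orderOf_inv, hθ]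
    refine only_aux e hK (α := θ ^ 4) (exists_poly hK hθ) (fun β => ?_) (exists_proj hK hθ) (hlin 2) hX hY hW
    obtain ⟨P, hP⟩ := exists_poly hK hθi β
    exact ⟨P, by rw [← inv_pow]; exact hP⟩
  · have hq4 : Fintype.card F ^ 4 - 1 = (p ^ (2 * a) - 1) * (p ^ (2 * a) + 1) := by
      have h1 : Fintype.card F ^ 4 = (p ^ (2 * a)) ^ 2 := by rw [hF']; ring
      have h2 := Nat.sq_sub_sq (p ^ (2 * a)) 1
      rw [one_pow] at h2
      rw [h1, h2, mul_comm]
    obtain ⟨c, hc⟩ := hdvd
    have hrc : ¬ r ∣ c := by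
      rintro ⟨d, hd⟩
      exact hnd ⟨d, by rw [hc, hd, pow_succ, mul_assoc]⟩
    have hrm : ¬ r ∣ (p ^ (2 * a) - 1) * c := by
      intro hd
      rcases hrp.dvd_mul.1 hd with hd | hd
      · exact hprim.not_dvd_sub (m := 2 * a) (fun h => by
          have := Nat.le_of_dvd (by omega) h
          omega) hd
      · exact hrc hd
    have hr2 : r ≠ 2 := by
      intro h2
      have := hprim.odd (by omega)
      omega
    refine ⟨(p ^ (2 * a) - 1) * c, (Nat.Prime.coprime_iff_not_dvd hrp).2 hrm, ?_, ?_⟩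
    · rw [hxpow]
      have h1 : θ ^ (2 * (r ^ b * ((p ^ (2 * a) - 1) * c))) = 1 := by
        have h2 : 2 * (r ^ b * ((p ^ (2 * a) - 1) * c)) = orderOf θ * 2 := by
          rw [hθ, hq4, hc]
          ring
        rw [h2, pow_mul, pow_orderOf_eq_one, one_pow]
      rw [h1, map_one]
      rfl
    · refine cm_top e (β := θ ^ (2 * (r ^ (b - 1) * ((p ^ (2 * a) - 1) * c)))) ?_ (hlin _)
      intro h1
      have h2 := orderOf_dvd_of_pow_eq_one h1
      rw [hθ, hq4, hc] at h2
      have h3 : r ^ b = r ^ (b - 1) * r := by rw [← pow_succ, Nat.sub_add_cancel hb]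
      rw [h3] at h2
      have h4 : r ^ (b - 1) * ((p ^ (2 * a) - 1) * c) * r ∣ r ^ (b - 1) * ((p ^ (2 * a) - 1) * c) * 2 := by
        convert h2 using 1 <;> ring
      have hpos : 0 < r ^ (b - 1) * ((p ^ (2 * a) - 1) * c) := by
        have h5 : 0 < r ^ (b - 1) := pow_pos hrp.pos _
        have h6 : 0 < (p ^ (2 * a) - 1) * c := by
          rcases Nat.eq_zero_or_pos ((p ^ (2 * a) - 1) * c) with h7 | h7
          · rw [h7] at hrm
            exact absurd (dvd_zero r) hrm
          · exact h7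
        (clear * - h5 h6; positivity)
      have h5 := Nat.dvd_of_mul_dvd_mul_left hpos h4
      exact hr2 ((Nat.prime_dvd_prime_iff_eq hrp Nat.prime_two).1 h5)
  · intro h2
    rw [hordx, orderOf_pow, hθ, ← Nat.card_eq_fintype_card, h2]
    norm_num
  · intro h3
    have hθ80 : orderOf θ = 80 := by
      rw [hθ, ← Nat.card_eq_fintype_card, h3]
      norm_num
    refine ⟨by rw [hordx, orderOf_pow, hθ80]; norm_num, ?_⟩
    have h4 : θ ^ 40 = -1 := by
      have h5 : (θ ^ 40) ^ 2 = 1 := by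
        have h9 := pow_orderOf_eq_one θ
        rw [hθ80] at h9
        rw [← pow_mul]
        exact h9
      have h6 : (((θ ^ 40 : Kˣ) : K)) ^ 2 = 1 := by rw [← Units.val_pow_eq_pow_val, h5, Units.val_one]
      rcases (sq_eq_sq_iff_eq_or_eq_neg.1 (h6.trans (one_pow 2).symm)) with h7 | h7
      · exfalso
        have h8 : θ ^ 40 = 1 := Units.ext h7
        have h9 := orderOf_dvd_of_pow_eq_one h8
        rw [hθ80] at h9
        exact absurd h9 (by decide)
      · exact Units.ext h7
    rw [hxpow 20, show 2 * 20 = 40 from rfl, h4]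
    apply Matrix.toLin'.injective
    apply LinearMap.ext
    intro v
    rw [lin_tor]
    have h5 : (((-1 : Kˣ)⁻¹ : Kˣ) : K) = -1 := by rw [inv_neg, inv_one]; rfl
    rw [h5]
    have h6 : act e (-1 : K) (-1 : K) v = -v := by
      have h7 := act_smul e (-1 : F) (1 : K) (1 : K) v
      have h8 : (-1 : F) • (1 : K) = -1 := by rw [neg_smul, one_smul]
      rw [act_one, h8] at h7
      rw [h7, neg_smul, one_smul]
    rw [map_neg, Matrix.toLin'_one, LinearMap.neg_apply, LinearMap.id_apply]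
    exact h6

end Cfsg.Agent.H375.O8

private theorem dce_4ed1b04a1c80 : _root_.True := by
  try have : _root_.True := by simp only [_root_.Cfsg.Agent.H375.O8.act.eq_1]
  exact _root_.True.intro
end
end
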