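import Cfsg.Agent.H915.GNDefs_m3
import Cfsg.Agent.H927.SgXExc
import Cfsg.Agent.H95.LSx.Sub
import Cfsg.Agent.H433.EP.LSn
import Cfsg.Agent.H264.FKS.Res_m3
import Cfsg.Agent.Prune
set_option linter.all false

section
prune_inst 0x7ffffdfdbfbb7fffffff7e7fffb9ddfe3bd79fffffdffb4bffeefbffbfdfb31e19edfbad1de078ff0e97c6b638a97853f97efeffee6bfc7ffffdfff45ffbee5ff7ffbf0171d78c340ffe6ffffbf07f8e7f3fffffffffffffffffffffffffffbeffffffffffff

-- part: H278/ElSporNum
section
prune_inst 0x202404480000000000000442200000040000000000000110400402000e12200040280048000d04020010010800002810100010400000000000300000020000000a4000873c0e00080000003007180c00000000000000000000000000041000000000000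
set_option linter.all false
open scoped Cfsg.Agent.FastGrp

-- part: H278/ElNum
section
/-!
# TEAM ELUSIVE: prime divisors of the orders of the classical groups

For every classical name `g` (rank parameter in range, `psl` with `n ≥ 3`) and every prime `u` dividing one of the
cyclotomic factors of the order, `u` divides the order.
-/

set_option autoImplicit false

namespace Cfsg.Agent.H278.El.Num

open Cfsg.Agent.OrdDiv Cfsg.Agent.H436

variable {q c : ℕ}

theorem dvd_c {u P X : ℕ} {d : ℕ} (hu : u.Prime) (hd : ¬ u ∣ d) (h : d * c = P * X) (hX : u ∣ X) : u ∣ c := by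
  have h1 : u ∣ d * c := by rw [h]; exact hX.mul_left _
  exact (hu.dvd_mul.1 h1).resolve_left hd

theorem not_dvd_of_sq {u : ℕ} (h : ¬ u ∣ q ^ 2 - 1) : ¬ u ∣ q - 1 ∧ ¬ u ∣ q + 1 := by
  rw [sq_sub] at h
  exact ⟨fun h1 => h (h1.mul_left _), fun h1 => h (h1.mul_right _)⟩

theorem dvd_of_mq {u : ℕ} (h : q * (q ^ 2 - 1) ∣ c) (hu : u ∣ q ^ 2 - 1) : u ∣ c :=
  (hu.mul_left _).trans h

/-- `u ∤ gcd k 4`-type denominators -/
theorem not_dvd_four {u k : ℕ} (hq : 2 ≤ q) (hu : u.Prime) (h : ¬ u ∣ q ^ 2 - 1) (hk : Even q → ¬ 2 ∣ k) :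
    ¬ u ∣ Nat.gcd 4 k := by
  intro h1
  have h2 : u ∣ 2 := by
    have : u ∣ 2 ^ 2 := h1.trans (Nat.gcd_dvd_left _ _)
    exact hu.dvd_of_dvd_pow this
  have h3 : u = 2 := (Nat.prime_dvd_prime_iff_eq hu Nat.prime_two).1 h2
  subst h3
  rcases Nat.even_or_odd q with he | ho
  · exact hk he (h1.trans (Nat.gcd_dvd_right _ _))
  · apply h
    obtain ⟨j, rfl⟩ := ho
    exact ⟨2 * j ^ 2 + 2 * j, by
      have : (2 * j + 1) ^ 2 = 2 * (2 * j ^ 2 + 2 * j) + 1 := by ring
      omega⟩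

theorem psl_dvd {n i u : ℕ} (hn : 3 ≤ n) (hq : 2 ≤ q) (h : den (.psl n q) * c = num (.psl n q))
    (hi : i ≤ n) (hu : u.Prime) (hd : u ∣ q ^ i - 1) (hi1 : 1 ≤ i) : u ∣ c := by
  by_cases h2 : u ∣ q ^ 2 - 1
  · exact dvd_of_mq (psl_mq hn hq h) h2
  · obtain ⟨h3, -⟩ := not_dvd_of_sq h2
    have h1 : Nat.gcd n (q - 1) * (q - 1) * c = 1 * glN n q := by rw [one_mul]; exact h
    refine dvd_c hu ?_ h1 ?_
    · intro h4
      rcases hu.dvd_mul.1 h4 with h5 | h5
      · exact h3 (h5.trans (Nat.gcd_dvd_right _ _))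
      · exact h3 h5
    · have h4 := dvd_list (fun i => q ^ n - q ^ i) (n := n) (i := n - i) (by omega)
      refine Dvd.dvd.trans ?_ h4
      rw [pow_sub_pow q (show n = (n - i) + i by omega)]
      exact hd.mul_left _

theorem even_pow_sub {m : ℕ} (hq : Even q) (hq2 : 2 ≤ q) (hm : 1 ≤ m) : ¬ 2 ∣ q ^ m - 1 := by
  intro h
  have h1 : Even (q ^ m) := hq.pow_of_ne_zero (by omega)
  have h2 : 1 ≤ q ^ m := Nat.one_le_pow _ _ (by omega)
  obtain ⟨a, ha⟩ := h1
  omega

theorem even_pow_add {m : ℕ} (hq : Even q) (hm : 1 ≤ m) : ¬ 2 ∣ q ^ m + 1 := by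
  intro h
  have h1 : Even (q ^ m) := hq.pow_of_ne_zero (by omega)
  obtain ⟨a, ha⟩ := h1
  omega

theorem psp_dvd {m i u : ℕ} (hm : 2 ≤ m) (h : den (.psp m q) * c = num (.psp m q))
    (hi1 : 1 ≤ i) (hi : i ≤ m) (hu : u.Prime) (hd : u ∣ q ^ (2 * i) - 1) : u ∣ c := by
  by_cases h2 : u ∣ q ^ 2 - 1
  · exact dvd_of_mq (psp_mq hm h) h2
  · obtain ⟨h3, -⟩ := not_dvd_of_sq h2
    have h1 : Nat.gcd 2 (q - 1) * c = q ^ (m ^ 2) * prB q m := h
    refine dvd_c hu (fun h4 => h3 (h4.trans (Nat.gcd_dvd_right _ _))) h1 ?_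
    have := prB_dvd (q := q) (m := m) (i := i - 1) (by omega)
    rw [Nat.sub_add_cancel hi1] at this
    exact hd.trans this

theorem oodd_dvd {m i u : ℕ} (hm : 3 ≤ m) (hq : Odd q) (h : den (.oodd m q) * c = num (.oodd m q))
    (hi1 : 1 ≤ i) (hi : i ≤ m) (hu : u.Prime) (hd : u ∣ q ^ (2 * i) - 1) : u ∣ c := by
  by_cases h2 : u ∣ q ^ 2 - 1
  · exact dvd_of_mq (oodd_mq (by omega) hq h) h2
  · have h1 : 2 * c = q ^ (m ^ 2) * prB q m := h
    refine dvd_c hu (fun h4 => h2 ?_) h1 ?_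
    · obtain ⟨j, rfl⟩ := hq
      refine h4.trans ⟨2 * j ^ 2 + 2 * j, ?_⟩
      have : (2 * j + 1) ^ 2 = 2 * (2 * j ^ 2 + 2 * j) + 1 := by ring
      omega
    · have := prB_dvd (q := q) (m := m) (i := i - 1) (by omega)
      rw [Nat.sub_add_cancel hi1] at this
      exact hd.trans this

theorem oplus_dvd {m i u : ℕ} (hm : 4 ≤ m) (hq : 2 ≤ q) (h : den (.oplus m q) * c = num (.oplus m q))
    (hi1 : 1 ≤ i) (hi : i ≤ m - 1) (hu : u.Prime) (hd : u ∣ q ^ (2 * i) - 1) : u ∣ c := by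
  by_cases h2 : u ∣ q ^ 2 - 1
  · exact dvd_of_mq (oplus_mq hm h) h2
  · have h1 : Nat.gcd 4 (q ^ m - 1) * c = q ^ (m * (m - 1)) * ((q ^ m - 1) * prB q (m - 1)) := h
    refine dvd_c hu (not_dvd_four hq hu h2 fun he => even_pow_sub he hq (by omega)) h1 ?_
    have := prB_dvd (q := q) (m := m - 1) (i := i - 1) (by omega)
    rw [Nat.sub_add_cancel hi1] at this
    exact (hd.trans this).mul_left _

theorem oplus_dvd' {m u : ℕ} (hm : 4 ≤ m) (hq : 2 ≤ q) (h : den (.oplus m q) * c = num (.oplus m q))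
    (hu : u.Prime) (hd : u ∣ q ^ m - 1) : u ∣ c := by
  by_cases h2 : u ∣ q ^ 2 - 1
  · exact dvd_of_mq (oplus_mq hm h) h2
  · have h1 : Nat.gcd 4 (q ^ m - 1) * c = q ^ (m * (m - 1)) * ((q ^ m - 1) * prB q (m - 1)) := h
    exact dvd_c hu (not_dvd_four hq hu h2 fun he => even_pow_sub he hq (by omega)) h1 (hd.mul_right _)

theorem ominus_dvd {m i u : ℕ} (hm : 4 ≤ m) (hq : 2 ≤ q) (h : den (.ominus m q) * c = num (.ominus m q))
    (hi1 : 1 ≤ i) (hi : i ≤ m - 1) (hu : u.Prime) (hd : u ∣ q ^ (2 * i) - 1) : u ∣ c := by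
  by_cases h2 : u ∣ q ^ 2 - 1
  · exact dvd_of_mq (ominus_mq hm h) h2
  · have h1 : Nat.gcd 4 (q ^ m + 1) * c = q ^ (m * (m - 1)) * ((q ^ m + 1) * prB q (m - 1)) := h
    refine dvd_c hu (not_dvd_four hq hu h2 fun he => even_pow_add he (by omega)) h1 ?_
    have := prB_dvd (q := q) (m := m - 1) (i := i - 1) (by omega)
    rw [Nat.sub_add_cancel hi1] at this
    exact (hd.trans this).mul_left _

theorem ominus_dvd' {m u : ℕ} (hm : 4 ≤ m) (hq : 2 ≤ q) (h : den (.ominus m q) * c = num (.ominus m q))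
    (hu : u.Prime) (hd : u ∣ q ^ m + 1) : u ∣ c := by
  by_cases h2 : u ∣ q ^ 2 - 1
  · exact dvd_of_mq (ominus_mq hm h) h2
  · have h1 : Nat.gcd 4 (q ^ m + 1) * c = q ^ (m * (m - 1)) * ((q ^ m + 1) * prB q (m - 1)) := h
    exact dvd_c hu (not_dvd_four hq hu h2 fun he => even_pow_add he (by omega)) h1 (hd.mul_right _)

/-- the `i`-th factor of the unitary order, `i ≥ 1` -/
def vU (q i : ℕ) : ℕ := if Nat.beq (i % 2) 0 then q ^ i - 1 else q ^ i + 1

theorem psu_dvd {n i u : ℕ} (hn : 3 ≤ n) (h : den (.psu n q) * c = num (.psu n q))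
    (hi1 : 1 ≤ i) (hi : i ≤ n) (hu : u.Prime) (hd : u ∣ vU q i) : u ∣ c := by
  by_cases h2 : u ∣ q ^ 2 - 1
  · exact dvd_of_mq (psu_mq hn h) h2
  · obtain ⟨-, h3⟩ := not_dvd_of_sq h2
    have h1 : Nat.gcd n (q + 1) * (q + 1) * c = q ^ (n * (n - 1) / 2) * prU q n := h
    refine dvd_c hu ?_ h1 ?_
    · intro h4
      rcases hu.dvd_mul.1 h4 with h5 | h5
      · exact h3 (h5.trans (Nat.gcd_dvd_right _ _))
      · exact h3 h5
    · have h4 := dvd_list (fU q) (n := n) (i := i - 1) (by omega)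
      refine Dvd.dvd.trans ?_ h4
      have h5 : fU q (i - 1) = vU q i := by
        unfold fU vU
        rw [Nat.sub_add_cancel hi1]
        rcases Nat.even_or_odd' i with ⟨k, hk | hk⟩
        · have h6 : (i - 1) % 2 = 1 := by omega
          have h7 : i % 2 = 0 := by omega
          rw [h6, h7]; rfl
        · have h6 : (i - 1) % 2 = 0 := by omega
          have h7 : i % 2 = 1 := by omega
          rw [h6, h7]; rfl
      rw [h5]
      exact hd

end Cfsg.Agent.H278.El.Num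
end

-- part: H278/ElSporNum
section
/-!
# TEAM ELUSIVE: sporadic groups inside classical groups, by orders

If `S` is sporadic (or the Tits group), `T` is a classical simple group (not `PSL_2`) with `|S| ∣ |T|` and every
prime divisor of `|T|` divides `|S|`, then `(S, T)` is one of
`(M11, U5(2))`, `(M12, U5(2))`, `(M22, U6(2))`, `(J1, L3(11))`, `(J2, O8+(2))`.
-/

set_option autoImplicit false

namespace Cfsg.Agent.H278.El.SporNum

open Cfsg.Agent.OrdDiv Cfsg.Agent.H436 Cfsg.Agent.H278.El.Num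

/-- every prime divisor of `V` divides `N` (for `V < 2 ^ 512`) -/
def sm (N V : ℕ) : Bool := Nat.beq (N ^ 512 % V) 0

theorem sm_of {N V : ℕ} (hN : N ≠ 0) (hV : V ≠ 0) (hV2 : V < 2 ^ 512)
    (h : ∀ u : ℕ, u.Prime → u ∣ V → u ∣ N) : sm N V = true := by
  unfold sm
  rw [Nat.beq_eq]
  apply Nat.mod_eq_zero_of_dvd
  rw [← Nat.factorization_le_iff_dvd hV (pow_ne_zero _ hN)]
  intro u
  rw [Nat.factorization_pow]
  by_cases hu : u.Prime
  · by_cases hd : u ∣ V
    · have h1 : 1 ≤ N.factorization u := (hu.dvd_iff_one_le_factorization hN).1 (h u hu hd)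
      have h2 : u ^ (V.factorization u) ≤ V := Nat.ordProj_le u hV
      have h3 : 2 ^ (V.factorization u) ≤ u ^ (V.factorization u) := Nat.pow_le_pow_left hu.two_le _
      have h4 : V.factorization u < 512 := by
        by_contra hcon
        push Not at hcon
        have := Nat.pow_le_pow_right (show 0 < 2 by norm_num) hcon
        omega
      simp only [Finsupp.coe_smul, Pi.smul_apply, smul_eq_mul]
      linarith only [h1, h4]
    · rw [Nat.factorization_eq_zero_of_not_dvd hd]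
      exact Nat.zero_le _
  · rw [Nat.factorization_eq_zero_of_not_prime V hu]
    exact Nat.zero_le _

/-- walk along the ranks as long as the new factor is smooth -/
def walk (V : ℕ → ℕ) (N : ℕ) (t : ℕ → Bool) : ℕ → ℕ → Bool
  | 0, _ => true
  | k + 1, n => if sm N (V n) then t n && walk V N t k (n + 1) else true

theorem walk_spec {V : ℕ → ℕ} {N : ℕ} {t : ℕ → Bool} : ∀ (k n0 n : ℕ), walk V N t k n0 = true → n0 ≤ n →
    n < n0 + k → (∀ i, n0 ≤ i → i ≤ n → sm N (V i) = true) → t n = true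
  | 0, n0, n, _, h1, h2, _ => by omega
  | k + 1, n0, n, h, h1, h2, h3 => by
    unfold walk at h
    rw [if_pos (h3 n0 le_rfl h1), Bool.and_eq_true] at h
    rcases Nat.eq_or_lt_of_le h1 with rfl | h4
    · exact h.1
    · exact walk_spec k (n0 + 1) n h.2 h4 (by omega) fun i hi1 hi2 => h3 i (by omega) hi2

/-- the exceptional pairs -/
def exc : List (Grp × Grp) := [(.m11, .psu 5 2), (.m12, .psu 5 2), (.m22, .psu 6 2), (.j1, .psl 3 11),
  (.j2, .oplus 4 2)]

def tst (x : Grp × ℕ) (g : Grp) : Bool := !(Nat.beq (ordN g % x.2) 0) || decide ((x.1, g) ∈ exc)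

def chk (x : Grp × ℕ) (q : ℕ) : Bool :=
  !(sm x.2 (q ^ 2 - 1)) ||
  (walk (fun n => q ^ n - 1) x.2 (fun n => Nat.blt n 3 || tst x (.psl n q)) 71 2 &&
  walk (fun m => q ^ (2 * m) - 1) x.2 (fun m => (Nat.blt m 2 || tst x (.psp m q)) &&
    (Nat.blt m 3 || Nat.beq (q % 2) 0 || tst x (.oodd m q))) 71 1 &&
  walk (fun i => q ^ (2 * i) - 1) x.2 (fun i => Nat.blt i 3 ||
    ((!(sm x.2 (q ^ (i + 1) - 1)) || tst x (.oplus (i + 1) q)) &&
      (!(sm x.2 (q ^ (i + 1) + 1)) || tst x (.ominus (i + 1) q)))) 71 1 &&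
  walk (vU q) x.2 (fun n => Nat.blt n 3 || tst x (.psu n q)) 71 2)

def primes71 : List ℕ := [2, 3, 5, 7, 11, 13, 17, 19, 23, 29, 31, 37, 41, 43, 47, 53, 59, 61, 67, 71]

def chkAll : Bool := spor.all fun x => primes71.all fun p => !(Nat.beq (x.2 % p) 0) ||
  (List.range 35).all fun j => chk x (p ^ (j + 1))

set_option maxRecDepth 100000 in
theorem chkAll_ok : chkAll = true := by decide +kernel

/-! ### extraction -/

def fact71 : Bool := spor.all fun x => Nat.beq (Nat.factorial 71 ^ 60 % x.2) 0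

theorem fact71_ok : fact71 = true := by decide +kernel

theorem le_71 {x : Grp × ℕ} (hx : x ∈ spor) {u : ℕ} (hu : u.Prime) (hd : u ∣ x.2) : u ≤ 71 := by
  have h1 := fact71_ok
  unfold fact71 at h1
  rw [List.all_eq_true] at h1
  have h2 := h1 x hx
  rw [Nat.beq_eq] at h2
  have h3 : u ∣ Nat.factorial 71 ^ 60 := hd.trans (Nat.dvd_of_mod_eq_zero h2)
  exact (hu.dvd_factorial).1 (hu.dvd_of_dvd_pow h3)

theorem spor_ne {x : Grp × ℕ} (hx : x ∈ spor) : x.2 ≠ 0 := by
  have : (spor.all fun x => !(Nat.beq x.2 0)) = true := by decide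
  rw [List.all_eq_true] at this
  intro h
  have h1 := this x hx
  rw [h] at h1
  exact absurd h1 (by decide)

theorem mem_primes71 {u : ℕ} (hu : u.Prime) (h : u ≤ 71) : u ∈ primes71 := by
  have key : ∀ u ≤ 71, u.Prime → u ∈ primes71 := by decide +kernel
  exact key u h hu

/-- a primitive prime of exponent `e` is at least `e + 1` -/
theorem prim_le {q e r : ℕ} (h : Prim q e r) : e + 1 ≤ r := by
  have h1 : r ∣ q ^ (r - 1) - 1 := by
    have hc : Nat.Coprime q r := ((Nat.Prime.coprime_iff_not_dvd h.prime).2 h.not_dvd).symm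
    have h2 := Nat.ModEq.pow_totient hc
    rw [Nat.totient_prime h.prime] at h2
    rcases Nat.eq_zero_or_pos q with rfl | hq
    · exact absurd (dvd_zero r) h.not_dvd
    · exact (Nat.modEq_iff_dvd' (Nat.one_le_pow _ _ hq)).1 h2.symm
  have h2 := Nat.le_of_dvd (by have := h.prime.two_le; omega) ((h.dvd_iff _).1 h1)
  have := h.prime.two_le
  omega

/-- smoothness bounds the exponent -/
theorem exp_le {p e : ℕ} (hp : p.Prime) (h : ∀ u : ℕ, u.Prime → u ∣ p ^ e - 1 → u ≤ 71) : e ≤ 70 := by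
  by_contra hcon
  push Not at hcon
  obtain ⟨r, hr⟩ := exists_prim hp.two_le (show 3 ≤ e by omega) (fun h => by omega)
  have h1 := h r hr.prime (hr.dvd dvd_rfl)
  have := prim_le hr
  omega

theorem pow_lt {p e : ℕ} (hp : p ≤ 71) (he : e ≤ 70) : p ^ e + 1 < 2 ^ 512 := by
  have h1 : p ^ e ≤ 71 ^ e := Nat.pow_le_pow_left hp _
  have h2 : 71 ^ e ≤ 71 ^ 70 := Nat.pow_le_pow_right (by norm_num) he
  have h3 : (71 : ℕ) ^ 70 + 1 < 2 ^ 512 := by decide +kernel
  omega

section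

variable {x : Grp × ℕ} {p f : ℕ}

theorem sm_sub (hx : x ∈ spor) (hp : p.Prime) (hp71 : p ≤ 71) {e : ℕ} (he : 1 ≤ e)
    (h : ∀ u : ℕ, u.Prime → u ∣ p ^ e - 1 → u ∣ x.2) : e ≤ 70 ∧ sm x.2 (p ^ e - 1) = true := by
  have h70 : e ≤ 70 := exp_le hp fun u hu hd => le_71 hx hu (h u hu hd)
  refine ⟨h70, sm_of (spor_ne hx) ?_ ?_ h⟩
  · have : 2 ^ 1 ≤ p ^ e := (Nat.pow_le_pow_left hp.two_le 1).trans (Nat.pow_le_pow_right hp.pos he)
    omega
  · have := pow_lt hp71 h70
    omega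

theorem sm_add (hx : x ∈ spor) (hp71 : p ≤ 71) {e : ℕ} (he : e ≤ 70)
    (h : ∀ u : ℕ, u.Prime → u ∣ p ^ e + 1 → u ∣ x.2) : sm x.2 (p ^ e + 1) = true :=
  sm_of (spor_ne hx) (by omega) (pow_lt hp71 he) h

end

/-- the checks for `x` and `q = p ^ f` -/
theorem chk_of {x : Grp × ℕ} (hx : x ∈ spor) {p f : ℕ} (hp : p.Prime) (hf : 1 ≤ f) (hpx : p ∣ x.2)
    (h : ∀ u : ℕ, u.Prime → u ∣ (p ^ f) ^ 2 - 1 → u ∣ x.2) :
    p ≤ 71 ∧ sm x.2 ((p ^ f) ^ 2 - 1) = true ∧ chk x (p ^ f) = true := by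
  have hp71 := le_71 hx hp hpx
  have h1 := sm_sub hx hp hp71 (e := f * 2) (by omega) (by rw [pow_mul]; exact h)
  have h2 := chkAll_ok
  unfold chkAll at h2
  rw [List.all_eq_true] at h2
  have h3 := h2 x hx
  rw [List.all_eq_true] at h3
  have h4 := h3 p (mem_primes71 hp hp71)
  rw [Bool.or_eq_true] at h4
  refine ⟨hp71, by rw [← pow_mul]; exact h1.2, ?_⟩
  rcases h4 with h4 | h4
  · rw [Nat.mod_eq_zero_of_dvd hpx] at h4
    exact absurd h4 (by decide)
  · rw [List.all_eq_true] at h4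
    have h5 := h4 (f - 1) (by rw [List.mem_range]; omega)
    rwa [Nat.sub_add_cancel hf] at h5

theorem tst_spec {x : Grp × ℕ} {g : Grp} (h : tst x g = true) (hd : x.2 ∣ ordN g) : (x.1, g) ∈ exc := by
  unfold tst at h
  rw [Bool.or_eq_true] at h
  rcases h with h | h
  · rw [Nat.mod_eq_zero_of_dvd hd] at h
    exact absurd h (by decide)
  · exact of_decide_eq_true h

/-- classical names, except `PSL_2` -/
def IsCl : Grp → Prop
  | .psl n _ => 3 ≤ n
  | .psp _ _ => True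
  | .psu _ _ => True
  | .oodd _ _ => True
  | .oplus _ _ => True
  | .ominus _ _ => True
  | _ => False

/-- **Sporadic groups inside classical groups.** -/
theorem main {x : Grp × ℕ} (hx : x ∈ spor) {g : Grp} (hg : Cond g) (hcl : IsCl g) {c : ℕ}
    (he : den g * c = num g) (hc : c = ordN g) (hd : x.2 ∣ c) (hp : ∀ u : ℕ, u.Prime → u ∣ c → u ∣ x.2) :
    (x.1, g) ∈ exc := by
  cases g with
  | psl n q =>
    have hn : 3 ≤ n := hcl
    obtain ⟨p, f, hpr, hf, rfl⟩ := (isPrimePow_nat_iff _).1 hg.2.2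
    have hq : 2 ≤ p ^ f := hg.2.2.two_le
    have hmq := psl_mq hn hq he
    have hpx : p ∣ x.2 := hp p hpr (((dvd_pow_self p (by omega)).mul_right _).trans hmq)
    obtain ⟨hp71, hsm, hchk⟩ := chk_of hx hpr hf hpx fun u hu hd => hp u hu (dvd_of_mq hmq hd)
    have hall : ∀ i, 1 ≤ i → i ≤ n → f * i ≤ 70 ∧ sm x.2 ((p ^ f) ^ i - 1) = true := fun i hi1 hi2 => by
      have := sm_sub hx hpr hp71 (e := f * i) (by nlinarith only [hf, hi1]) (by
        rw [pow_mul]
        exact fun u hu hd => hp u hu (psl_dvd hn hq he hi2 hu hd hi1))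
      rwa [pow_mul] at this
    have hn70 : n ≤ 70 := by have := (hall n (by omega) le_rfl).1; nlinarith only [hf, this]
    unfold chk at hchk
    rw [hsm] at hchk
    simp only [Bool.not_true, Bool.false_or, Bool.and_eq_true] at hchk
    have h1 := walk_spec 71 2 n hchk.1.1.1 (by omega) (by omega) fun i hi1 hi2 => (hall i (by omega) hi2).2
    rw [Bool.or_eq_true] at h1
    rcases h1 with h1 | h1
    · rw [Nat.blt_eq] at h1; omega
    · exact tst_spec h1 (hc ▸ hd)
  | psp m q =>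
    have hm : 2 ≤ m := hg.1
    obtain ⟨p, f, hpr, hf, rfl⟩ := (isPrimePow_nat_iff _).1 hg.2.2
    have hq : 2 ≤ p ^ f := hg.2.2.two_le
    have hmq := psp_mq hm he
    have hpx : p ∣ x.2 := hp p hpr (((dvd_pow_self p (by omega)).mul_right _).trans hmq)
    obtain ⟨hp71, hsm, hchk⟩ := chk_of hx hpr hf hpx fun u hu hd => hp u hu (dvd_of_mq hmq hd)
    have hall : ∀ i, 1 ≤ i → i ≤ m → f * (2 * i) ≤ 70 ∧ sm x.2 ((p ^ f) ^ (2 * i) - 1) = true :=
      fun i hi1 hi2 => by
      have := sm_sub hx hpr hp71 (e := f * (2 * i)) (by nlinarith only [hf, hi1]) (by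
        rw [pow_mul]
        exact fun u hu hd => hp u hu (psp_dvd hm he hi1 hi2 hu hd))
      rwa [pow_mul] at this
    have hn70 : m ≤ 35 := by have := (hall m (by omega) le_rfl).1; nlinarith only [hf, this]
    unfold chk at hchk
    rw [hsm] at hchk
    simp only [Bool.not_true, Bool.false_or, Bool.and_eq_true] at hchk
    have h1 := walk_spec 71 1 m hchk.1.1.2 (by omega) (by omega) fun i hi1 hi2 => (hall i (by omega) hi2).2
    rw [Bool.and_eq_true] at h1
    have h2 := h1.1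
    rw [Bool.or_eq_true] at h2
    rcases h2 with h2 | h2
    · rw [Nat.blt_eq] at h2; omega
    · exact tst_spec h2 (hc ▸ hd)
  | oodd m q =>
    have hm : 3 ≤ m := hg.1
    obtain ⟨p, f, hpr, hf, rfl⟩ := (isPrimePow_nat_iff _).1 hg.2.2
    have hq : 2 ≤ p ^ f := hg.2.2.two_le
    have hmq := oodd_mq (by omega) hg.2.1 he
    have hpx : p ∣ x.2 := hp p hpr (((dvd_pow_self p (by omega)).mul_right _).trans hmq)
    obtain ⟨hp71, hsm, hchk⟩ := chk_of hx hpr hf hpx fun u hu hd => hp u hu (dvd_of_mq hmq hd)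
    have hall : ∀ i, 1 ≤ i → i ≤ m → f * (2 * i) ≤ 70 ∧ sm x.2 ((p ^ f) ^ (2 * i) - 1) = true :=
      fun i hi1 hi2 => by
      have := sm_sub hx hpr hp71 (e := f * (2 * i)) (by nlinarith only [hf, hi1]) (by
        rw [pow_mul]
        exact fun u hu hd => hp u hu (oodd_dvd hm hg.2.1 he hi1 hi2 hu hd))
      rwa [pow_mul] at this
    have hn70 : m ≤ 35 := by have := (hall m (by omega) le_rfl).1; nlinarith only [hf, this]
    unfold chk at hchk
    rw [hsm] at hchk
    simp only [Bool.not_true, Bool.false_or, Bool.and_eq_true] at hchk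
    have h1 := walk_spec 71 1 m hchk.1.1.2 (by omega) (by omega) fun i hi1 hi2 => (hall i (by omega) hi2).2
    rw [Bool.and_eq_true] at h1
    have h2 := h1.2
    rw [Bool.or_eq_true, Bool.or_eq_true] at h2
    rcases h2 with (h2 | h2) | h2
    · rw [Nat.blt_eq] at h2; omega
    · rw [Nat.beq_eq] at h2
      have := Nat.odd_iff.1 hg.2.1
      omega
    · exact tst_spec h2 (hc ▸ hd)
  | oplus m q =>
    have hm : 4 ≤ m := hg.1
    obtain ⟨p, f, hpr, hf, rfl⟩ := (isPrimePow_nat_iff _).1 hg.2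
    have hq : 2 ≤ p ^ f := hg.2.two_le
    have hmq := oplus_mq hm he
    have hpx : p ∣ x.2 := hp p hpr (((dvd_pow_self p (by omega)).mul_right _).trans hmq)
    obtain ⟨hp71, hsm, hchk⟩ := chk_of hx hpr hf hpx fun u hu hd => hp u hu (dvd_of_mq hmq hd)
    have hall : ∀ i, 1 ≤ i → i ≤ m - 1 → f * (2 * i) ≤ 70 ∧ sm x.2 ((p ^ f) ^ (2 * i) - 1) = true :=
      fun i hi1 hi2 => by
      have := sm_sub hx hpr hp71 (e := f * (2 * i)) (by nlinarith only [hf, hi1]) (by
        rw [pow_mul]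
        exact fun u hu hd => hp u hu (oplus_dvd hm hq he hi1 hi2 hu hd))
      rwa [pow_mul] at this
    have hn70 : m - 1 ≤ 35 := by have := (hall (m - 1) (by omega) le_rfl).1; nlinarith only [hf, this]
    have hW : sm x.2 ((p ^ f) ^ m - 1) = true := by
      have := (sm_sub hx hpr hp71 (e := f * m) (by nlinarith only [hm, hf]) (by
        rw [pow_mul]
        exact fun u hu hd => hp u hu (oplus_dvd' hm hq he hu hd))).2
      rwa [pow_mul] at this
    unfold chk at hchk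
    rw [hsm] at hchk
    simp only [Bool.not_true, Bool.false_or, Bool.and_eq_true] at hchk
    have h1 := walk_spec 71 1 (m - 1) hchk.1.2 (by omega) (by omega) fun i hi1 hi2 => (hall i (by omega) hi2).2
    rw [Nat.sub_add_cancel (by omega : 1 ≤ m), hW, Bool.or_eq_true, Bool.and_eq_true] at h1
    rcases h1 with h2 | ⟨h2, -⟩
    · rw [Nat.blt_eq] at h2; omega
    · exact tst_spec (by simpa using h2) (hc ▸ hd)
  | ominus m q =>
    have hm : 4 ≤ m := hg.1
    obtain ⟨p, f, hpr, hf, rfl⟩ := (isPrimePow_nat_iff _).1 hg.2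
    have hq : 2 ≤ p ^ f := hg.2.two_le
    have hmq := ominus_mq hm he
    have hpx : p ∣ x.2 := hp p hpr (((dvd_pow_self p (by omega)).mul_right _).trans hmq)
    obtain ⟨hp71, hsm, hchk⟩ := chk_of hx hpr hf hpx fun u hu hd => hp u hu (dvd_of_mq hmq hd)
    have hall : ∀ i, 1 ≤ i → i ≤ m - 1 → f * (2 * i) ≤ 70 ∧ sm x.2 ((p ^ f) ^ (2 * i) - 1) = true :=
      fun i hi1 hi2 => by
      have := sm_sub hx hpr hp71 (e := f * (2 * i)) (by nlinarith only [hf, hi1]) (by
        rw [pow_mul]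
        exact fun u hu hd => hp u hu (ominus_dvd hm hq he hi1 hi2 hu hd))
      rwa [pow_mul] at this
    have hn70 : f * (2 * (m - 1)) ≤ 70 := (hall (m - 1) (by omega) le_rfl).1
    have hn35 : m - 1 ≤ 35 := by nlinarith only [hf, hn70]
    have hW : sm x.2 ((p ^ f) ^ m + 1) = true := by
      have := sm_add hx hp71 (e := f * m) (by
        have h3 : f * m ≤ f * (2 * (m - 1)) := Nat.mul_le_mul_left _ (by omega)
        omega) (by
        rw [pow_mul]
        exact fun u hu hd => hp u hu (ominus_dvd' hm hq he hu hd))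
      rwa [pow_mul] at this
    unfold chk at hchk
    rw [hsm] at hchk
    simp only [Bool.not_true, Bool.false_or, Bool.and_eq_true] at hchk
    have h1 := walk_spec 71 1 (m - 1) hchk.1.2 (by omega) (by omega) fun i hi1 hi2 => (hall i (by omega) hi2).2
    rw [Nat.sub_add_cancel (by omega : 1 ≤ m), hW, Bool.or_eq_true, Bool.and_eq_true] at h1
    rcases h1 with h2 | ⟨-, h2⟩
    · rw [Nat.blt_eq] at h2; omega
    · exact tst_spec (by simpa using h2) (hc ▸ hd)
  | psu n q =>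
    have hn : 3 ≤ n := hg.1
    obtain ⟨p, f, hpr, hf, rfl⟩ := (isPrimePow_nat_iff _).1 hg.2.2
    have hq : 2 ≤ p ^ f := hg.2.2.two_le
    have hmq := psu_mq hn he
    have hpx : p ∣ x.2 := hp p hpr (((dvd_pow_self p (by omega)).mul_right _).trans hmq)
    obtain ⟨hp71, hsm, hchk⟩ := chk_of hx hpr hf hpx fun u hu hd => hp u hu (dvd_of_mq hmq hd)
    have hev : ∀ i, 1 ≤ i → i ≤ n → i % 2 = 0 → f * i ≤ 70 ∧ sm x.2 ((p ^ f) ^ i - 1) = true :=
      fun i hi1 hi2 hi => by
      have := sm_sub hx hpr hp71 (e := f * i) (by nlinarith only [hf, hi1]) (by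
        rw [pow_mul]
        refine fun u hu hd => hp u hu (psu_dvd hn he hi1 hi2 hu ?_)
        unfold vU
        rw [hi]
        exact hd)
      rwa [pow_mul] at this
    have hbig : ∀ i, 1 ≤ i → i ≤ n → f * i ≤ 70 := by
      intro i hi1 hi2
      rcases Nat.even_or_odd' i with ⟨k, hk | hk⟩
      · exact (hev i hi1 hi2 (by omega)).1
      · -- use the primitive prime of exponent `2 f i`
        by_contra hcon
        push Not at hcon
        obtain ⟨r, hr⟩ := exists_prim hpr.two_le (show 3 ≤ f * (2 * i) by linarith only [hcon])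
          (fun h => by have := h.2; linarith only [hcon, h])
        have h1 : r ∣ (p ^ f) ^ i + 1 := by
          rw [← pow_mul]
          refine hr.dvd_add (m := f * i) (by rw [show 2 * (f * i) = f * (2 * i) by ring]) ?_
          intro h2
          have := Nat.le_of_dvd (by linarith only [hcon]) h2
          linarith only [hcon, this]
        have h2 := le_71 hx hr.prime (hp r hr.prime (psu_dvd hn he hi1 hi2 hr.prime (by
          unfold vU
          rw [show i % 2 = 1 by omega]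
          exact h1)))
        have := prim_le hr
        linarith only [hcon, h2, this]
    have hall : ∀ i, 1 ≤ i → i ≤ n → sm x.2 (vU (p ^ f) i) = true := by
      intro i hi1 hi2
      rcases Nat.even_or_odd' i with ⟨k, hk | hk⟩
      · have h3 := (hev i hi1 hi2 (by omega)).2
        unfold vU
        rw [show i % 2 = 0 by omega]
        exact h3
      · have h4 := sm_add hx hp71 (hbig i hi1 hi2) (by
          rw [pow_mul]
          refine fun u hu hd => hp u hu (psu_dvd hn he hi1 hi2 hu ?_)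
          unfold vU
          rw [show i % 2 = 1 by omega]
          exact hd)
        unfold vU
        rw [show i % 2 = 1 by omega]
        rwa [pow_mul] at h4
    have hn70 : n ≤ 70 := by have := hbig n (by omega) le_rfl; nlinarith only [hf, this]
    unfold chk at hchk
    rw [hsm] at hchk
    simp only [Bool.not_true, Bool.false_or, Bool.and_eq_true] at hchk
    have h1 := walk_spec 71 2 n hchk.2 (by omega) (by omega) fun i hi1 hi2 => hall i (by omega) hi2
    rw [Bool.or_eq_true] at h1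
    rcases h1 with h1 | h1
    · rw [Nat.blt_eq] at h1; omega
    · exact tst_spec h1 (hc ▸ hd)
  | _ => exact hcl.elim

end Cfsg.Agent.H278.El.SporNum
end

private theorem dce_fda02aa8a93a : _root_.True := by
  try have : _root_.True := by simp only [_root_.Cfsg.Agent.H278.El.SporNum.walk.eq_def]
  exact _root_.True.intro
end

-- part: H884/CxNum
section
set_option linter.all false
open scoped Cfsg.Agent.FastGrp

/-!
# TEAM ELUSIVE, cross characteristic: the product of the primitive primes of a classical group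

`T` a classical group of dimension `n` over `F_q`: the order of `T` is divisible by primitive primes `r_e` for all
even `4 ≤ e ≤ n - 2` (`e ≠ 6`) and all odd `e ≥ 3` with `2 e ≤ n - 2`. Their product is at least `4 ^ n` for
`n ≥ 24`.
-/

set_option autoImplicit false

namespace Cfsg.Agent.H884.Cx

open Cfsg.Agent.OrdDiv Cfsg.Agent.H436 Cfsg.Agent.H278.El.Num Cfsg.Agent.H278.El.SporNum

/-- the dimension of the natural module -/
def dimN : Grp → ℕ
  | .psl n _ => n
  | .psp m _ => 2 * m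
  | .psu n _ => n
  | .oodd m _ => 2 * m + 1
  | .oplus m _ => 2 * m
  | .ominus m _ => 2 * m
  | _ => 0

/-- the parameter `q` -/
def fq : Grp → ℕ
  | .psl _ q => q
  | .psp _ q => q
  | .psu _ q => q
  | .oodd _ q => q
  | .oplus _ q => q
  | .ominus _ q => q
  | _ => 0

/-- lower bound of a primitive prime -/
def wt (e : ℕ) : ℕ := if e % 2 = 0 then e + 1 else 2 * e + 1

theorem prim_dvd_pred {q e r : ℕ} (h : Prim q e r) : e ∣ r - 1 := by
  have hc : Nat.Coprime q r := ((Nat.Prime.coprime_iff_not_dvd h.prime).2 h.not_dvd).symm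
  have h2 := Nat.ModEq.pow_totient hc
  rw [Nat.totient_prime h.prime] at h2
  rcases Nat.eq_zero_or_pos q with rfl | hq
  · exact absurd (dvd_zero r) h.not_dvd
  · exact (h.dvd_iff _).1 ((Nat.modEq_iff_dvd' (Nat.one_le_pow _ _ hq)).1 h2.symm)

theorem wt_le {q e r : ℕ} (h : Prim q e r) (he : 3 ≤ e) : wt e ≤ r := by
  have h1 := prim_le h
  unfold wt
  split_ifs with h2
  · exact h1
  · have h3 : r % 2 = 1 := (h.prime.eq_two_or_odd).resolve_left (by omega)
    obtain ⟨k, hk⟩ := prim_dvd_pred h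
    have h4 : k ≠ 0 := by rintro rfl; omega
    have h5 : k ≠ 1 := by rintro rfl; omega
    have h6 : e * 2 ≤ e * k := Nat.mul_le_mul_left _ (by omega)
    omega

theorem five_le {q e r : ℕ} (h : Prim q e r) (he : 3 ≤ e) : 5 ≤ r := by
  have h1 := prim_le h
  by_contra h2
  have : r = 4 := by omega
  subst this
  exact absurd h.prime (by norm_num)

theorem prim_inj {q e e' r : ℕ} (h : Prim q e r) (h' : Prim q e' r) : e = e' := by
  apply Nat.dvd_antisymm
  · exact (h.dvd_iff _).1 (h'.dvd (dvd_refl _))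
  · exact (h'.dvd_iff _).1 (h.dvd (dvd_refl _))

/-- **The product of the primitive primes.** -/
theorem prod_le {A : Finset ℕ} {w : ℕ → ℕ} {N q : ℕ} (hN : N ≠ 0)
    (h : ∀ e ∈ A, ∃ r, Prim q e r ∧ r ∣ N ∧ w e ≤ r) : ∏ e ∈ A, w e ≤ N := by
  classical
  choose! r hr using h
  have h1 : ∏ e ∈ A, r e ∣ N := by
    have key : ∀ B : Finset ℕ, B ⊆ A → ∏ e ∈ B, r e ∣ N := by
      intro B
      induction B using Finset.induction_on with
      | empty => intro _; simp
      | insert a s ha ih =>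
        intro hs
        rw [Finset.prod_insert ha]
        refine Nat.Coprime.mul_dvd_of_dvd_of_dvd ?_ (hr a (hs (Finset.mem_insert_self _ _))).2.1
          (ih fun x hx => hs (Finset.mem_insert_of_mem hx))
        refine Nat.Coprime.prod_right fun b hb => ?_
        have h2 := (hr a (hs (Finset.mem_insert_self _ _))).1
        have h3 := (hr b (hs (Finset.mem_insert_of_mem hb))).1
        rw [Nat.coprime_primes h2.prime h3.prime]
        intro h4
        rw [← h4] at h3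
        have h5 := prim_inj h2 h3
        exact ha (h5 ▸ hb)
    exact key A (Finset.Subset.refl _)
  exact (Finset.prod_le_prod' fun e he => (hr e he).2.2).trans (Nat.le_of_dvd (Nat.pos_of_ne_zero hN) h1)

/-- the exponents -/
def EA (h : ℕ) : Finset ℕ :=
  (Finset.range (2 * h)).filter fun e => 3 ≤ e ∧ e ≠ 6 ∧ (e % 2 = 1 → e + 1 ≤ h)

theorem EA_prod : ∀ k : ℕ, 4 ^ (2 * (12 + k) + 1) ≤ ∏ e ∈ EA (12 + k), wt e
  | 0 => by decide +kernel
  | k + 1 => by
    have ih := EA_prod k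
    have h1 : 2 * (12 + k) ∉ EA (12 + k) := by simp [EA]
    have h2 : insert (2 * (12 + k)) (EA (12 + k)) ⊆ EA (12 + (k + 1)) := by
      intro e he
      rw [Finset.mem_insert] at he
      simp only [EA, Finset.mem_filter, Finset.mem_range] at he ⊢
      omega
    have h3 : ∏ e ∈ insert (2 * (12 + k)) (EA (12 + k)), wt e ≤ ∏ e ∈ EA (12 + (k + 1)), wt e := by
      refine Finset.prod_le_prod_of_subset_of_one_le' h2 fun e _ _ => ?_
      unfold wt
      split_ifs <;> omega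
    rw [Finset.prod_insert h1] at h3
    have h4 : 16 ≤ wt (2 * (12 + k)) := by
      unfold wt
      rw [if_pos (by omega)]
      omega
    calc 4 ^ (2 * (12 + (k + 1)) + 1) = 16 * 4 ^ (2 * (12 + k) + 1) := by
          rw [show 2 * (12 + (k + 1)) + 1 = (2 * (12 + k) + 1) + 2 by ring, pow_add]; ring
      _ ≤ wt (2 * (12 + k)) * ∏ e ∈ EA (12 + k), wt e := Nat.mul_le_mul h4 ih
      _ ≤ _ := h3

/-- **The primitive primes of a classical group.** -/
theorem exists_r {g : Grp} (hg : Cond g) (hcl : IsCl g) {c : ℕ} (he : den g * c = num g) {e : ℕ} (h3 : 3 ≤ e)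
    (h6 : e ≠ 6) (hn : e + 2 ≤ dimN g) (ho : e % 2 = 1 → 2 * e + 2 ≤ dimN g) :
    ∃ r, Prim (fq g) e r ∧ r ∣ c := by
  have hex : 2 ≤ fq g → ∃ r, Prim (fq g) e r := fun hq => exists_prim hq h3 fun h => h6 h.2
  cases g with
  | psl n q =>
    have hq : 2 ≤ q := hg.2.2.two_le
    obtain ⟨r, hr⟩ := hex hq
    have hn' : e + 2 ≤ n := hn
    exact ⟨r, hr, psl_dvd hcl hq he (i := e) (by omega) hr.prime (hr.dvd (dvd_refl _)) (by omega)⟩
  | psp m q =>
    have hq : 2 ≤ q := hg.2.2.two_le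
    obtain ⟨r, hr⟩ := hex hq
    have hn' : e + 2 ≤ 2 * m := hn
    have ho' : e % 2 = 1 → 2 * e + 2 ≤ 2 * m := ho
    refine ⟨r, hr, ?_⟩
    rcases Nat.even_or_odd' e with ⟨k, hk | hk⟩
    · exact psp_dvd hg.1 he (i := k) (by omega) (by omega) hr.prime (hr.dvd (by rw [hk]))
    · exact psp_dvd hg.1 he (i := e) (by omega) (by omega) hr.prime (hr.dvd (Dvd.intro_left _ rfl))
  | oodd m q =>
    have hq : 2 ≤ q := hg.2.2.two_le
    obtain ⟨r, hr⟩ := hex hq
    have hn' : e + 2 ≤ 2 * m + 1 := hn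
    have ho' : e % 2 = 1 → 2 * e + 2 ≤ 2 * m + 1 := ho
    refine ⟨r, hr, ?_⟩
    rcases Nat.even_or_odd' e with ⟨k, hk | hk⟩
    · exact oodd_dvd hg.1 hg.2.1 he (i := k) (by omega) (by omega) hr.prime (hr.dvd (by rw [hk]))
    · exact oodd_dvd hg.1 hg.2.1 he (i := e) (by omega) (by omega) hr.prime (hr.dvd (Dvd.intro_left _ rfl))
  | oplus m q =>
    have hq : 2 ≤ q := hg.2.two_le
    obtain ⟨r, hr⟩ := hex hq
    have hn' : e + 2 ≤ 2 * m := hn
    have ho' : e % 2 = 1 → 2 * e + 2 ≤ 2 * m := ho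
    refine ⟨r, hr, ?_⟩
    rcases Nat.even_or_odd' e with ⟨k, hk | hk⟩
    · exact oplus_dvd hg.1 hq he (i := k) (by omega) (by omega) hr.prime (hr.dvd (by rw [hk]))
    · exact oplus_dvd hg.1 hq he (i := e) (by omega) (by omega) hr.prime (hr.dvd (Dvd.intro_left _ rfl))
  | ominus m q =>
    have hq : 2 ≤ q := hg.2.two_le
    obtain ⟨r, hr⟩ := hex hq
    have hn' : e + 2 ≤ 2 * m := hn
    have ho' : e % 2 = 1 → 2 * e + 2 ≤ 2 * m := ho
    refine ⟨r, hr, ?_⟩
    rcases Nat.even_or_odd' e with ⟨k, hk | hk⟩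
    · exact ominus_dvd hg.1 hq he (i := k) (by omega) (by omega) hr.prime (hr.dvd (by rw [hk]))
    · exact ominus_dvd hg.1 hq he (i := e) (by omega) (by omega) hr.prime (hr.dvd (Dvd.intro_left _ rfl))
  | psu n q =>
    have hq : 2 ≤ q := hg.2.2.two_le
    obtain ⟨r, hr⟩ := hex hq
    have hn' : e + 2 ≤ n := hn
    have ho' : e % 2 = 1 → 2 * e + 2 ≤ n := ho
    refine ⟨r, hr, ?_⟩
    rcases Nat.even_or_odd' e with ⟨k, hk | hk⟩
    · rcases Nat.even_or_odd' k with ⟨j, hj | hj⟩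
      · refine psu_dvd hg.1 he (i := e) (by omega) (by omega) hr.prime ?_
        unfold vU
        rw [show e % 2 = 0 by omega]
        exact hr.dvd (dvd_refl _)
      · refine psu_dvd hg.1 he (i := k) (by omega) (by omega) hr.prime ?_
        unfold vU
        rw [show k % 2 = 1 by omega]
        refine hr.dvd_add (m := k) (by rw [hk]) fun h => ?_
        have := Nat.le_of_dvd (by omega) h
        omega
    · refine psu_dvd hg.1 he (i := 2 * e) (by omega) (by omega) hr.prime ?_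
      unfold vU
      rw [show 2 * e % 2 = 0 by omega]
      exact hr.dvd (Dvd.intro_left _ rfl)
  | _ => exact hcl.elim

/-- **The crude bound.** -/
theorem crude {g : Grp} (hg : Cond g) (hcl : IsCl g) {c : ℕ} (he : den g * c = num g) {N : ℕ} (hN : N ≠ 0)
    (h : ∀ r : ℕ, r.Prime → 5 ≤ r → r ∣ c → r ∣ N) (hn : 24 ≤ dimN g) : 4 ^ dimN g ≤ N := by
  obtain ⟨k, hk⟩ : ∃ k, dimN g / 2 = 12 + k := ⟨dimN g / 2 - 12, by omega⟩
  have h1 := EA_prod k
  have h2 : ∏ e ∈ EA (12 + k), wt e ≤ N := by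
    refine prod_le (q := fq g) hN fun e hmem => ?_
    simp only [EA, Finset.mem_filter, Finset.mem_range] at hmem
    obtain ⟨r, hr, hrc⟩ := exists_r hg hcl he hmem.2.1 hmem.2.2.1 (by
      rcases Nat.even_or_odd' e with ⟨j, hj | hj⟩
      · omega
      · have := hmem.2.2.2 (by omega)
        omega) (fun ho => by
        have := hmem.2.2.2 ho
        omega)
    exact ⟨r, hr, h r hr.prime (five_le hr hmem.2.1) hrc, wt_le hr hmem.2.1⟩
  calc 4 ^ dimN g ≤ 4 ^ (2 * (12 + k) + 1) := Nat.pow_le_pow_right (by norm_num) (by omega)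
    _ ≤ _ := h1.trans h2

end Cfsg.Agent.H884.Cx

private theorem dce_4cd4eb0ba128 : _root_.True := by
  try have : _root_.True := by simp only [_root_.Cfsg.Agent.H884.Cx.EA.eq_1]
  exact _root_.True.intro
end

-- part: H884/CxChk
section
prune_inst 0x202404480000000000000402200000040000000000000010000402000e12200040280048000c040200900108000028101000104000000000003000000200000008800001140f00080000003007180c00000000000000000000000000041000000000000
set_option linter.all false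
open scoped Cfsg.Agent.FastGrp

-- part: H884/CxFam
section
/-!
# TEAM ELUSIVE, cross characteristic: the groups of Lie type with bound at least 24

`fam_lt`: `24 ≤ lsb g → fs g * XX g < 4 ^ lsb g`; every prime divisor of the order divides `XX g`.
-/

set_option autoImplicit false

namespace Cfsg.Agent.H884.Cx

open Cfsg.Agent.OrdDiv Cfsg.Agent.H436 Cfsg.Agent.H927.SgX

/-- the parameter `q` -/
def fs : Grp → ℕ
  | .psl _ q => q
  | .psp _ q => q
  | .psu _ q => q
  | .oodd _ q => q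
  | .oplus _ q => q
  | .ominus _ q => q
  | .g2 q => q
  | .f4 q => q
  | .e6 q => q
  | .e7 q => q
  | .e8 q => q
  | .te6 q => q
  | .td4 q => q
  | .sz q => q
  | .ree q => q
  | .tf4 q => q
  | _ => 0

/-- a number with the prime divisors of the order -/
def XX : Grp → ℕ
  | .psl m s => glN m s
  | .psp m s => s * prB s m
  | .psu m s => s * prU s m
  | .oodd m s => s * prB s m
  | .oplus m s => s * ((s ^ m - 1) * prB s (m - 1))
  | .ominus m s => s * ((s ^ m + 1) * prB s (m - 1))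
  | .g2 q => q * ((q ^ 2 - 1) * (q ^ 6 - 1))
  | .f4 q => q * ((q ^ 2 - 1) * (q ^ 6 - 1) * (q ^ 8 - 1) * (q ^ 12 - 1))
  | .e6 q => q * ((q ^ 2 - 1) * (q ^ 5 - 1) * (q ^ 6 - 1) * (q ^ 8 - 1) * (q ^ 9 - 1) * (q ^ 12 - 1))
  | .e7 q => q * ((q ^ 2 - 1) * (q ^ 6 - 1) * (q ^ 8 - 1) * (q ^ 10 - 1) * (q ^ 12 - 1) * (q ^ 14 - 1) * (q ^ 18 - 1))
  | .e8 q => q * ((q ^ 2 - 1) * (q ^ 8 - 1) * (q ^ 12 - 1) * (q ^ 14 - 1) * (q ^ 18 - 1) *
      (q ^ 20 - 1) * (q ^ 24 - 1) * (q ^ 30 - 1))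
  | .te6 q => q * ((q ^ 2 - 1) * (q ^ 5 + 1) * (q ^ 6 - 1) * (q ^ 8 - 1) * (q ^ 9 + 1) * (q ^ 12 - 1))
  | .td4 q => q * ((q ^ 2 - 1) * (q ^ 6 - 1) * (q ^ 8 + q ^ 4 + 1))
  | .sz q => q * ((q - 1) * (q ^ 2 + 1))
  | .ree q => q * ((q - 1) * (q ^ 3 + 1))
  | .tf4 q => q * ((q - 1) * (q ^ 3 + 1) * (q ^ 4 - 1) * (q ^ 6 + 1))
  | _ => 0

theorem dvd_of_pow_mul {r s a X : ℕ} (hr : r.Prime) (h : r ∣ s ^ a * X) : r ∣ s * X := by
  rcases hr.dvd_mul.1 h with h1 | h1
  · exact (hr.dvd_of_dvd_pow h1).mul_right _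
  · exact h1.mul_left _

theorem XX_dvd {g : Grp} (hlie : IsLieN g) {r : ℕ} (hr : r.Prime) (h : r ∣ num g) : r ∣ XX g := by
  cases g <;> first | exact h | exact dvd_of_pow_mul hr h | exact hlie.elim

theorem XX_dvd_card {g : Grp} (hlie : IsLieN g) {c : ℕ} (he : den g * c = num g) {r : ℕ} (hr : r.Prime)
    (h : r ∣ c) : r ∣ XX g := XX_dvd hlie hr (he ▸ h.mul_left _)

theorem key {s k b L : ℕ} (hs : 1 ≤ s) (h : b + k * (s - 1) < 2 * L) : 2 ^ b * s ^ k < 4 ^ L := by
  have h1 : s ≤ 2 ^ (s - 1) := by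
    have := Nat.lt_two_pow_self (n := s - 1)
    omega
  have h2 : s ^ k ≤ 2 ^ (k * (s - 1)) := by
    calc s ^ k ≤ (2 ^ (s - 1)) ^ k := Nat.pow_le_pow_left h1 k
      _ = 2 ^ (k * (s - 1)) := by rw [← pow_mul, mul_comm]
  calc 2 ^ b * s ^ k ≤ 2 ^ b * 2 ^ (k * (s - 1)) := Nat.mul_le_mul_left _ h2
    _ = 2 ^ (b + k * (s - 1)) := by rw [pow_add]
    _ < 2 ^ (2 * L) := Nat.pow_lt_pow_right (by norm_num) h
    _ = 4 ^ L := by rw [pow_mul]; norm_num

/-- comparison with a geometric sum -/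
theorem keyG {s k b j L : ℕ} (hs : 2 ≤ s) (hL : s ^ j - 1 ≤ L) (h : b + k < 2 * ∑ i ∈ Finset.range j, s ^ i) :
    2 ^ b * s ^ k < 4 ^ L := by
  refine key (by omega) ?_
  rw [geo (by omega : 1 ≤ s)] at hL
  obtain ⟨t, rfl⟩ : ∃ t, s = t + 2 := ⟨s - 2, by omega⟩
  rw [show t + 2 - 1 = t + 1 by omega] at hL ⊢
  set G := ∑ i ∈ Finset.range j, (t + 2) ^ i
  have h1 : (b + k) * (t + 1) < 2 * G * (t + 1) := Nat.mul_lt_mul_of_pos_right h (by omega)
  linarith only [hL, h1, Nat.zero_le (b * t)]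

theorem keyG0 {s k j L : ℕ} (hs : 2 ≤ s) (hL : s ^ j - 1 ≤ L) (h : k < 2 * ∑ i ∈ Finset.range j, s ^ i) :
    s ^ k < 4 ^ L := by
  have := keyG (b := 0) (k := k) hs hL (by omega)
  simpa using this

theorem geo_ge_two {s j : ℕ} (hs : 2 ≤ s) : 2 ^ j - 1 ≤ ∑ i ∈ Finset.range j, s ^ i := by
  rw [← geo_two]
  exact geo_mono hs

theorem two_pow_six {m : ℕ} (hm : 6 ≤ m) : m ^ 2 + 4 ≤ 2 ^ m ∧ m ^ 2 + m + 5 ≤ 2 * 2 ^ m := by
  induction m, hm using Nat.le_induction with
  | base => norm_num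
  | succ k hk ih => rw [pow_succ 2 k]; constructor <;> nlinarith

theorem two_pow_seven {m : ℕ} (hm : 7 ≤ m) : 2 * m ^ 2 + 12 ≤ 2 ^ m ∧ m ^ 2 + 3 * m + 6 ≤ 2 ^ m := by
  induction m, hm using Nat.le_induction with
  | base => norm_num
  | succ k hk ih => rw [pow_succ 2 k]; constructor <;> linarith only [hk, ih, _root_.sq_nonneg (↑k : ℤ)]

theorem three_pow_five {m : ℕ} (hm : 4 ≤ m) : m ^ 2 + 3 * m + 6 ≤ 3 ^ m := by
  induction m, hm using Nat.le_induction with
  | base => norm_num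
  | succ k hk ih => rw [pow_succ 3 k]; linarith only [ih, _root_.sq_nonneg (↑k : ℤ)]

theorem pow_six_lt {s : ℕ} (hs : 49 ≤ s) : 2 * s ^ 6 < 2 ^ (s - 2) := by
  induction s, hs using Nat.le_induction with
  | base => norm_num
  | succ k hk ih =>
    rw [show k + 1 - 2 = (k - 2) + 1 by omega, pow_succ 2 (k - 2)]
    have h1 : (k + 1) ^ 6 ≤ 2 * k ^ 6 := by
      have h2 : (k + 1) ^ 6 = k ^ 6 + 6 * k ^ 5 + 15 * k ^ 4 + 20 * k ^ 3 + 15 * k ^ 2 + 6 * k + 1 := by ring
      have h3 : k ^ 6 = k ^ 5 * k := by ring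
      have h4 : k ^ 5 = k ^ 4 * k := by ring
      have h5 : k ^ 4 = k ^ 3 * k := by ring
      have h6 : k ^ 3 = k ^ 2 * k := by ring
      have h7 : k ^ 2 = k * k := by ring
      have b2 : 49 * k ≤ k ^ 2 := by rw [h7]; exact Nat.mul_le_mul_right _ hk
      have b3 : 49 * k ^ 2 ≤ k ^ 3 := by rw [h6, mul_comm]; exact Nat.mul_le_mul_left _ hk
      have b4 : 49 * k ^ 3 ≤ k ^ 4 := by rw [h5, mul_comm]; exact Nat.mul_le_mul_left _ hk
      have b5 : 49 * k ^ 4 ≤ k ^ 5 := by rw [h4, mul_comm]; exact Nat.mul_le_mul_left _ hk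
      have b6 : 49 * k ^ 5 ≤ k ^ 6 := by rw [h3, mul_comm]; exact Nat.mul_le_mul_left _ hk
      (clear * - hk h2 b2 b3 b4 b5 b6; omega)
    omega

theorem pow_five_lt {s : ℕ} (hs : 25 ≤ s) : 2 * s ^ 5 < 4 ^ (s - 1) := by
  induction s, hs using Nat.le_induction with
  | base => norm_num
  | succ k hk ih =>
    rw [show k + 1 - 1 = (k - 1) + 1 by omega, pow_succ 4 (k - 1)]
    have h1 : (k + 1) ^ 5 ≤ (2 * k) ^ 5 ∨ True := Or.inr trivial
    have h2 : (k + 1) ^ 5 = k ^ 5 + 5 * k ^ 4 + 10 * k ^ 3 + 10 * k ^ 2 + 5 * k + 1 := by ring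
    have h4 : k ^ 5 = k ^ 4 * k := by ring
    have h5 : k ^ 4 = k ^ 3 * k := by ring
    have h6 : k ^ 3 = k ^ 2 * k := by ring
    have h7 : k ^ 2 = k * k := by ring
    have b2 : 25 * k ≤ k ^ 2 := by rw [h7]; exact Nat.mul_le_mul_right _ hk
    have b3 : 25 * k ^ 2 ≤ k ^ 3 := by rw [h6, mul_comm]; exact Nat.mul_le_mul_left _ hk
    have b4 : 25 * k ^ 3 ≤ k ^ 4 := by rw [h5, mul_comm]; exact Nat.mul_le_mul_left _ hk
    have b5 : 25 * k ^ 4 ≤ k ^ 5 := by rw [h4, mul_comm]; exact Nat.mul_le_mul_left _ hk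
    omega

theorem half_pow {s : ℕ} (hs : 2 ≤ s) : 2 ^ (s - 2) ≤ 4 ^ ((s - 1) / 2) := by
  rw [show (4 : ℕ) = 2 ^ 2 by norm_num, ← pow_mul]
  exact Nat.pow_le_pow_right (by norm_num) (by omega)

variable {m s : ℕ}

theorem lt_psl2 (hL : 24 ≤ (s - 1) / 2) : s * glN 2 s < 4 ^ ((s - 1) / 2) := by
  have h1 := glN_le 2 s
  have h2 := pow_six_lt (s := s) (by omega)
  have h3 := half_pow (s := s) (by omega)
  have h4 : s * glN 2 s ≤ s * s ^ 4 := Nat.mul_le_mul_left _ h1
  have h5 : s * s ^ 4 ≤ s ^ 6 := by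
    calc s * s ^ 4 = s ^ 5 := by ring
      _ ≤ s ^ 6 := Nat.pow_le_pow_right (by omega) (by norm_num)
  omega

theorem lt_psl (hm : 3 ≤ m) (hs : 2 ≤ s) (hL : 24 ≤ s ^ (m - 1) - 1) : s * glN m s < 4 ^ (s ^ (m - 1) - 1) := by
  have h1 : s * glN m s ≤ s ^ (m ^ 2 + 1) := by
    rw [pow_succ, mul_comm]
    exact Nat.mul_le_mul_right _ (glN_le m s)
  refine h1.trans_lt (keyG0 hs le_rfl ?_)
  rcases Nat.lt_or_ge m 6 with h6 | h6
  · interval_cases m
    · have hL' : 24 ≤ s ^ 2 - 1 := hL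
      have h5 : 5 ≤ s := by
        by_contra h
        have : s ^ 2 ≤ 4 ^ 2 := Nat.pow_le_pow_left (by omega) 2
        omega
      simp [Finset.sum_range_succ]; omega
    · have hL' : 24 ≤ s ^ 3 - 1 := hL
      have h5 : 3 ≤ s := by
        by_contra h
        have : s ^ 3 ≤ 2 ^ 3 := Nat.pow_le_pow_left (by omega) 3
        omega
      have h9 : 9 ≤ s ^ 2 := Nat.pow_le_pow_left h5 2
      simp [Finset.sum_range_succ]; omega
    · have hL' : 24 ≤ s ^ 4 - 1 := hL
      have h5 : 3 ≤ s := by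
        by_contra h
        have : s ^ 4 ≤ 2 ^ 4 := Nat.pow_le_pow_left (by omega) 4
        omega
      have h9 : 9 ≤ s ^ 2 := Nat.pow_le_pow_left h5 2
      have h10 : 27 ≤ s ^ 3 := Nat.pow_le_pow_left h5 3
      simp [Finset.sum_range_succ]; omega
  · have h2 := geo_ge_two (j := m - 1) hs
    have h3 := (two_pow_six h6).1
    have h4 : 2 ^ m = 2 * 2 ^ (m - 1) := by rw [← pow_succ']; congr 1; omega
    have h5 := Nat.one_le_pow (m - 1) 2 (by norm_num)
    omega

theorem lt_psp_odd (hm : 2 ≤ m) (hs : 2 ≤ s) (ho : s % 2 = 1) (hL : 24 ≤ (s ^ m - 1) / 2) :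
    s * (s * prB s m) < 4 ^ ((s ^ m - 1) / 2) := by
  have ho' : s ^ m % 2 = 1 := by rw [Nat.pow_mod, ho]; simp
  have h1 : s * (s * prB s m) ≤ s ^ (m * (m + 1) + 2) := by
    calc s * (s * prB s m) = prB s m * s ^ 2 := by ring
      _ ≤ s ^ (m * (m + 1)) * s ^ 2 := Nat.mul_le_mul_right _ (prB_le m s)
      _ = _ := by rw [← pow_add]
  have hG : ∀ {G : ℕ}, G ≤ ∑ i ∈ Finset.range m, s ^ i → m * (m + 1) + 2 < G →
      s * (s * prB s m) < 4 ^ ((s ^ m - 1) / 2) := by
    intro G hG1 hG2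
    refine h1.trans_lt ?_
    have h2 := key (b := 0) (s := s) (k := m * (m + 1) + 2) (L := (s ^ m - 1) / 2) (by omega) ?_
    · simpa only [_root_.gt_iff_lt, _root_.pow_zero, _root_.one_mul] using h2
    · have h3 := geo (s := s) (j := m) (by omega)
      have h4 : 2 * ((s ^ m - 1) / 2) = s ^ m - 1 := by omega
      rw [h4, h3, zero_add]
      exact Nat.mul_lt_mul_of_pos_right (hG2.trans_le hG1) (by omega)
  rcases Nat.lt_or_ge m 4 with h4 | h4
  · interval_cases m
    · have h5 : 7 ≤ s := by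
        by_contra h
        have : s ^ 2 ≤ 6 ^ 2 := Nat.pow_le_pow_left (by omega) 2
        omega
      rcases Nat.lt_or_ge s 9 with h9 | h9
      · obtain rfl : s = 7 := by omega
        decide +kernel
      · exact hG (G := 10) (by simp [Finset.sum_range_succ]; omega) (by norm_num)
    · have h5 : 5 ≤ s := by
        by_contra h
        have : s ^ 3 ≤ 3 ^ 3 := Nat.pow_le_pow_left (by omega) 3
        omega
      have h9 : 25 ≤ s ^ 2 := Nat.pow_le_pow_left h5 2
      exact hG (G := 31) (by simp [Finset.sum_range_succ]; omega) (by norm_num)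
  · have h3 : 3 ≤ s := by omega
    have h5 := geo_ge_three (j := m) h3
    have h6 := three_pow_five h4
    have h7 : m * (m + 1) = m ^ 2 + m := by ring
    have h8 := exp_b h4
    refine hG (G := ∑ i ∈ Finset.range m, s ^ i) le_rfl ?_
    rw [h7]
    omega

theorem lt_psp_even (hm : 2 ≤ m) (hs : 2 ≤ s) (hL : 24 ≤ s ^ m - 1) : s * (s * prB s m) < 4 ^ (s ^ m - 1) := by
  have h1 : s * (s * prB s m) ≤ s ^ (m * (m + 1) + 2) := by
    calc s * (s * prB s m) = prB s m * s ^ 2 := by ring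
      _ ≤ s ^ (m * (m + 1)) * s ^ 2 := Nat.mul_le_mul_right _ (prB_le m s)
      _ = _ := by rw [← pow_add]
  refine h1.trans_lt (keyG0 hs le_rfl ?_)
  rcases Nat.lt_or_ge m 6 with h6 | h6
  · interval_cases m
    · have h5 : 5 ≤ s := by
        by_contra h
        have : s ^ 2 ≤ 4 ^ 2 := Nat.pow_le_pow_left (by omega) 2
        omega
      simp [Finset.sum_range_succ]; omega
    · have h5 : 3 ≤ s := by
        by_contra h
        have : s ^ 3 ≤ 2 ^ 3 := Nat.pow_le_pow_left (by omega) 3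
        omega
      have h9 : 9 ≤ s ^ 2 := Nat.pow_le_pow_left h5 2
      simp [Finset.sum_range_succ]; omega
    · have h5 : 3 ≤ s := by
        by_contra h
        have : s ^ 4 ≤ 2 ^ 4 := Nat.pow_le_pow_left (by omega) 4
        omega
      have h9 : 9 ≤ s ^ 2 := Nat.pow_le_pow_left h5 2
      have h10 : 27 ≤ s ^ 3 := Nat.pow_le_pow_left h5 3
      simp [Finset.sum_range_succ]; omega
    · have h9 : 4 ≤ s ^ 2 := Nat.pow_le_pow_left hs 2
      have h10 : 8 ≤ s ^ 3 := Nat.pow_le_pow_left hs 3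
      have h11 : 16 ≤ s ^ 4 := Nat.pow_le_pow_left hs 4
      simp [Finset.sum_range_succ]; omega
  · have h2 := geo_ge_two (j := m) hs
    have h3 := (two_pow_six h6).2
    have h7 : m * (m + 1) = m ^ 2 + m := by ring
    omega

theorem lt_psu (hm : 3 ≤ m) (hs : 2 ≤ s) (hL : 24 ≤ (s - 1) * s ^ (m - 2)) :
    s * (s * prU s m) < 4 ^ ((s - 1) * s ^ (m - 2)) := by
  have h1 : s * (s * prU s m) ≤ 2 ^ m * s ^ (m * (m + 1) / 2 + 2) := by
    calc s * (s * prU s m) = prU s m * s ^ 2 := by ring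
      _ ≤ (2 ^ m * s ^ (m * (m + 1) / 2)) * s ^ 2 := Nat.mul_le_mul_right _ (prU_le (by omega))
      _ = _ := by rw [mul_assoc, ← pow_add]
  refine h1.trans_lt (key (by omega) ?_)
  obtain ⟨t, rfl⟩ : ∃ t, s = t + 1 := ⟨s - 1, by omega⟩
  rw [show t + 1 - 1 = t by omega] at hL ⊢
  have hG : m + (m * (m + 1) / 2 + 2) < 2 * (t + 1) ^ (m - 2) →
      m + (m * (m + 1) / 2 + 2) * t < 2 * (t * (t + 1) ^ (m - 2)) := by
    intro h
    have h2 : (m + (m * (m + 1) / 2 + 2)) * t < 2 * (t + 1) ^ (m - 2) * t :=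
      Nat.mul_lt_mul_of_pos_right h (by omega)
    have h3 : m * 1 ≤ m * t := Nat.mul_le_mul_left _ (by omega)
    linarith only [h2, h3]
  apply hG
  rcases Nat.lt_or_ge m 7 with h7 | h7
  · interval_cases m
    · have h5 : 5 ≤ t := by
        by_contra h
        have h6 : t ≤ 4 := by omega
        interval_cases t <;> norm_num at hL
      norm_num; omega
    · have h5 : 3 ≤ t := by
        by_contra h
        have h6 : t ≤ 2 := by omega
        interval_cases t <;> norm_num at hL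
      have : 4 ^ 2 ≤ (t + 1) ^ 2 := Nat.pow_le_pow_left (by omega) 2
      norm_num; omega
    · have h5 : 2 ≤ t := by
        by_contra h
        have h6 : t ≤ 1 := by omega
        interval_cases t <;> norm_num at hL
      have : 3 ^ 3 ≤ (t + 1) ^ 3 := Nat.pow_le_pow_left (by omega) 3
      norm_num; omega
    · have h5 : 2 ≤ t := by
        by_contra h
        have h6 : t ≤ 1 := by omega
        interval_cases t <;> norm_num at hL
      have : 3 ^ 4 ≤ (t + 1) ^ 4 := Nat.pow_le_pow_left (by omega) 4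
      norm_num; omega
  · have h8 : 2 ^ (m - 2) ≤ (t + 1) ^ (m - 2) := Nat.pow_le_pow_left hs _
    have h9 : 2 ^ m = 4 * 2 ^ (m - 2) := by
      rw [show (4 : ℕ) = 2 ^ 2 by norm_num, ← pow_add]; congr 1; omega
    have h10 := (two_pow_seven h7).2
    have h11 : m * (m + 1) = m ^ 2 + m := by ring
    omega

theorem lt_oodd (hm : 3 ≤ m) (hs : 3 ≤ s) :
    s * (s * prB s m) < 4 ^ max (s ^ 3 - 1) (s ^ (m - 1) - 1) := by
  have h1 : s * (s * prB s m) ≤ s ^ (m * (m + 1) + 2) := by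
    calc s * (s * prB s m) = prB s m * s ^ 2 := by ring
      _ ≤ s ^ (m * (m + 1)) * s ^ 2 := Nat.mul_le_mul_right _ (prB_le m s)
      _ = _ := by rw [← pow_add]
  refine h1.trans_lt ?_
  rcases Nat.lt_or_ge m 5 with h5 | h5
  · refine keyG0 (by omega) (le_max_left _ _) ?_
    have h9 : 9 ≤ s ^ 2 := Nat.pow_le_pow_left hs 2
    have h6 : m * (m + 1) ≤ 20 := by nlinarith only [h5]
    simp [Finset.sum_range_succ]; omega
  · refine keyG0 (by omega) (le_max_right _ _) ?_
    have h6 := geo_ge_three (j := m - 1) hs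
    have h7 := three_pow_five (m := m - 1) (by omega)
    obtain ⟨k, rfl⟩ : ∃ k, m = k + 1 := ⟨m - 1, by omega⟩
    rw [Nat.add_sub_cancel] at h6 h7 ⊢
    have h8 : (k + 1) * (k + 1 + 1) = k ^ 2 + 3 * k + 2 := by ring
    omega

theorem bd_oplus (hm : 4 ≤ m) : s * (s * ((s ^ m - 1) * prB s (m - 1))) ≤ s ^ (m ^ 2 + 2) := by
  calc s * (s * ((s ^ m - 1) * prB s (m - 1))) = (s ^ m - 1) * prB s (m - 1) * s ^ 2 := by ring
    _ ≤ s ^ m * s ^ (m * (m - 1)) * s ^ 2 :=
        Nat.mul_le_mul_right _ (Nat.mul_le_mul (Nat.sub_le _ _) (prB_pred_le hm))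
    _ = _ := by
        rw [← pow_add, ← pow_add]
        congr 1
        obtain ⟨k, rfl⟩ : ∃ k, m = k + 1 := ⟨m - 1, by omega⟩
        rw [Nat.add_sub_cancel]
        ring

theorem bd_ominus (hm : 4 ≤ m) (hs : 1 ≤ s) :
    s * (s * ((s ^ m + 1) * prB s (m - 1))) ≤ 2 ^ 1 * s ^ (m ^ 2 + 2) := by
  calc s * (s * ((s ^ m + 1) * prB s (m - 1))) = (s ^ m + 1) * prB s (m - 1) * s ^ 2 := by ring
    _ ≤ (2 * s ^ m) * s ^ (m * (m - 1)) * s ^ 2 :=
        Nat.mul_le_mul_right _ (Nat.mul_le_mul (add_le_pow hs m) (prB_pred_le hm))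
    _ = _ := by
        rw [pow_one, mul_assoc, mul_assoc, ← pow_add, ← pow_add]
        congr 2
        obtain ⟨k, rfl⟩ : ∃ k, m = k + 1 := ⟨m - 1, by omega⟩
        rw [Nat.add_sub_cancel]
        ring

theorem three_le_of {s k : ℕ} (h : 24 ≤ s ^ k - 1) (hk : k = 3 ∨ k = 4) : 3 ≤ s := by
  by_contra hc
  have h1 : s ^ k ≤ 2 ^ k := Nat.pow_le_pow_left (by omega) k
  rcases hk with rfl | rfl
  · norm_num at h1; omega
  · norm_num at h1; omega

theorem lt_oplus (hm : 4 ≤ m) (hs : 2 ≤ s) (hL : 24 ≤ max (s ^ 3 - 1) (s ^ (m - 1) - 1)) :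
    s * (s * ((s ^ m - 1) * prB s (m - 1))) < 4 ^ max (s ^ 3 - 1) (s ^ (m - 1) - 1) := by
  refine (bd_oplus hm).trans_lt ?_
  have hmax : max (s ^ 3 - 1) (s ^ (m - 1) - 1) = s ^ (m - 1) - 1 := by
    have := Nat.pow_le_pow_right (show 0 < s by omega) (show 3 ≤ m - 1 by omega)
    exact max_eq_right (by omega)
  rw [hmax] at hL ⊢
  refine keyG0 hs le_rfl ?_
  rcases Nat.lt_or_ge m 6 with h6 | h6
  · interval_cases m
    · have h5 := three_le_of hL (Or.inl rfl)
      have h9 : 9 ≤ s ^ 2 := Nat.pow_le_pow_left h5 2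
      simp [Finset.sum_range_succ]; omega
    · have h5 := three_le_of hL (Or.inr rfl)
      have h9 : 9 ≤ s ^ 2 := Nat.pow_le_pow_left h5 2
      have h10 : 27 ≤ s ^ 3 := Nat.pow_le_pow_left h5 3
      simp [Finset.sum_range_succ]; omega
  · have h2 := geo_ge_two (j := m - 1) hs
    have h3 := (two_pow_six h6).1
    have h4 : 2 ^ m = 2 * 2 ^ (m - 1) := by rw [← pow_succ']; congr 1; omega
    rcases Nat.lt_or_ge m 7 with h7 | h7
    · obtain rfl : m = 6 := by omega
      norm_num at h2 ⊢; omega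
    · have h8 := (two_pow_seven h7).1
      omega

theorem lt_ominus (hm : 4 ≤ m) (hs : 2 ≤ s) (hL : 24 ≤ max (s ^ 3 - 1) (s ^ (m - 2) - 1)) :
    s * (s * ((s ^ m + 1) * prB s (m - 1))) < 4 ^ max (s ^ 3 - 1) (s ^ (m - 2) - 1) := by
  rcases Nat.lt_or_ge m 7 with h7 | h7
  · rcases Nat.lt_or_ge m 6 with h6 | h6
    · have h3 : 3 ≤ s := by
        have : max (s ^ 3 - 1) (s ^ (m - 2) - 1) = s ^ 3 - 1 := by
          have := Nat.pow_le_pow_right (show 0 < s by omega) (show m - 2 ≤ 3 by omega)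
          exact max_eq_left (by omega)
        rw [this] at hL
        exact three_le_of hL (Or.inl rfl)
      have h9 : 9 ≤ s ^ 2 := Nat.pow_le_pow_left h3 2
      interval_cases m
      · refine (bd_ominus hm (by omega)).trans_lt (keyG hs (le_max_left _ _) ?_)
        simp [Finset.sum_range_succ]; omega
      · rcases Nat.lt_or_ge s 4 with h4 | h4
        · obtain rfl : s = 3 := by omega
          decide +kernel
        · have h10 : 16 ≤ s ^ 2 := Nat.pow_le_pow_left h4 2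
          refine (bd_ominus hm (by omega)).trans_lt (keyG hs (le_max_left _ _) ?_)
          simp [Finset.sum_range_succ]; omega
    · obtain rfl : m = 6 := by omega
      have hmax : max (s ^ 3 - 1) (s ^ (6 - 2) - 1) = s ^ 4 - 1 := by
        have h0 : s ^ 3 ≤ s ^ 4 := Nat.pow_le_pow_right (show 0 < s by omega) (show 3 ≤ 4 by omega)
        exact max_eq_right (show s ^ 3 - 1 ≤ s ^ 4 - 1 by omega)
      rw [hmax] at hL ⊢
      have h5 := three_le_of hL (Or.inr rfl)
      have h9 : 9 ≤ s ^ 2 := Nat.pow_le_pow_left h5 2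
      have h10 : 27 ≤ s ^ 3 := Nat.pow_le_pow_left h5 3
      refine (bd_ominus hm (by omega)).trans_lt (keyG hs le_rfl ?_)
      simp [Finset.sum_range_succ]; omega
  · refine (bd_ominus hm (by omega)).trans_lt (keyG hs (le_max_right _ _) ?_)
    have h2 := geo_ge_two (j := m - 2) hs
    have h9 : 2 ^ m = 4 * 2 ^ (m - 2) := by
      rw [show (4 : ℕ) = 2 ^ 2 by norm_num, ← pow_add]; congr 1; omega
    have h8 := (two_pow_seven h7).1
    omega

theorem lt_exc {k b a L : ℕ} (hs : 2 ≤ s) (hL : (s - 1) * s ^ a ≤ L) (h : b + k < 2 * s ^ a) {X : ℕ}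
    (hX : X ≤ 2 ^ b * s ^ k) : X < 4 ^ L := by
  refine hX.trans_lt (key (by omega) ?_)
  obtain ⟨t, rfl⟩ : ∃ t, s = t + 2 := ⟨s - 2, by omega⟩
  rw [show t + 2 - 1 = t + 1 by omega] at hL ⊢
  have h1 : (b + k) * (t + 1) < 2 * (t + 2) ^ a * (t + 1) := Nat.mul_lt_mul_of_pos_right h (by omega)
  linarith only [hL, h1, Nat.zero_le (b * t)]

end Cfsg.Agent.H884.Cx
end

-- part: H884/CxFam2
section
/-!
# TEAM ELUSIVE, cross characteristic: the groups of Lie type with bound at least 24 (exceptional groups, `fam_lt`)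
-/

set_option autoImplicit false

namespace Cfsg.Agent.H884.Cx

open Cfsg.Agent.OrdDiv Cfsg.Agent.H436 Cfsg.Agent.H927.SgX Cfsg.Agent.H278.El.SporNum

variable {s : ℕ}

theorem lt_g2 (hL : 24 ≤ lsb (.g2 s)) : fs (.g2 s) * XX (.g2 s) < 4 ^ lsb (.g2 s) := by
  change 24 ≤ (if s ≤ 4 then 0 else (s - 1) * s) at hL
  change s * (s * ((s ^ 2 - 1) * (s ^ 6 - 1))) < 4 ^ (if s ≤ 4 then 0 else (s - 1) * s)
  by_cases h4 : s ≤ 4
  · rw [if_pos h4] at hL; omega
  rw [if_neg h4] at hL ⊢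
  have h6 : 6 ≤ s := by
    by_contra h
    obtain rfl : s = 5 := by omega
    norm_num at hL
  refine lt_exc (s := s) (a := 1) (b := 0) (k := 10) (by omega) (by rw [pow_one]) (by rw [pow_one]; omega) ?_
  calc s * (s * ((s ^ 2 - 1) * (s ^ 6 - 1))) ≤ s * (s * (s ^ 2 * s ^ 6)) := by
        gcongr <;> exact Nat.sub_le _ _
    _ = _ := by ring

theorem lt_f4 (hs : 2 ≤ s) (hL : 24 ≤ lsb (.f4 s)) : fs (.f4 s) * XX (.f4 s) < 4 ^ lsb (.f4 s) := by
  change 24 ≤ (if s = 2 then 0 else (s - 1) * s ^ 3) at hL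
  change s * (s * ((s ^ 2 - 1) * (s ^ 6 - 1) * (s ^ 8 - 1) * (s ^ 12 - 1))) <
    4 ^ (if s = 2 then 0 else (s - 1) * s ^ 3)
  by_cases h4 : s = 2
  · rw [if_pos h4] at hL; omega
  rw [if_neg h4] at hL ⊢
  have h6 : 3 ^ 3 ≤ s ^ 3 := Nat.pow_le_pow_left (by omega) 3
  refine lt_exc (a := 3) (b := 0) (k := 30) hs le_rfl (by omega) ?_
  calc s * (s * ((s ^ 2 - 1) * (s ^ 6 - 1) * (s ^ 8 - 1) * (s ^ 12 - 1)))
      ≤ s * (s * (s ^ 2 * s ^ 6 * s ^ 8 * s ^ 12)) := by gcongr <;> exact Nat.sub_le _ _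
    _ = _ := by ring

theorem lt_e6 (hs : 2 ≤ s) : fs (.e6 s) * XX (.e6 s) < 4 ^ lsb (.e6 s) := by
  have h6 : 2 ^ 6 ≤ s ^ 6 := Nat.pow_le_pow_left hs 6
  refine lt_exc (a := 6) (b := 0) (k := 44) hs le_rfl (by omega) ?_
  change s * (s * ((s ^ 2 - 1) * (s ^ 5 - 1) * (s ^ 6 - 1) * (s ^ 8 - 1) * (s ^ 9 - 1) * (s ^ 12 - 1))) ≤ _
  calc s * (s * ((s ^ 2 - 1) * (s ^ 5 - 1) * (s ^ 6 - 1) * (s ^ 8 - 1) * (s ^ 9 - 1) * (s ^ 12 - 1)))
      ≤ s * (s * (s ^ 2 * s ^ 5 * s ^ 6 * s ^ 8 * s ^ 9 * s ^ 12)) := by gcongr <;> exact Nat.sub_le _ _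
    _ = _ := by ring

theorem lt_e7 (hs : 2 ≤ s) : fs (.e7 s) * XX (.e7 s) < 4 ^ lsb (.e7 s) := by
  have h6 : 2 ^ 7 ≤ s ^ 7 := Nat.pow_le_pow_left hs 7
  refine lt_exc (a := 7) (b := 0) (k := 72) hs le_rfl (by omega) ?_
  change s * (s * ((s ^ 2 - 1) * (s ^ 6 - 1) * (s ^ 8 - 1) * (s ^ 10 - 1) * (s ^ 12 - 1) * (s ^ 14 - 1) *
    (s ^ 18 - 1))) ≤ _
  calc s * (s * ((s ^ 2 - 1) * (s ^ 6 - 1) * (s ^ 8 - 1) * (s ^ 10 - 1) * (s ^ 12 - 1) * (s ^ 14 - 1) *
    (s ^ 18 - 1))) ≤ s * (s * (s ^ 2 * s ^ 6 * s ^ 8 * s ^ 10 * s ^ 12 * s ^ 14 * s ^ 18)) := by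
        gcongr <;> exact Nat.sub_le _ _
    _ = _ := by ring

theorem lt_e8 (hs : 2 ≤ s) : fs (.e8 s) * XX (.e8 s) < 4 ^ lsb (.e8 s) := by
  have h6 : 2 ^ 7 ≤ s ^ 7 := Nat.pow_le_pow_left hs 7
  refine lt_exc (a := 7) (b := 0) (k := 130) hs le_rfl (by omega) ?_
  change s * (s * ((s ^ 2 - 1) * (s ^ 8 - 1) * (s ^ 12 - 1) * (s ^ 14 - 1) * (s ^ 18 - 1) *
      (s ^ 20 - 1) * (s ^ 24 - 1) * (s ^ 30 - 1))) ≤ _
  calc s * (s * ((s ^ 2 - 1) * (s ^ 8 - 1) * (s ^ 12 - 1) * (s ^ 14 - 1) * (s ^ 18 - 1) *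
      (s ^ 20 - 1) * (s ^ 24 - 1) * (s ^ 30 - 1)))
      ≤ s * (s * (s ^ 2 * s ^ 8 * s ^ 12 * s ^ 14 * s ^ 18 * s ^ 20 * s ^ 24 * s ^ 30)) := by
        gcongr <;> exact Nat.sub_le _ _
    _ = _ := by ring

theorem lt_te6 (hs : 2 ≤ s) (hL : 24 ≤ lsb (.te6 s)) : fs (.te6 s) * XX (.te6 s) < 4 ^ lsb (.te6 s) := by
  change 24 ≤ (if s = 2 then 0 else (s - 1) * s ^ 6) at hL
  change s * (s * ((s ^ 2 - 1) * (s ^ 5 + 1) * (s ^ 6 - 1) * (s ^ 8 - 1) * (s ^ 9 + 1) * (s ^ 12 - 1))) <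
    4 ^ (if s = 2 then 0 else (s - 1) * s ^ 6)
  by_cases h4 : s = 2
  · rw [if_pos h4] at hL; omega
  rw [if_neg h4] at hL ⊢
  have h6 : 3 ^ 6 ≤ s ^ 6 := Nat.pow_le_pow_left (by omega) 6
  refine lt_exc (a := 6) (b := 2) (k := 44) hs le_rfl (by omega) ?_
  calc s * (s * ((s ^ 2 - 1) * (s ^ 5 + 1) * (s ^ 6 - 1) * (s ^ 8 - 1) * (s ^ 9 + 1) * (s ^ 12 - 1)))
      ≤ s * (s * (s ^ 2 * (2 * s ^ 5) * s ^ 6 * s ^ 8 * (2 * s ^ 9) * s ^ 12)) := by
        gcongr <;> first | exact Nat.sub_le _ _ | exact add_le_pow (by omega) _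
    _ = _ := by ring

theorem lt_td4 (hs : 2 ≤ s) (hL : 24 ≤ lsb (.td4 s)) : fs (.td4 s) * XX (.td4 s) < 4 ^ lsb (.td4 s) := by
  change 24 ≤ (if s ≤ 3 then 0 else (s - 1) * s ^ 3) at hL
  change s * (s * ((s ^ 2 - 1) * (s ^ 6 - 1) * (s ^ 8 + s ^ 4 + 1))) < 4 ^ (if s ≤ 3 then 0 else (s - 1) * s ^ 3)
  by_cases h4 : s ≤ 3
  · rw [if_pos h4] at hL; omega
  rw [if_neg h4] at hL ⊢
  have h6 : 4 ^ 3 ≤ s ^ 3 := Nat.pow_le_pow_left (by omega) 3
  refine lt_exc (a := 3) (b := 2) (k := 18) hs le_rfl (by omega) ?_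
  have h8 : s ^ 8 + s ^ 4 + 1 ≤ 4 * s ^ 8 := by
    have h9 : s ^ 4 ≤ s ^ 8 := Nat.pow_le_pow_right (by omega) (by norm_num)
    have h10 : 1 ≤ s ^ 8 := Nat.one_le_pow _ _ (by omega)
    omega
  calc s * (s * ((s ^ 2 - 1) * (s ^ 6 - 1) * (s ^ 8 + s ^ 4 + 1)))
      ≤ s * (s * (s ^ 2 * s ^ 6 * (4 * s ^ 8))) := by
        gcongr <;> exact Nat.sub_le _ _
    _ = _ := by ring

theorem lt_sz (hL : 24 ≤ lsb (.sz s)) : fs (.sz s) * XX (.sz s) < 4 ^ lsb (.sz s) := by
  change 24 ≤ s - 1 at hL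
  change s * (s * ((s - 1) * (s ^ 2 + 1))) < 4 ^ (s - 1)
  refine lt_of_le_of_lt ?_ (pow_five_lt (s := s) (by omega))
  calc s * (s * ((s - 1) * (s ^ 2 + 1))) ≤ s * (s * (s * (2 * s ^ 2))) := by
        gcongr <;> first | exact Nat.sub_le _ _ | exact add_le_pow (by omega) _
    _ = _ := by ring

theorem lt_ree (hL : 24 ≤ lsb (.ree s)) : fs (.ree s) * XX (.ree s) < 4 ^ lsb (.ree s) := by
  change 24 ≤ (s - 1) / 2 at hL
  change s * (s * ((s - 1) * (s ^ 3 + 1))) < 4 ^ ((s - 1) / 2)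
  refine lt_of_lt_of_le ?_ (half_pow (s := s) (by omega))
  refine lt_of_le_of_lt ?_ (pow_six_lt (s := s) (by omega))
  calc s * (s * ((s - 1) * (s ^ 3 + 1))) ≤ s * (s * (s * (2 * s ^ 3))) := by
        gcongr <;> first | exact Nat.sub_le _ _ | exact add_le_pow (by omega) _
    _ = _ := by ring

theorem lt_tf4 (hs : ∃ m, 1 ≤ m ∧ s = 2 ^ (2 * m + 1)) :
    fs (.tf4 s) * XX (.tf4 s) < 4 ^ lsb (.tf4 s) := by
  obtain ⟨m, hm, rfl⟩ := hs
  rcases Nat.eq_or_lt_of_le hm with rfl | h2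
  · decide +kernel
  · have h32 : 2 ^ 5 ≤ 2 ^ (2 * m + 1) := Nat.pow_le_pow_right (by norm_num) (by omega)
    generalize 2 ^ (2 * m + 1) = s at *
    change s * (s * ((s - 1) * (s ^ 3 + 1) * (s ^ 4 - 1) * (s ^ 6 + 1))) < 4 ^ ((s - 1) * s)
    refine lt_exc (s := s) (a := 1) (b := 2) (k := 16) (by omega) (by rw [pow_one]) (by rw [pow_one]; omega) ?_
    calc s * (s * ((s - 1) * (s ^ 3 + 1) * (s ^ 4 - 1) * (s ^ 6 + 1)))
        ≤ s * (s * (s * (2 * s ^ 3) * s ^ 4 * (2 * s ^ 6))) := by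
          gcongr <;> first | exact Nat.sub_le _ _ | exact add_le_pow (by omega) _
      _ = _ := by ring

/-- **The groups of Lie type with bound at least 24.** -/
theorem fam_lt {g : Grp} (hg : Cond g) (hlie : IsLieN g) (hL : 24 ≤ lsb g) : fs g * XX g < 4 ^ lsb g := by
  cases g with
  | psl m s =>
    obtain ⟨h1, h2, h3⟩ := hg
    change 24 ≤ (if m = 2 then (s - 1) / 2 else s ^ (m - 1) - 1) at hL
    change s * glN m s < 4 ^ (if m = 2 then (s - 1) / 2 else s ^ (m - 1) - 1)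
    by_cases hm : m = 2
    · subst hm
      rw [if_pos rfl] at hL ⊢
      exact lt_psl2 hL
    · rw [if_neg hm] at hL ⊢
      exact lt_psl (by omega) h3.two_le hL
  | psp m s =>
    have hs : 2 ≤ s := hg.2.2.two_le
    change 24 ≤ (if s % 2 = 1 then (s ^ m - 1) / 2 else s ^ m - 1) at hL
    change s * (s * prB s m) < 4 ^ (if s % 2 = 1 then (s ^ m - 1) / 2 else s ^ m - 1)
    split_ifs at hL ⊢ with ho
    · exact lt_psp_odd hg.1 hs ho hL
    · exact lt_psp_even hg.1 hs hL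
  | psu m s => exact lt_psu hg.1 hg.2.2.two_le hL
  | oodd m s =>
    have hs : 2 ≤ s := hg.2.2.two_le
    have ho := Nat.odd_iff.1 hg.2.1
    have hs3 : 3 ≤ s := by omega
    exact lt_oodd hg.1 hs3
  | oplus m s => exact lt_oplus hg.1 hg.2.two_le hL
  | ominus m s => exact lt_ominus hg.1 hg.2.two_le hL
  | g2 s => exact lt_g2 hL
  | f4 s => exact lt_f4 (IsPrimePow.two_le hg) hL
  | e6 s => exact lt_e6 (IsPrimePow.two_le hg)
  | e7 s => exact lt_e7 (IsPrimePow.two_le hg)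
  | e8 s => exact lt_e8 (IsPrimePow.two_le hg)
  | te6 s => exact lt_te6 (IsPrimePow.two_le hg) hL
  | td4 s => exact lt_td4 (IsPrimePow.two_le hg) hL
  | sz s => exact lt_sz hL
  | ree s => exact lt_ree hL
  | tf4 s => exact lt_tf4 hg
  | _ => exact hlie.elim

theorem sub_ne {k : ℕ} (hs : 2 ≤ s) (hk : k ≠ 0) : s ^ k - 1 ≠ 0 := by
  have : 2 ^ 1 ≤ s ^ k := (Nat.pow_le_pow_left hs 1).trans (Nat.pow_le_pow_right (by omega) (by omega))
  omega

theorem list_ne {f : ℕ → ℕ} (m : ℕ) (h : ∀ i < m, f i ≠ 0) : ((List.range m).map f).prod ≠ 0 := by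
  rw [Ne, List.prod_eq_zero_iff, List.mem_map]
  rintro ⟨i, hi, h0⟩
  exact h i (List.mem_range.1 hi) h0

theorem prB_ne (hs : 2 ≤ s) (m : ℕ) : prB s m ≠ 0 := list_ne m fun i _ => sub_ne hs (by omega)

theorem prU_ne (hs : 2 ≤ s) (m : ℕ) : prU s m ≠ 0 := list_ne m fun i _ => by
  split_ifs
  · omega
  · exact sub_ne hs (by omega)

theorem glN_ne (hs : 2 ≤ s) (m : ℕ) : glN m s ≠ 0 := list_ne m fun i hi => by
  have := Nat.pow_lt_pow_right (show 1 < s by omega) hi
  omega

theorem XX_ne {g : Grp} (hg : Cond g) (hlie : IsLieN g) : XX g ≠ 0 := by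
  cases g with
  | psl m s => exact glN_ne hg.2.2.two_le m
  | psp m s => exact Nat.mul_ne_zero (by have := hg.2.2.two_le; omega) (prB_ne hg.2.2.two_le m)
  | psu m s => exact Nat.mul_ne_zero (by have := hg.2.2.two_le; omega) (prU_ne hg.2.2.two_le m)
  | oodd m s => exact Nat.mul_ne_zero (by have := hg.2.2.two_le; omega) (prB_ne hg.2.2.two_le m)
  | oplus m s =>
    exact Nat.mul_ne_zero (by have := hg.2.two_le; omega)
      (Nat.mul_ne_zero (sub_ne hg.2.two_le (by have := hg.1; omega)) (prB_ne hg.2.two_le _))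
  | ominus m s =>
    exact Nat.mul_ne_zero (by have := hg.2.two_le; omega) (Nat.mul_ne_zero (by omega) (prB_ne hg.2.two_le _))
  | g2 s =>
    have hs : 2 ≤ s := IsPrimePow.two_le hg.2
    refine Nat.mul_ne_zero (by omega) (Nat.mul_ne_zero ?_ ?_) <;> exact sub_ne hs (by norm_num)
  | f4 s =>
    have hs : 2 ≤ s := IsPrimePow.two_le hg
    refine Nat.mul_ne_zero (by omega) (Nat.mul_ne_zero (Nat.mul_ne_zero (Nat.mul_ne_zero ?_ ?_) ?_) ?_) <;>
      exact sub_ne hs (by norm_num)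
  | e6 s =>
    have hs : 2 ≤ s := IsPrimePow.two_le hg
    refine Nat.mul_ne_zero (by omega) (Nat.mul_ne_zero (Nat.mul_ne_zero (Nat.mul_ne_zero (Nat.mul_ne_zero
      (Nat.mul_ne_zero ?_ ?_) ?_) ?_) ?_) ?_) <;> exact sub_ne hs (by norm_num)
  | e7 s =>
    have hs : 2 ≤ s := IsPrimePow.two_le hg
    refine Nat.mul_ne_zero (by omega) (Nat.mul_ne_zero (Nat.mul_ne_zero (Nat.mul_ne_zero (Nat.mul_ne_zero
      (Nat.mul_ne_zero (Nat.mul_ne_zero ?_ ?_) ?_) ?_) ?_) ?_) ?_) <;> exact sub_ne hs (by norm_num)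
  | e8 s =>
    have hs : 2 ≤ s := IsPrimePow.two_le hg
    refine Nat.mul_ne_zero (by omega) (Nat.mul_ne_zero (Nat.mul_ne_zero (Nat.mul_ne_zero (Nat.mul_ne_zero
      (Nat.mul_ne_zero (Nat.mul_ne_zero (Nat.mul_ne_zero ?_ ?_) ?_) ?_) ?_) ?_) ?_) ?_) <;>
      exact sub_ne hs (by norm_num)
  | te6 s =>
    have hs : 2 ≤ s := IsPrimePow.two_le hg
    refine Nat.mul_ne_zero (by omega) (Nat.mul_ne_zero (Nat.mul_ne_zero (Nat.mul_ne_zero (Nat.mul_ne_zero
      (Nat.mul_ne_zero ?_ ?_) ?_) ?_) ?_) ?_) <;> first | exact sub_ne hs (by norm_num) | omega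
  | td4 s =>
    have hs : 2 ≤ s := IsPrimePow.two_le hg
    refine Nat.mul_ne_zero (by omega) (Nat.mul_ne_zero (Nat.mul_ne_zero ?_ ?_) ?_) <;>
      first | exact sub_ne hs (by norm_num) | omega
  | sz s =>
    obtain ⟨m, hm, rfl⟩ := hg
    have h32 : 2 ^ 1 ≤ 2 ^ (2 * m + 1) := Nat.pow_le_pow_right (by norm_num) (by omega)
    refine Nat.mul_ne_zero (by omega) (Nat.mul_ne_zero ?_ ?_) <;> omega
  | ree s =>
    obtain ⟨m, hm, rfl⟩ := hg
    have h32 : 3 ^ 1 ≤ 3 ^ (2 * m + 1) := Nat.pow_le_pow_right (by norm_num) (by omega)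
    refine Nat.mul_ne_zero (by omega) (Nat.mul_ne_zero ?_ ?_) <;> omega
  | tf4 s =>
    obtain ⟨m, hm, rfl⟩ := hg
    have h32 : 2 ^ 1 ≤ 2 ^ (2 * m + 1) := Nat.pow_le_pow_right (by norm_num) (by omega)
    refine Nat.mul_ne_zero (by omega) (Nat.mul_ne_zero (Nat.mul_ne_zero (Nat.mul_ne_zero ?_ ?_) ?_) ?_) <;>
      first | omega | exact sub_ne (by omega) (by norm_num)
  | _ => exact hlie.elim

/-- **No classical group of large dimension.** -/
theorem large {g gT : Grp} (hg : Cond g) (hlie : IsLieN g) {cS : ℕ} (hS : den g * cS = num g)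
    (hgT : Cond gT) (hcl : IsCl gT) {c : ℕ} (he : den gT * c = num gT) {f : ℕ} (hf : f ≤ fs g) (hf0 : f ≠ 0)
    (h : ∀ r : ℕ, r.Prime → 5 ≤ r → r ∣ c → r ∣ cS ∨ r ∣ f) (hL : lsb g ≤ dimN gT) : lsb g ≤ 23 := by
  by_contra hcon
  push Not at hcon
  have h1 := fam_lt hg hlie hcon
  have h2 := crude hgT hcl he (N := f * XX g) (Nat.mul_ne_zero hf0 (XX_ne hg hlie)) (fun r hr h5 hd => by
    rcases h r hr h5 hd with h3 | h3
    · exact (XX_dvd_card hlie hS hr h3).mul_left _
    · exact h3.mul_right _) (by omega)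
  have h3 : 4 ^ lsb g ≤ 4 ^ dimN gT := Nat.pow_le_pow_right (by norm_num) hL
  have h4 : f * XX g ≤ fs g * XX g := Nat.mul_le_mul_right _ hf
  omega

end Cfsg.Agent.H884.Cx
end

-- part: H884/CxChk
section
/-!
# TEAM ELUSIVE, cross characteristic: the finite check

A version of helper278's `SporNum` for an arbitrary number `N` with prime divisors at most 73 and an arbitrary test.
-/

set_option autoImplicit false

namespace Cfsg.Agent.H884.Cx

open Cfsg.Agent.OrdDiv Cfsg.Agent.H436 Cfsg.Agent.H927.SgX Cfsg.Agent.H278.El.Num Cfsg.Agent.H278.El.SporNum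

/-- the check for one `q` -/
def chkT (N : ℕ) (t : Grp → Bool) (q : ℕ) : Bool :=
  !(sm N (q ^ 2 - 1)) ||
  (walk (fun n => q ^ n - 1) N (fun n => Nat.blt n 3 || t (.psl n q)) 73 2 &&
  walk (fun m => q ^ (2 * m) - 1) N (fun m => (Nat.blt m 2 || t (.psp m q)) &&
    (Nat.blt m 3 || Nat.beq (q % 2) 0 || t (.oodd m q))) 73 1 &&
  walk (fun i => q ^ (2 * i) - 1) N (fun i => Nat.blt i 3 ||
    ((!(sm N (q ^ (i + 1) - 1)) || t (.oplus (i + 1) q)) &&
      (!(sm N (q ^ (i + 1) + 1)) || t (.ominus (i + 1) q)))) 73 1 &&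
  walk (vU q) N (fun n => Nat.blt n 3 || t (.psu n q)) 73 2)

/-- smoothness bounds the exponent -/
theorem exp_le73 {p e : ℕ} (hp : p.Prime) (h : ∀ u : ℕ, u.Prime → u ∣ p ^ e - 1 → u ≤ 73) : e ≤ 72 := by
  by_contra hcon
  push Not at hcon
  obtain ⟨r, hr⟩ := exists_prim hp.two_le (show 3 ≤ e by omega) (fun h => by omega)
  have h1 := h r hr.prime (hr.dvd dvd_rfl)
  have := prim_le hr
  omega

theorem pow_lt73 {p e : ℕ} (hp : p ≤ 73) (he : e ≤ 72) : p ^ e + 1 < 2 ^ 512 := by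
  have h1 : p ^ e ≤ 73 ^ e := Nat.pow_le_pow_left hp _
  have h2 : 73 ^ e ≤ 73 ^ 72 := Nat.pow_le_pow_right (by norm_num) he
  have h3 : (73 : ℕ) ^ 72 + 1 < 2 ^ 512 := by decide +kernel
  omega

section

variable {N : ℕ} (hN0 : N ≠ 0) (hN : ∀ u : ℕ, u.Prime → u ∣ N → u ≤ 73) {p f : ℕ}
include hN0 hN

theorem sm_sub' (hp : p.Prime) (hp73 : p ≤ 73) {e : ℕ} (he : 1 ≤ e)
    (h : ∀ u : ℕ, u.Prime → u ∣ p ^ e - 1 → u ∣ N) : e ≤ 72 ∧ sm N (p ^ e - 1) = true := by
  have h72 : e ≤ 72 := exp_le73 hp fun u hu hd => hN u hu (h u hu hd)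
  refine ⟨h72, sm_of hN0 ?_ ?_ h⟩
  · have : 2 ^ 1 ≤ p ^ e := (Nat.pow_le_pow_left hp.two_le 1).trans (Nat.pow_le_pow_right hp.pos he)
    omega
  · have := pow_lt73 hp73 h72
    omega

omit hN in
theorem sm_add' (hp73 : p ≤ 73) {e : ℕ} (he : e ≤ 72)
    (h : ∀ u : ℕ, u.Prime → u ∣ p ^ e + 1 → u ∣ N) : sm N (p ^ e + 1) = true :=
  sm_of hN0 (by omega) (pow_lt73 hp73 he) h

/-- **The engine.** -/
theorem engine {t : Grp → Bool}
    (hchk : ∀ p : ℕ, p ≤ 73 → p.Prime → p ∣ N → ∀ j < 36, chkT N t (p ^ (j + 1)) = true)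
    {g : Grp} (hg : Cond g) (hcl : IsCl g) {c : ℕ}
    (he : den g * c = num g) (hp : ∀ u : ℕ, u.Prime → u ∣ c → u ∣ N) : t g = true := by
  have chk_of : ∀ {p f : ℕ}, p.Prime → 1 ≤ f → p ∣ N → (∀ u : ℕ, u.Prime → u ∣ (p ^ f) ^ 2 - 1 → u ∣ N) →
      p ≤ 73 ∧ sm N ((p ^ f) ^ 2 - 1) = true ∧ chkT N t (p ^ f) = true := by
    intro p f hpr hf hpx h
    have hp73 := hN p hpr hpx
    have h1 := sm_sub' hN0 hN hpr hp73 (e := f * 2) (by omega) (by rw [pow_mul]; exact h)
    have h5 := hchk p hp73 hpr hpx (f - 1) (by omega)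
    rw [Nat.sub_add_cancel hf] at h5
    exact ⟨hp73, by rw [← pow_mul]; exact h1.2, h5⟩
  cases g with
  | psl n q =>
    have hn : 3 ≤ n := hcl
    obtain ⟨p, f, hpr, hf, rfl⟩ := (isPrimePow_nat_iff _).1 hg.2.2
    have hq : 2 ≤ p ^ f := hg.2.2.two_le
    have hmq := psl_mq hn hq he
    have hpx : p ∣ N := hp p hpr (((dvd_pow_self p (by omega)).mul_right _).trans hmq)
    obtain ⟨hp73, hsm, hchk'⟩ := chk_of hpr hf hpx fun u hu hd => hp u hu (dvd_of_mq hmq hd)
    have hall : ∀ i, 1 ≤ i → i ≤ n → f * i ≤ 72 ∧ sm N ((p ^ f) ^ i - 1) = true := fun i hi1 hi2 => by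
      have := sm_sub' hN0 hN hpr hp73 (e := f * i) (by nlinarith only [hf, hi1]) (by
        rw [pow_mul]
        exact fun u hu hd => hp u hu (psl_dvd hn hq he hi2 hu hd hi1))
      rwa [pow_mul] at this
    have hn72 : n ≤ 72 := by have := (hall n (by omega) le_rfl).1; nlinarith only [hf, this]
    unfold chkT at hchk'
    rw [hsm] at hchk'
    simp only [Bool.not_true, Bool.false_or, Bool.and_eq_true] at hchk'
    have h1 := walk_spec 73 2 n hchk'.1.1.1 (by omega) (by omega) fun i hi1 hi2 => (hall i (by omega) hi2).2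
    rw [Bool.or_eq_true] at h1
    rcases h1 with h1 | h1
    · rw [Nat.blt_eq] at h1; omega
    · exact h1
  | psp m q =>
    have hm : 2 ≤ m := hg.1
    obtain ⟨p, f, hpr, hf, rfl⟩ := (isPrimePow_nat_iff _).1 hg.2.2
    have hq : 2 ≤ p ^ f := hg.2.2.two_le
    have hmq := psp_mq hm he
    have hpx : p ∣ N := hp p hpr (((dvd_pow_self p (by omega)).mul_right _).trans hmq)
    obtain ⟨hp73, hsm, hchk'⟩ := chk_of hpr hf hpx fun u hu hd => hp u hu (dvd_of_mq hmq hd)
    have hall : ∀ i, 1 ≤ i → i ≤ m → f * (2 * i) ≤ 72 ∧ sm N ((p ^ f) ^ (2 * i) - 1) = true :=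
      fun i hi1 hi2 => by
      have := sm_sub' hN0 hN hpr hp73 (e := f * (2 * i)) (by nlinarith only [hf, hi1]) (by
        rw [pow_mul]
        exact fun u hu hd => hp u hu (psp_dvd hm he hi1 hi2 hu hd))
      rwa [pow_mul] at this
    have hn72 : m ≤ 36 := by have := (hall m (by omega) le_rfl).1; nlinarith only [hf, this]
    unfold chkT at hchk'
    rw [hsm] at hchk'
    simp only [Bool.not_true, Bool.false_or, Bool.and_eq_true] at hchk'
    have h1 := walk_spec 73 1 m hchk'.1.1.2 (by omega) (by omega) fun i hi1 hi2 => (hall i (by omega) hi2).2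
    rw [Bool.and_eq_true] at h1
    have h2 := h1.1
    rw [Bool.or_eq_true] at h2
    rcases h2 with h2 | h2
    · rw [Nat.blt_eq] at h2; omega
    · exact h2
  | oodd m q =>
    have hm : 3 ≤ m := hg.1
    obtain ⟨p, f, hpr, hf, rfl⟩ := (isPrimePow_nat_iff _).1 hg.2.2
    have hq : 2 ≤ p ^ f := hg.2.2.two_le
    have hmq := oodd_mq (by omega) hg.2.1 he
    have hpx : p ∣ N := hp p hpr (((dvd_pow_self p (by omega)).mul_right _).trans hmq)
    obtain ⟨hp73, hsm, hchk'⟩ := chk_of hpr hf hpx fun u hu hd => hp u hu (dvd_of_mq hmq hd)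
    have hall : ∀ i, 1 ≤ i → i ≤ m → f * (2 * i) ≤ 72 ∧ sm N ((p ^ f) ^ (2 * i) - 1) = true :=
      fun i hi1 hi2 => by
      have := sm_sub' hN0 hN hpr hp73 (e := f * (2 * i)) (by nlinarith only [hf, hi1]) (by
        rw [pow_mul]
        exact fun u hu hd => hp u hu (oodd_dvd hm hg.2.1 he hi1 hi2 hu hd))
      rwa [pow_mul] at this
    have hn72 : m ≤ 36 := by have := (hall m (by omega) le_rfl).1; nlinarith only [hf, this]
    unfold chkT at hchk'
    rw [hsm] at hchk'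
    simp only [Bool.not_true, Bool.false_or, Bool.and_eq_true] at hchk'
    have h1 := walk_spec 73 1 m hchk'.1.1.2 (by omega) (by omega) fun i hi1 hi2 => (hall i (by omega) hi2).2
    rw [Bool.and_eq_true] at h1
    have h2 := h1.2
    rw [Bool.or_eq_true, Bool.or_eq_true] at h2
    rcases h2 with (h2 | h2) | h2
    · rw [Nat.blt_eq] at h2; omega
    · rw [Nat.beq_eq] at h2
      have := Nat.odd_iff.1 hg.2.1
      omega
    · exact h2
  | oplus m q =>
    have hm : 4 ≤ m := hg.1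
    obtain ⟨p, f, hpr, hf, rfl⟩ := (isPrimePow_nat_iff _).1 hg.2
    have hq : 2 ≤ p ^ f := hg.2.two_le
    have hmq := oplus_mq hm he
    have hpx : p ∣ N := hp p hpr (((dvd_pow_self p (by omega)).mul_right _).trans hmq)
    obtain ⟨hp73, hsm, hchk'⟩ := chk_of hpr hf hpx fun u hu hd => hp u hu (dvd_of_mq hmq hd)
    have hall : ∀ i, 1 ≤ i → i ≤ m - 1 → f * (2 * i) ≤ 72 ∧ sm N ((p ^ f) ^ (2 * i) - 1) = true :=
      fun i hi1 hi2 => by
      have := sm_sub' hN0 hN hpr hp73 (e := f * (2 * i)) (by nlinarith only [hf, hi1]) (by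
        rw [pow_mul]
        exact fun u hu hd => hp u hu (oplus_dvd hm hq he hi1 hi2 hu hd))
      rwa [pow_mul] at this
    have hn72 : m - 1 ≤ 36 := by have := (hall (m - 1) (by omega) le_rfl).1; nlinarith only [hf, this]
    have hW : sm N ((p ^ f) ^ m - 1) = true := by
      have := (sm_sub' hN0 hN hpr hp73 (e := f * m) (by nlinarith only [hm, hf]) (by
        rw [pow_mul]
        exact fun u hu hd => hp u hu (oplus_dvd' hm hq he hu hd))).2
      rwa [pow_mul] at this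
    unfold chkT at hchk'
    rw [hsm] at hchk'
    simp only [Bool.not_true, Bool.false_or, Bool.and_eq_true] at hchk'
    have h1 := walk_spec 73 1 (m - 1) hchk'.1.2 (by omega) (by omega) fun i hi1 hi2 => (hall i (by omega) hi2).2
    rw [Nat.sub_add_cancel (by omega : 1 ≤ m), hW, Bool.or_eq_true, Bool.and_eq_true] at h1
    rcases h1 with h2 | ⟨h2, -⟩
    · rw [Nat.blt_eq] at h2; omega
    · simpa using h2
  | ominus m q =>
    have hm : 4 ≤ m := hg.1
    obtain ⟨p, f, hpr, hf, rfl⟩ := (isPrimePow_nat_iff _).1 hg.2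
    have hq : 2 ≤ p ^ f := hg.2.two_le
    have hmq := ominus_mq hm he
    have hpx : p ∣ N := hp p hpr (((dvd_pow_self p (by omega)).mul_right _).trans hmq)
    obtain ⟨hp73, hsm, hchk'⟩ := chk_of hpr hf hpx fun u hu hd => hp u hu (dvd_of_mq hmq hd)
    have hall : ∀ i, 1 ≤ i → i ≤ m - 1 → f * (2 * i) ≤ 72 ∧ sm N ((p ^ f) ^ (2 * i) - 1) = true :=
      fun i hi1 hi2 => by
      have := sm_sub' hN0 hN hpr hp73 (e := f * (2 * i)) (by nlinarith only [hf, hi1]) (by
        rw [pow_mul]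
        exact fun u hu hd => hp u hu (ominus_dvd hm hq he hi1 hi2 hu hd))
      rwa [pow_mul] at this
    have hn70 : f * (2 * (m - 1)) ≤ 72 := (hall (m - 1) (by omega) le_rfl).1
    have hn35 : m - 1 ≤ 36 := by nlinarith only [hf, hn70]
    have hW : sm N ((p ^ f) ^ m + 1) = true := by
      have := sm_add' hN0 hp73 (e := f * m) (by
        have h3 : f * m ≤ f * (2 * (m - 1)) := Nat.mul_le_mul_left _ (by omega)
        omega) (by
        rw [pow_mul]
        exact fun u hu hd => hp u hu (ominus_dvd' hm hq he hu hd))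
      rwa [pow_mul] at this
    unfold chkT at hchk'
    rw [hsm] at hchk'
    simp only [Bool.not_true, Bool.false_or, Bool.and_eq_true] at hchk'
    have h1 := walk_spec 73 1 (m - 1) hchk'.1.2 (by omega) (by omega) fun i hi1 hi2 => (hall i (by omega) hi2).2
    rw [Nat.sub_add_cancel (by omega : 1 ≤ m), hW, Bool.or_eq_true, Bool.and_eq_true] at h1
    rcases h1 with h2 | ⟨-, h2⟩
    · rw [Nat.blt_eq] at h2; omega
    · simpa using h2
  | psu n q =>
    have hn : 3 ≤ n := hg.1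
    obtain ⟨p, f, hpr, hf, rfl⟩ := (isPrimePow_nat_iff _).1 hg.2.2
    have hq : 2 ≤ p ^ f := hg.2.2.two_le
    have hmq := psu_mq hn he
    have hpx : p ∣ N := hp p hpr (((dvd_pow_self p (by omega)).mul_right _).trans hmq)
    obtain ⟨hp73, hsm, hchk'⟩ := chk_of hpr hf hpx fun u hu hd => hp u hu (dvd_of_mq hmq hd)
    have hev : ∀ i, 1 ≤ i → i ≤ n → i % 2 = 0 → f * i ≤ 72 ∧ sm N ((p ^ f) ^ i - 1) = true :=
      fun i hi1 hi2 hi => by
      have := sm_sub' hN0 hN hpr hp73 (e := f * i) (by nlinarith only [hf, hi1]) (by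
        rw [pow_mul]
        refine fun u hu hd => hp u hu (psu_dvd hn he hi1 hi2 hu ?_)
        unfold vU
        rw [hi]
        exact hd)
      rwa [pow_mul] at this
    have hbig : ∀ i, 1 ≤ i → i ≤ n → f * i ≤ 72 := by
      intro i hi1 hi2
      rcases Nat.even_or_odd' i with ⟨k, hk | hk⟩
      · exact (hev i hi1 hi2 (by omega)).1
      · -- use the primitive prime of exponent `2 f i`
        by_contra hcon
        push Not at hcon
        obtain ⟨r, hr⟩ := exists_prim hpr.two_le (show 3 ≤ f * (2 * i) by linarith only [hcon])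
          (fun h => by have := h.2; linarith only [hcon, h])
        have h1 : r ∣ (p ^ f) ^ i + 1 := by
          rw [← pow_mul]
          refine hr.dvd_add (m := f * i) (by rw [show 2 * (f * i) = f * (2 * i) by ring]) ?_
          intro h2
          have := Nat.le_of_dvd (by linarith only [hcon]) h2
          linarith only [hcon, this]
        have h2 := hN r hr.prime (hp r hr.prime (psu_dvd hn he hi1 hi2 hr.prime (by
          unfold vU
          rw [show i % 2 = 1 by omega]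
          exact h1)))
        have := prim_le hr
        linarith only [hcon, h2, this]
    have hall : ∀ i, 1 ≤ i → i ≤ n → sm N (vU (p ^ f) i) = true := by
      intro i hi1 hi2
      rcases Nat.even_or_odd' i with ⟨k, hk | hk⟩
      · have h3 := (hev i hi1 hi2 (by omega)).2
        unfold vU
        rw [show i % 2 = 0 by omega]
        exact h3
      · have h4 := sm_add' hN0 hp73 (hbig i hi1 hi2) (by
          rw [pow_mul]
          refine fun u hu hd => hp u hu (psu_dvd hn he hi1 hi2 hu ?_)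
          unfold vU
          rw [show i % 2 = 1 by omega]
          exact hd)
        unfold vU
        rw [show i % 2 = 1 by omega]
        rwa [pow_mul] at h4
    have hn72 : n ≤ 72 := by have := hbig n (by omega) le_rfl; nlinarith only [hf, this]
    unfold chkT at hchk'
    rw [hsm] at hchk'
    simp only [Bool.not_true, Bool.false_or, Bool.and_eq_true] at hchk'
    have h1 := walk_spec 73 2 n hchk'.2 (by omega) (by omega) fun i hi1 hi2 => hall i (by omega) hi2
    rw [Bool.or_eq_true] at h1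
    rcases h1 with h1 | h1
    · rw [Nat.blt_eq] at h1; omega
    · exact h1
  | _ => exact hcl.elim

end

/-! ### the list -/

/-- the names with an exceptional `r`-part of the multiplier -/
def excM : List Grp := [.psl 2 4, .psl 3 2, .psl 3 4, .psl 4 2, .psu 4 2, .psu 6 2, .psp 3 2, .oplus 4 2, .g2 4, .f4 2,
  .te6 2, .psl 2 9, .psu 4 3, .oodd 3 3, .g2 3]

/-- the lower bound -/
def lb (g : Grp) : ℕ := if g ∈ excM then 0 else lsb g

/-- the names with bound at most 23, with the product of the primes -/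
def small : List (Grp × ℕ) :=
  [(.psl 2 4, 30), (.psl 2 5, 30), (.psl 2 7, 42), (.psl 2 8, 42), (.psl 2 9, 30), (.psl 2 11, 330),
    (.psl 2 13, 546), (.psl 2 16, 510), (.psl 2 17, 102), (.psl 2 19, 570), (.psl 2 23, 1518), (.psl 2 25, 390),
    (.psl 2 27, 546), (.psl 2 29, 6090), (.psl 2 31, 930), (.psl 2 32, 10230), (.psl 2 37, 4218),
    (.psl 2 41, 8610), (.psl 2 43, 19866), (.psl 2 47, 6486), (.psl 3 2, 42), (.psl 3 3, 78), (.psl 3 4, 210),
    (.psl 4 2, 210), (.psl 5 2, 6510), (.psp 2 3, 30), (.psp 2 4, 510), (.psp 2 5, 390), (.psp 3 2, 210),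
    (.psp 3 3, 2730), (.psp 4 2, 3570), (.psu 3 3, 42), (.psu 3 4, 390), (.psu 3 5, 210), (.psu 4 2, 30),
    (.psu 4 3, 210), (.psu 5 2, 330), (.psu 6 2, 2310), (.oodd 3 3, 2730), (.oplus 4 2, 210),
    (.oplus 5 2, 110670), (.ominus 4 2, 3570), (.ominus 5 2, 39270), (.ominus 6 2, 15825810), (.g2 3, 546),
    (.g2 4, 2730), (.g2 5, 6510), (.f4 2, 46410), (.te6 2, 9699690), (.td4 2, 546), (.td4 3, 39858),
    (.sz 8, 2730), (.ree 27, 383838)]

/-- the remaining pairs -/
def excP : List (Grp × Grp) := [(.g2 4, .oplus 4 3), (.psl 2 4, .psp 2 3), (.psl 2 5, .psu 4 2),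
  (.psl 2 5, .psp 2 3), (.psl 2 7, .psl 3 2), (.psl 2 7, .psu 3 3), (.psl 2 8, .psu 3 3), (.psl 2 9, .psu 4 2),
  (.psl 2 11, .psu 5 2), (.psl 3 2, .psu 3 3), (.psl 3 4, .psu 4 3), (.psl 3 4, .psp 2 7), (.psl 4 2, .psu 4 3),
  (.psl 4 2, .psp 2 7), (.psp 2 3, .psu 4 2), (.psu 4 2, .psp 2 3), (.sz 8, .oodd 3 3), (.sz 8, .oplus 4 3)]

/-- the characteristic, for the names in the list -/
def pc (g : Grp) : ℕ :=
  if fs g % 2 = 0 then 2 else if fs g % 3 = 0 then 3 else if fs g % 5 = 0 then 5 else fs g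

/-- the test -/
def tS (g gT : Grp) : Bool :=
  !(Nat.beq (ordN gT % ordN g) 0) || (Nat.blt (dimN gT) (lb g) || (Nat.beq (fq gT % pc g) 0 ||
    (decide ((g, gT) ∈ excP) || decide (gT = .psp 2 2))))

def ps73 : List ℕ := [2, 3, 5, 7, 11, 13, 17, 19, 23, 29, 31, 37, 41, 43, 47, 53, 59, 61, 67, 71, 73]

def chkS (x : Grp × ℕ) : Bool := ps73.all fun p => !(Nat.beq (x.2 % p) 0) ||
  (List.range 36).all fun j => chkT x.2 (tS x.1) (p ^ (j + 1))

set_option maxRecDepth 100000 in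
theorem chkS_ok : (small.all chkS) = true := by decide +kernel

/-- the primes of the order, primes at most 73, the field exponents -/
def auxS (x : Grp × ℕ) : Bool := Nat.beq (x.2 ^ 64 % XX x.1) 0 && (Nat.beq (x.2 % 6) 0 &&
  (Nat.beq (Nat.factorial 73 % x.2) 0 && (!(Nat.beq (fs x.1) 32) || Nat.beq (x.2 % 5) 0) && Nat.blt (fs x.1) 49))

set_option maxRecDepth 100000 in
theorem auxS_ok : (small.all auxS) = true := by decide +kernel

/-! ### the names with a small bound -/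

/-- prime powers at most 47 -/
def pps : List ℕ := [2, 3, 4, 5, 7, 8, 9, 11, 13, 16, 17, 19, 23, 25, 27, 29, 31, 32, 37, 41, 43, 47]

theorem mem_pps {s : ℕ} (hs : IsPrimePow s) (h : s ≤ 48) : s ∈ pps := by
  obtain ⟨p, k, hp, hk, rfl⟩ := (isPrimePow_nat_iff _).1 hs
  have h2 := hp.two_le
  have hk5 : k ≤ 5 := by
    by_contra hc
    have h3 : 2 ^ 6 ≤ p ^ k := (Nat.pow_le_pow_left h2 6).trans (Nat.pow_le_pow_right (by omega) (by omega))
    norm_num at h3
    omega
  have hp48 : p ≤ 48 := (Nat.le_self_pow (by omega) p).trans h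
  have key : ∀ p < 49, ∀ k < 6, (p.Prime ∧ 0 < k ∧ p ^ k ≤ 48) → p ^ k ∈ pps := by decide +kernel
  exact key p (by omega) k (by omega) ⟨hp, hk, h⟩

theorem pow_le_of {a b k : ℕ} (h : a ^ k - 1 ≤ 23) (hb : 24 < b ^ k) : a < b := by
  by_contra hc
  have := Nat.pow_le_pow_left (not_lt.1 hc) k
  omega

theorem exp_le_of {s k : ℕ} (hs : 2 ≤ s) (h : s ^ k - 1 ≤ 23) : k ≤ 4 := by
  by_contra hc
  have h1 : 2 ^ 5 ≤ s ^ k := (Nat.pow_le_pow_left hs 5).trans (Nat.pow_le_pow_right (by omega) (by omega))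
  omega

/-- membership in the list of names -/
def inS (g : Grp) : Bool := small.any fun x => decide (x.1 = g)

theorem inS_spec {g : Grp} (h : inS g = true) : ∃ N, (g, N) ∈ small := by
  unfold inS at h
  rw [List.any_eq_true] at h
  obtain ⟨x, hx, he⟩ := h
  exact ⟨x.2, by rw [← of_decide_eq_true he]; exact hx⟩

set_option maxRecDepth 100000 in
theorem inS_of {g : Grp} (hg : Cond g) (hlie : IsLieN g) (hL : lsb g ≤ 23) : inS g = true := by
  cases g with
  | psl m s =>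
    obtain ⟨h1, h2, h3⟩ := hg
    have hs2 := h3.two_le
    change (if m = 2 then (s - 1) / 2 else s ^ (m - 1) - 1) ≤ 23 at hL
    by_cases hm : m = 2
    · subst hm
      rw [if_pos rfl] at hL
      have h4 := mem_pps h3 (by omega)
      have key : ∀ s ∈ pps, 4 ≤ s → inS (.psl 2 s) = true := by decide +kernel
      exact key s h4 (h2 rfl)
    · rw [if_neg hm] at hL
      have h4 := exp_le_of hs2 hL
      have h5 : s < 5 := by
        by_contra hc
        have h6 : 5 ^ 2 ≤ s ^ (m - 1) :=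
          (Nat.pow_le_pow_left (by omega) 2).trans (Nat.pow_le_pow_right (by omega) (by omega))
        omega
      have key : ∀ m ≤ 5, ∀ s < 5, 3 ≤ m → 2 ≤ s → s ^ (m - 1) - 1 ≤ 23 → inS (.psl m s) = true := by
        decide +kernel
      exact key m (by omega) s h5 (by omega) hs2 hL
  | psp m s =>
    obtain ⟨h1, h2, h3⟩ := hg
    have hs2 := h3.two_le
    have h4 : s ^ m - 1 ≤ 47 := by
      change (if s % 2 = 1 then (s ^ m - 1) / 2 else s ^ m - 1) ≤ 23 at hL
      split_ifs at hL <;> omega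
    have hm : m ≤ 5 := by
      by_contra hc
      have h6 : 2 ^ 6 ≤ s ^ m := (Nat.pow_le_pow_left hs2 6).trans (Nat.pow_le_pow_right (by omega) (by omega))
      omega
    have hs7 : s < 7 := by
      by_contra hc
      have h6 : 7 ^ 2 ≤ s ^ m := (Nat.pow_le_pow_left (by omega) 2).trans (Nat.pow_le_pow_right (by omega) h1)
      omega
    have key : ∀ m < 6, ∀ s < 7, (2 ≤ m ∧ 2 ≤ s ∧ s ≠ 6 ∧ ¬ (m = 2 ∧ s < 3) ∧ lsb (.psp m s) ≤ 23) →
        inS (.psp m s) = true := by decide +kernel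
    refine key m (by omega) s hs7 ⟨h1, hs2, ?_, fun h => by have := h2 h.1; omega, hL⟩
    rintro rfl
    exact absurd (mem_pps h3 (by norm_num)) (by decide)
  | psu m s =>
    obtain ⟨h1, h2, h3⟩ := hg
    have hs2 := h3.two_le
    have hL' : (s - 1) * s ^ (m - 2) ≤ 23 := hL
    have h4 : s ^ (m - 2) ≤ 23 := by
      refine le_trans ?_ hL'
      exact Nat.le_mul_of_pos_left _ (by omega)
    have hm : m ≤ 6 := by
      by_contra hc
      have h6 : 2 ^ 5 ≤ s ^ (m - 2) :=
        (Nat.pow_le_pow_left hs2 5).trans (Nat.pow_le_pow_right (by omega) (by omega))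
      omega
    have hs7 : s < 6 := by
      by_contra hc
      have h6 : s ≤ s ^ (m - 2) := Nat.le_self_pow (by omega) s
      have : 5 * 6 ≤ (s - 1) * s ^ (m - 2) := Nat.mul_le_mul (by omega) (by omega)
      omega
    have key : ∀ m < 7, ∀ s < 6, (3 ≤ m ∧ 2 ≤ s ∧ ¬ (m = 3 ∧ s = 2) ∧ (s - 1) * s ^ (m - 2) ≤ 23) →
        inS (.psu m s) = true := by decide +kernel
    exact key m (by omega) s hs7 ⟨h1, hs2, h2, hL'⟩
  | oodd m s =>
    exfalso
    have hs2 := hg.2.2.two_le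
    have ho := Nat.odd_iff.1 hg.2.1
    have hs3 : 3 ≤ s := by omega
    have h1 : s ^ 3 - 1 ≤ 23 := (le_max_left _ _).trans hL
    have h2 : 3 ^ 3 ≤ s ^ 3 := Nat.pow_le_pow_left hs3 3
    omega
  | oplus m s =>
    have hs2 := hg.2.two_le
    have h1 : s ^ 3 - 1 ≤ 23 := (le_max_left _ _).trans hL
    have h2 : s ^ (m - 1) - 1 ≤ 23 := (le_max_right _ _).trans hL
    have h3 := pow_le_of (b := 3) h1 (by norm_num)
    have h4 := exp_le_of hs2 h2
    obtain rfl : s = 2 := by omega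
    have key : ∀ m ≤ 5, 4 ≤ m → inS (.oplus m 2) = true := by decide +kernel
    exact key m (by omega) hg.1
  | ominus m s =>
    have hs2 := hg.2.two_le
    have h1 : s ^ 3 - 1 ≤ 23 := (le_max_left _ _).trans hL
    have h2 : s ^ (m - 2) - 1 ≤ 23 := (le_max_right _ _).trans hL
    have h3 := pow_le_of (b := 3) h1 (by norm_num)
    have h4 := exp_le_of hs2 h2
    obtain rfl : s = 2 := by omega
    have key : ∀ m ≤ 6, 4 ≤ m → inS (.ominus m 2) = true := by decide +kernel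
    exact key m (by omega) hg.1
  | g2 s =>
    have hL' : (if s ≤ 4 then 0 else (s - 1) * s) ≤ 23 := hL
    have h6 : s < 6 := by
      by_contra hc
      rw [if_neg (by omega)] at hL'
      have : 5 * 6 ≤ (s - 1) * s := Nat.mul_le_mul (by omega) (by omega)
      omega
    have key : ∀ s < 6, 3 ≤ s → inS (.g2 s) = true := by decide +kernel
    exact key s h6 hg.1
  | f4 s =>
    have hs2 : 2 ≤ s := IsPrimePow.two_le hg
    have hL' : (if s = 2 then 0 else (s - 1) * s ^ 3) ≤ 23 := hL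
    by_cases h2 : s = 2
    · subst h2; decide +kernel
    · exfalso
      rw [if_neg h2] at hL'
      have h3 : 3 ^ 3 ≤ s ^ 3 := Nat.pow_le_pow_left (by omega) 3
      have : 1 * 27 ≤ (s - 1) * s ^ 3 := Nat.mul_le_mul (by omega) h3
      omega
  | e6 s =>
    exfalso
    have hs2 : 2 ≤ s := IsPrimePow.two_le hg
    have hL' : (s - 1) * s ^ 6 ≤ 23 := hL
    have : 1 * 2 ^ 6 ≤ (s - 1) * s ^ 6 := Nat.mul_le_mul (by omega) (Nat.pow_le_pow_left hs2 6)
    omega
  | e7 s =>
    exfalso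
    have hs2 : 2 ≤ s := IsPrimePow.two_le hg
    have hL' : (s - 1) * s ^ 7 ≤ 23 := hL
    have : 1 * 2 ^ 7 ≤ (s - 1) * s ^ 7 := Nat.mul_le_mul (by omega) (Nat.pow_le_pow_left hs2 7)
    omega
  | e8 s =>
    exfalso
    have hs2 : 2 ≤ s := IsPrimePow.two_le hg
    have hL' : (s - 1) * s ^ 7 ≤ 23 := hL
    have : 1 * 2 ^ 7 ≤ (s - 1) * s ^ 7 := Nat.mul_le_mul (by omega) (Nat.pow_le_pow_left hs2 7)
    omega
  | te6 s =>
    have hs2 : 2 ≤ s := IsPrimePow.two_le hg
    have hL' : (if s = 2 then 0 else (s - 1) * s ^ 6) ≤ 23 := hL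
    by_cases h2 : s = 2
    · subst h2; decide +kernel
    · exfalso
      rw [if_neg h2] at hL'
      have h3 : 3 ^ 6 ≤ s ^ 6 := Nat.pow_le_pow_left (by omega) 6
      have : 1 * 3 ^ 6 ≤ (s - 1) * s ^ 6 := Nat.mul_le_mul (by omega) h3
      omega
  | td4 s =>
    have hs2 : 2 ≤ s := IsPrimePow.two_le hg
    have hL' : (if s ≤ 3 then 0 else (s - 1) * s ^ 3) ≤ 23 := hL
    have h4 : s < 4 := by
      by_contra hc
      rw [if_neg (by omega)] at hL'
      have h3 : 4 ^ 3 ≤ s ^ 3 := Nat.pow_le_pow_left (by omega) 3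
      have : 1 * 4 ^ 3 ≤ (s - 1) * s ^ 3 := Nat.mul_le_mul (by omega) h3
      omega
    have key : ∀ s < 4, 2 ≤ s → inS (.td4 s) = true := by decide +kernel
    exact key s h4 hs2
  | sz s =>
    obtain ⟨m, hm, rfl⟩ := hg
    have hL' : 2 ^ (2 * m + 1) - 1 ≤ 23 := hL
    have h1 := exp_le_of le_rfl hL'
    obtain rfl : m = 1 := by omega
    decide +kernel
  | ree s =>
    obtain ⟨m, hm, rfl⟩ := hg
    have hL' : (3 ^ (2 * m + 1) - 1) / 2 ≤ 23 := hL
    have h1 : m ≤ 1 := by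
      by_contra hc
      have : 3 ^ 5 ≤ 3 ^ (2 * m + 1) := Nat.pow_le_pow_right (by norm_num) (by omega)
      omega
    obtain rfl : m = 1 := by omega
    decide +kernel
  | tf4 s =>
    exfalso
    obtain ⟨m, hm, rfl⟩ := hg
    have hL' : (2 ^ (2 * m + 1) - 1) * 2 ^ (2 * m + 1) ≤ 23 := hL
    have h1 : 2 ^ 3 ≤ 2 ^ (2 * m + 1) := Nat.pow_le_pow_right (by norm_num) (by omega)
    have : 7 * 8 ≤ (2 ^ (2 * m + 1) - 1) * 2 ^ (2 * m + 1) := Nat.mul_le_mul (by omega) h1
    omega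
  | _ => exact hlie.elim

theorem excM_small : ∀ g ∈ excM, inS g = true := by decide +kernel

theorem ps73_of {u : ℕ} (hu : u.Prime) (h : u ≤ 73) : u ∈ ps73 := by
  have key : ∀ u ≤ 73, u.Prime → u ∈ ps73 := by decide +kernel
  exact key u h hu

theorem pc_eq {g : Grp} {s f : ℕ} (hs : s.Prime) (hf : fs g = s ^ f) (h49 : fs g < 49) (hp : IsPrimePow (fs g)) :
    pc g = s := by
  have h0 : f ≠ 0 := by
    rintro rfl
    rw [pow_zero] at hf
    rw [hf] at hp
    exact absurd hp not_isPrimePow_one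
  have hsd : s ∣ fs g := by rw [hf]; exact dvd_pow_self s h0
  have hkey : ∀ x ∈ pps, ∀ s ≤ 48, s.Prime → s ∣ x →
      (if x % 2 = 0 then 2 else if x % 3 = 0 then 3 else if x % 5 = 0 then 5 else x) = s := by decide +kernel
  exact hkey (fs g) (mem_pps hp (by omega)) s ((Nat.le_of_dvd hp.pos hsd).trans (by omega)) hs hsd

/-- **Groups of Lie type in cross characteristic inside a classical group: the remaining pairs.** -/
theorem cross_num {g gT : Grp} (hg : Cond g) (hlie : IsLieN g) (hpp : IsPrimePow (fs g)) {cS : ℕ}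
    (hS : den g * cS = num g) (hcS : cS = ordN g) (hgT : Cond gT) (hcl : IsCl gT) {c : ℕ}
    (he : den gT * c = num gT) (hc : c = ordN gT) (hd : cS ∣ c) {s f : ℕ} (hs : s.Prime) (hf : fs g = s ^ f)
    (hsT : ¬ s ∣ fq gT) (h : ∀ r : ℕ, r.Prime → 5 ≤ r → r ∣ c → r ∣ cS ∨ r ∣ f) (hL : lb g ≤ dimN gT) :
    (g, gT) ∈ excP := by
  have hf0 : f ≠ 0 := by
    rintro rfl
    rw [pow_zero] at hf
    rw [hf] at hpp
    exact absurd hpp not_isPrimePow_one
  have hin : inS g = true := by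
    by_cases hM : g ∈ excM
    · exact excM_small g hM
    · refine inS_of hg hlie (large hg hlie hS hgT hcl he (f := f) ?_ hf0 h ?_)
      · rw [hf]; exact (Nat.lt_pow_self hs.one_lt).le
      · unfold lb at hL
        rwa [if_neg hM] at hL
  obtain ⟨N, hN⟩ := inS_spec hin
  have haux := auxS_ok
  rw [List.all_eq_true] at haux
  have ha := haux _ hN
  unfold auxS at ha
  simp only [Bool.and_eq_true, Bool.or_eq_true, Nat.beq_eq, Bool.not_eq_true', Nat.blt_eq] at ha
  obtain ⟨h1, h2, ⟨h3, h4⟩, h5⟩ := ha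
  have hN0 : N ≠ 0 := by
    rintro rfl
    rw [Nat.mod_zero] at h3
    exact absurd h3 (Nat.factorial_ne_zero 73)
  have hN73 : ∀ u : ℕ, u.Prime → u ∣ N → u ≤ 73 := fun u hu hd =>
    (hu.dvd_factorial).1 (hd.trans (Nat.dvd_of_mod_eq_zero h3))
  have hprimes : ∀ u : ℕ, u.Prime → u ∣ c → u ∣ N := by
    intro u hu huc
    rcases Nat.lt_or_ge u 5 with hu5 | hu5
    · have h6 : 6 ∣ N := Nat.dvd_of_mod_eq_zero h2
      have hu2 := hu.two_le
      interval_cases u
      · exact (by norm_num : 2 ∣ 6).trans h6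
      · exact (by norm_num : 3 ∣ 6).trans h6
      · exact absurd hu (by norm_num)
    · rcases h u hu hu5 huc with h6 | h6
      · have h7 := XX_dvd_card hlie hS hu h6
        exact hu.dvd_of_dvd_pow (h7.trans (Nat.dvd_of_mod_eq_zero h1))
      · have h7 : 5 ≤ f := hu5.trans (Nat.le_of_dvd (Nat.pos_of_ne_zero hf0) h6)
        have h8 : s < 3 := by
          by_contra hcc
          have : 3 ^ 5 ≤ s ^ f := (Nat.pow_le_pow_left (by omega) 5).trans (Nat.pow_le_pow_right (by omega) h7)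
          omega
        have h9 : s = 2 := by have := hs.two_le; omega
        subst h9
        have h10 : f < 6 := by
          by_contra hcc
          have : 2 ^ 6 ≤ 2 ^ f := Nat.pow_le_pow_right (by norm_num) (by omega)
          omega
        have h11 : f = 5 := by omega
        subst h11
        have h12 : u = 5 := by
          have := Nat.le_of_dvd (by norm_num) h6
          omega
        subst h12
        rcases h4 with h4 | h4
        · rw [hf] at h4
          exact absurd h4 (by decide)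
        · exact Nat.dvd_of_mod_eq_zero h4
  have hchk := chkS_ok
  rw [List.all_eq_true] at hchk
  have h6 := hchk _ hN
  unfold chkS at h6
  rw [List.all_eq_true] at h6
  have h7 := engine hN0 hN73 (t := tS g) (fun p hp73 hp hpN j hj => by
    have h8 := h6 p (ps73_of hp hp73)
    rw [Bool.or_eq_true] at h8
    rcases h8 with h8 | h8
    · rw [Nat.mod_eq_zero_of_dvd hpN] at h8
      exact absurd h8 (by decide)
    · rw [List.all_eq_true] at h8
      exact h8 j (List.mem_range.2 hj)) hgT hcl he hprimes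
  unfold tS at h7
  simp only [Bool.or_eq_true, Bool.not_eq_true', Nat.blt_eq, Nat.beq_eq, decide_eq_true_eq] at h7
  rcases h7 with h7 | h7 | h7 | h7 | h7
  · exfalso
    rw [← hc, ← hcS, Nat.mod_eq_zero_of_dvd hd] at h7
    exact absurd h7 (by decide)
  · omega
  · exfalso
    rw [pc_eq hs hf h5 hpp] at h7
    exact hsT (Nat.dvd_of_mod_eq_zero h7)
  · exact h7
  · exfalso
    subst h7
    have := hgT.2.1 rfl
    omega

end Cfsg.Agent.H884.Cx
end
end

-- part: H278/ElAltNum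
section
prune_inst 0x202404480000000000000442200000040000000000000110400402000e12600040280048000d06020010010800002810100010400000000000300000020000000e4800873c0f00080000003007180c00000000000000000000000000041000000000000
set_option linter.all false
open scoped Cfsg.Agent.FastGrp

-- part: H278/ElSieve
section
/-!
# TEAM ELUSIVE: the sieve of classical groups all of whose primes divide a given number

`okB s A D E` (to be checked by `decide +kernel`) implies: if `T` is a classical simple group (not `PSL_2`) in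
characteristic `≠ s` with name `g`, `D ∣ |T|` and every prime divisor of `|T|` divides `A`, then `g ∈ E`.
-/

set_option autoImplicit false

namespace Cfsg.Agent.H278.El.Sieve

open Cfsg.Agent.OrdDiv Cfsg.Agent.H436 Cfsg.Agent.H278.El.Num
open Cfsg.Agent.H278.El.SporNum (sm sm_of walk walk_spec prim_le IsCl)

def primes73 : List ℕ := [2, 3, 5, 7, 11, 13, 17, 19, 23, 29, 31, 37, 41, 43, 47, 53, 59, 61, 67, 71, 73]

theorem mem_primes73 {u : ℕ} (hu : u.Prime) (h : u ≤ 73) : u ∈ primes73 := by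
  have key : ∀ u ≤ 73, u.Prime → u ∈ primes73 := by decide +kernel
  exact key u h hu

/-- smoothness bounds the exponent -/
theorem exp_le {p e : ℕ} (hp : p.Prime) (h : ∀ u : ℕ, u.Prime → u ∣ p ^ e - 1 → u ≤ 73) : e ≤ 72 := by
  by_contra hcon
  push Not at hcon
  obtain ⟨r, hr⟩ := exists_prim hp.two_le (show 3 ≤ e by omega) (fun h => by omega)
  have h1 := h r hr.prime (hr.dvd dvd_rfl)
  have := prim_le hr
  omega

theorem pow_lt {p e : ℕ} (hp : p ≤ 73) (he : e ≤ 72) : p ^ e + 1 < 2 ^ 512 := by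
  have h1 : p ^ e ≤ 73 ^ e := Nat.pow_le_pow_left hp _
  have h2 : 73 ^ e ≤ 73 ^ 72 := Nat.pow_le_pow_right (by norm_num) he
  have h3 : (73 : ℕ) ^ 72 + 1 < 2 ^ 512 := by decide +kernel
  omega

/-- the field order of a classical name -/
def qOf : Grp → ℕ
  | .psl _ q => q
  | .psp _ q => q
  | .psu _ q => q
  | .oodd _ q => q
  | .oplus _ q => q
  | .ominus _ q => q
  | _ => 0

def tstG (D : ℕ) (E : List Grp) (g : Grp) : Bool := !(Nat.beq (ordN g % D) 0) || decide (g ∈ E)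

def chkG (A D : ℕ) (E : List Grp) (q : ℕ) : Bool :=
  !(sm A (q ^ 2 - 1)) ||
  (walk (fun n => q ^ n - 1) A (fun n => Nat.blt n 3 || tstG D E (.psl n q)) 73 2 &&
  walk (fun m => q ^ (2 * m) - 1) A (fun m => (Nat.blt m 2 || tstG D E (.psp m q)) &&
    (Nat.blt m 3 || Nat.beq (q % 2) 0 || tstG D E (.oodd m q))) 73 1 &&
  walk (fun i => q ^ (2 * i) - 1) A (fun i => Nat.blt i 3 ||
    ((!(sm A (q ^ (i + 1) - 1)) || tstG D E (.oplus (i + 1) q)) &&
      (!(sm A (q ^ (i + 1) + 1)) || tstG D E (.ominus (i + 1) q)))) 73 1 &&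
  walk (vU q) A (fun n => Nat.blt n 3 || tstG D E (.psu n q)) 73 2)

/-- the check: `s` is the excluded characteristic (`0`: none), `A` the allowed primes, `D` the divisor, `E` the
list of survivors -/
def okB (s A D : ℕ) (E : List Grp) : Bool :=
  (!(Nat.beq A 0) && Nat.beq (Nat.factorial 73 ^ 60 % A) 0) &&
  primes73.all fun p => Nat.beq p s || !(Nat.beq (A % p) 0) ||
    (List.range 36).all fun j => chkG A D E (p ^ (j + 1))

/-- `A` is nonzero and its prime divisors are at most `73` -/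
structure OkA (A : ℕ) : Prop where
  ne : A ≠ 0
  le : ∀ u : ℕ, u.Prime → u ∣ A → u ≤ 73

theorem ok_A {s A D : ℕ} {E : List Grp} (hok : okB s A D E = true) : OkA A := by
  unfold okB at hok
  rw [Bool.and_eq_true, Bool.and_eq_true] at hok
  refine ⟨fun h => ?_, fun u hu hd => ?_⟩
  · rw [h] at hok
    exact absurd hok.1.1 (by decide)
  · have h2 := hok.1.2
    rw [Nat.beq_eq] at h2
    have h3 : u ∣ Nat.factorial 73 ^ 60 := hd.trans (Nat.dvd_of_mod_eq_zero h2)
    exact (hu.dvd_factorial).1 (hu.dvd_of_dvd_pow h3)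

theorem le_71 {A : ℕ} (h : OkA A) {u : ℕ} (hu : u.Prime) (hd : u ∣ A) : u ≤ 73 := h.le u hu hd

section

variable {A p f : ℕ}

theorem sm_sub (hA : OkA A) (hp : p.Prime) (hp71 : p ≤ 73) {e : ℕ} (he : 1 ≤ e)
    (h : ∀ u : ℕ, u.Prime → u ∣ p ^ e - 1 → u ∣ A) : e ≤ 72 ∧ sm A (p ^ e - 1) = true := by
  have h70 : e ≤ 72 := exp_le hp fun u hu hd => hA.le u hu (h u hu hd)
  refine ⟨h70, sm_of hA.ne ?_ ?_ h⟩
  · have : 2 ^ 1 ≤ p ^ e := (Nat.pow_le_pow_left hp.two_le 1).trans (Nat.pow_le_pow_right hp.pos he)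
    omega
  · have := pow_lt hp71 h70
    omega

theorem sm_add (hA : OkA A) (hp71 : p ≤ 73) {e : ℕ} (he : e ≤ 72)
    (h : ∀ u : ℕ, u.Prime → u ∣ p ^ e + 1 → u ∣ A) : sm A (p ^ e + 1) = true :=
  sm_of hA.ne (by omega) (pow_lt hp71 he) h

end

/-- the checks for `q = p ^ f` -/
theorem chk_of {s A D : ℕ} {E : List Grp} (hok : okB s A D E = true) {p f : ℕ} (hp : p.Prime) (hf : 1 ≤ f)
    (hpA : p ∣ A) (hps : p ≠ s)
    (h : ∀ u : ℕ, u.Prime → u ∣ (p ^ f) ^ 2 - 1 → u ∣ A) :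
    p ≤ 73 ∧ sm A ((p ^ f) ^ 2 - 1) = true ∧ chkG A D E (p ^ f) = true := by
  have hA := ok_A hok
  have hp71 := hA.le p hp hpA
  have h1 := sm_sub hA hp hp71 (e := f * 2) (by omega) (by rw [pow_mul]; exact h)
  unfold okB at hok
  rw [Bool.and_eq_true, List.all_eq_true] at hok
  have h4 := hok.2 p (mem_primes73 hp hp71)
  rw [Bool.or_eq_true, Bool.or_eq_true] at h4
  refine ⟨hp71, by rw [← pow_mul]; exact h1.2, ?_⟩
  rcases h4 with (h4 | h4) | h4
  · rw [Nat.beq_eq] at h4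
    exact absurd h4 hps
  · rw [Nat.mod_eq_zero_of_dvd hpA] at h4
    exact absurd h4 (by decide)
  · rw [List.all_eq_true] at h4
    have h5 := h4 (f - 1) (by rw [List.mem_range]; omega)
    rwa [Nat.sub_add_cancel hf] at h5

theorem tst_spec {D : ℕ} {E : List Grp} {g : Grp} (h : tstG D E g = true) (hd : D ∣ ordN g) : g ∈ E := by
  unfold tstG at h
  rw [Bool.or_eq_true] at h
  rcases h with h | h
  · rw [Nat.mod_eq_zero_of_dvd hd] at h
    exact absurd h (by decide)
  · exact of_decide_eq_true h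

/-- **The sieve.** -/
theorem main {s A D : ℕ} {E : List Grp} (hok : okB s A D E = true) {g : Grp} (hg : Cond g) (hcl : IsCl g)
    (hs : ¬ s ∣ qOf g) {c : ℕ} (he : den g * c = num g) (hc : c = ordN g) (hd : D ∣ c)
    (hp : ∀ u : ℕ, u.Prime → u ∣ c → u ∣ A) : g ∈ E := by
  cases g with
  | psl n q =>
    have hn : 3 ≤ n := hcl
    obtain ⟨p, f, hpr, hf, rfl⟩ := (isPrimePow_nat_iff _).1 hg.2.2
    have hq : 2 ≤ p ^ f := hg.2.2.two_le
    have hmq := psl_mq hn hq he
    have hpA : p ∣ A := hp p hpr (((dvd_pow_self p (by omega)).mul_right _).trans hmq)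
    obtain ⟨hp71, hsm, hchk⟩ := chk_of hok hpr hf hpA (fun h => hs (h ▸ dvd_pow_self p (by omega))) fun u hu hd => hp u hu (dvd_of_mq hmq hd)
    have hall : ∀ i, 1 ≤ i → i ≤ n → f * i ≤ 72 ∧ sm A ((p ^ f) ^ i - 1) = true := fun i hi1 hi2 => by
      have := sm_sub (ok_A hok) hpr hp71 (e := f * i) (by nlinarith only [hf, hi1]) (by
        rw [pow_mul]
        exact fun u hu hd => hp u hu (psl_dvd hn hq he hi2 hu hd hi1))
      rwa [pow_mul] at this
    have hn70 : n ≤ 72 := by have := (hall n (by omega) le_rfl).1; nlinarith only [hf, this]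
    unfold chkG at hchk
    rw [hsm] at hchk
    simp only [Bool.not_true, Bool.false_or, Bool.and_eq_true] at hchk
    have h1 := walk_spec 73 2 n hchk.1.1.1 (by omega) (by omega) fun i hi1 hi2 => (hall i (by omega) hi2).2
    rw [Bool.or_eq_true] at h1
    rcases h1 with h1 | h1
    · rw [Nat.blt_eq] at h1; omega
    · exact tst_spec h1 (hc ▸ hd)
  | psp m q =>
    have hm : 2 ≤ m := hg.1
    obtain ⟨p, f, hpr, hf, rfl⟩ := (isPrimePow_nat_iff _).1 hg.2.2
    have hq : 2 ≤ p ^ f := hg.2.2.two_le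
    have hmq := psp_mq hm he
    have hpA : p ∣ A := hp p hpr (((dvd_pow_self p (by omega)).mul_right _).trans hmq)
    obtain ⟨hp71, hsm, hchk⟩ := chk_of hok hpr hf hpA (fun h => hs (h ▸ dvd_pow_self p (by omega))) fun u hu hd => hp u hu (dvd_of_mq hmq hd)
    have hall : ∀ i, 1 ≤ i → i ≤ m → f * (2 * i) ≤ 72 ∧ sm A ((p ^ f) ^ (2 * i) - 1) = true :=
      fun i hi1 hi2 => by
      have := sm_sub (ok_A hok) hpr hp71 (e := f * (2 * i)) (by nlinarith only [hf, hi1]) (by
        rw [pow_mul]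
        exact fun u hu hd => hp u hu (psp_dvd hm he hi1 hi2 hu hd))
      rwa [pow_mul] at this
    have hn70 : m ≤ 36 := by have := (hall m (by omega) le_rfl).1; nlinarith only [hf, this]
    unfold chkG at hchk
    rw [hsm] at hchk
    simp only [Bool.not_true, Bool.false_or, Bool.and_eq_true] at hchk
    have h1 := walk_spec 73 1 m hchk.1.1.2 (by omega) (by omega) fun i hi1 hi2 => (hall i (by omega) hi2).2
    rw [Bool.and_eq_true] at h1
    have h2 := h1.1
    rw [Bool.or_eq_true] at h2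
    rcases h2 with h2 | h2
    · rw [Nat.blt_eq] at h2; omega
    · exact tst_spec h2 (hc ▸ hd)
  | oodd m q =>
    have hm : 3 ≤ m := hg.1
    obtain ⟨p, f, hpr, hf, rfl⟩ := (isPrimePow_nat_iff _).1 hg.2.2
    have hq : 2 ≤ p ^ f := hg.2.2.two_le
    have hmq := oodd_mq (by omega) hg.2.1 he
    have hpA : p ∣ A := hp p hpr (((dvd_pow_self p (by omega)).mul_right _).trans hmq)
    obtain ⟨hp71, hsm, hchk⟩ := chk_of hok hpr hf hpA (fun h => hs (h ▸ dvd_pow_self p (by omega))) fun u hu hd => hp u hu (dvd_of_mq hmq hd)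
    have hall : ∀ i, 1 ≤ i → i ≤ m → f * (2 * i) ≤ 72 ∧ sm A ((p ^ f) ^ (2 * i) - 1) = true :=
      fun i hi1 hi2 => by
      have := sm_sub (ok_A hok) hpr hp71 (e := f * (2 * i)) (by nlinarith only [hf, hi1]) (by
        rw [pow_mul]
        exact fun u hu hd => hp u hu (oodd_dvd hm hg.2.1 he hi1 hi2 hu hd))
      rwa [pow_mul] at this
    have hn70 : m ≤ 36 := by have := (hall m (by omega) le_rfl).1; nlinarith only [hf, this]
    unfold chkG at hchk
    rw [hsm] at hchk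
    simp only [Bool.not_true, Bool.false_or, Bool.and_eq_true] at hchk
    have h1 := walk_spec 73 1 m hchk.1.1.2 (by omega) (by omega) fun i hi1 hi2 => (hall i (by omega) hi2).2
    rw [Bool.and_eq_true] at h1
    have h2 := h1.2
    rw [Bool.or_eq_true, Bool.or_eq_true] at h2
    rcases h2 with (h2 | h2) | h2
    · rw [Nat.blt_eq] at h2; omega
    · rw [Nat.beq_eq] at h2
      have := Nat.odd_iff.1 hg.2.1
      omega
    · exact tst_spec h2 (hc ▸ hd)
  | oplus m q =>
    have hm : 4 ≤ m := hg.1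
    obtain ⟨p, f, hpr, hf, rfl⟩ := (isPrimePow_nat_iff _).1 hg.2
    have hq : 2 ≤ p ^ f := hg.2.two_le
    have hmq := oplus_mq hm he
    have hpA : p ∣ A := hp p hpr (((dvd_pow_self p (by omega)).mul_right _).trans hmq)
    obtain ⟨hp71, hsm, hchk⟩ := chk_of hok hpr hf hpA (fun h => hs (h ▸ dvd_pow_self p (by omega))) fun u hu hd => hp u hu (dvd_of_mq hmq hd)
    have hall : ∀ i, 1 ≤ i → i ≤ m - 1 → f * (2 * i) ≤ 72 ∧ sm A ((p ^ f) ^ (2 * i) - 1) = true :=
      fun i hi1 hi2 => by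
      have := sm_sub (ok_A hok) hpr hp71 (e := f * (2 * i)) (by nlinarith only [hf, hi1]) (by
        rw [pow_mul]
        exact fun u hu hd => hp u hu (oplus_dvd hm hq he hi1 hi2 hu hd))
      rwa [pow_mul] at this
    have hn70 : m - 1 ≤ 36 := by have := (hall (m - 1) (by omega) le_rfl).1; nlinarith only [hf, this]
    have hW : sm A ((p ^ f) ^ m - 1) = true := by
      have := (sm_sub (ok_A hok) hpr hp71 (e := f * m) (by nlinarith only [hm, hf]) (by
        rw [pow_mul]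
        exact fun u hu hd => hp u hu (oplus_dvd' hm hq he hu hd))).2
      rwa [pow_mul] at this
    unfold chkG at hchk
    rw [hsm] at hchk
    simp only [Bool.not_true, Bool.false_or, Bool.and_eq_true] at hchk
    have h1 := walk_spec 73 1 (m - 1) hchk.1.2 (by omega) (by omega) fun i hi1 hi2 => (hall i (by omega) hi2).2
    rw [Nat.sub_add_cancel (by omega : 1 ≤ m), hW, Bool.or_eq_true, Bool.and_eq_true] at h1
    rcases h1 with h2 | ⟨h2, -⟩
    · rw [Nat.blt_eq] at h2; omega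
    · exact tst_spec (by simpa using h2) (hc ▸ hd)
  | ominus m q =>
    have hm : 4 ≤ m := hg.1
    obtain ⟨p, f, hpr, hf, rfl⟩ := (isPrimePow_nat_iff _).1 hg.2
    have hq : 2 ≤ p ^ f := hg.2.two_le
    have hmq := ominus_mq hm he
    have hpA : p ∣ A := hp p hpr (((dvd_pow_self p (by omega)).mul_right _).trans hmq)
    obtain ⟨hp71, hsm, hchk⟩ := chk_of hok hpr hf hpA (fun h => hs (h ▸ dvd_pow_self p (by omega))) fun u hu hd => hp u hu (dvd_of_mq hmq hd)
    have hall : ∀ i, 1 ≤ i → i ≤ m - 1 → f * (2 * i) ≤ 72 ∧ sm A ((p ^ f) ^ (2 * i) - 1) = true :=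
      fun i hi1 hi2 => by
      have := sm_sub (ok_A hok) hpr hp71 (e := f * (2 * i)) (by nlinarith only [hf, hi1]) (by
        rw [pow_mul]
        exact fun u hu hd => hp u hu (ominus_dvd hm hq he hi1 hi2 hu hd))
      rwa [pow_mul] at this
    have hn70 : f * (2 * (m - 1)) ≤ 72 := (hall (m - 1) (by omega) le_rfl).1
    have hn35 : m - 1 ≤ 36 := by nlinarith only [hf, hn70]
    have hW : sm A ((p ^ f) ^ m + 1) = true := by
      have := sm_add (ok_A hok) hp71 (e := f * m) (by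
        have h3 : f * m ≤ f * (2 * (m - 1)) := Nat.mul_le_mul_left _ (by omega)
        omega) (by
        rw [pow_mul]
        exact fun u hu hd => hp u hu (ominus_dvd' hm hq he hu hd))
      rwa [pow_mul] at this
    unfold chkG at hchk
    rw [hsm] at hchk
    simp only [Bool.not_true, Bool.false_or, Bool.and_eq_true] at hchk
    have h1 := walk_spec 73 1 (m - 1) hchk.1.2 (by omega) (by omega) fun i hi1 hi2 => (hall i (by omega) hi2).2
    rw [Nat.sub_add_cancel (by omega : 1 ≤ m), hW, Bool.or_eq_true, Bool.and_eq_true] at h1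
    rcases h1 with h2 | ⟨-, h2⟩
    · rw [Nat.blt_eq] at h2; omega
    · exact tst_spec (by simpa using h2) (hc ▸ hd)
  | psu n q =>
    have hn : 3 ≤ n := hg.1
    obtain ⟨p, f, hpr, hf, rfl⟩ := (isPrimePow_nat_iff _).1 hg.2.2
    have hq : 2 ≤ p ^ f := hg.2.2.two_le
    have hmq := psu_mq hn he
    have hpA : p ∣ A := hp p hpr (((dvd_pow_self p (by omega)).mul_right _).trans hmq)
    obtain ⟨hp71, hsm, hchk⟩ := chk_of hok hpr hf hpA (fun h => hs (h ▸ dvd_pow_self p (by omega))) fun u hu hd => hp u hu (dvd_of_mq hmq hd)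
    have hev : ∀ i, 1 ≤ i → i ≤ n → i % 2 = 0 → f * i ≤ 72 ∧ sm A ((p ^ f) ^ i - 1) = true :=
      fun i hi1 hi2 hi => by
      have := sm_sub (ok_A hok) hpr hp71 (e := f * i) (by nlinarith only [hf, hi1]) (by
        rw [pow_mul]
        refine fun u hu hd => hp u hu (psu_dvd hn he hi1 hi2 hu ?_)
        unfold vU
        rw [hi]
        exact hd)
      rwa [pow_mul] at this
    have hbig : ∀ i, 1 ≤ i → i ≤ n → f * i ≤ 72 := by
      intro i hi1 hi2
      rcases Nat.even_or_odd' i with ⟨k, hk | hk⟩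
      · exact (hev i hi1 hi2 (by omega)).1
      · -- use the primitive prime of exponent `2 f i`
        by_contra hcon
        push Not at hcon
        obtain ⟨r, hr⟩ := exists_prim hpr.two_le (show 3 ≤ f * (2 * i) by linarith only [hcon])
          (fun h => by have := h.2; linarith only [hcon, h])
        have h1 : r ∣ (p ^ f) ^ i + 1 := by
          rw [← pow_mul]
          refine hr.dvd_add (m := f * i) (by rw [show 2 * (f * i) = f * (2 * i) by ring]) ?_
          intro h2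
          have := Nat.le_of_dvd (by linarith only [hcon]) h2
          linarith only [hcon, this]
        have h2 := le_71 (ok_A hok) hr.prime (hp r hr.prime (psu_dvd hn he hi1 hi2 hr.prime (by
          unfold vU
          rw [show i % 2 = 1 by omega]
          exact h1)))
        have := prim_le hr
        linarith only [hcon, h2, this]
    have hall : ∀ i, 1 ≤ i → i ≤ n → sm A (vU (p ^ f) i) = true := by
      intro i hi1 hi2
      rcases Nat.even_or_odd' i with ⟨k, hk | hk⟩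
      · have h3 := (hev i hi1 hi2 (by omega)).2
        unfold vU
        rw [show i % 2 = 0 by omega]
        exact h3
      · have h4 := sm_add (ok_A hok) hp71 (hbig i hi1 hi2) (by
          rw [pow_mul]
          refine fun u hu hd => hp u hu (psu_dvd hn he hi1 hi2 hu ?_)
          unfold vU
          rw [show i % 2 = 1 by omega]
          exact hd)
        unfold vU
        rw [show i % 2 = 1 by omega]
        rwa [pow_mul] at h4
    have hn70 : n ≤ 72 := by have := hbig n (by omega) le_rfl; nlinarith only [hf, this]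
    unfold chkG at hchk
    rw [hsm] at hchk
    simp only [Bool.not_true, Bool.false_or, Bool.and_eq_true] at hchk
    have h1 := walk_spec 73 2 n hchk.2 (by omega) (by omega) fun i hi1 hi2 => hall i (by omega) hi2
    rw [Bool.or_eq_true] at h1
    rcases h1 with h1 | h1
    · rw [Nat.blt_eq] at h1; omega
    · exact tst_spec h1 (hc ▸ hd)
  | _ => exact hcl.elim

end Cfsg.Agent.H278.El.Sieve
end

-- part: H278/ElAltNum
section
/-!
# TEAM ELUSIVE: alternating groups inside classical groups, by orders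

If `T` is a classical simple group of natural dimension `N` (not `PSL_2`) all of whose primes are `≤ m`, where
`5 ≤ m ≤ 10`, or `11 ≤ m ≤ N + 2`, and `m! / 2 ∣ |T|`, then `T` is in a short list (and `m ≤ 10`).
-/

set_option autoImplicit false

namespace Cfsg.Agent.H278.El.AltNum

open Cfsg.Agent.OrdDiv Cfsg.Agent.H436 Cfsg.Agent.H278.El.Num
open Cfsg.Agent.H278.El.SporNum (IsCl prim_le)
open Cfsg.Agent.H278.El.Sieve

/-- the dimension of the natural module -/
def dimOf : Grp → ℕ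
  | .psl n _ => n
  | .psp m _ => 2 * m
  | .psu n _ => n
  | .oodd m _ => 2 * m + 1
  | .oplus m _ => 2 * m
  | .ominus m _ => 2 * m
  | _ => 0

theorem prim_dvd {q e r : ℕ} (h : Prim q e r) : e ∣ r - 1 := by
  have hc : Nat.Coprime q r := ((Nat.Prime.coprime_iff_not_dvd h.prime).2 h.not_dvd).symm
  have h2 := Nat.ModEq.pow_totient hc
  rw [Nat.totient_prime h.prime] at h2
  rcases Nat.eq_zero_or_pos q with rfl | hq
  · exact absurd (dvd_zero r) h.not_dvd
  · exact (h.dvd_iff _).1 ((Nat.modEq_iff_dvd' (Nat.one_le_pow _ _ hq)).1 h2.symm)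

theorem prim_eq {q e r m : ℕ} (h : Prim q e r) (hr : r ≤ m) (hm : m ≤ 2 * e) : r = e + 1 := by
  obtain ⟨k, hk⟩ := prim_dvd h
  have h2 := h.prime.two_le
  have h3 : k = 1 := by
    rcases Nat.lt_or_ge k 2 with h4 | h4
    · rcases Nat.eq_zero_or_pos k with rfl | h5
      · omega
      · omega
    · have : e * 2 ≤ e * k := Nat.mul_le_mul_left _ h4
      omega
  subst h3
  omega

/-- an exponent `e` with `3 ∣ e + 1` cannot be used -/
theorem no_three {q e m : ℕ} (hq : 2 ≤ q) (he : 6 ≤ e) (h3 : 3 ∣ e + 1) (hm : m ≤ 2 * e)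
    (h : ∀ r, Prim q e r → r ≤ m) : False := by
  obtain ⟨r, hr⟩ := exists_prim hq (show 3 ≤ e by omega) (fun h => by omega)
  have h1 := prim_eq hr (h r hr) hm
  rw [← h1] at h3
  have := (Nat.prime_dvd_prime_iff_eq Nat.prime_three hr.prime).1 h3
  omega

/-- an odd exponent cannot be used -/
theorem no_odd {q e m : ℕ} (hq : 2 ≤ q) (he : 3 ≤ e) (h2 : e % 2 = 1) (hm : m ≤ 2 * e)
    (h : ∀ r, Prim q e r → r ≤ m) : False := by
  obtain ⟨r, hr⟩ := exists_prim hq he (fun h => by omega)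
  have h1 := prim_eq hr (h r hr) hm
  have h3 : 2 ∣ r := by omega
  have := (Nat.prime_dvd_prime_iff_eq Nat.prime_two hr.prime).1 h3
  omega

theorem three_cases (k : ℕ) (hk : 3 ≤ k) : 3 ∣ 2 * k + 1 ∨ 3 ∣ 2 * (k - 1) + 1 ∨ 3 ∣ 2 * (k - 2) + 1 := by
  obtain ⟨j, rfl⟩ : ∃ j, k = j + 3 := ⟨k - 3, by omega⟩
  rw [show j + 3 - 1 = j + 2 by omega, show j + 3 - 2 = j + 1 by omega]
  have h : j % 3 = 0 ∨ j % 3 = 1 ∨ j % 3 = 2 := by omega
  rcases h with h | h | h
  · exact .inr (.inr (by omega))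
  · exact .inl (by omega)
  · exact .inr (.inl (by omega))

/-- **Large degree.** -/
theorem alt_big {m : ℕ} {g : Grp} (hg : Cond g) (hcl : IsCl g) {c : ℕ} (he : den g * c = num g)
    (hp : ∀ u : ℕ, u.Prime → u ∣ c → u ≤ m) (hm : 11 ≤ m) (hN : m ≤ dimOf g + 2) : False := by
  cases g with
  | psl n q =>
    have hN : m ≤ n + 2 := hN
    have hq : 2 ≤ q := hg.2.2.two_le
    have key : ∀ i, 1 ≤ i → i ≤ n → ∀ r, Prim q i r → r ≤ m := fun i h1 h2 r hr =>
      hp r hr.prime (psl_dvd (by omega) hq he h2 hr.prime (hr.dvd dvd_rfl) h1)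
    rcases Nat.even_or_odd' n with ⟨k, hk | hk⟩
    · exact no_odd hq (e := n - 1) (by omega) (by omega) (by omega) (key _ (by omega) (by omega))
    · exact no_odd hq (e := n) (by omega) (by omega) (by omega) (key _ (by omega) (by omega))
  | psp k q =>
    have hN : m ≤ 2 * k + 2 := hN
    have hq : 2 ≤ q := hg.2.2.two_le
    have key : ∀ i, 1 ≤ i → i ≤ k → ∀ r, Prim q (2 * i) r → r ≤ m := fun i h1 h2 r hr =>
      hp r hr.prime (psp_dvd (by omega) he h1 h2 hr.prime (hr.dvd dvd_rfl))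
    rcases three_cases k (by omega) with h | h | h
    · exact no_three hq (by omega) h (by omega) (key _ (by omega) (by omega))
    · exact no_three hq (by omega) h (by (clear * - hm hN; omega)) (key _ (by omega) (by omega))
    · exact no_three hq (by omega) h (by (clear * - hm hN; omega)) (key _ (by omega) (by omega))
  | oodd k q =>
    have hN : m ≤ 2 * k + 1 + 2 := hN
    have hq : 2 ≤ q := hg.2.2.two_le
    have key : ∀ i, 1 ≤ i → i ≤ k → ∀ r, Prim q (2 * i) r → r ≤ m := fun i h1 h2 r hr =>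
      hp r hr.prime (oodd_dvd (by omega) hg.2.1 he h1 h2 hr.prime (hr.dvd dvd_rfl))
    rcases three_cases k (by omega) with h | h | h
    · exact no_three hq (by omega) h (by omega) (key _ (by omega) (by omega))
    · exact no_three hq (by omega) h (by (clear * - hm hN; omega)) (key _ (by omega) (by omega))
    · exact no_three hq (by omega) h (by omega) (key _ (by omega) (by omega))
  | oplus k q =>
    have hN : m ≤ 2 * k + 2 := hN
    have hq : 2 ≤ q := hg.2.two_le
    have key : ∀ i, 1 ≤ i → i ≤ k - 1 → ∀ r, Prim q (2 * i) r → r ≤ m := fun i h1 h2 r hr =>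
      hp r hr.prime (oplus_dvd hg.1 hq he h1 h2 hr.prime (hr.dvd dvd_rfl))
    rcases three_cases (k - 1) (by omega) with h | h | h
    · exact no_three hq (by omega) h (by (clear * - hm hN; omega)) (key _ (by omega) (by omega))
    · exact no_three hq (by omega) h (by (clear * - hm hN; omega)) (key _ (by omega) (by omega))
    · exact no_three hq (by omega) h (by omega) (key _ (by omega) (by omega))
  | ominus k q =>
    have hN : m ≤ 2 * k + 2 := hN
    have hq : 2 ≤ q := hg.2.two_le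
    have key : ∀ i, 1 ≤ i → i ≤ k - 1 → ∀ r, Prim q (2 * i) r → r ≤ m := fun i h1 h2 r hr =>
      hp r hr.prime (ominus_dvd hg.1 hq he h1 h2 hr.prime (hr.dvd dvd_rfl))
    rcases three_cases k (by omega) with h | h | h
    · refine no_three (m := m) hq (by omega) h (by omega) fun r hr => ?_
      refine hp r hr.prime (ominus_dvd' hg.1 hq he hr.prime (hr.dvd_add (m := k) dvd_rfl ?_))
      intro h2
      have := Nat.le_of_dvd (by omega) h2
      omega
    · exact no_three hq (by omega) h (by (clear * - hm hN; omega)) (key _ (by omega) (by omega))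
    · exact no_three hq (by omega) h (by omega) (key _ (by omega) (by omega))
  | psu n q =>
    have hN : m ≤ n + 2 := hN
    have hq : 2 ≤ q := hg.2.2.two_le
    obtain ⟨e, he1, he2, he3⟩ : ∃ e, e % 2 = 1 ∧ e ≤ n ∧ n ≤ e + 1 := by
      rcases Nat.even_or_odd' n with ⟨k, hk | hk⟩
      · exact ⟨n - 1, by omega, by omega, by omega⟩
      · exact ⟨n, by omega, le_rfl, by omega⟩
    obtain ⟨r, hr⟩ := exists_prim hq (show 3 ≤ 2 * e by omega) (fun h => by omega)
    have h1 : r ∣ c := by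
      refine psu_dvd (by omega) he (show 1 ≤ e by omega) he2 hr.prime ?_
      unfold vU
      rw [he1]
      exact hr.dvd_add (m := e) dvd_rfl fun h2 => by
        have := Nat.le_of_dvd (by omega) h2
        omega
    have h2 := hp r hr.prime h1
    have h3 := prim_le hr
    omega
  | _ => exact hcl.elim

/-- the survivors -/
def surv : List Grp := [.psl 4 2, .psl 3 4, .psp 2 2, .psp 2 3, .psp 2 7, .psp 3 2, .oplus 4 2, .psu 3 5, .psu 4 2,
  .psu 4 3]

set_option maxRecDepth 100000 in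
theorem ok_surv : okB 0 210 60 surv = true := by decide +kernel

/-- **Alternating groups inside classical groups.** -/
theorem alt_main {m : ℕ} {g : Grp} (hg : Cond g) (hcl : IsCl g) {c : ℕ} (he : den g * c = num g)
    (hc : c = ordN g) (hp : ∀ u : ℕ, u.Prime → u ∣ c → u ≤ m) (h60 : 60 ∣ c)
    (hN : 9 ≤ m → m ≤ dimOf g + 2) : g ∈ surv := by
  rcases Nat.lt_or_ge m 11 with hm | hm
  · refine Sieve.main ok_surv hg hcl ?_ he hc h60 fun u hu hd => ?_
    · rw [zero_dvd_iff]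
      have : ∀ q : ℕ, IsPrimePow q → q ≠ 0 := fun q h => h.pos.ne'
      cases g with
      | psl n q => exact this q hg.2.2
      | psp n q => exact this q hg.2.2
      | psu n q => exact this q hg.2.2
      | oodd n q => exact this q hg.2.2
      | oplus n q => exact this q hg.2
      | ominus n q => exact this q hg.2
      | _ => exact hcl.elim
    · have key : ∀ u ≤ 10, u.Prime → u ∣ 210 := by decide
      exact key u ((hp u hu hd).trans (by omega)) hu
  · exact (alt_big hg hcl he hp hm (hN (by omega))).elim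

end Cfsg.Agent.H278.El.AltNum
end
end

-- part: H884/CxBd
section
set_option linter.all false
open scoped Cfsg.Agent.FastGrp

/-!
# TEAM ELUSIVE, cross characteristic: the lower bounds `lb g ≤ n`
-/

set_option autoImplicit false

namespace Cfsg.Agent.H884.Cx

open Cfsg Cfsg.Agent.OrdDiv Cfsg.Agent.H436 Cfsg.Agent.H927.SgX Cfsg.Agent.H912.Bd Cfsg.Agent.H915.GN
open Cfsg.Agent

universe u v w

theorem mk_ker_le {G : Type*} [Group G] {T : Type*} [Group T] (e : T ≃* G ⧸ Subgroup.center G) :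
    (e.symm.toMonoidHom.comp (QuotientGroup.mk' (Subgroup.center G))).ker ≤ Subgroup.center G := by
  intro x hx
  have h1 : e.symm (QuotientGroup.mk' (Subgroup.center G) x) = 1 := hx
  rw [MulEquiv.map_eq_one_iff] at h1
  exact (QuotientGroup.eq_one_iff x).1 h1

/-- the classical names -/
def IsClN : Grp → Prop
  | .psl _ _ => True
  | .psp _ _ => True
  | .psu _ _ => True
  | .oodd _ _ => True
  | .oplus _ _ => True
  | .ominus _ _ => True
  | _ => False

variable {r : ℕ} {T : Type v} [Group T]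

theorem dvd_of_char {K : Type} [Field K] [Fintype K] {q f : ℕ} (_hr : r.Prime) (hK : Fintype.card K = q)
    (hq : q = r ^ f) : r ∣ q := by
  rw [hq]
  refine dvd_pow_self r ?_
  rintro rfl
  rw [pow_zero] at hq
  rw [hq] at hK
  have := Fintype.one_lt_card (α := K)
  omega

/-- the multiplier of a group of Lie type has order prime to `r`, by name -/
theorem noR_name {g : Grp} (hg : Cond g) (hcl : IsClN g) (hM : g ∉ excM) (hr : r.Prime) (hch : HasChar r g)
    (hreal : Real g T) : NoR.{u} r T := by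
  cases g with
  | psl m q =>
    obtain ⟨K, _, _, hK, ⟨e⟩⟩ := hreal
    obtain ⟨f, hf⟩ := hch
    have hd := dvd_of_char hr hK hf
    have hexc : (m, Fintype.card K) ∉ ({(2, 4), (2, 9), (3, 2), (3, 4), (4, 2)} : Set (ℕ × ℕ)) := by
      rw [hK]
      intro h
      simp only [Set.mem_insert_iff, Set.mem_singleton_iff, Prod.mk.injEq] at h
      apply hM
      rcases h with ⟨rfl, rfl⟩ | ⟨rfl, rfl⟩ | ⟨rfl, rfl⟩ | ⟨rfl, rfl⟩ | ⟨rfl, rfl⟩ <;> decide
    exact (NoR.of_cyclic (S2086.result (F := K) rfl m hg.1 (fun h => by rw [hK]; exact hg.2.1 h) hexc)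
      (coprime_gcd_sub hr Fintype.card_pos (by rw [hK]; exact hd))).congr e
  | psp m q =>
    obtain ⟨K, _, _, hK, ⟨e⟩⟩ := hreal
    obtain ⟨f, hf⟩ := hch
    have hd := dvd_of_char hr hK hf
    have hexc : ¬ (m = 3 ∧ Fintype.card K = 2) := by
      rw [hK]
      rintro ⟨rfl, rfl⟩
      exact hM (by decide)
    exact (NoR.of_cyclic (S2092.result (F := K) rfl m hg.1 (fun h => by rw [hK]; exact hg.2.1 h) hexc)
      (coprime_gcd_sub hr Fintype.card_pos (by rw [hK]; exact hd))).congr e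
  | psu m q =>
    obtain ⟨K, _, _, hK, ⟨e⟩⟩ := hreal
    obtain ⟨f, hf⟩ := hch
    have hd : r ∣ q := by
      have h1 : r ∣ q ^ 2 := dvd_of_char hr hK (f := f * 2) (by rw [hf, ← pow_mul])
      exact hr.dvd_of_dvd_pow h1
    have hexc : (m, q) ∉ ({(4, 2), (4, 3), (6, 2)} : Set (ℕ × ℕ)) := by
      intro h
      simp only [Set.mem_insert_iff, Set.mem_singleton_iff, Prod.mk.injEq] at h
      apply hM
      rcases h with ⟨rfl, rfl⟩ | ⟨rfl, rfl⟩ | ⟨rfl, rfl⟩ <;> decide
    exact (NoR.of_cyclic (S2089.result (F := K) m q hK hg.1 hg.2.1 hexc) (coprime_gcd_add hr hd)).congr e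
  | oodd m q =>
    obtain ⟨K, _, _, hK, ⟨e⟩⟩ := hreal
    obtain ⟨f, hf⟩ := hch
    have hd := dvd_of_char hr hK hf
    have hexc : ¬ (m = 3 ∧ Fintype.card K = 3) := by
      rw [hK]
      rintro ⟨rfl, rfl⟩
      exact hM (by decide)
    have hodd : Odd (Fintype.card K) := by rw [hK]; exact hg.2.1
    refine (NoR.of_cyclic (S2094.result (F := K) rfl hodd m hg.1 hexc) ?_).congr e
    rw [Nat.coprime_two_left]
    exact Odd.of_dvd_nat hodd (by rw [hK]; exact hd)
  | oplus m q =>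
    obtain ⟨K, _, _, hK, ⟨e⟩⟩ := hreal
    obtain ⟨f, hf⟩ := hch
    have hd : r ∣ Fintype.card K := by rw [hK]; exact dvd_of_char hr hK hf
    have hm : 4 ≤ m := hg.1
    have hdm : r ∣ Fintype.card K ^ m := dvd_pow hd (by omega)
    have hpos : 0 < Fintype.card K ^ m := pow_pos Fintype.card_pos _
    rcases Nat.even_or_odd m with hev | hod
    · have hexc : ¬ (m = 4 ∧ Fintype.card K = 2) := by
        rw [hK]
        rintro ⟨rfl, rfl⟩
        exact hM (by decide)
      refine (NoR.of_mult (S2097.result (F := K) rfl m hm hev hexc) ?_).congr e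
      rw [Nat.card_congr Multiplicative.toAdd, Nat.card_prod, Nat.card_zmod]
      have h1 : (Nat.gcd 2 (Fintype.card K ^ m - 1)).Coprime r := coprime_gcd_sub hr hpos hdm
      exact Nat.Coprime.mul_left h1 h1
    · have h5 : 5 ≤ m := by
        by_contra hcon
        have h4 : m = 4 := by omega
        rw [h4] at hod
        exact absurd hod (by decide)
      exact (NoR.of_cyclic (S2096.result (F := K) rfl m h5 hod) (coprime_gcd_sub hr hpos hdm)).congr e
  | ominus m q =>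
    obtain ⟨K, _, _, a, b, hK, hab, ⟨e⟩⟩ := hreal
    obtain ⟨f, hf⟩ := hch
    have hd : r ∣ Fintype.card K := by rw [hK]; exact dvd_of_char hr hK hf
    have hm : 4 ≤ m := hg.1
    have hdm : r ∣ Fintype.card K ^ m := dvd_pow hd (by omega)
    exact (NoR.of_cyclic (S2099.result (F := K) rfl m hm a b hab) (coprime_gcd_add hr hdm)).congr e
  | _ => exact hcl.elim

/-- the bound for the classical names -/
theorem le_of_pr {g : Grp} (hg : Cond g) (hcl : IsClN g) (hr : r.Prime) (hch : HasChar r g)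
    (hreal : Real g T) {F : Type u} [Field F] (hrF : (r : F) ≠ 0) {n : ℕ} (h : PR F n r T) : lsb g ≤ n := by
  cases g with
  | psl m q =>
    obtain ⟨K, _, _, hK, ⟨e⟩⟩ := hreal
    obtain ⟨f, hf⟩ := hch
    have := charP_of hr hK hf
    change (if m = 2 then (q - 1) / 2 else q ^ (m - 1) - 1) ≤ n
    split_ifs with hm
    · subst hm
      have h1 := H203.BdSL2.bd_of_sl2 hr hK hrF
        (e.symm.toMonoidHom.comp (QuotientGroup.mk' _)) (mk_ker_le e) n h
      refine le_trans ?_ h1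
      exact Nat.div_le_div_left (Nat.gcd_le_left _ (by norm_num)) (Nat.gcd_pos_of_pos_left _ (by norm_num))
    · have h1 := (bd_psl (F := F) hr hrF (m := m) (by have := hg.1; omega) (K := K) inferInstance).congr e n h
      rwa [hK] at h1
  | psp m q =>
    obtain ⟨K, _, _, hK, ⟨e⟩⟩ := hreal
    obtain ⟨f, hf⟩ := hch
    have := charP_of hr hK hf
    have hd := dvd_of_char hr hK hf
    have hm : 2 ≤ m := hg.1
    change (if q % 2 = 1 then (q ^ m - 1) / 2 else q ^ m - 1) ≤ n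
    split_ifs with ho
    · exact H175.BdSp.bd_psp (F := F) hr hK (by omega) hrF e n h
    · have hr2 : r = 2 := by
        have h2 : 2 ∣ q := Nat.dvd_of_mod_eq_zero (by omega)
        rw [hf] at h2
        exact ((Nat.prime_dvd_prime_iff_eq Nat.prime_two hr).1 (Nat.prime_two.dvd_of_dvd_pow h2)).symm
      subst hr2
      exact H175.BdSp.bd_psp_even (F := F) hK (by omega) (by exact_mod_cast hrF) e n h
  | psu m q =>
    obtain ⟨K, _, _, hK, ⟨e⟩⟩ := hreal
    obtain ⟨f, hf⟩ := hch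
    have := charP_of hr hK (f := f * 2) (by rw [hf, ← pow_mul])
    exact H175.BdSU.bd_psu (F := F) hr hK hg.1 hrF e n h
  | oodd m q =>
    obtain ⟨K, _, _, hK, ⟨e⟩⟩ := hreal
    obtain ⟨f, hf⟩ := hch
    have hc := charP_of hr hK hf
    have h1 := (bd_pomega_odd_cube (F := F) hr hrF hc hg.1).congr e n h
    have h2 := (bd_pomega_odd_sl (F := F) hr hrF hc hg.1).congr e n h
    rw [hK] at h1 h2
    exact max_le h1 h2
  | oplus m q =>
    obtain ⟨K, _, _, hK, ⟨e⟩⟩ := hreal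
    obtain ⟨f, hf⟩ := hch
    have hc := charP_of hr hK hf
    have hm : 4 ≤ m := hg.1
    have h1 := (bd_pomega_plus_cube (F := F) hr hrF hc (m := m) (by omega)).congr e n h
    have h2 := (bd_pomega_plus_sl (F := F) hr hrF hc (m := m) (by omega)).congr e n h
    rw [hK] at h1 h2
    exact max_le h1 h2
  | ominus m q =>
    obtain ⟨K, _, _, a, b, hK, hab, ⟨e⟩⟩ := hreal
    obtain ⟨f, hf⟩ := hch
    have hc := charP_of hr hK hf
    have hm : 4 ≤ m := hg.1
    have h1 := (bd_pomega_minus_cube (F := F) hr hrF hc (m := m - 1) (by omega) a b).congr e n h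
    have h2 := (bd_pomega_minus_sl (F := F) hr hrF hc (m := m - 1) (by omega) a b).congr e n h
    rw [hK] at h1 h2
    rw [show m - 1 - 1 = m - 2 by omega] at h2
    exact max_le h1 h2
  | _ => exact hcl.elim

/-- **The lower bound.** -/
theorem lb_le {g : Grp} (hg : Cond g) (hr : r.Prime) (hch : HasChar r g) [IsSimpleGroup T]
    (hna : ∃ x y : T, x * y ≠ y * x) (hreal : Real g T) {F : Type u} [Field F] [Finite F] (hrF : (r : F) ≠ 0)
    {n : ℕ} (P : Subgroup (Matrix.GeneralLinearGroup (Fin n) F)) (hP : ⁅P, P⁆ = P)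
    (e : (P ⧸ (Cfsg.Geo.scalars (Fin n) F).subgroupOf P) ≃* T) : lb g ≤ n := by
  unfold lb
  split_ifs with hM
  · exact Nat.zero_le _
  · by_cases hcl : IsClN g
    · exact le_of_pr hg hcl hr hch hreal hrF (PR.of_noR (noR_name hg hcl hM hr hch hreal) P hP e)
    · have hexc : IsExcN g := by
        have := isLieN_of_hasChar hch
        cases g <;> first | exact trivial | exact absurd trivial hcl | exact this.elim
      refine exc_le hexc hg hna hreal hr hch hrF (L := P)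
        (e.toMonoidHom.comp (QuotientGroup.mk' ((Cfsg.Geo.scalars (Fin n) F).subgroupOf P)))
        (e.surjective.comp (QuotientGroup.mk'_surjective _)) ?_
      rw [ker_comp_mk]
      intro x hx
      rw [Subgroup.mem_center_iff]
      intro y
      exact (Subtype.ext (scalars_central (Subgroup.mem_subgroupOf.1 hx) y)).symm

end Cfsg.Agent.H884.Cx
end

-- part: H884/CxMain
section
set_option linter.all false
open scoped Cfsg.Agent.FastGrp

/-!
# TEAM ELUSIVE, cross characteristic: the row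

`cross_row`: `T` a classical simple group (not `PSL_2`) in characteristic `p`, `R ≤ T` almost simple with socle `S`,
`S` the quotient of a perfect `P ≤ GL(ι, F)` by its scalars, `|ι|` the dimension of `T`, `S` of Lie type in
characteristic `s ≠ p`: some prime divisor of `|T|` does not divide `|R|`, or `(S, T)` is in the list `excP`.
-/

set_option autoImplicit false

namespace Cfsg.Agent.H884.Cx

open Cfsg Cfsg.Agent.OrdDiv Cfsg.Agent.H436 Cfsg.Agent.H927.SgX Cfsg.Agent.H915.GN Cfsg.Agent.H264.FKS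
open Cfsg.Agent.H278.El.SporNum (IsCl)
open Cfsg.Agent.H278.El.AltNum (dimOf)
open Cfsg.Agent

universe u v w

theorem dimN_eq (g : Grp) : dimN g = dimOf g := by cases g <;> rfl

theorem fs_eq (g : Grp) : fs g = fld g := by cases g <;> rfl

theorem fs_pp {g : Grp} (hg : Cond g) (hlie : IsLieN g) : IsPrimePow (fs g) := by
  cases g with
  | psl m q => exact hg.2.2
  | psp m q => exact hg.2.2
  | psu m q => exact hg.2.2
  | oodd m q => exact hg.2.2
  | oplus m q => exact hg.2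
  | ominus m q => exact hg.2
  | g2 q => exact hg.2
  | f4 q => exact hg
  | e6 q => exact hg
  | e7 q => exact hg
  | e8 q => exact hg
  | te6 q => exact hg
  | td4 q => exact hg
  | sz q =>
    obtain ⟨m, hm, rfl⟩ := hg
    exact Nat.prime_two.isPrimePow.pow (by omega)
  | ree q =>
    obtain ⟨m, hm, rfl⟩ := hg
    exact Nat.prime_three.isPrimePow.pow (by omega)
  | tf4 q =>
    obtain ⟨m, hm, rfl⟩ := hg
    exact Nat.prime_two.isPrimePow.pow (by omega)
  | _ => exact hlie.elim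

theorem fs_char {g : Grp} {s : ℕ} (h : HasChar s g) : ∃ f, fs g = s ^ f := by
  cases g <;> first | exact h | exact h.elim

theorem fq_char {g : Grp} {s : ℕ} (hcl : IsCl g) (h : HasChar s g) : ∃ f, fq g = s ^ f := by
  cases g <;> first | exact h | exact hcl.elim

/-- a prime `r ≥ 5` of `|Out S|` divides `|S|` or the field exponent -/
theorem dvd_of_out' {g : Grp} {s : ℕ} {S : Type u} [Group S] [Finite S] [IsSimpleGroup S]
    (hna : ¬ ∀ a b : S, a * b = b * a) (hs : s.Prime) (hn : IsNamed g S) (hch : HasChar s g) {r : ℕ} (hr : r.Prime)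
    (h5 : 5 ≤ r) (h : r ∣ Nat.card (Cfsg.Out S)) :
    r ∣ Nat.card S ∨ ∀ f, fs g = s ^ f → r ∣ f := by
  obtain ⟨X, f₁, h1, h2, h3⟩ := exists_lie hs hn hch
  obtain ⟨k, h4, h6, -⟩ := H364.OutLie.card_out hna h1 hn.real h2
  rw [h4] at h
  rcases hr.dvd_mul.1 h with h7 | h7
  · left
    rcases hr.dvd_mul.1 (h7.trans h6) with h8 | h8
    · exfalso
      have h9 : r ∣ 2 ^ 3 * 3 := h8
      rcases hr.dvd_mul.1 h9 with h10 | h10
      · have := Nat.le_of_dvd (by norm_num) (hr.dvd_of_dvd_pow h10)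
        omega
      · have := Nat.le_of_dvd (by norm_num) h10
        omega
    · exact dvd_of_dd hr h5 h2 h8
  · right
    intro f hf
    have h8 : s ^ f = s ^ f₁ := by rw [← hf, fs_eq, h3]
    rw [Nat.pow_right_injective hs.two_le h8]
    exact h7

/-! ### reindexing -/

section reindex

variable {ι : Type} [Fintype ι] [DecidableEq ι] {F : Type u} [Field F]

/-- `GL(ι, F) ≃* GL_n(F)` -/
noncomputable def toFin (ι : Type) [Fintype ι] [DecidableEq ι] (F : Type u) [Field F] :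
    GL ι F ≃* GL (Fin (Fintype.card ι)) F :=
  Units.mapEquiv (Matrix.reindexAlgEquiv F F (Fintype.equivFin ι)).toMulEquiv

theorem toFin_scalar (x : GL ι F) :
    toFin ι F x ∈ Geo.scalars (Fin (Fintype.card ι)) F ↔ x ∈ Geo.scalars ι F := by
  rw [Geo.mem_scalars_iff, Geo.mem_scalars_iff]
  have h1 : ∀ c : Fˣ, Matrix.reindexAlgEquiv F F (Fintype.equivFin ι) ((c : F) • (1 : Matrix ι ι F)) = (c : F) • 1 := by
    intro c
    rw [map_smul, map_one]
  have h2 : ((toFin ι F x : GL (Fin (Fintype.card ι)) F) : Matrix _ _ F)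
      = Matrix.reindexAlgEquiv F F (Fintype.equivFin ι) (x : Matrix ι ι F) := rfl
  constructor
  · rintro ⟨c, hc⟩
    refine ⟨c, (Matrix.reindexAlgEquiv F F (Fintype.equivFin ι)).injective ?_⟩
    rw [h1, ← hc, h2]
  · rintro ⟨c, hc⟩
    exact ⟨c, by rw [h2, hc, h1]⟩

theorem perfect_map {P : Subgroup (GL ι F)} (hP : ⁅P, P⁆ = P) :
    ⁅P.map (toFin ι F).toMonoidHom, P.map (toFin ι F).toMonoidHom⁆ = P.map (toFin ι F).toMonoidHom := by
  rw [← Subgroup.map_commutator, hP]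

theorem exists_quot {P : Subgroup (GL ι F)} :
    Nonempty ((P.map (toFin ι F).toMonoidHom ⧸
      (Geo.scalars (Fin (Fintype.card ι)) F).subgroupOf (P.map (toFin ι F).toMonoidHom)) ≃*
        P ⧸ (Geo.scalars ι F).subgroupOf P) := by
  let e : P ≃* P.map (toFin ι F).toMonoidHom := P.equivMapOfInjective _ (toFin ι F).injective
  refine ⟨(QuotientGroup.congr ((Geo.scalars ι F).subgroupOf P) _ e ?_).symm⟩
  ext y
  constructor
  · rintro ⟨x, hx, rfl⟩
    rw [Subgroup.mem_subgroupOf]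
    exact (toFin_scalar _).2 (Subgroup.mem_subgroupOf.1 hx)
  · intro hy
    obtain ⟨x, rfl⟩ := e.surjective y
    refine ⟨x, ?_, rfl⟩
    exact Subgroup.mem_subgroupOf.2 ((toFin_scalar _).1 (Subgroup.mem_subgroupOf.1 hy))

end reindex

variable {T : Type} [Group T] [Finite T] {gT : Grp} {R : Subgroup T}

/-- **The cross characteristic row.** -/
theorem cross_row {p : ℕ} (hp : p.Prime) (hT : IsNamed gT T) (hcl : IsCl gT) (hchT : HasChar p gT)
    {ι : Type} [Fintype ι] [DecidableEq ι] {F : Type} [Field F] [Finite F] [CharP F p]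
    (hcard : Fintype.card ι = dimOf gT) (S : Subgroup R) [S.Normal] [IsSimpleGroup S]
    (hna : ¬ IsMulCommutative S) (hC : Subgroup.centralizer (S : Set R) = ⊥) {P : Subgroup (GL ι F)}
    (hP : ⁅P, P⁆ = P) (e : S ≃* P ⧸ (Geo.scalars ι F).subgroupOf P) {s : ℕ} {g : Grp} (hs : s.Prime)
    (hsp : s ≠ p) (hS : IsNamed g S) (hch : HasChar s g) :
    (∃ r : ℕ, r.Prime ∧ r ∣ Nat.card T ∧ ¬ r ∣ Nat.card R) ∨ (g, gT) ∈ excP := by
  by_contra hcon
  rw [not_or] at hcon
  obtain ⟨hmiss, hexc⟩ := hcon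
  apply hexc
  have hlie := isLieN_of_hasChar hch
  have hna' := not_comm hna
  obtain ⟨f, hf⟩ := fs_char hch
  refine cross_num hS.cond hlie (fs_pp hS.cond hlie) hS.eq hS.ord hT.cond hcl hT.eq hT.ord ?_ hs hf ?_ ?_ ?_
  · exact (Subgroup.card_subgroup_dvd_card S).trans (Subgroup.card_subgroup_dvd_card R)
  · intro hd
    obtain ⟨k, hk⟩ := fq_char hcl hchT
    rw [hk] at hd
    exact hsp ((Nat.prime_dvd_prime_iff_eq hs hp).1 (hs.dvd_of_dvd_pow hd))
  · intro r hr h5 hd
    have h1 : r ∣ Nat.card R := by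
      by_contra h
      exact hmiss ⟨r, hr, hd, h⟩
    have h2 := h1.trans (dvd_aut S hC)
    rw [← H934.OutB.card_out_mul S hna] at h2
    rcases hr.dvd_mul.1 h2 with h3 | h3
    · rcases dvd_of_out' hna' hs hS hch hr h5 h3 with h4 | h4
      · exact .inl h4
      · exact .inr (h4 f hf)
    · exact .inl h3
  · rw [dimN_eq, ← hcard]
    obtain ⟨e2⟩ := exists_quot (P := P)
    have hex : ∃ x y : S, x * y ≠ y * x := by
      by_contra h
      push Not at h
      exact hna' h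
    refine lb_le hS.cond hs hch hex hS.real ?_ (P.map (toFin ι F).toMonoidHom) (perfect_map hP) (e2.trans e.symm)
    intro h0
    have h1 : p ∣ s := (CharP.cast_eq_zero_iff F p s).1 h0
    exact hsp ((Nat.prime_dvd_prime_iff_eq hp hs).1 h1).symm

end Cfsg.Agent.H884.Cx
end

-- part: H278/ElCrossIface
section
set_option linter.all false
open scoped Cfsg.Agent.FastGrp

-- part: H278/ElCrossNum
section
/-!
# TEAM ELUSIVE: cross characteristic, small Landazuri-Seitz bound, by orders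

`crossList` : all names `g` of groups of Lie type with `lsb g ≤ 36`, with the characteristic `s`, the field exponent,
and the list of the classical names (not `PSL_2`) in characteristic `≠ s` of groups `T` with `|g| ∣ |T|` and
`π(T) ⊆ π(6 f |g|)`.
-/

set_option autoImplicit false

namespace Cfsg.Agent.H278.El.CrossNum

open Cfsg.Agent.OrdDiv Cfsg.Agent.H436 Cfsg.Agent.H278.El.Num
open Cfsg.Agent.H278.El.SporNum (IsCl prim_le)
open Cfsg.Agent.H278.El.Sieve

/-- an entry -/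
structure Ent where
  g : Grp
  s : ℕ
  f : ℕ
  E : List Grp

/-- part 1 of the list -/
def list0 : List Ent := [
  ⟨.psl 2 4, 2, 2, [.psp 2 3]⟩,
  ⟨.psl 2 5, 5, 1, [.psp 2 2, .psp 2 3, .psu 4 2]⟩,
  ⟨.psl 2 7, 7, 1, [.psl 3 2, .psu 3 3]⟩,
  ⟨.psl 2 8, 2, 3, [.psu 3 3]⟩,
  ⟨.psl 2 9, 3, 2, [.psp 2 2, .psu 4 2]⟩,
  ⟨.psl 2 11, 11, 1, [.psu 5 2]⟩,
  ⟨.psl 2 13, 13, 1, []⟩,
  ⟨.psl 2 16, 2, 4, []⟩,
  ⟨.psl 2 17, 17, 1, []⟩,
  ⟨.psl 2 19, 19, 1, []⟩,
  ⟨.psl 2 23, 23, 1, []⟩,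
  ⟨.psl 2 25, 5, 2, [.psu 3 4]⟩,
  ⟨.psl 2 27, 3, 3, []⟩]

/-- part 2 of the list -/
def list1 : List Ent := [
  ⟨.psl 2 29, 29, 1, []⟩,
  ⟨.psl 2 31, 31, 1, [.psl 3 5]⟩,
  ⟨.psl 2 32, 2, 5, []⟩,
  ⟨.psl 2 37, 37, 1, []⟩,
  ⟨.psl 2 41, 41, 1, []⟩,
  ⟨.psl 2 43, 43, 1, []⟩,
  ⟨.psl 2 47, 47, 1, []⟩,
  ⟨.psl 2 49, 7, 2, []⟩,
  ⟨.psl 2 53, 53, 1, []⟩,
  ⟨.psl 2 59, 59, 1, []⟩,
  ⟨.psl 2 61, 61, 1, []⟩,
  ⟨.psl 2 64, 2, 6, [.oodd 3 3, .oplus 4 3, .psl 3 9, .psp 3 3, .psu 4 5]⟩,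
  ⟨.psl 2 67, 67, 1, []⟩]

/-- part 3 of the list -/
def list2 : List Ent := [
  ⟨.psl 2 71, 71, 1, []⟩,
  ⟨.psl 2 73, 73, 1, []⟩,
  ⟨.psl 3 2, 2, 1, [.psu 3 3]⟩,
  ⟨.psl 3 3, 3, 1, []⟩,
  ⟨.psl 3 4, 2, 2, [.psp 2 7, .psu 4 3]⟩,
  ⟨.psl 3 5, 5, 1, []⟩,
  ⟨.psl 4 2, 2, 1, [.psp 2 7, .psu 4 3]⟩,
  ⟨.psl 4 3, 3, 1, []⟩,
  ⟨.psl 5 2, 2, 1, []⟩,
  ⟨.psl 6 2, 2, 1, []⟩,
  ⟨.psp 2 3, 3, 1, [.psu 4 2]⟩,
  ⟨.psp 2 4, 2, 2, []⟩,
  ⟨.psp 2 5, 5, 1, []⟩]

/-- part 4 of the list -/
def list3 : List Ent := [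
  ⟨.psp 2 7, 7, 1, []⟩,
  ⟨.psp 3 2, 2, 1, []⟩,
  ⟨.psp 3 3, 3, 1, []⟩,
  ⟨.psp 4 2, 2, 1, []⟩,
  ⟨.psp 5 2, 2, 1, []⟩,
  ⟨.psu 3 3, 3, 1, []⟩,
  ⟨.oodd 3 3, 3, 1, []⟩,
  ⟨.psu 3 4, 2, 2, [.psp 2 5]⟩,
  ⟨.psu 3 5, 5, 1, []⟩,
  ⟨.psu 4 2, 2, 1, [.psp 2 3]⟩,
  ⟨.psu 4 3, 3, 1, []⟩,
  ⟨.oodd 4 3, 3, 1, []⟩,
  ⟨.psu 5 2, 2, 1, []⟩]

/-- part 5 of the list -/
def list4 : List Ent := [
  ⟨.psu 6 2, 2, 1, []⟩,
  ⟨.psu 7 2, 2, 1, []⟩,
  ⟨.oplus 4 2, 2, 1, []⟩,
  ⟨.ominus 4 2, 2, 1, []⟩,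
  ⟨.oplus 4 3, 3, 1, []⟩,
  ⟨.ominus 4 3, 3, 1, []⟩,
  ⟨.oplus 5 2, 2, 1, []⟩,
  ⟨.ominus 5 2, 2, 1, []⟩,
  ⟨.ominus 5 3, 3, 1, []⟩,
  ⟨.oplus 6 2, 2, 1, []⟩,
  ⟨.ominus 6 2, 2, 1, []⟩,
  ⟨.ominus 7 2, 2, 1, []⟩,
  ⟨.g2 3, 3, 1, []⟩]

/-- part 6 of the list -/
def list5 : List Ent := [
  ⟨.g2 4, 2, 2, [.oplus 4 3]⟩,
  ⟨.g2 5, 5, 1, []⟩,
  ⟨.td4 2, 2, 1, []⟩,
  ⟨.te6 2, 2, 1, []⟩,
  ⟨.f4 2, 2, 1, []⟩,
  ⟨.td4 3, 3, 1, []⟩,
  ⟨.sz 8, 2, 3, [.oodd 3 3, .oplus 4 3, .psl 3 9, .psp 3 3, .psu 4 5]⟩,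
  ⟨.ree 27, 3, 3, []⟩,
  ⟨.sz 32, 2, 5, []⟩]

/-- the list -/
def crossList : List Ent := list0 ++ list1 ++ list2 ++ list3 ++ list4 ++ list5

open Cfsg.Agent.H927.SgX (lsb IsLieN)

/-- the prime powers up to `74` -/
def ppl : List ℕ := [2, 3, 4, 5, 7, 8, 9, 11, 13, 16, 17, 19, 23, 25, 27, 29, 31, 32, 37, 41, 43, 47, 49, 53, 59, 61,
  64, 67, 71, 73]

theorem ppl_key : (primes73.all fun p => (List.range 7).all fun k => Nat.beq k 0 || Nat.blt 74 (p ^ k) ||
    decide (p ^ k ∈ ppl)) = true := by decide +kernel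

theorem pp_le {s : ℕ} (h : IsPrimePow s) (hs : s ≤ 74) : s ∈ ppl := by
  obtain ⟨p, k, hp, hk, rfl⟩ := (isPrimePow_nat_iff s).1 h
  have h1 : p ≤ 74 := (Nat.le_self_pow hk.ne' p).trans hs
  have h2 : k ≤ 6 := by
    by_contra hcon
    push Not at hcon
    have h3 : 2 ^ 7 ≤ p ^ k := (Nat.pow_le_pow_left hp.two_le 7).trans (Nat.pow_le_pow_right hp.pos hcon)
    omega
  have h0 := ppl_key
  rw [List.all_eq_true] at h0
  have h74 : p ≤ 73 := by
    have : p ≠ 74 := by rintro rfl; exact absurd hp (by norm_num)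
    omega
  have h3 := h0 p (mem_primes73 hp h74)
  rw [List.all_eq_true] at h3
  have h4 := h3 k (List.mem_range.2 (by omega))
  rw [Bool.or_eq_true, Bool.or_eq_true, Nat.beq_eq, Nat.blt_eq] at h4
  rcases h4 with (h4 | h4) | h4
  · omega
  · omega
  · exact of_decide_eq_true h4

/-- the names in the list -/
def inList (g : Grp) : Bool := crossList.any fun x => decide (x.g = g)

theorem of_inList {g : Grp} (h : inList g = true) : ∃ x ∈ crossList, x.g = g := by
  unfold inList at h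
  rw [List.any_eq_true] at h
  obtain ⟨x, hx, h1⟩ := h
  exact ⟨x, hx, of_decide_eq_true h1⟩

theorem exp_lt {s k a : ℕ} (hs : 2 ≤ s) (h : s ^ k ≤ a) (ha : a < 128) : k ≤ 6 := by
  by_contra hcon
  push Not at hcon
  have h1 : 2 ^ 7 ≤ s ^ k := (Nat.pow_le_pow_left hs 7).trans (Nat.pow_le_pow_right (by omega) hcon)
  omega

theorem le_of_pow {s k a : ℕ} (hs : 2 ≤ s) (hk : 1 ≤ k) (h : s ^ k ≤ a) : s ≤ a :=
  (Nat.le_self_pow (by omega) s).trans h

/-- the check for the names with two parameters -/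
def chk2 (fam : ℕ → ℕ → Grp) (ex : ℕ → ℕ → Bool) : Bool := (List.range 12).all fun m => ppl.all fun s =>
  Nat.blt m 2 || ex m s || Nat.blt 36 (lsb (fam m s)) || inList (fam m s)

theorem of_chk2 {fam : ℕ → ℕ → Grp} {ex : ℕ → ℕ → Bool} (h : chk2 fam ex = true) {m s : ℕ} (hm : 2 ≤ m) (hm2 : m ≤ 11)
    (hs : IsPrimePow s) (hs2 : s ≤ 74) (he : ex m s = false) (hl : lsb (fam m s) ≤ 36) : inList (fam m s) = true := by
  unfold chk2 at h
  rw [List.all_eq_true] at h
  have h1 := h m (List.mem_range.2 (by omega))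
  rw [List.all_eq_true] at h1
  have h2 := h1 s (pp_le hs hs2)
  rw [Bool.or_eq_true, Bool.or_eq_true, Bool.or_eq_true, Nat.blt_eq, Nat.blt_eq, he] at h2
  rcases h2 with ((h2 | h2) | h2) | h2
  · omega
  · exact absurd h2 (by decide)
  · omega
  · exact h2

def chk1 (fam : ℕ → Grp) (ex : ℕ → Bool) : Bool := ppl.all fun s =>
  ex s || Nat.blt 36 (lsb (fam s)) || inList (fam s)

theorem of_chk1 {fam : ℕ → Grp} {ex : ℕ → Bool} (h : chk1 fam ex = true) {s : ℕ}
    (hs : IsPrimePow s) (hs2 : s ≤ 74) (he : ex s = false) (hl : lsb (fam s) ≤ 36) : inList (fam s) = true := by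
  unfold chk1 at h
  rw [List.all_eq_true] at h
  have h2 := h s (pp_le hs hs2)
  rw [Bool.or_eq_true, Bool.or_eq_true, Nat.blt_eq, he] at h2
  rcases h2 with (h2 | h2) | h2
  · exact absurd h2 (by decide)
  · omega
  · exact h2

theorem c_psl : chk2 .psl (fun m s => Nat.beq m 2 && Nat.blt s 4) = true := by decide +kernel
theorem c_psp : chk2 .psp (fun m s => Nat.beq m 2 && Nat.blt s 3) = true := by decide +kernel
theorem c_psu : chk2 .psu (fun m s => Nat.blt m 3 || (Nat.beq m 3 && Nat.beq s 2)) = true := by decide +kernel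
theorem c_oodd : chk2 .oodd (fun m s => Nat.blt m 3 || Nat.beq (s % 2) 0) = true := by decide +kernel
theorem c_oplus : chk2 .oplus (fun m _ => Nat.blt m 4) = true := by decide +kernel
theorem c_ominus : chk2 .ominus (fun m _ => Nat.blt m 4) = true := by decide +kernel
theorem c_g2 : chk1 .g2 (fun s => Nat.blt s 3) = true := by decide +kernel
theorem c_f4 : chk1 .f4 (fun _ => false) = true := by decide +kernel
theorem c_e6 : chk1 .e6 (fun _ => false) = true := by decide +kernel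
theorem c_e7 : chk1 .e7 (fun _ => false) = true := by decide +kernel
theorem c_e8 : chk1 .e8 (fun _ => false) = true := by decide +kernel
theorem c_te6 : chk1 .te6 (fun _ => false) = true := by decide +kernel
theorem c_td4 : chk1 .td4 (fun _ => false) = true := by decide +kernel

theorem sub_le_pow {s k j : ℕ} (hs : 2 ≤ s) (hj : 1 ≤ j) (h : (s - 1) * s ^ j ≤ k) : s ^ j ≤ k ∧ s ≤ k + 1 := by
  have h1 : 1 * s ^ j ≤ (s - 1) * s ^ j := Nat.mul_le_mul_right _ (by omega)
  rw [one_mul] at h1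
  exact ⟨h1.trans h, (Nat.le_self_pow (by omega) s).trans ((h1.trans h).trans (Nat.le_succ k))⟩

/-- **All names with small Landazuri-Seitz bound are in the list.** -/
theorem cross_mem {g : Grp} (hg : Cond g) (hlie : IsLieN g) (hl : lsb g ≤ 36) : ∃ x ∈ crossList, x.g = g := by
  apply of_inList
  cases g with
  | psl m s =>
    obtain ⟨h1, h2, h3⟩ := hg
    have hs2 := h3.two_le
    have hl' : (if m = 2 then (s - 1) / 2 else s ^ (m - 1) - 1) ≤ 36 := hl
    by_cases hm : m = 2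
    · subst hm
      rw [if_pos rfl] at hl'
      have h5 := h2 rfl
      refine of_chk2 c_psl le_rfl (by norm_num) h3 (by omega) ?_ hl
      have : Nat.blt s 4 = false := by
        rw [Bool.eq_false_iff, Ne, Nat.blt_eq]; omega
      simp [this]
    · rw [if_neg hm] at hl'
      have h6 : s ^ (m - 1) ≤ 37 := by omega
      have h7 := exp_lt hs2 h6 (by norm_num)
      have h8 := le_of_pow hs2 (show 1 ≤ m - 1 by omega) h6
      refine of_chk2 c_psl h1 (by omega) h3 (by omega) ?_ hl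
      have : Nat.beq m 2 = false := by
        rw [Bool.eq_false_iff, Ne, Nat.beq_eq]; exact hm
      simp [this]
  | psp m s =>
    obtain ⟨h1, h2, h3⟩ := hg
    have hs2 := h3.two_le
    have hl' : (if s % 2 = 1 then (s ^ m - 1) / 2 else s ^ m - 1) ≤ 36 := hl
    have h6 : s ^ m ≤ 74 := by split_ifs at hl' <;> omega
    have h7 := exp_lt hs2 h6 (by norm_num)
    have h8 := le_of_pow hs2 (show 1 ≤ m by omega) h6
    refine of_chk2 c_psp h1 (by omega) h3 (by omega) ?_ hl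
    by_cases hm : m = 2
    · have := h2 hm
      have : Nat.blt s 3 = false := by
        rw [Bool.eq_false_iff, Ne, Nat.blt_eq]; omega
      simp [this]
    · have : Nat.beq m 2 = false := by
        rw [Bool.eq_false_iff, Ne, Nat.beq_eq]; exact hm
      simp [this]
  | psu m s =>
    obtain ⟨h1, h2, h3⟩ := hg
    have hs2 := h3.two_le
    have hl' : (s - 1) * s ^ (m - 2) ≤ 36 := hl
    obtain ⟨h6, h8⟩ := sub_le_pow hs2 (by omega) hl'
    have h7 := exp_lt hs2 h6 (by norm_num)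
    refine of_chk2 c_psu (by omega) (by omega) h3 (by omega) ?_ hl
    have h9 : Nat.blt m 3 = false := by
      rw [Bool.eq_false_iff, Ne, Nat.blt_eq]; omega
    have h10 : (Nat.beq m 3 && Nat.beq s 2) = false := by
      rw [Bool.eq_false_iff, Ne, Bool.and_eq_true, Nat.beq_eq, Nat.beq_eq]; exact h2
    simp [h9, h10]
  | oodd m s =>
    obtain ⟨h1, h2, h3⟩ := hg
    have hs2 := h3.two_le
    have hl' : max (s ^ 3 - 1) (s ^ (m - 1) - 1) ≤ 36 := hl
    rw [max_le_iff] at hl'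
    have h6 : s ^ (m - 1) ≤ 37 := by omega
    have h7 := exp_lt hs2 h6 (by norm_num)
    have h8 := le_of_pow hs2 (show 1 ≤ m - 1 by omega) h6
    refine of_chk2 c_oodd (by omega) (by omega) h3 (by omega) ?_ hl
    have h9 : Nat.blt m 3 = false := by
      rw [Bool.eq_false_iff, Ne, Nat.blt_eq]; omega
    have h10 : Nat.beq (s % 2) 0 = false := by
      rw [Bool.eq_false_iff, Ne, Nat.beq_eq]
      have := Nat.odd_iff.1 h2
      omega
    simp [h9, h10]
  | oplus m s =>
    obtain ⟨h1, h3⟩ := hg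
    have hs2 := h3.two_le
    have hl' : max (s ^ 3 - 1) (s ^ (m - 1) - 1) ≤ 36 := hl
    rw [max_le_iff] at hl'
    have h6 : s ^ (m - 1) ≤ 37 := by omega
    have h7 := exp_lt hs2 h6 (by norm_num)
    have h8 := le_of_pow hs2 (show 1 ≤ m - 1 by omega) h6
    refine of_chk2 c_oplus (by omega) (by omega) h3 (by omega) ?_ hl
    rw [Bool.eq_false_iff, Ne, Nat.blt_eq]; omega
  | ominus m s =>
    obtain ⟨h1, h3⟩ := hg
    have hs2 := h3.two_le
    have hl' : max (s ^ 3 - 1) (s ^ (m - 2) - 1) ≤ 36 := hl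
    rw [max_le_iff] at hl'
    have h6 : s ^ (m - 2) ≤ 37 := by omega
    have h7 := exp_lt hs2 h6 (by norm_num)
    have h8 := le_of_pow hs2 (show 1 ≤ m - 2 by omega) h6
    refine of_chk2 c_ominus (by omega) (by omega) h3 (by omega) ?_ hl
    rw [Bool.eq_false_iff, Ne, Nat.blt_eq]; omega
  | g2 s =>
    obtain ⟨h1, h3⟩ := hg
    have hl' : (if s ≤ 4 then 0 else (s - 1) * s) ≤ 36 := hl
    refine of_chk1 c_g2 h3 ?_ ?_ hl
    · split_ifs at hl'
      · omega
      · by_contra hcon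
        have := Nat.mul_le_mul (show 74 ≤ s - 1 by omega) (show 75 ≤ s by omega)
        omega
    · rw [Bool.eq_false_iff, Ne, Nat.blt_eq]; omega
  | f4 s =>
    have h3 : IsPrimePow s := hg
    have hs2 := h3.two_le
    have hl' : (if s = 2 then 0 else (s - 1) * s ^ 3) ≤ 36 := hl
    refine of_chk1 c_f4 h3 ?_ rfl hl
    split_ifs at hl'
    · omega
    · have := (sub_le_pow hs2 (by norm_num) hl').2
      omega
  | e6 s =>
    have h3 : IsPrimePow s := hg
    have := (sub_le_pow (j := 6) (k := 36) h3.two_le (by norm_num) hl).2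
    exact of_chk1 c_e6 h3 (by omega) rfl hl
  | e7 s =>
    have h3 : IsPrimePow s := hg
    have := (sub_le_pow (j := 7) (k := 36) h3.two_le (by norm_num) hl).2
    exact of_chk1 c_e7 h3 (by omega) rfl hl
  | e8 s =>
    have h3 : IsPrimePow s := hg
    have := (sub_le_pow (j := 7) (k := 36) h3.two_le (by norm_num) hl).2
    exact of_chk1 c_e8 h3 (by omega) rfl hl
  | te6 s =>
    have h3 : IsPrimePow s := hg
    have hs2 := h3.two_le
    have hl' : (if s = 2 then 0 else (s - 1) * s ^ 6) ≤ 36 := hl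
    refine of_chk1 c_te6 h3 ?_ rfl hl
    split_ifs at hl'
    · omega
    · have := (sub_le_pow hs2 (by norm_num) hl').2
      omega
  | td4 s =>
    have h3 : IsPrimePow s := hg
    have hs2 := h3.two_le
    have hl' : (if s ≤ 3 then 0 else (s - 1) * s ^ 3) ≤ 36 := hl
    refine of_chk1 c_td4 h3 ?_ rfl hl
    split_ifs at hl'
    · omega
    · have := (sub_le_pow hs2 (by norm_num) hl').2
      omega
  | sz s =>
    obtain ⟨m, hm, rfl⟩ := hg
    have hl' : 2 ^ (2 * m + 1) - 1 ≤ 36 := hl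
    have h1 := exp_lt (k := 2 * m + 1) (a := 37) (le_refl 2) (by omega) (by norm_num)
    have h2 : m = 1 ∨ m = 2 := by omega
    rcases h2 with rfl | rfl
    · decide +kernel
    · decide +kernel
  | ree s =>
    obtain ⟨m, hm, rfl⟩ := hg
    have hl' : (3 ^ (2 * m + 1) - 1) / 2 ≤ 36 := hl
    have h1 := exp_lt (s := 3) (k := 2 * m + 1) (a := 74) (by norm_num) (by omega) (by norm_num)
    have h2 : m = 1 ∨ m = 2 := by omega
    rcases h2 with rfl | rfl
    · decide +kernel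
    · norm_num at hl'
  | tf4 s =>
    exfalso
    obtain ⟨m, hm, rfl⟩ := hg
    have hl' : (2 ^ (2 * m + 1) - 1) * 2 ^ (2 * m + 1) ≤ 36 := hl
    have h1 : 2 ^ 3 ≤ 2 ^ (2 * m + 1) := Nat.pow_le_pow_right (by norm_num) (by omega)
    have h2 : 7 * 8 ≤ (2 ^ (2 * m + 1) - 1) * 2 ^ (2 * m + 1) := Nat.mul_le_mul (by omega) (by omega)
    omega
  | _ => exact hlie.elim

end Cfsg.Agent.H278.El.CrossNum
end

-- part: H278/ElCrossIface
section
/-!
# TEAM ELUSIVE: cross characteristic, large Landazuri-Seitz bound: six primes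

* `Six N c` : six distinct primes `≥ N - 11` dividing `c`, five of them `≥ N - 9`;
* `six` : the order of a classical simple group of natural dimension `N ≥ 37` has `Six N`;
* `Few L A` : the primes `≥ L - 11` dividing `A` divide one of at most five numbers `< (L - 11)^2`;
* `not_few` : `Six N c`, `L ≤ N`, primes of `c` divide `A`: not `Few L A`.
-/

set_option autoImplicit false

namespace Cfsg.Agent.H278.El.CrossNum

open Cfsg.Agent.OrdDiv Cfsg.Agent.H436 Cfsg.Agent.H278.El.Num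
open Cfsg.Agent.H278.El.SporNum (IsCl prim_le)
open Cfsg.Agent.H278.El.AltNum (dimOf)

/-- six distinct large primes -/
def Six (N c : ℕ) : Prop := ∃ t : ℕ → ℕ, (∀ i < 6, ∀ j < 6, t i = t j → i = j) ∧
  (∀ i < 6, (t i).Prime ∧ t i ∣ c ∧ N - 11 ≤ t i) ∧ ∀ i < 5, N - 9 ≤ t i

/-- the primes `≥ L - 11` dividing `A` divide one of at most five numbers `< (L - 11)^2` -/
def Few (L A : ℕ) : Prop := ∃ l : List ℕ, l.length ≤ 5 ∧ (∀ x ∈ l, 0 < x ∧ x < (L - 11) ^ 2) ∧
  ∀ t : ℕ, t.Prime → L - 11 ≤ t → t ∣ A → ∃ x ∈ l, t ∣ x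

theorem not_few {N L A c : ℕ} (hS : Six N c) (hL : L ≤ N) (hp : ∀ u : ℕ, u.Prime → u ∣ c → u ∣ A)
    (hF : Few L A) : False := by
  obtain ⟨t, hinj, ht, -⟩ := hS
  obtain ⟨l, hl, hx, hd⟩ := hF
  have h1 : ∀ i < 6, ∃ x ∈ l, t i ∣ x := fun i hi =>
    hd _ (ht i hi).1 (by have := (ht i hi).2.2; omega) (hp _ (ht i hi).1 (ht i hi).2.1)
  -- pigeonhole
  have h2 : ∀ i : Fin 6, ∃ j : Fin l.length, t i ∣ l.get j := fun i => by
    obtain ⟨x, hx1, hx2⟩ := h1 i i.2
    obtain ⟨j, rfl⟩ := List.get_of_mem hx1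
    exact ⟨j, hx2⟩
  choose f hf using h2
  obtain ⟨a, b, hab, hfab⟩ := Fintype.exists_ne_map_eq_of_card_lt f (by
    rw [Fintype.card_fin, Fintype.card_fin]; omega)
  have hne : t a ≠ t b := fun h => hab (Fin.ext (hinj a a.2 b b.2 h))
  have h3 : t a * t b ∣ l.get (f a) := by
    refine Nat.Coprime.mul_dvd_of_dvd_of_dvd ((Nat.coprime_primes (ht a a.2).1 (ht b b.2).1).2 hne) (hf a) ?_
    rw [hfab]
    exact hf b
  obtain ⟨h4, h5⟩ := hx (l.get (f a)) (List.get_mem l (f a))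
  have h6 := Nat.le_of_dvd h4 h3
  have h7 : (L - 11) * (L - 11) ≤ t a * t b :=
    Nat.mul_le_mul (by have := (ht a a.2).2.2; omega) (by have := (ht b b.2).2.2; omega)
  rw [pow_two] at h5
  omega

/-- the exponent is determined by the primitive prime -/
theorem prim_unique {q e e' t : ℕ} (h : Prim q e t) (h' : Prim q e' t) : e = e' :=
  Nat.dvd_antisymm ((h.dvd_iff e').1 (h'.dvd dvd_rfl)) ((h'.dvd_iff e).1 (h.dvd dvd_rfl))

theorem six_of {q N c : ℕ} (hq : 2 ≤ q) (e : ℕ → ℕ) (he : ∀ i < 6, ∀ j < 6, e i = e j → i = j)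
    (h7 : ∀ i < 6, 7 ≤ e i) (hN : ∀ i < 6, N ≤ e i + 12) (hN5 : ∀ i < 5, N ≤ e i + 10)
    (h : ∀ i < 6, ∀ t, Prim q (e i) t → t ∣ c) : Six N c := by
  have h1 : ∀ i, ∃ t, i < 6 → Prim q (e i) t := fun i => by
    by_cases hi : i < 6
    · obtain ⟨t, ht⟩ := exists_prim hq (show 3 ≤ e i by have := h7 i hi; omega)
        (fun h => by have := h7 i hi; omega)
      exact ⟨t, fun _ => ht⟩
    · exact ⟨0, fun h => absurd h hi⟩
  choose t ht using h1
  refine ⟨t, fun i hi j hj hij => he i hi j hj ?_, fun i hi => ⟨(ht i hi).prime, h i hi _ (ht i hi), ?_⟩,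
    fun i hi => ?_⟩
  · have h2 := ht i hi
    rw [hij] at h2
    exact prim_unique h2 (ht j hj)
  · have := prim_le (ht i hi)
    have := hN i hi
    omega
  · have := prim_le (ht i (by omega))
    have := hN5 i hi
    omega

/-- **Six large primes in the orders of the classical groups.** -/
theorem six {g : Grp} (hg : Cond g) (hcl : IsCl g) {c : ℕ} (he : den g * c = num g) (hN : 37 ≤ dimOf g) :
    Six (dimOf g) c := by
  cases g with
  | psl n q =>
    have hN : 37 ≤ n := hN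
    have hq : 2 ≤ q := hg.2.2.two_le
    refine six_of hq (fun i => n - i) (fun i hi j hj h => by omega)
      (fun i hi => by omega) (fun i hi => ?_) (fun i hi => ?_) fun i hi t ht => ?_
    · change n ≤ n - i + 12; omega
    · change n ≤ n - i + 10; omega
    · exact psl_dvd (by omega) hq he (show n - i ≤ n by omega) ht.prime (ht.dvd dvd_rfl) (by omega)
  | psp k q =>
    have hN : 37 ≤ 2 * k := hN
    have hq : 2 ≤ q := hg.2.2.two_le
    refine six_of hq (fun i => 2 * (k - i)) (fun i hi j hj h => by omega)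
      (fun i hi => by omega) (fun i hi => ?_) (fun i hi => ?_) fun i hi t ht => ?_
    · change 2 * k ≤ 2 * (k - i) + 12; omega
    · change 2 * k ≤ 2 * (k - i) + 10; omega
    · exact psp_dvd (by omega) he (show 1 ≤ k - i by omega) (by omega) ht.prime (ht.dvd dvd_rfl)
  | oodd k q =>
    have hN : 37 ≤ 2 * k + 1 := hN
    have hq : 2 ≤ q := hg.2.2.two_le
    refine six_of hq (fun i => 2 * (k - i)) (fun i hi j hj h => by omega)
      (fun i hi => by omega) (fun i hi => ?_) (fun i hi => ?_) fun i hi t ht => ?_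
    · change 2 * k + 1 ≤ 2 * (k - i) + 12; omega
    · change 2 * k + 1 ≤ 2 * (k - i) + 10; omega
    · exact oodd_dvd (by omega) hg.2.1 he (show 1 ≤ k - i by omega) (by omega) ht.prime (ht.dvd dvd_rfl)
  | oplus k q =>
    have hN : 37 ≤ 2 * k := hN
    have hq : 2 ≤ q := hg.2.two_le
    refine six_of hq (fun i => 2 * (k - 1 - i)) (fun i hi j hj h => by omega)
      (fun i hi => by omega) (fun i hi => ?_) (fun i hi => ?_) fun i hi t ht => ?_
    · change 2 * k ≤ 2 * (k - 1 - i) + 12; omega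
    · change 2 * k ≤ 2 * (k - 1 - i) + 10; omega
    · exact oplus_dvd (by omega) hq he (show 1 ≤ k - 1 - i by omega) (by omega) ht.prime (ht.dvd dvd_rfl)
  | ominus k q =>
    have hN : 37 ≤ 2 * k := hN
    have hq : 2 ≤ q := hg.2.two_le
    refine six_of hq (fun i => 2 * (k - i)) (fun i hi j hj h => by omega)
      (fun i hi => by omega) (fun i hi => ?_) (fun i hi => ?_) fun i hi t ht => ?_
    · change 2 * k ≤ 2 * (k - i) + 12; omega
    · change 2 * k ≤ 2 * (k - i) + 10; omega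
    · rcases Nat.eq_zero_or_pos i with rfl | hi0
      · refine ominus_dvd' (by omega) hq he ht.prime (ht.dvd_add (m := k) dvd_rfl fun h2 => ?_)
        have := Nat.le_of_dvd (by omega) h2
        omega
      · exact ominus_dvd (by omega) hq he (show 1 ≤ k - i by omega) (by omega) ht.prime (ht.dvd dvd_rfl)
  | psu n q =>
    have hN : 37 ≤ n := hN
    have hq : 2 ≤ q := hg.2.2.two_le
    obtain ⟨k, hk1, hk2, hk3⟩ : ∃ k, k % 2 = 1 ∧ k ≤ n ∧ n ≤ k + 1 := by
      rcases Nat.even_or_odd' n with ⟨j, hj | hj⟩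
      · exact ⟨n - 1, by omega, by omega, by omega⟩
      · exact ⟨n, by omega, le_rfl, by omega⟩
    refine six_of hq (fun i => 2 * (k - 2 * i)) (fun i hi j hj h => by omega)
      (fun i hi => by omega) (fun i hi => ?_) (fun i hi => ?_) fun i hi t ht => ?_
    · change n ≤ 2 * (k - 2 * i) + 12; omega
    · change n ≤ 2 * (k - 2 * i) + 10; omega
    · refine psu_dvd (by omega) he (show 1 ≤ k - 2 * i by omega) (by omega) ht.prime ?_
      unfold vU
      have h2 : (k - 2 * i) % 2 = 1 := by omega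
      rw [h2]
      exact ht.dvd_add (m := k - 2 * i) dvd_rfl fun h2 => by
        have := Nat.le_of_dvd (by omega) h2
        omega
  | _ => exact hcl.elim

end Cfsg.Agent.H278.El.CrossNum
end
end
end
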