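import Cfsg.Agent.H884.RowAllB_mg_m3
import Cfsg.Agent.H489.OutSpor
import Cfsg.Agent.H899.Cyc.CycOut
import Cfsg.Agent.H947.Cyc.Basic_m3
import Cfsg.Agent.H251.GeoUMain
import Cfsg.Agent.H264.FKS.Char
import Mathlib
import Cfsg.Agent.H884.CgOrth
import Cfsg.Agent.H884.ElO8
import Cfsg.Agent.H81.CycSInd
import Cfsg.Agent.Prune
set_option linter.all false
prune_inst 0x7f00000000000000000000000000000000000000000000000000000000000000000000000000000000000000000000000000000000000000000000000000000000000000000000000000000000000000003fffffffffffffffffffffffffffbeffbdffffffff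
open scoped Cfsg.Agent.FastGrp

-- part: H884/RowAllC
section
/-!
# Geometric row of the odd-dimensional orthogonal groups with the type of the hyperplane (helper884)

`cg_odd'` is `cg_odd` with the type of the complement of the nonsingular point.
-/

set_option autoImplicit false

namespace Cfsg.Agent.H884.Row

open Cfsg Cfsg.Geo Cfsg.Agent.OrdDiv Cfsg.Agent.H436 Cfsg.Agent.H915.GN Cfsg.Agent.H264.FKS
open Cfsg.Agent.H899.CG Cfsg.Agent.H884.El Cfsg.Agent.H884.Cg Cfsg.Agent.LieClassical Cfsg.Agent.H955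
open Cfsg.Agent.LieClassical.OmegaReindex
open scoped MatrixGroups

variable {F : Type} [Field F] [Fintype F]

/-- **`Ω_{2m+1}(q)`.** -/
theorem cg_odd' {m : ℕ} (hm : 3 ≤ m) (hodd : Odd (Fintype.card F)) (M : Subgroup (POmega F (quadFormOdd m F))) :
    CGap _ M ∨ InOrthogonalResidualClass (pre (quadFormOdd m F) M) ∨
      (Even m ∧ ∃ v, quadFormOdd m F v ≠ 0 ∧
        pre (quadFormOdd m F) M ≤ subspaceStabilizer (Submodule.span F {v}) ∧
        ¬ IsPlus (res (quadOdd m F) (perp (quadOdd m F) (Submodule.span F {v})))) := by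
  have h2 := H390.two_ne_zero_of_odd hodd
  obtain ⟨p, a, hp, ha, hpa⟩ := exists_char F
  have hT : IsNamed (.oodd m (Fintype.card F)) (POmega F (quadFormOdd m F)) :=
    .mk' ⟨F, inferInstance, inferInstance, rfl, ⟨MulEquiv.refl _⟩⟩ ⟨hm, hodd, Fintype.isPrimePow_card_of_field⟩
      (oodd_eq hm hodd)
  have hs : IsSimpleGroup (POmega F (quadFormOdd m F)) := S0295.result hodd m hm
  have hfin : Finite (POmega F (quadFormOdd m F)) := Quotient.finite _
  have hne : Nat.card F ≠ 2 := by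
    rw [Nat.card_eq_fintype_card]
    rintro h
    rw [h] at hodd
    exact absurd hodd (by decide)
  have hD := data_odd hm h2 (F := F)
  have hQ := nondeg_iff.2 (quadOdd_nondegenerate h2 (F := F) (m := m))
  have hna : ¬ ∀ x y : POmega F (quadFormOdd m F), x * y = y * x := by
    have key : ∀ e, 3 ≤ e → e ≤ m ∨ Even e ∧ e ≤ 2 * m - 2 → (Odd e ∨ Even e) → ∀ r, PP (Nat.card F) e r →
        r ∣ Nat.card (POmega F (⇑(quadOdd m F))) := by
      intro e he h3 h4 r hr
      have hr2 : r ≠ 2 := by have := hr.lt (by omega); omega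
      rcases h4 with h4 | h4
      · have h5 : e ≤ m := by
          rcases h3 with h3 | h3
          · exact h3
          · exact absurd h3.1 (Nat.not_even_iff_odd.2 h4)
        obtain ⟨g, h1, h2', h3, -⟩ := exists_g_odd (A := 1) hQ hr h4 (by omega) le_rfl
          (Or.inr ⟨h2, by rw [card_odd]; omega⟩)
        exact dvd_card_T hD h1 hr.prime hr2 h2' h3
      · obtain ⟨g, h1, h2', h3, -⟩ := exists_g (A := 1) hQ hr h4 (by omega) le_rfl
          (Or.inr ⟨h2, by rw [card_odd]; omega⟩)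
        exact dvd_card_T hD h1 hr.prime hr2 h2' h3
    rw [coe_quadOdd] at key
    have ho3 := oddE_odd (m := m) (by omega)
    have he33 : 3 ≤ oddE m ∧ oddE m ≤ m := by
      rcases Nat.even_or_odd m with he | ho
      · rw [oddE_of_even he]
        obtain ⟨k, hk⟩ := he
        omega
      · rw [oddE_of_odd ho]; exact ⟨hm, le_rfl⟩
    obtain ⟨r, s, h3, h4, h5, h6, h7⟩ := two_primes (F := F) hm (fun h => hne h.1)
      (T := POmega F (quadFormOdd m F)) (key _ (by omega) (Or.inr ⟨⟨m - 1, by omega⟩, le_rfl⟩) (Or.inr ⟨m - 1, by omega⟩))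
      (key _ he33.1 (Or.inl he33.2) (Or.inl ho3))
    exact not_comm_of_primes h3 h4 h5 h6 h7
  have hfl : fld (.oodd m (Fintype.card F)) = p ^ a := by
    rw [← hpa, Nat.card_eq_fintype_card]; rfl
  have hout : OutOK (POmega F (quadFormOdd m F)) (Nat.card F) a := by
    have := outOK_of hp hna hT ⟨a, by rw [← Nat.card_eq_fintype_card]; exact hpa⟩ hfl
    rw [Nat.card_eq_fintype_card]
    exact this
  have h : OutOK (POmega F (⇑(quadOdd m F))) (Nat.card F) a → ∀ M : Subgroup (POmega F (⇑(quadOdd m F))),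
      CGap _ M ∨ InOrthogonalResidualClass (pre (⇑(quadOdd m F)) M) ∨
      (Even m ∧ ∃ v, quadOdd m F v ≠ 0 ∧
        pre (⇑(quadOdd m F)) M ≤ subspaceStabilizer (Submodule.span F {v}) ∧
        ¬ IsPlus (res (quadOdd m F) (perp (quadOdd m F) (Submodule.span F {v})))) := fun ho M =>
    cg_odd_gen hp ha hpa h2 hm (card_odd m) hQ hD ho M
  rw [coe_quadOdd] at h
  exact h hout M

end Cfsg.Agent.H884.Row
end

-- part: H884/RowAllO
section
/-!
# No prime `≥ 5` divides `|Out S|`, `S` sporadic or the Tits group (helper884)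
-/

set_option autoImplicit false

namespace Cfsg.Agent.H884.Row

open Cfsg Cfsg.Agent.OrdDiv Cfsg.Agent.H436

theorem ordN_ne : ∀ x ∈ spor, ordN x.1 ≠ 0 := by decide +kernel

/-- **The outer automorphism groups of the sporadic groups.** -/
theorem outSpor : OutSpor := by
  intro S _ x hx hS r hr h5 hd
  obtain ⟨h, -, -, hcard⟩ := hS
  have hfin : Finite S := Nat.finite_of_card_ne_zero (hcard ▸ ordN_ne x hx)
  have hfin2 : Finite (Out S) := Quotient.finite _
  have hle : Nat.card (Out S) ≤ 2 := by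
    have key : IsSporadicGroup S → Nat.card (Out S) ≤ 2 := fun h => H489.card_out_sporadic h
    simp only [spor, List.mem_cons, List.not_mem_nil, or_false] at hx
    rcases hx with rfl | rfl | rfl | rfl | rfl | rfl | rfl | rfl | rfl | rfl | rfl | rfl | rfl | rfl | rfl | rfl | rfl |
      rfl | rfl | rfl | rfl | rfl | rfl | rfl | rfl | rfl | rfl
    · exact H489.card_out_tits h
    all_goals
      apply key
      simp only [OrdDiv.Real] at h
      unfold IsSporadicGroup
      simp only [h, true_or, or_true]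
  have h1 := Nat.le_of_dvd Nat.card_pos hd
  omega

end Cfsg.Agent.H884.Row
end

-- part: H953/CycU
section
/-!
# Cyclic primes of the unitary groups and geometric subgroups (helper953, for S3679 and S3561; task 3135)

* `cyc_psu` : a prime `u` with `n / 2 < ord(-q mod u) ≤ n`, `3 ≤ ord`, not dividing the field exponent: `Cyc (PSU n F q) u`;
* `geoU_cyc` : a proper subgroup of `PSU_n(q)`, `n ≥ 4`, has an index gap or is in the residual class.
-/

set_option autoImplicit false
set_option linter.unusedSectionVars false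

namespace Cfsg.Agent.H953.CycU

open Cfsg Cfsg.Geo Module Cfsg.Agent.H251.GeoCard Cfsg.Agent.H951 Cfsg.Agent.H899.CG Cfsg.Agent.H251.GeoU
open scoped Matrix MatrixGroups

section cyc

variable {F : Type} [Field F] [Fintype F] {n q m u : ℕ}

/-- the representation of `SU_n(q)` -/
def rep (n : ℕ) (F : Type) [Field F] (q : ℕ) : SU n F q →* Module.End F (Fin n → F) where
  toFun g := Matrix.toLin' ((H918.suHom n F q g : GL (Fin n) F) : Matrix (Fin n) (Fin n) F)
  map_one' := by
    rw [map_one, Units.val_one, Matrix.toLin'_one]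
    rfl
  map_mul' a b := by
    rw [map_mul, Units.val_mul, Matrix.toLin'_mul]
    rfl

theorem rep_injective : Function.Injective (rep n F q) := by
  intro a b h
  apply H918.suHom_injective
  apply Units.ext
  exact Matrix.toLin'.injective h

theorem rep_isom (g : SU n F q) : Isom (hermForm n F q) (rep n F q g) := by
  intro x y
  change hermForm n F q (Matrix.toLin' _ x) (Matrix.toLin' _ y) = _
  rw [Matrix.toLin'_apply, Matrix.toLin'_apply]
  exact H918.mem_GU.1 (H918.suHom_mem g).1 x y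

theorem cycW_psu (hF : Fintype.card F = q ^ 2) (hm : 3 ≤ m) (hmn : m ≤ n) (h2 : n < 2 * m) (hu : u.Prime)
    (hord : orderOf (-(q : ZMod u)) = m) : CycW (PSU n F q) u := by
  have := Fact.mk hu
  have huq := not_dvd_of_ord hu hord (by omega)
  have hr := natCast_ne hF hu huq
  have hdvd := dvd_pred_of_ord hu hord (by omega)
  have hu5 : m + 1 ≤ u := by
    have := Nat.le_of_dvd (by have := hu.two_le; omega) hdvd
    omega
  have hB := H950.frm_herm hF n
  have hnd := H950.nd_top hF n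
  have hG : Finite (SU n F q) := Finite.of_injective _ H918.suHom_injective
  -- dimensions of commutator spaces
  have hcm : ∀ x : Module.End F (Fin n → F), Isom (hermForm n F q) x → x ^ u = 1 → x ≠ 1 →
      finrank F ↥(cm x) = m := by
    intro x hx hxs hx1
    have hcf : cm x ⊓ fx x = ⊥ := by
      rw [inf_comm]
      exact (isCompl_fx_cm hr hxs).inf_eq_bot
    have h1 := H950.ord_neg_dvd hF huq hx hxs inv_cm (hx.nd_cm hB hr hxs hnd) hcf
    rw [hord] at h1
    have h3 : 0 < finrank F ↥(cm x) := by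
      rw [Nat.pos_iff_ne_zero, Ne, Submodule.finrank_eq_zero]
      intro h4
      apply hx1
      apply LinearMap.ext
      intro v
      have h5 : x v - v ∈ cm x := mem_cm.2 ⟨v, rfl⟩
      rw [h4, Submodule.mem_bot, sub_eq_zero] at h5
      exact h5
    have h4 : finrank F ↥(cm x) ≤ n := by
      have := Submodule.finrank_le (cm x)
      rwa [finrank_fintype_fun_eq_card, Fintype.card_fin] at this
    obtain ⟨c, hc⟩ := h1
    have hc1 : c = 1 := by
      rcases c with _ | _ | c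
      · omega
      · rfl
      · have : m * 2 ≤ m * (c + 1 + 1) := Nat.mul_le_mul_left _ (by omega)
        omega
    rw [hc, hc1, mul_one]
  have he : m ≤ 2 * orderOf ((Fintype.card F : ℕ) : ZMod u) := by
    rw [hF]
    rcases Nat.even_or_odd m with hev | hodd
    · rw [ord_sq_even hord hev]
      obtain ⟨k, hk⟩ := hev
      omega
    · rw [ord_sq_odd hord hodd]
      omega
  have hker : (QuotientGroup.mk' (Subgroup.center (SU n F q))).ker = Subgroup.center (SU n F q) :=
    QuotientGroup.ker_mk' _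
  refine H884.Cg.cycW_of (F := F) (V := Fin n → F) (r := u) (d := m)
    (e := orderOf ((Fintype.card F : ℕ) : ZMod u))
    (QuotientGroup.mk' (Subgroup.center (SU n F q))) (QuotientGroup.mk'_surjective _) hker.le hu (by omega) hr ?_
    (H149.PGU.dvd_card_psu hF (by omega) hu (by omega) hmn hord) (rep n F q) rep_injective (by omega) he ?_ ?_
  · rw [hker, S0279.result hF n (by omega)]
    intro h
    have h1 := h.trans (Nat.gcd_dvd_right _ _)
    have h3 : ((q + 1 : ℕ) : ZMod u) = 0 := (ZMod.natCast_eq_zero_iff _ _).2 h1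
    have h4 : -(q : ZMod u) = 1 := by
      push_cast at h3
      linear_combination -h3
    rw [h4, orderOf_one] at hord
    omega
  · intro g hg hg1
    refine hcm _ (rep_isom g) (by rw [← map_pow, hg, map_one]) ?_
    intro h
    exact hg1 (rep_injective (by rw [h, map_one]))
  · intro g hg U hU hUf hU0
    obtain ⟨b, hb⟩ := H950.exists_finrank_eq (x := rep n F q g) hr (by rw [← map_pow, hg, map_one]) hU
    rw [hUf, finrank_bot, zero_add] at hb
    have hb0 : b ≠ 0 := by
      rintro rfl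
      rw [mul_zero] at hb
      exact hU0 (Submodule.finrank_eq_zero.1 hb)
    rw [hb]
    exact Nat.le_mul_of_pos_right _ (Nat.pos_of_ne_zero hb0)

theorem not_comm_of_primes {T : Type*} [Group T] [Finite T] [IsSimpleGroup T] {r s : ℕ} (hr : r.Prime)
    (hs : s.Prime) (hrs : r ≠ s) (h1 : r ∣ Nat.card T) (h2 : s ∣ Nat.card T) : ¬ ∀ a b : T, a * b = b * a := by
  intro hc
  have := Fact.mk hr
  obtain ⟨x, hx⟩ := exists_prime_orderOf_dvd_card' r h1
  have hn : (Subgroup.zpowers x).Normal := ⟨fun n hn g => by rw [hc g n, mul_inv_cancel_right]; exact hn⟩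
  rcases hn.eq_bot_or_eq_top with h | h
  · rw [Subgroup.zpowers_eq_bot] at h
    rw [h, orderOf_one] at hx
    exact hr.one_lt.ne hx
  · have h3 : Nat.card T = r := by
      rw [← hx, ← Nat.card_zpowers, h, Subgroup.card_top]
    rw [h3] at h2
    exact hrs ((Nat.prime_dvd_prime_iff_eq hs hr).1 h2).symm

/-- **(a) cyclic primes of the unitary groups** -/
theorem cyc_psu (hF : Fintype.card F = q ^ 2) (hm : 3 ≤ m) (hmn : m ≤ n) (h2 : n < 2 * m) (hu : u.Prime)
    (hord : orderOf (-(q : ZMod u)) = m) (hndf : NDF q u) : Cyc (PSU n F q) u := by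
  have := Fact.mk hu
  have huq := not_dvd_of_ord hu hord (by omega)
  have hdvd := dvd_pred_of_ord hu hord (by omega)
  have hu4 : m + 1 ≤ u := by
    have := Nat.le_of_dvd (by have := hu.two_le; omega) hdvd
    omega
  have hu5 : 5 ≤ u := by
    by_contra hcon
    have h4 : u = 4 := by omega
    rw [h4] at hu
    exact absurd hu (by norm_num)
  have h32 : ¬ (n = 3 ∧ q = 2) := by
    rintro ⟨rfl, rfl⟩
    have h3 : m = 3 := by omega
    subst h3
    have h4 : (-((2 : ℕ) : ZMod u)) ^ 3 = 1 := by rw [← hord, pow_orderOf_eq_one]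
    have h5 : ((9 : ℕ) : ZMod u) = 0 := by
      push_cast at h4 ⊢
      linear_combination -h4
    have h6 : u ∣ 3 ^ 2 := (ZMod.natCast_eq_zero_iff _ _).1 h5
    have h7 := Nat.le_of_dvd (by norm_num) (hu.dvd_of_dvd_pow h6)
    omega
  obtain ⟨p, f, hp, hf, hq, hpF⟩ := exists_prime_power hF
  have hsimple := S0283.result hF n (by omega) h32
  have hG : Finite (SU n F q) := Finite.of_injective _ H918.suHom_injective
  have hfin : Finite (PSU n F q) := Quotient.finite _
  have hcw := cycW_psu hF hm hmn h2 hu hord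
  have hpu : p ≠ u := by
    rintro rfl
    apply huq
    rw [hq]
    exact dvd_pow_self _ (by omega)
  refine cyc_of_weak (g := .psu n q) (p := p) (not_comm_of_primes hp hu hpu
    (char_dvd_psu hF hp hq hf (by omega)) hcw.2.1) hp (H264.FKS.named_psu F hF (by omega) h32) ⟨f, hq⟩ hu5 hndf ?_ hcw
  intro h1
  have h3 : ((q + 1 : ℕ) : ZMod u) = 0 := (ZMod.natCast_eq_zero_iff _ _).2 h1
  have h4 : -(q : ZMod u) = 1 := by
    push_cast at h3
    linear_combination -h3
  rw [h4, orderOf_one] at hord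
  omega

end cyc

section geo

variable {F : Type} [Field F] [Fintype F] {n q : ℕ}

/-- (C3), `n` odd, with a prime `s` such that `-q` has order `n - 2`. -/
theorem kill_field (hF : Fintype.card F = q ^ 2) {s : ℕ} (hs : s.Prime) (hord : orderOf (-(q : ZMod s)) = n - 2)
    (hno : Odd n) (hn : 5 ≤ n) (hsn : n < s) {r : ℕ}
    (hr : r.Prime) (hr3 : 3 ≤ r) {K : Subalgebra F (Matrix (Fin n) (Fin n) F)} (hK : IsFieldSubalgebra r K)
    (h : s ∣ Nat.card (subalgebraNormalizer K)) : False := by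
  have hne : Nonempty (Fin n) := ⟨⟨0, by omega⟩⟩
  have hsq := not_dvd_of_ord hs hord (by omega)
  have hrn : r ∣ n := by
    have := H912.finrank_dvd_of_fieldSub hK
    rwa [Fintype.card_fin] at this
  have hle := Nat.le_of_dvd (by omega) hrn
  obtain ⟨c, hc⟩ := hrn
  have hm : Odd (n - 2) := by
    obtain ⟨k, hk⟩ := hno
    exact ⟨k - 1, by (clear * - hn hk; omega)⟩
  rcases extension hr hK hs (H251.GeoU.not_dvd_card hF hs hsq) h with h1 | h1
  · omega
  · rw [nat_card_eq hF, Fintype.card_fin] at h1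
    have hcn : n / r = c := by
      conv_lhs => rw [hc]
      exact Nat.mul_div_cancel_left _ hr.pos
    rw [hcn] at h1
    have h2 := ord_le_of_div (Nat.one_le_pow _ _ (Nat.one_le_pow _ _ (LieClassical.HermBasic.q_pos hF))) h1
    have h3 : orderOf (((q ^ 2) ^ r : ℕ) : ZMod s) = n - 2 := by
      have h4 : (((q ^ 2) ^ r : ℕ) : ZMod s) = ((q ^ 2 : ℕ) : ZMod s) ^ r := by push_cast; rfl
      rw [h4, orderOf_pow' _ hr.ne_zero, ord_sq_odd hord hm]
      have h5 : Nat.gcd (n - 2) r = 1 := by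
        rw [← Nat.coprime_iff_gcd_eq_one, Nat.coprime_comm, hr.coprime_iff_not_dvd]
        intro h6
        have h8 : r ∣ n := ⟨c, hc⟩
        have h9 : r ∣ n - (n - 2) := Nat.dvd_sub h8 h6
        have h10 : n - (n - 2) = 2 := by omega
        rw [h10] at h9
        have := Nat.le_of_dvd (by norm_num) h9
        omega
      rw [h5, Nat.div_one]
    rw [h3] at h2
    have h4 : 3 * c ≤ n := by
      rw [hc]
      exact Nat.mul_le_mul_right _ hr3
    omega

/-- **Geometric members of `SU_n(q)`** -/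
theorem exists_cyc (hF : Fintype.card F = q ^ 2) (hn : 4 ≤ n)
    (hex : ¬ (q = 2 ∧ n ≤ 5)) {M : Subgroup (GL (Fin n) F)} (hM : InUnitaryClass n F q M) :
    ∃ v : ℕ, Cyc (PSU n F q) v ∧ ¬ v ∣ Nat.card M := by
  obtain ⟨p, f, hp, hf, hq, hpF⟩ := exists_prime_power hF
  have hne : Nonempty (Fin n) := ⟨⟨0, by omega⟩⟩
  obtain ⟨m, hm, hmn, hnm, hm3⟩ : ∃ m, Odd m ∧ m ≤ n ∧ n ≤ m + 1 ∧ 3 ≤ m := by
    rcases Nat.even_or_odd n with ⟨k, hk⟩ | h
    · exact ⟨n - 1, ⟨k - 1, by omega⟩, by omega, by omega, by omega⟩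
    · exact ⟨n, h, le_rfl, by omega, by omega⟩
  obtain ⟨s, hs, hiff, hs1, hord⟩ := exists_big hp hf hm3 hm (by
    rintro ⟨h1, h2⟩
    rw [← hq] at h2
    exact hex ⟨h2, by omega⟩)
  rw [← hq] at hord
  have hsbig : n + 1 < s ∧ f < s := by
    have h1 := Nat.le_of_dvd (by have := hs.two_le; omega) hs1
    have h2 : 2 * m * 1 ≤ 2 * m * f := Nat.mul_le_mul_left _ hf
    have h3 : 1 * f ≤ 2 * m * f := Nat.mul_le_mul_right _ (by omega)
    omega
  have hndf : NDF q s := by
    rw [hq]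
    exact ndf_of_lt hp hf hsbig.2
  have hcs : Cyc (PSU n F q) s := cyc_psu hF hm3 hmn (by omega) hs hord hndf
  by_cases hsM : s ∣ Nat.card M
  swap
  · exact ⟨s, hcs, hsM⟩
  rcases hM with hM | hM | hM | hM
  · rcases hM with hM | hM | hM | hM | hM | hM | hM | hM
    · obtain ⟨W, hW0, hW, rfl⟩ := hM
      exact (kill_ts hF hs hord hm hn hnm hW0 hW hsM).elim
    · obtain ⟨W, hW0, hW, hW2, rfl⟩ := hM
      obtain ⟨hnm', hW1⟩ := kill_nd hF hs hord hm hn hnm hW0 hW2 hsM
      have hev : Even n := by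
        obtain ⟨k, hk⟩ := hm
        exact ⟨k + 1, by omega⟩
      obtain ⟨v, hv, hvo, hvf, -, -⟩ := H149.NegPrime.exists_neg_prime (i := n) hp hq hf (by omega) (by omega)
      refine ⟨v, cyc_psu hF (by omega) le_rfl (by omega) hv hvo ?_,
        fun h => kill_point hF hv hvo hev hn hW1 h⟩
      rw [hq]
      exact (ndf_iff hp hf).2 hvf
    · obtain ⟨t, k, D, hD, rfl⟩ := hM
      exact (kill_decomp hF hs hord hm hn hnm (by omega) hD.decomp (dvd_left hsM)).elim
    · obtain ⟨k, D, hk, hD, -, rfl⟩ := hM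
      exact (kill_decomp hF hs hord hm hn hnm (by omega) hD (dvd_left hsM)).elim
    · obtain ⟨F₀, r, P, hr, hro, hc, -, rfl⟩ := hM
      exact (kill_subfield hF hp hq hf hs hiff hord hm hn hnm hr.two_le hc (dvd_left hsM)).elim
    · obtain ⟨F₀, P, -, hc, -, rfl⟩ := hM
      exact (kill_subfield hF hp hq hf hs hiff hord hm hn hnm le_rfl hc (dvd_left hsM)).elim
    · obtain ⟨F₀, P, ζ, -, hc, -, -, -, -, rfl⟩ := hM
      exact (kill_subfield hF hp hq hf hs hiff hord hm hn hnm le_rfl hc (dvd_left hsM)).elim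
    · obtain ⟨r, R, p', e, k, hR, habs, -, -, -, hc, rfl⟩ := hM
      have ht : H920.IsType r k R := by
        rcases hc with ⟨h1, h2, -, h3⟩ | ⟨h1, -, h2, h3⟩
        · exact Or.inl ⟨h1, h2, h3⟩
        · exact Or.inr ⟨h1, h2, h3⟩
      exact (kill_symp hF hs hord hm hn hnm hsbig.1 hR habs ht (dvd_left hsM)).elim
  · obtain ⟨r, K, hr, hro, hK, -, rfl⟩ := hM
    have hr3 : 3 ≤ r := by
      have := hr.two_le
      obtain ⟨k, hk⟩ := hro
      omega
    rcases Nat.even_or_odd n with hev | hodd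
    · have hnm' : n = m + 1 := by
        obtain ⟨k, hk⟩ := hm
        obtain ⟨l, hl⟩ := hev
        omega
      exact (kill_field_even hF hs hord hm hn hnm' (by omega) hr hr3 hK (dvd_left hsM)).elim
    · have hn5 : 5 ≤ n := by
        obtain ⟨l, hl⟩ := hodd
        omega
      have hodd' : Odd (n - 2) := by
        obtain ⟨k, hk⟩ := hodd
        exact ⟨k - 1, by omega⟩
      obtain ⟨v, hv, -, hv1, hvo⟩ := exists_big hp hf (m := n - 2) (by omega) hodd' (by
        rintro ⟨h1, h2⟩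
        rw [← hq] at h2
        exact hex ⟨h2, by omega⟩)
      rw [← hq] at hvo
      have hvbig : n < v ∧ f < v := by
        have h1 := Nat.le_of_dvd (by have := hv.two_le; omega) hv1
        have h2 : 2 * (n - 2) * 1 ≤ 2 * (n - 2) * f := Nat.mul_le_mul_left _ hf
        have h3 : 1 * f ≤ 2 * (n - 2) * f := Nat.mul_le_mul_right _ (by omega)
        omega
      refine ⟨v, cyc_psu hF (by omega) (by omega) (by omega) hv hvo ?_, fun h => ?_⟩
      · rw [hq]
        exact ndf_of_lt hp hf hvbig.2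
      · exact kill_field hF hv hvo hodd hn5 hvbig.1 hr hr3 hK (dvd_left h)
  · obtain ⟨n₁, n₂, e, P, f₁, f₂, h2, hlt, -, -, -, rfl⟩ := hM
    exact (kill_tensor hF hs hord hm hn hnm e P h2 hlt (dvd_left hsM)).elim
  · obtain ⟨k, t, e, P, f₁, hk, ht, -, -, -, rfl⟩ := hM
    exact (kill_wreath hF hs hord hm hn hnm (by omega) e P hk ht (dvd_left hsM)).elim

/-- **(b)** a gap for the order -/
theorem geoU_gap (hF : Fintype.card F = q ^ 2) (hn : 4 ≤ n) (hex : ¬ (q = 2 ∧ n ≤ 5)) (M : Subgroup (PSU n F q))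
    (hM : M ≠ ⊤) : CGap (PSU n F q) M ∨ InUnitaryResidualClass (pre M) := by
  rcases S5663.result (F := F) n q hF (by omega) (by omega) (pre M) (pre_le M) (pre_proper M hM) with
    ⟨X, hX, hle⟩ | h
  · left
    obtain ⟨v, hv1, hv2⟩ := exists_cyc hF hn hex hX
    exact ⟨v, hv1, fun h => hv2 ((h.trans (card_dvd_pre M)).trans (Subgroup.card_dvd_of_le hle))⟩
  · exact Or.inr h

end geo

end Cfsg.Agent.H953.CycU
end

-- part: H358/Cyc/Neg
section
/-!
# Unitary index of a primitive prime (helper358, for S3679 and S3561)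

The order `m` of `-q` modulo `u` from the order `e` of `q`: `e = 2m` (`m` odd), `e = m` (`4 ∣ m`), `e = m/2`
(`m ≡ 2 mod 4`).
-/

set_option autoImplicit false

namespace Cfsg.Agent.H358.Cyc

open Cfsg.Agent.OrdDiv Cfsg.Agent.H436 Cfsg.Agent.H264.GN Cfsg.Agent.H264.FKS

variable {q e m u : ℕ}

theorem prim_cast_pow (h : Prim q e u) (k : ℕ) : ((q : ℕ) : ZMod u) ^ k = 1 ↔ e ∣ k := by
  rw [← orderOf_dvd_iff_pow_eq_one, orderOf_of_prim h]

theorem neg_one_ne (h : Prim q e u) (hu : u ≠ 2) : (-1 : ZMod u) ≠ 1 := by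
  have : Fact u.Prime := ⟨h.prime⟩
  have : Fact (2 < u) := ⟨by have := h.prime.two_le; omega⟩
  exact ZMod.neg_one_ne_one

theorem half_pow (h : Prim q (2 * e) u) (he : 1 ≤ e) : ((q : ℕ) : ZMod u) ^ e = -1 := by
  have : Fact u.Prime := ⟨h.prime⟩
  have h1 : (((q : ℕ) : ZMod u) ^ e) ^ 2 = 1 := by
    rw [← pow_mul, prim_cast_pow h, mul_comm]
  rcases sq_eq_one h1 with h2 | h2
  · exfalso
    rw [prim_cast_pow h] at h2
    have := Nat.le_of_dvd (by omega) h2
    omega
  · exact h2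
where

  sq_eq_one {K : Type} [Field K] {x : K} (h : x ^ 2 = 1) : x = 1 ∨ x = -1 := by
    have h1 : (x - 1) * (x + 1) = 0 := by ring_nf; rw [h]; ring
    rcases mul_eq_zero.1 h1 with h2 | h2
    · exact Or.inl (sub_eq_zero.1 h2)
    · exact Or.inr (eq_neg_of_add_eq_zero_left h2)

theorem orderOf_neg_odd (h : Prim q (2 * m) u) (hm : m % 2 = 1) : orderOf (-((q : ℕ) : ZMod u)) = m := by
  apply Nat.dvd_antisymm
  · rw [orderOf_dvd_iff_pow_eq_one, Odd.neg_pow (Nat.odd_iff.2 hm), half_pow h (by omega), neg_neg]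
  · have h1 : (-((q : ℕ) : ZMod u)) ^ orderOf (-((q : ℕ) : ZMod u)) = 1 := pow_orderOf_eq_one _
    have h2 : ((q : ℕ) : ZMod u) ^ (2 * orderOf (-((q : ℕ) : ZMod u))) = 1 := by
      rw [pow_mul, ← neg_sq, ← pow_mul, mul_comm, pow_mul, h1, one_pow]
    rw [prim_cast_pow h] at h2
    exact Nat.dvd_of_mul_dvd_mul_left (by norm_num) h2

theorem orderOf_neg_four (h : Prim q m u) (hm : m % 4 = 0) (hm0 : 1 ≤ m) : orderOf (-((q : ℕ) : ZMod u)) = m := by
  obtain ⟨k, rfl⟩ : ∃ k, m = 2 * (2 * k) := ⟨m / 4, by omega⟩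
  have hu : u ≠ 2 := by
    have := lt_of_prim h
    omega
  apply Nat.dvd_antisymm
  · rw [orderOf_dvd_iff_pow_eq_one, Even.neg_pow (even_two_mul _), prim_cast_pow h]
  · have h1 : (-((q : ℕ) : ZMod u)) ^ orderOf (-((q : ℕ) : ZMod u)) = 1 := pow_orderOf_eq_one _
    have h2 : ((q : ℕ) : ZMod u) ^ (2 * orderOf (-((q : ℕ) : ZMod u))) = 1 := by
      rw [pow_mul, ← neg_sq, ← pow_mul, mul_comm, pow_mul, h1, one_pow]
    rw [prim_cast_pow h] at h2
    obtain ⟨j, hj⟩ := Nat.dvd_of_mul_dvd_mul_left (by norm_num) h2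
    rw [hj] at h1 ⊢
    rcases Nat.even_or_odd j with ⟨i, rfl⟩ | hj'
    · exact ⟨i, by ring⟩
    · exfalso
      rw [pow_mul, Even.neg_pow (even_two_mul _), half_pow h (by omega), Odd.neg_one_pow hj'] at h1
      exact neg_one_ne h hu h1

theorem orderOf_neg_two (h : Prim q (m / 2) u) (hm : m % 4 = 2) (hu : u ≠ 2) :
    orderOf (-((q : ℕ) : ZMod u)) = m := by
  obtain ⟨k, rfl⟩ : ∃ k, m = 2 * k := ⟨m / 2, by omega⟩
  have hk : k % 2 = 1 := by omega
  rw [Nat.mul_div_cancel_left _ (by norm_num)] at h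
  apply Nat.dvd_antisymm
  · rw [orderOf_dvd_iff_pow_eq_one, Even.neg_pow (even_two_mul _), prim_cast_pow h]
    exact Dvd.intro_left _ rfl
  · have h1 : (-((q : ℕ) : ZMod u)) ^ orderOf (-((q : ℕ) : ZMod u)) = 1 := pow_orderOf_eq_one _
    have h2 : ((q : ℕ) : ZMod u) ^ (2 * orderOf (-((q : ℕ) : ZMod u))) = 1 := by
      rw [pow_mul, ← neg_sq, ← pow_mul, mul_comm, pow_mul, h1, one_pow]
    rw [prim_cast_pow h] at h2
    obtain ⟨j, hj⟩ := dvd_of_two hk h2
    rw [hj] at h1 ⊢
    rcases Nat.even_or_odd j with ⟨i, rfl⟩ | hj'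
    · exact ⟨i, by ring⟩
    · exfalso
      have h3 : ((q : ℕ) : ZMod u) ^ k = 1 := (prim_cast_pow h k).2 dvd_rfl
      rw [pow_mul, Odd.neg_pow (Nat.odd_iff.2 hk), h3, Odd.neg_one_pow hj'] at h1
      exact neg_one_ne h hu h1

end Cfsg.Agent.H358.Cyc
end

-- part: H358/Cyc/NotAdj
section
/-!
# `PSL_{n-1}(q²)` is not a subgroup of `PΩ^+_{2n}(q)`, `n ≥ 4` even (helper358, for S3679 and S3561)

The primes `r`, `s` with `q` of order `n - 1` (odd), `2 (n - 1)` are adjacent in the prime graph of `PSL_{n-1}(q²)`, not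
in the prime graph of `PΩ^+_{2n}(q)`.
-/

set_option autoImplicit false

namespace Cfsg.Agent.H358.Cyc

open Module QuadraticMap Cfsg Cfsg.Agent.LieClassical.OrthCore Cfsg.Agent.H955
open Cfsg.Agent.H951 (fx cm Inv)
open Cfsg.Agent.H884.El Cfsg.Agent.H884.Cg Cfsg.Agent.LieClassical Cfsg.Agent.LieClassical.OmegaReindex
open Cfsg.Agent.OrdDiv Cfsg.Agent.H436 Cfsg.Agent.H915.GN
open scoped MatrixGroups Matrix

universe u v

section Abs

variable {F : Type u} [Field F] [Fintype F] {V : Type v} [AddCommGroup V] [Module F V] [FiniteDimensional F V]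
  {Q : QuadraticForm F V} {x y : Module.End F V} {r s e : ℕ}

/-- commuting isometries of prime orders `s`, `r`, with `q` of order `2e` modulo `s`, `e` modulo `r`, `e` odd, in
dimension less than `4 e`: one of them is trivial -/
theorem not_adj_lin (hx : Iso Q x s) (hy : Iso Q y r) (hQ : Nondeg Q) (hx1 : x ≠ 1) (hy1 : y ≠ 1)
    (hs : PP (Nat.card F) (2 * e) s) (hr : PP (Nat.card F) e r) (he : Odd e) (hn : finrank F V < 4 * e)
    (hxy : Commute x y) : False := by
  obtain ⟨hcx, hPx⟩ := hx.even_case hQ hx1 hs (even_two_mul e) (by omega)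
  obtain ⟨hcy, hPy, -⟩ := hy.odd_case hQ hy1 hr he hn
  have hinv : _root_.Cfsg.Agent.H951.Inv x (cm y) := inv_cm_of_commute hxy
  have h1 := hx.dvd hs hinv
  have h2 : finrank F ↥(cm y ⊓ cm x) ≤ finrank F (cm y) := Submodule.finrank_mono inf_le_left
  have h2' : finrank F ↥(cm y ⊓ cm x) ≤ finrank F (cm x) := Submodule.finrank_mono inf_le_right
  have he0 : 0 < e := he.pos
  rcases Nat.eq_zero_or_pos (finrank F ↥(cm y ⊓ cm x)) with h0 | h0
  · have h4 : cm y ⊓ cm x = ⊥ := Submodule.finrank_eq_zero.1 h0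
    have h5 := H951.inf_fx_sup_inf_cm hx.ne0 hx.pow hinv
    rw [h4, sup_bot_eq] at h5
    have h6 : cm y ≤ fx x := by
      rw [← h5]
      exact inf_le_right
    have h7 := Submodule.finrank_mono h6
    have h8 := hx.finrank_add
    omega
  · have h3 := Nat.le_of_dvd h0 h1
    have h4 : cm y ⊓ cm x = cm y := Submodule.eq_of_le_of_finrank_eq inf_le_left (by omega)
    have h5 : cm y ⊓ cm x = cm x := Submodule.eq_of_le_of_finrank_eq inf_le_right (by omega)
    rw [← h5, h4] at hPx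
    exact hPx hPy

end Abs

section Orth

variable {ι : Type} [Fintype ι] [DecidableEq ι] {F : Type u} [Field F] [Fintype F] {Q : QuadraticForm F (ι → F)}
  {r s e : ℕ}

seal _root_.Finset.sum _root_.dotProduct in
/-- no element of order `r s` in `PΩ(Q)` -/
theorem not_adj_orth (hD : H390.Lift.Data Q) (hQ : Nondeg Q) (hs : PP (Nat.card F) (2 * e) s)
    (hr : PP (Nat.card F) e r) (he : Odd e) (he2 : 2 ≤ e) (hn : Fintype.card ι < 4 * e) :
    r * s ∉ Set.range (orderOf : POmega F (⇑Q) → ℕ) := by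
  rintro ⟨t, ht⟩
  have hltr := hr.lt (by omega)
  have hlts := hs.lt (by omega)
  have hrs : r ≠ s := hr.ne_of_ne hs (by omega)
  have hodd : Odd (r * s) := (hr.odd he2).mul (hs.odd (by omega))
  obtain ⟨w, rfl⟩ := QuotientGroup.mk'_surjective _ t
  have htm : QuotientGroup.mk' (Subgroup.center (Omega F (⇑Q))) w ^ (r * s) = 1 := by
    rw [← ht]; exact pow_orderOf_eq_one _
  have hw : (w ^ (r * s)) ^ 2 = 1 := by
    have h1 : w ^ (r * s) ∈ Subgroup.center (Omega F (⇑Q)) := by
      rw [← QuotientGroup.eq_one_iff]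
      exact htm
    exact Subtype.ext (congrArg Subtype.val (H390.Lift.center_sq hD _ h1))
  -- the lift of order `r s`
  obtain ⟨k, hk⟩ := hodd
  set! g := w ^ (r * s + 1) with hg
  have hgm : g ^ (r * s) = 1 := by
    rw [hg, ← pow_mul, mul_comm, pow_mul, hk, show 2 * k + 1 + 1 = 2 * (k + 1) by ring, ← hk, pow_mul, hw, one_pow]
  have hπ : QuotientGroup.mk' (Subgroup.center (Omega F (⇑Q))) g = QuotientGroup.mk' (Subgroup.center (Omega F (⇑Q))) w := by
    rw [hg, map_pow, pow_succ, htm, one_mul]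
  have hord : orderOf (QuotientGroup.mk' (Subgroup.center (Omega F (⇑Q))) g) = r * s := by rw [hπ, ht]
  have hne : ∀ m, 0 < m → m < r * s → g ^ m ≠ 1 := by
    intro m hm0 hm h
    have h1 : QuotientGroup.mk' (Subgroup.center (Omega F (⇑Q))) g ^ m = 1 := by rw [← map_pow, h, map_one]
    have h2 := orderOf_dvd_of_pow_eq_one h1
    rw [hord] at h2
    have := Nat.le_of_dvd hm0 h2
    omega
  have hxr : (g ^ r) ^ s = 1 := by rw [← pow_mul, hgm]
  have hys : (g ^ s) ^ r = 1 := by rw [← pow_mul, mul_comm, hgm]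
  have hiso : ∀ (z : Omega F (⇑Q)) (v : ι → F), Q (rep (⇑Q) z v) = Q v := fun z v =>
    lin_iso le_rfl z.1.2 v
  refine not_adj_lin (Q := Q) (x := rep (⇑Q) (g ^ r)) (y := rep (⇑Q) (g ^ s)) (r := r) (s := s) (e := e)
    (Iso.mk' hs (by omega) (by rw [← map_pow, hxr, map_one]) (hiso _))
    (Iso.mk' hr he2 (by rw [← map_pow, hys, map_one]) (hiso _)) hQ ?_ ?_ hs hr he (by rw [finrank_V]; exact hn) ?_
  · intro h
    exact hne r (by omega) (by nlinarith only [he2, hltr, hlts]) (rep_injective _ (by rw [h, map_one]))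
  · intro h
    exact hne s (by omega) (by nlinarith only [he2, hltr, hlts]) (rep_injective _ (by rw [h, map_one]))
  · show rep (⇑Q) (g ^ r) * rep (⇑Q) (g ^ s) = rep (⇑Q) (g ^ s) * rep (⇑Q) (g ^ r)
    rw [← map_mul, ← map_mul, ← pow_add, ← pow_add, add_comm]

end Orth

section named

variable {p f n : ℕ}

theorem pp_of_prim {q e r : ℕ} (h : Prim q e r) : PP q e r := ⟨h.prime, H264.FKS.orderOf_of_prim h⟩

/-- `PSL_{n-1}(q²)` is not a subgroup of `PΩ^+_{2n}(q)`, `n ≥ 4` even, `(n, q) ≠ (4, 2)`. -/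
theorem not_psl_oplus {T : Type*} [Group T] (hp : p.Prime) (hf : 1 ≤ f) (hn : 4 ≤ n) (hne : n % 2 = 0)
    (h42 : ¬ (n = 4 ∧ p ^ f = 2)) (hT : IsNamed (.oplus n (p ^ f)) T) {R : Subgroup T} {S : Subgroup R}
    (hS : IsNamed (.psl (n - 1) (p ^ (2 * f))) S) : False := by
  obtain ⟨F, _, _, hF, ⟨e⟩⟩ := hT.real
  obtain ⟨F', _, _, hF', ⟨e'⟩⟩ := hS.real
  have hfn : 1 * (n - 1) ≤ f * (n - 1) := Nat.mul_le_mul_right _ hf
  -- the primes
  obtain ⟨r, hr⟩ : ∃ r, Prim (p ^ f) (n - 1) r := by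
    by_cases h6 : p = 2 ∧ f * (n - 1) = 6
    · obtain ⟨rfl, h6⟩ := h6
      have hf2 : f = 2 := by
        have h1 : f ≤ 2 := by
          by_contra h
          have : 3 * (n - 1) ≤ f * (n - 1) := Nat.mul_le_mul_right _ (by omega)
          (clear * - hn h6 this; omega)
        have h2 : f ≠ 1 := by
          rintro rfl
          omega
        omega
      subst hf2
      obtain rfl : n = 4 := by omega
      exact ⟨7, by norm_num; exact H264.FKS.prim_four_three⟩
    · obtain ⟨r, hr⟩ := exists_prim (q := p) (e := f * (n - 1)) hp.two_le (by omega) h6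
      exact ⟨r, H264.GN.prim_pow hf hr⟩
  obtain ⟨s, hs⟩ : ∃ s, Prim (p ^ f) (2 * (n - 1)) s := by
    have h2n : f * (2 * (n - 1)) = 2 * (f * (n - 1)) := by ring
    obtain ⟨s, hs⟩ := exists_prim (q := p) (e := f * (2 * (n - 1))) hp.two_le (by omega) (by
      rintro ⟨rfl, h⟩
      have h3 : f * (n - 1) = 3 := by omega
      have hf1 : f = 1 := by
        by_contra h1
        have : 2 * (n - 1) ≤ f * (n - 1) := Nat.mul_le_mul_right _ (by omega)
        (clear * - hn h2n h this; omega)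
      subst hf1
      exact h42 ⟨by omega, by norm_num⟩)
    exact ⟨s, H264.GN.prim_pow hf hs⟩
  obtain ⟨x, -, hx⟩ := H264.FKS.mem_range_of_le e' (H264.FKS.psl_adj hp hf hF' (by omega) le_rfl hr hs)
  have hq : Nat.card F = p ^ f := by rw [Nat.card_eq_fintype_card, hF]
  have h1 := not_adj_orth (Q := quadPlus n F) (data_plus hn) (nondeg_iff.2 quadPlus_nondegenerate)
    (by rw [hq]; exact pp_of_prim hs) (by rw [hq]; exact pp_of_prim hr) (Nat.odd_iff.2 (by omega)) (by omega)
    (by rw [card_plus]; omega)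
  rw [coe_quadPlus] at h1
  refine h1 ⟨e x, ?_⟩
  rw [← hx]
  exact orderOf_injective e.toMonoidHom e.injective x

section

variable {g : Grp} {T : Type u} [Group T] [Finite T] {M : Subgroup T}

open Cfsg.Agent.H264.FKS in
/-- **`T = PΩ^+_{2n}(q)`, `n ≥ 5`.** -/
theorem ig_oplus' (hT : IsNamed (.oplus n (p ^ f)) T) (hp : p.Prime) (hf : 1 ≤ f) (hn : 5 ≤ n)
    (h1 : HC p f (2 * (n - 1)) M) (h2 : HC p f (2 * (n - 2)) M) (h3 : n % 2 = 1 → HC p f n M)
    (h4 : n % 2 = 0 → HC p f (n - 1) M)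
    (hM : M ≠ ⊤) (S : Subgroup M) [S.Normal] [IsSimpleGroup S] (hna : ¬ IsMulCommutative S)
    (hC : Subgroup.centralizer (S : Set M) = ⊥) (hS : IsNamed g S) (hch : HasChar p g) :
    n % 2 = 0 ∧ (g = .psp (n - 1) (p ^ f) ∨ g = .oodd (n - 1) (p ^ f)) := by
  obtain ⟨h5, rfl | h | h⟩ := ig_oplus hT hp hf hn h1 h2 h3 h4 hM S hna hC hS hch
  · exact (not_psl_oplus hp hf (by omega) h5 (by omega) hT hS).elim
  · exact ⟨h5, Or.inl h⟩
  · exact ⟨h5, Or.inr h⟩

/-- **`T = PΩ^+_8(q)`, `q ≠ 2`.** -/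
theorem ig_oplus4' (hT : IsNamed (.oplus 4 (p ^ f)) T) (hp : p.Prime) (hf : 1 ≤ f) (h42 : p ^ f ≠ 2)
    (h1 : HC p f 6 M) (h2 : HC p f 3 M)
    (hM : M ≠ ⊤) (S : Subgroup M) [S.Normal] [IsSimpleGroup S] (hna : ¬ IsMulCommutative S)
    (hC : Subgroup.centralizer (S : Set M) = ⊥) (hS : IsNamed g S) (hch : HasChar p g) :
    g = .oodd 3 (p ^ f) ∨ g = .psp 3 (p ^ f) ∨ g = .g2 (p ^ f) ∨
      g = .psl 2 (p ^ (3 * f)) ∨ (p ^ f = 4 ∧ g = .sz 8) := by
  rcases ig_oplus4 hT hp hf h42 h1 h2 hM S hna hC hS hch with h | h | h | rfl | h | h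
  · exact Or.inl h
  · exact Or.inr (Or.inl h)
  · exact Or.inr (Or.inr (Or.inl h))
  · exact (not_psl_oplus hp hf le_rfl (by norm_num) (fun h => h42 h.2) hT hS).elim
  · exact Or.inr (Or.inr (Or.inr (Or.inl h)))
  · exact Or.inr (Or.inr (Or.inr (Or.inr h)))

end

end named

end Cfsg.Agent.H358.Cyc
end

-- part: H884/RowAllD
section
/-!
# Rows of the classical groups for S3561 and S3679 (helper884)

`T` a concrete classical simple group over `F`, `q = |F|` (`q² = |F|` for the unitary groups), `M` a maximal (or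
proper) subgroup. `IGap T M`: some cyclic prime of `T` divides `|T : M|`.

* `row_psl`    : `n ≥ 4`, not `L4(2)`, `L6(2)`: `IGap`;
* `row_psu`    : `n ≥ 4`, not `U4(2)`, `U5(2)`: `IGap`, or the socle of `M` is in `excI` (`U4(3)`, `U6(2)`);
  `row_psu'`   : `n ≥ 4`, `(n, q) ≠ (4, 3)`, not (`q = 2`, `n ≤ 6`): `IGap`;
* `row_psp`    : `m ≥ 3`, not `S6(2)`: `IGap`, or `m`, `q` even and `M` fixes a quadratic form of minus type, or
  `m` even and the socle of `M` is `Ω^-_{2m}(q)`;
* `row_psp2`   : `m = 2`, `q ≥ 4`: `IGap`, or `SpecM` (quadratic form or field of degree 2), or the socle of `M`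
  is of Lie type in characteristic `p`;
* `row_oodd`   : `m ≥ 3`, not `O7(3)`: `IGap`, or `m` even and `M` fixes a nonsingular point with complement of minus
  type, or `m` even and the socle of `M` is `Ω^-_{2m}(q)`;
* `row_ominus` : `m ≥ 4`: `IGap`;
* `row_oplus`  : `m ≥ 5`: `IGap`, or `m` even and `M` fixes a nonsingular point, or `m` even and the socle of `M` is
  `PSp_{2m-2}(q)`, `Ω_{2m-1}(q)`;
* `row_oplus4` : `m = 4`, `q ≥ 3`: `IGap`, or `M` fixes a nonsingular point, or the socle of `M` is in `excI` (`q = 3`,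
  `4`), or is `Ω_7(q)`, `PSp_6(q)`, `G_2(q)`, `PSL_2(q³)`, or `Sz(8)` (`q = 4`).
-/

set_option autoImplicit false

namespace Cfsg.Agent.H884.Row

open Cfsg Cfsg.Geo Cfsg.Agent.OrdDiv Cfsg.Agent.H436 Cfsg.Agent.H264.FKS Cfsg.Agent.H915.GN
open Cfsg.Agent.H278.El.SporNum (IsCl)
open Cfsg.Agent.H278.El.AltNum (dimOf)
open Cfsg.Agent.H884.Ig Cfsg.Agent.H899.CG Cfsg.Agent.H358.Cyc Cfsg.Agent.LieClassical Cfsg.Agent.H955
open Cfsg.Agent.LieClassical.OmegaReindex
open scoped MatrixGroups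

variable {F : Type} [Field F] [Fintype F]

theorem exists_pf (F : Type) [Field F] [Fintype F] : ∃ p f, p.Prime ∧ 1 ≤ f ∧ Fintype.card F = p ^ f ∧
    p ∣ Fintype.card F := by
  obtain ⟨p, f, hp, hf, h⟩ := (isPrimePow_nat_iff _).1 (Fintype.isPrimePow_card_of_field (α := F))
  exact ⟨p, f, hp, by omega, h.symm, h ▸ dvd_pow_self p (by omega)⟩

/-- the primes of an exponent in `InE` -/
theorem hc_in {T : Type} [Group T] [Finite T] [IsSimpleGroup T] (hna : ¬ ∀ x y : T, x * y = y * x) {g : Grp}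
    {p f e : ℕ} (hp : p.Prime) (hf : 1 ≤ f) (hT : IsNamed g T) (hch : HasChar p g) (he : InE g e)
    (hq : Cx.fq g = p ^ f) {M : Subgroup T} (hM : ¬ IGap T M) : HC p f e M :=
  (CP.of_ndf hp hf fun _ h1 h2 => cyc_named hna hp hT hch he (hq ▸ h1) (hq ▸ h2)).hc hM

/-- **`PSL_n(q)`, `n ≥ 4`.** -/
theorem row_psl (tab : OrderTable.{0}) (hK : KnownS) {n : ℕ} (hn : 4 ≤ n)
    (h4 : ¬ (Fintype.card F = 2 ∧ n = 4)) (h6 : ¬ (Fintype.card F = 2 ∧ n = 6))
    {M : Subgroup (Matrix.ProjectiveSpecialLinearGroup (Fin n) F)} (hM : IsCoatom M) : IGap _ M := by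
  by_contra hg
  obtain ⟨p, f, hp, hf, hpf, hpF⟩ := exists_pf F
  have hfin : Finite (Matrix.ProjectiveSpecialLinearGroup (Fin n) F) := Quotient.finite _
  have hT : IsNamed (.psl n (Fintype.card F)) (Matrix.ProjectiveSpecialLinearGroup (Fin n) F) :=
    nm_psl F (by omega) (by omega)
  have hc : ∀ e, 3 ≤ e → e ≤ n → n < 2 * e → HC p f e M := fun e h1 h2 h3 =>
    (CP.of_ndf hp hf fun u h4 h5 => H597.CycL.cyc_psl h1 h2 h3 (hpf ▸ h4) (hpf ▸ h5)).hc hg
  rcases H597.CycL.geo_cyc hn h6 hM with h | h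
  · exact hg h
  · rcases res_psl tab hK outSpor (by omega) hp hpF h with h | ⟨g, -, h⟩ | ⟨g, ⟨S, hSn, hSs, hna, hC, hS, -⟩, hch⟩
    · exact hg h
    · simp only [excI, List.mem_cons, Prod.mk.injEq, Grp.psl.injEq, reduceCtorEq, and_false, or_false,
        false_or, List.not_mem_nil] at h
      omega
    · rw [hpf] at hT h4 h6
      exact ig_psl hT hp hf hn (fun h => h4 ⟨h.2, h.1⟩) (fun h => h6 ⟨h.2, h.1⟩)
        (hc n (by omega) le_rfl (by omega)) (hc (n - 1) (by omega) (by omega) (by omega)) hM.1 S hna hC hS hch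

/-- **`PSU_n(q)`, `n ≥ 4`.** -/
theorem row_psu (tab : OrderTable.{0}) (hK : KnownS) {n q : ℕ} (hF : Fintype.card F = q ^ 2) (hn : 4 ≤ n)
    (h2 : ¬ (q = 2 ∧ n ≤ 5)) {M : Subgroup (PSU n F q)} (hM : M ≠ ⊤) :
    IGap _ M ∨ ∃ g, ASR g M (H251.GeoU.pre M) ∧ (g, Grp.psu n q) ∈ excI := by
  by_cases hg : IGap _ M
  · exact .inl hg
  right
  have : Finite (SU n F q) := Finite.of_injective _ H918.suHom_injective
  have hfin : Finite (PSU n F q) := Quotient.finite _
  have hT := nm_psu F hF (n := n) (by omega) (by omega)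
  obtain ⟨p, f, hp, hf, hpf⟩ := (isPrimePow_nat_iff _).1 hT.cond.2.2
  have hpq : p ∣ q := hpf ▸ dvd_pow_self p (by omega)
  subst hpf
  have hcc : ∀ e m, 3 ≤ m → m ≤ n → n < 2 * m → (∀ u, Prim (p ^ f) e u → orderOf (-((p ^ f : ℕ) : ZMod u)) = m) →
      HC p f e M := fun e m h1 h2 h3 h4 =>
    (CP.of_ndf hp (by omega) fun u h5 h6 => H953.CycU.cyc_psu hF h1 h2 h3 h5.prime (h4 u h5) h6).hc hg
  rcases H953.CycU.geoU_gap hF hn h2 M hM with h | h
  · exact absurd h.iGap hg
  · rcases res_psu tab hK outSpor hF (by omega) (by omega) hp hpq h with h | h |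
      ⟨g, ⟨S, hSn, hSs, hna, hC, hS, -⟩, hch⟩
    · exact absurd h hg
    · exact h
    · exfalso
      obtain ⟨N, hN⟩ : ∃ N, N = if n % 2 = 0 then n - 1 else n := ⟨_, rfl⟩
      have hN2 : (n % 2 = 0 ∧ N = n - 1) ∨ (n % 2 = 1 ∧ N = n) := by
        rw [hN]
        split_ifs with h
        · exact .inl ⟨h, rfl⟩
        · exact .inr ⟨by omega, rfl⟩
      refine ig_psu hT hp (by omega) hn hN (fun h => h2 ⟨h.2, by omega⟩) (fun h => h2 ⟨h.2, by omega⟩)
        (hcc _ N (by omega) (by omega) (by omega) fun u hu => orderOf_neg_odd hu (by omega))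
        (fun h5 h6 => hcc _ (N - 2) (by (clear * - hN2 h5; omega)) (by omega) (by omega) fun u hu => orderOf_neg_odd hu (by (clear * - hN2 h5; omega)))
        (fun h5 => hcc _ n (by omega) le_rfl (by omega) fun u hu => orderOf_neg_four hu h5 (by omega))
        (fun h5 => hcc _ n (by omega) le_rfl (by omega) fun u hu => orderOf_neg_two hu h5 (by
          have := prim_lt (Nat.one_le_pow _ _ hp.pos) hu
          omega))
        (fun h5 => hcc _ 4 (by omega) (by omega) (by omega) fun u hu => orderOf_neg_four hu (by norm_num) (by norm_num))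
        hM S hna hC hS hch

/-- **`PSU_n(q)`, `n ≥ 4`, not `U4(3)` and not `q = 2`, `n ≤ 6`.** -/
theorem row_psu' (tab : OrderTable.{0}) (hK : KnownS) {n q : ℕ} (hF : Fintype.card F = q ^ 2) (hn : 4 ≤ n)
    (h2 : ¬ (q = 2 ∧ n ≤ 6)) (h3 : ¬ (n = 4 ∧ q = 3)) {M : Subgroup (PSU n F q)} (hM : M ≠ ⊤) : IGap _ M := by
  rcases row_psu tab hK hF hn (fun h => h2 ⟨h.1, by omega⟩) hM with h | ⟨g, -, h⟩
  · exact h
  · simp only [excI, List.mem_cons, Prod.mk.injEq, Grp.psu.injEq, reduceCtorEq, and_false, or_false,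
      false_or, List.not_mem_nil] at h
    omega

/-- **`PSp_2m(q)`, `m ≥ 3`.** -/
theorem row_psp (tab : OrderTable.{0}) (hK : KnownS) {m : ℕ} (hm : 3 ≤ m) (h32 : ¬ (m = 3 ∧ Fintype.card F = 2))
    {M : Subgroup (PSp m F)} (hM : M ≠ ⊤) : IGap _ M ∨
      (Even m ∧ Even (Fintype.card F) ∧ ∃ Q : QuadraticForm F (Fin m ⊕ Fin m → F),
        IsNondegenerateQuadraticForm (⇑Q) ∧ LieClassical.OrthCore.Nondeg Q ∧ ¬ H955.IsPlus Q ∧
        (∀ u v, QuadraticMap.polar (⇑Q) u v = sympForm m F u v) ∧ H262.El.pre M ≤ isometryGroup F (⇑Q)) ∨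
      (Even m ∧ ASR (.ominus m (Fintype.card F)) M (H262.El.pre M)) := by
  by_cases hg : IGap _ M
  · exact .inl hg
  right
  obtain ⟨p, f, hp, hf, hpf, hpF⟩ := exists_pf F
  have hfin : Finite (PSp m F) := Quotient.finite _
  have hT : IsNamed (.psp m (Fintype.card F)) (PSp m F) := nm_psp F (by omega) (by omega)
  have hc : ∀ e, 3 ≤ e → (Even e ∧ e ≤ 2 * m ∧ m < e) ∨ (Odd e ∧ e ≤ m ∧ m < 2 * e) → HC p f e M := fun e h1 h2 =>
    (CP.of_ndf hp hf fun u h4 h5 => H81.CycS.cyc_psp h1 h2 (hpf ▸ h4) (hpf ▸ h5)).hc hg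
  rcases H81.CycS.igap_psp_three hm h32 hM with h | h | h
  · exact absurd h hg
  · rcases res_psp tab hK outSpor (by omega) (by omega) hp hpF h with h | ⟨g, -, h⟩ |
      ⟨g, ⟨S, hSn, hSs, hna, hC, hS, hP⟩, hch⟩
    · exact absurd h hg
    · simp only [excI, List.mem_cons, Prod.mk.injEq, Grp.psp.injEq, reduceCtorEq, and_false, or_false,
        false_or, List.not_mem_nil] at h
      omega
    · rw [hpf] at hT h32
      obtain ⟨h3, h4⟩ := ig_psp hT hp hf hm h32 (hc (2 * m) (by omega) (.inl ⟨even_two_mul m, le_rfl, by omega⟩))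
        (hc (2 * (m - 1)) (by omega) (.inl ⟨even_two_mul _, by omega, by omega⟩))
        (fun h5 => hc m hm (.inr ⟨Nat.odd_iff.2 h5, le_rfl, by omega⟩))
        (fun h5 h6 => hc 3 le_rfl (.inr ⟨by decide, by omega, by omega⟩)) hM S hna hC hS hch
      rw [← hpf] at h4
      subst h4
      exact .inr ⟨Nat.even_iff.2 h3, S, hSn, hSs, hna, hC, hS, hP⟩
  · exact .inl h

/-- **`Ω_{2m+1}(q)`, `m ≥ 3`.** -/
theorem row_oodd (tab : OrderTable.{0}) (hK : KnownS) {m : ℕ} (hm : 3 ≤ m) (hodd : Odd (Fintype.card F))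
    (h33 : ¬ (m = 3 ∧ Fintype.card F = 3)) {M : Subgroup (POmega F (quadFormOdd m F))} (hM : M ≠ ⊤) : IGap _ M ∨
      (Even m ∧ ∃ v, quadFormOdd m F v ≠ 0 ∧
        H884.El.pre (quadFormOdd m F) M ≤ subspaceStabilizer (Submodule.span F {v}) ∧
        ¬ IsPlus (res (quadOdd m F) (perp (quadOdd m F) (Submodule.span F {v})))) ∨
      (Even m ∧ ASR (.ominus m (Fintype.card F)) M (H884.El.pre (quadFormOdd m F) M)) := by
  by_cases hg : IGap _ M
  · exact .inl hg
  right
  obtain ⟨p, f, hp, hf, hpf, hpF⟩ := exists_pf F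
  have hs : IsSimpleGroup (POmega F (quadFormOdd m F)) := S0295.result hodd m hm
  have hfin : Finite (POmega F (quadFormOdd m F)) := Quotient.finite _
  have hT : IsNamed (.oodd m (Fintype.card F)) (POmega F (quadFormOdd m F)) := nm_oodd F hm hodd
  rcases cg_odd' hm hodd M with h | h | h
  · exact absurd h.iGap hg
  · rcases res_oodd tab hK outSpor hm hodd hp hpF h with h | ⟨g, -, h⟩ | ⟨g, ⟨S, hSn, hSs, hna, hC, hS, hP⟩, hch⟩
    · exact absurd h hg
    · simp only [excI, List.mem_cons, Prod.mk.injEq, Grp.oodd.injEq, reduceCtorEq, and_false, or_false,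
        List.not_mem_nil] at h
      omega
    · have hnaT : ¬ ∀ x y : POmega F (quadFormOdd m F), x * y = y * x := fun h =>
        hna ⟨⟨fun a b => Subtype.ext (Subtype.ext (h _ _))⟩⟩
      have hc : ∀ e, InE (.oodd m (Fintype.card F)) e → HC p f e M := fun e he =>
        hc_in hnaT hp hf hT ⟨f, hpf⟩ he hpf hg
      rw [hpf] at hT
      obtain ⟨h3, h4⟩ := ig_oodd hT hp hf hm (hc _ (by simp only [InE]; omega)) (hc _ (by simp only [InE]; omega))
        (fun h5 => hc _ (by simp only [InE]; omega)) hM S hna hC hS hch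
      rw [← hpf] at h4
      subst h4
      exact .inr ⟨Nat.even_iff.2 h3, S, hSn, hSs, hna, hC, hS, hP⟩
  · exact .inl h

/-- **`PΩ⁻_{2m}(q)`, `m ≥ 4`.** -/
theorem row_ominus (tab : OrderTable.{0}) (hK : KnownS) {m : ℕ} (hm : 4 ≤ m) {a b : F}
    (hab : ∀ z₁ z₂ : F, z₁ ^ 2 + a * z₁ * z₂ + b * z₂ ^ 2 = 0 → z₁ = 0 ∧ z₂ = 0)
    {M : Subgroup (POmega F (quadFormMinus (m - 1) F a b))} (hM : M ≠ ⊤) : IGap _ M := by
  by_contra hg
  obtain ⟨p, f, hp, hf, hpf, hpF⟩ := exists_pf F
  have hs : IsSimpleGroup (POmega F (quadFormMinus (m - 1) F a b)) := S0297.result m hm a b hab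
  have hfin : Finite (POmega F (quadFormMinus (m - 1) F a b)) := Quotient.finite _
  have hT : IsNamed (.ominus m (Fintype.card F)) (POmega F (quadFormMinus (m - 1) F a b)) := nm_ominus F hm hab
  rcases Cg.cg_minus hm hab M with h | h
  · exact hg h.iGap
  · rcases res_ominus tab hK outSpor hm hab hp hpF h with h | ⟨g, -, h⟩ | ⟨g, ⟨S, hSn, hSs, hna, hC, hS, hP⟩, hch⟩
    · exact hg h
    · simp only [excI, List.mem_cons, Prod.mk.injEq, reduceCtorEq, and_false, or_false, List.not_mem_nil] at h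
    · have hnaT : ¬ ∀ x y : POmega F (quadFormMinus (m - 1) F a b), x * y = y * x := fun h =>
        hna ⟨⟨fun a b => Subtype.ext (Subtype.ext (h _ _))⟩⟩
      have hc : ∀ e, InE (.ominus m (Fintype.card F)) e → HC p f e M := fun e he =>
        hc_in hnaT hp hf hT ⟨f, hpf⟩ he hpf hg
      rw [hpf] at hT
      exact ig_ominus hT hp hf hm (hc _ (by simp only [InE]; omega)) (hc _ (by simp only [InE]; omega))
        (fun h5 h6 => hc 3 (Or.inr ⟨rfl, le_rfl, by omega, by omega⟩)) hM S hna hC hS hch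

/-- **`PΩ⁺_{2m}(q)`, `m ≥ 5`.** -/
theorem row_oplus (tab : OrderTable.{0}) (hK : KnownS) {m : ℕ} (hm : 5 ≤ m)
    {M : Subgroup (POmega F (quadFormPlus m F))} (hM : M ≠ ⊤) : IGap _ M ∨
      (Even m ∧ ∃ v, quadFormPlus m F v ≠ 0 ∧
        H884.El.pre (quadFormPlus m F) M ≤ subspaceStabilizer (Submodule.span F {v})) ∨
      (Even m ∧ (ASR (.psp (m - 1) (Fintype.card F)) M (H884.El.pre (quadFormPlus m F) M) ∨
        ASR (.oodd (m - 1) (Fintype.card F)) M (H884.El.pre (quadFormPlus m F) M))) := by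
  by_cases hg : IGap _ M
  · exact .inl hg
  right
  obtain ⟨p, f, hp, hf, hpf, hpF⟩ := exists_pf F
  have hs : IsSimpleGroup (POmega F (quadFormPlus m F)) := S0296.result m (by omega)
  have hfin : Finite (POmega F (quadFormPlus m F)) := Quotient.finite _
  have hT : IsNamed (.oplus m (Fintype.card F)) (POmega F (quadFormPlus m F)) := nm_oplus F (by omega)
  rcases Cg.cg_plus (by omega) (by omega) M with h | h | h
  · exact absurd h.iGap hg
  · rcases res_oplus tab hK outSpor (by omega) hp hpF h with h | ⟨g, -, h⟩ | ⟨g, ⟨S, hSn, hSs, hna, hC, hS, hP⟩, hch⟩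
    · exact absurd h hg
    · simp only [excI, List.mem_cons, Prod.mk.injEq, Grp.oplus.injEq, reduceCtorEq, and_false, or_false,
        false_or, List.not_mem_nil] at h
      omega
    · have hnaT : ¬ ∀ x y : POmega F (quadFormPlus m F), x * y = y * x := fun h =>
        hna ⟨⟨fun a b => Subtype.ext (Subtype.ext (h _ _))⟩⟩
      have hc : ∀ e, InE (.oplus m (Fintype.card F)) e → HC p f e M := fun e he =>
        hc_in hnaT hp hf hT ⟨f, hpf⟩ he hpf hg
      rw [hpf] at hT
      obtain ⟨h3, h4⟩ := ig_oplus' hT hp hf hm (hc _ (by simp only [InE]; omega)) (hc _ (by simp only [InE]; omega))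
        (fun h5 => hc _ (by simp only [InE]; omega)) (fun h5 => hc _ (by simp only [InE]; omega)) hM S hna hC hS hch
      rw [← hpf] at h4
      refine .inr ⟨Nat.even_iff.2 h3, ?_⟩
      rcases h4 with rfl | rfl
      · exact .inl ⟨S, hSn, hSs, hna, hC, hS, hP⟩
      · exact .inr ⟨S, hSn, hSs, hna, hC, hS, hP⟩
  · exact .inl h

/-- **`PΩ⁺_8(q)`, `q ≥ 3`.** -/
theorem row_oplus4 (tab : OrderTable.{0}) (hK : KnownS) (h2 : Fintype.card F ≠ 2)
    {M : Subgroup (POmega F (quadFormPlus 4 F))} (hM : M ≠ ⊤) : IGap _ M ∨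
      (∃ v, quadFormPlus 4 F v ≠ 0 ∧
        H884.El.pre (quadFormPlus 4 F) M ≤ subspaceStabilizer (Submodule.span F {v})) ∨
      (∃ g, ASR g M (H884.El.pre (quadFormPlus 4 F) M) ∧
        ((Fintype.card F = 3 ∧ (g = .sz 8 ∨ g = .g2 4 ∨ g = .psl 2 13)) ∨ (Fintype.card F = 4 ∧ g = .psl 2 13))) ∨
      ∃ g, ASR g M (H884.El.pre (quadFormPlus 4 F) M) ∧ (g = .oodd 3 (Fintype.card F) ∨
        g = .psp 3 (Fintype.card F) ∨ g = .g2 (Fintype.card F) ∨
        g = .psl 2 (Fintype.card F ^ 3) ∨ (Fintype.card F = 4 ∧ g = .sz 8)) := by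
  by_cases hg : IGap _ M
  · exact .inl hg
  right
  obtain ⟨p, f, hp, hf, hpf, hpF⟩ := exists_pf F
  have hs : IsSimpleGroup (POmega F (quadFormPlus 4 F)) := S0296.result 4 le_rfl
  have hfin : Finite (POmega F (quadFormPlus 4 F)) := Quotient.finite _
  have hT : IsNamed (.oplus 4 (Fintype.card F)) (POmega F (quadFormPlus 4 F)) := nm_oplus F le_rfl
  rcases Cg.cg_plus le_rfl (by rw [Nat.card_eq_fintype_card]; omega) M with h | h | ⟨-, h⟩
  · exact absurd h.iGap hg
  · rcases res_oplus tab hK outSpor le_rfl hp hpF h with h | ⟨g, hA, h⟩ | ⟨g, ⟨S, hSn, hSs, hna, hC, hS, hP⟩, hch⟩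
    · exact absurd h hg
    · refine .inr (.inl ⟨g, hA, ?_⟩)
      simp only [excI, List.mem_cons, Prod.mk.injEq, Grp.oplus.injEq, reduceCtorEq, and_false, or_false,
        false_or, List.not_mem_nil, true_and] at h
      (clear * - h2 h; itauto)
    · have hnaT : ¬ ∀ x y : POmega F (quadFormPlus 4 F), x * y = y * x := fun h =>
        hna ⟨⟨fun a b => Subtype.ext (Subtype.ext (h _ _))⟩⟩
      have hc : ∀ e, InE (.oplus 4 (Fintype.card F)) e → HC p f e M := fun e he =>
        hc_in hnaT hp hf hT ⟨f, hpf⟩ he hpf hg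
      rw [hpf] at hT
      have h4 := ig_oplus4' hT hp hf (by rw [← hpf]; exact h2)
        (hc 6 (Or.inl ⟨rfl, by norm_num, by norm_num, by norm_num⟩))
        (hc 3 (Or.inr ⟨rfl, le_rfl, by norm_num, by norm_num⟩)) hM S hna hC hS hch
      rw [show p ^ (3 * f) = (p ^ f) ^ 3 by rw [← pow_mul, mul_comm], ← hpf] at h4
      exact .inr (.inr ⟨g, ⟨S, hSn, hSs, hna, hC, hS, hP⟩, h4⟩)
  · exact .inl h

end Cfsg.Agent.H884.Row
end

private theorem dce_3b033e3251e7 : _root_.True := by
  try have : _root_.True := by simp only [_root_.Cfsg.Agent.OrdDiv.Real.eq_6]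
  try have : _root_.True := by simp only [_root_.Cfsg.Agent.OrdDiv.Real.eq_36]
  try have : _root_.True := by simp only [_root_.Cfsg.Agent.OrdDiv.Real.eq_33]
  try have : _root_.True := by simp only [_root_.Cfsg.Agent.OrdDiv.Real.eq_12]
  try have : _root_.True := by simp only [_root_.Cfsg.Agent.OrdDiv.Real.eq_30]
  try have : _root_.True := by simp only [_root_.Cfsg.Agent.OrdDiv.Real.eq_39]
  try have : _root_.True := by simp only [_root_.Cfsg.Agent.OrdDiv.Real.eq_22]
  try have : _root_.True := by simp only [_root_.Cfsg.Agent.OrdDiv.Real.eq_2]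
  try have : _root_.True := by simp only [_root_.Cfsg.Agent.OrdDiv.Real.eq_27]
  try have : _root_.True := by simp only [_root_.Cfsg.Agent.OrdDiv.Real.eq_38]
  try have : _root_.True := by simp only [_root_.Cfsg.Agent.OrdDiv.Real.eq_35]
  try have : _root_.True := by simp only [_root_.Cfsg.Agent.OrdDiv.Real.eq_17]
  try have : _root_.True := by simp only [_root_.Cfsg.Agent.OrdDiv.Real.eq_29]
  try have : _root_.True := by simp only [_root_.Cfsg.Agent.OrdDiv.Real.eq_4]
  try have : _root_.True := by simp only [_root_.Cfsg.Agent.OrdDiv.Real.eq_8]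
  try have : _root_.True := by simp only [_root_.Cfsg.Agent.H884.Ig.excI.eq_1]
  try have : _root_.True := by simp only [_root_.Cfsg.Agent.OrdDiv.Real.eq_21]
  try have : _root_.True := by simp only [_root_.Cfsg.Agent.OrdDiv.Real.eq_31]
  try have : _root_.True := by simp only [_root_.Cfsg.Agent.OrdDiv.Real.eq_10]
  try have : _root_.True := by simp only [_root_.Cfsg.Agent.OrdDiv.Real.eq_18]
  try have : _root_.True := by simp only [_root_.Cfsg.Agent.OrdDiv.Real.eq_7]
  try have : _root_.True := by simp only [_root_.Cfsg.Agent.OrdDiv.Real.eq_9]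
  try have : _root_.True := by simp only [_root_.Cfsg.Agent.OrdDiv.Real.eq_32]
  try have : _root_.True := by simp only [_root_.Cfsg.Agent.OrdDiv.Real.eq_5]
  try have : _root_.True := by simp only [_root_.Cfsg.Agent.OrdDiv.Real.eq_34]
  try have : _root_.True := by simp only [_root_.Cfsg.Agent.OrdDiv.Real.eq_19]
  try have : _root_.True := by simp only [_root_.Cfsg.Agent.OrdDiv.Real.eq_3]
  try have : _root_.True := by simp only [_root_.Cfsg.Agent.OrdDiv.Real.eq_11]
  try have : _root_.True := by simp only [_root_.Cfsg.Agent.OrdDiv.Real.eq_25]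
  try have : _root_.True := by simp only [_root_.Cfsg.Agent.OrdDiv.Real.eq_41]
  try have : _root_.True := by simp only [_root_.Cfsg.Agent.OrdDiv.Real.eq_14]
  try have : _root_.True := by simp only [_root_.Cfsg.Agent.OrdDiv.Real.eq_28]
  try have : _root_.True := by simp only [_root_.Cfsg.Agent.OrdDiv.Real.eq_43]
  try have : _root_.True := by simp only [_root_.Cfsg.Agent.OrdDiv.Real.eq_1]
  try have : _root_.True := by simp only [_root_.Cfsg.Agent.OrdDiv.Real.eq_15]
  try have : _root_.True := by simp only [_root_.Cfsg.Agent.OrdDiv.Real.eq_13]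
  try have : _root_.True := by simp only [_root_.Cfsg.Agent.OrdDiv.Real.eq_24]
  try have : _root_.True := by simp only [_root_.Cfsg.Agent.OrdDiv.Real.eq_42]
  try have : _root_.True := by simp only [_root_.Cfsg.Agent.OrdDiv.Real.eq_23]
  try have : _root_.True := by simp only [_root_.Cfsg.Agent.OrdDiv.Real.eq_16]
  try have : _root_.True := by simp only [_root_.Cfsg.Agent.OrdDiv.Real.eq_20]
  try have : _root_.True := by simp only [_root_.Cfsg.Agent.OrdDiv.Real.eq_44]
  try have : _root_.True := by simp only [_root_.Cfsg.Agent.OrdDiv.Real.eq_26]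
  try have : _root_.True := by simp only [_root_.Cfsg.Agent.OrdDiv.Real.eq_37]
  try have : _root_.True := by simp only [_root_.Cfsg.Agent.OrdDiv.Real.eq_40]
  exact _root_.True.intro
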