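import Mathlib
import Cfsg.Agent.H883.Root
import Cfsg.Agent.H883.Sub
set_option linter.all false

-- part: H884/Ext1
section
/-!
# Extension fields in orthogonal groups: basics (helper884)

`V` is a vector space over `K ⊇ F` with a nondegenerate quadratic form `QK` over `K`, and `Q = Tr ∘ QK`.
-/

set_option autoImplicit false
set_option linter.unusedSectionVars false

namespace Cfsg.Agent.H884.Ext

open QuadraticMap Cfsg.Agent.LieClassical.OrthCore Cfsg.Agent.LieClassical.OrthTrans
  Cfsg.Agent.LieClassical.OrthSimple Cfsg.Agent.LieClassical.OrthFinite Cfsg.Agent.H883.Root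
  Cfsg.Agent.H883.Sub Module

variable {F K V : Type*} [Field F] [Field K] [Algebra F K] [AddCommGroup V] [Module F V] [Module K V]
  [IsScalarTower F K V] {Q : QuadraticForm F V} {QK : QuadraticForm K V}

/-- `Q` is the trace of the nondegenerate form `QK`. -/
structure TF (Q : QuadraticForm F V) (QK : QuadraticForm K V) : Prop where
  two : (2 : K) ≠ 0
  tr : ∀ v, Q v = Algebra.trace F K (QK v)
  nondeg : Nondeg QK

section Trace

variable [Finite K]

theorem trace_ext {a : K} (h : ∀ c : K, Algebra.trace F K (c * a) = 0) : a = 0 := by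
  have : Finite F := Finite.of_injective _ (algebraMap F K).injective
  by_contra ha
  have h1 : Algebra.trace F K ≠ 0 := Algebra.trace_ne_zero F K
  apply h1
  ext c
  have := h (c * a⁻¹)
  rwa [mul_assoc, inv_mul_cancel₀ ha, mul_one] at this

theorem trace_ext' {a b : K} (h : ∀ c : K, Algebra.trace F K (c * a) = Algebra.trace F K (c * b)) :
    a = b := by
  rw [← sub_eq_zero]
  apply trace_ext (F := F)
  intro c
  rw [mul_sub, map_sub, h, sub_self]

/-- Every linear functional on `K` is `x ↦ Tr (e x)`. -/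
theorem exists_trace (φ : K →ₗ[F] F) : ∃ e : K, ∀ x, φ x = Algebra.trace F K (e * x) := by
  have : Finite F := Finite.of_injective _ (algebraMap F K).injective
  have hfd : FiniteDimensional F K := inferInstance
  let T : K →ₗ[F] (K →ₗ[F] F) := Algebra.traceForm F K
  have hinj : Function.Injective T := by
    rw [← LinearMap.ker_eq_bot, LinearMap.ker_eq_bot']
    intro a ha
    apply trace_ext (F := F)
    intro c
    have := LinearMap.congr_fun ha c
    rw [mul_comm]
    exact this
  have hsurj : Function.Surjective T := by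
    have h2 : finrank F K = finrank F (K →ₗ[F] F) := by
      rw [finrank_linearMap, finrank_self, mul_one]
    exact (LinearMap.injective_iff_surjective_of_finrank_eq_finrank h2).1 hinj
  obtain ⟨e, he⟩ := hsurj φ
  exact ⟨e, fun x => by rw [← he]; rfl⟩

end Trace

namespace TF

variable (h : TF Q QK)
include h

theorem polar_eq (x y : V) : polar Q x y = Algebra.trace F K (polar QK x y) := by
  rw [polar, polar, h.tr, h.tr, h.tr, map_sub, map_sub]

theorem twoF : (2 : F) ≠ 0 := by
  intro h2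
  apply h.two
  have h3 := congrArg (algebraMap F K) h2
  rwa [map_ofNat, map_zero] at h3

theorem smul_left (c : K) (x y : V) : polar Q (c • x) y = Algebra.trace F K (c * polar QK x y) := by
  rw [h.polar_eq, polar_smul_left, smul_eq_mul]

theorem smul_right (c : K) (x y : V) : polar Q x (c • y) = Algebra.trace F K (c * polar QK x y) := by
  rw [h.polar_eq, polar_smul_right, smul_eq_mul]

theorem sing {v : V} (hv : QK v = 0) : Q v = 0 := by rw [h.tr, hv, map_zero]

theorem perp_of {x y : V} (hxy : polar QK x y = 0) : polar Q x y = 0 := by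
  rw [h.polar_eq, hxy, map_zero]

theorem polarK_eq_zero [Finite K] {x y : V} (hxy : ∀ c : K, polar Q (c • x) y = 0) :
    polar QK x y = 0 :=
  trace_ext (F := F) fun c => by rw [← h.smul_left, hxy]

theorem nondegF [Finite K] : Nondeg Q := by
  intro x hx
  apply h.nondeg
  intro y
  rw [polar_comm]
  apply h.polarK_eq_zero
  intro c
  rw [polar_comm]
  exact hx _

theorem good [Finite K] [FiniteDimensional F V] (hd : 5 ≤ finrank F V) : Good Q := by
  have : Finite F := Finite.of_injective _ (algebraMap F K).injective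
  exact good_of_finite h.nondegF hd

end TF

/-- The group of semilinear transformations (over `F`). -/
def NK (F K V : Type*) [Field F] [Field K] [Algebra F K] [AddCommGroup V] [Module F V] [Module K V] :
    Subgroup (V ≃ₗ[F] V) where
  carrier := {g | ∃ σ : K ≃+* K, ∀ (c : K) (v : V), g (c • v) = σ c • g v}
  mul_mem' := by
    rintro g g' ⟨σ, hσ⟩ ⟨σ', hσ'⟩
    refine ⟨σ'.trans σ, fun c v => ?_⟩
    rw [LinearEquiv.mul_apply, LinearEquiv.mul_apply, hσ', hσ]
    rfl
  one_mem' := ⟨RingEquiv.refl K, fun c v => rfl⟩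
  inv_mem' := by
    rintro g ⟨σ, hσ⟩
    refine ⟨σ.symm, fun c v => ?_⟩
    apply g.injective
    rw [hσ, RingEquiv.apply_symm_apply]
    change g (g.symm (c • v)) = c • g (g.symm v)
    rw [LinearEquiv.apply_symm_apply, LinearEquiv.apply_symm_apply]

theorem mem_NK {g : V ≃ₗ[F] V} :
    g ∈ NK F K V ↔ ∃ σ : K ≃+* K, ∀ (c : K) (v : V), g (c • v) = σ c • g v := Iff.rfl

/-- `K`-linear transformations. -/
theorem mem_NK_of_linear {g : V ≃ₗ[F] V} (hg : ∀ (c : K) (v : V), g (c • v) = c • g v) :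
    g ∈ NK F K V := ⟨RingEquiv.refl K, hg⟩

/-- Semilinear maps fix `F`. -/
theorem sigma_algebraMap [Nontrivial V] {g : V ≃ₗ[F] V} {σ : K ≃+* K}
    (hσ : ∀ (c : K) (v : V), g (c • v) = σ c • g v) (a : F) :
    σ (algebraMap F K a) = algebraMap F K a := by
  obtain ⟨v, hv⟩ := exists_ne (0 : V)
  have h1 := hσ (algebraMap F K a) v
  rw [algebraMap_smul, map_smul, ← algebraMap_smul K a (g v), ← sub_eq_zero, ← sub_smul] at h1
  rcases smul_eq_zero.1 h1 with h2 | h2
  · exact (sub_eq_zero.1 h2).symm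
  · exact absurd (g.map_eq_zero_iff.1 h2) hv

/-- The `F`-algebra automorphism attached to a semilinear map. -/
def toAlgEquiv [Nontrivial V] {g : V ≃ₗ[F] V} {σ : K ≃+* K}
    (hσ : ∀ (c : K) (v : V), g (c • v) = σ c • g v) : K ≃ₐ[F] K :=
  AlgEquiv.ofRingEquiv (f := σ) (sigma_algebraMap hσ)

theorem trace_sigma [Nontrivial V] {g : V ≃ₗ[F] V} {σ : K ≃+* K}
    (hσ : ∀ (c : K) (v : V), g (c • v) = σ c • g v) (a : K) :
    Algebra.trace F K (σ a) = Algebra.trace F K a :=
  Algebra.trace_eq_of_algEquiv (toAlgEquiv hσ) a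

theorem TF.polar_sigma [Finite K] [Nontrivial V] (h : TF Q QK) {g : V ≃ₗ[F] V} (hg : g ∈ O Q)
    {σ : K ≃+* K} (hσ : ∀ (c : K) (v : V), g (c • v) = σ c • g v) (x y : V) :
    polar QK (g x) (g y) = σ (polar QK x y) := by
  apply trace_ext' (F := F)
  intro c
  obtain ⟨c, rfl⟩ := σ.surjective c
  rw [← h.smul_left, ← hσ, polar_map hg, h.smul_left, ← map_mul, trace_sigma hσ]

theorem TF.quad_sigma [Finite K] [Nontrivial V] (h : TF Q QK) {g : V ≃ₗ[F] V} (hg : g ∈ O Q)
    {σ : K ≃+* K} (hσ : ∀ (c : K) (v : V), g (c • v) = σ c • g v) (x : V) :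
    QK (g x) = σ (QK x) := by
  have h1 := h.polar_sigma hg hσ x x
  rw [polar_self', polar_self', map_mul] at h1
  have h2 : σ (2 : K) = 2 := map_ofNat σ 2
  rw [h2] at h1
  exact mul_left_cancel₀ h.two h1

/-! ### `K`-isometries -/

theorem TF.restrict_mem_O (h : TF Q QK) {g : V ≃ₗ[K] V} (hg : g ∈ O QK) :
    g.restrictScalars F ∈ O Q := by
  intro v
  change Q (g v) = Q v
  rw [h.tr, h.tr, hg]

/-- Squares of isometries are in `E Q`. -/
theorem sq_mem_E [FiniteDimensional F V] (hG : Good Q) {g : V ≃ₗ[F] V} (hg : g ∈ O Q) :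
    g * g ∈ E Q := by
  have hcomm : ∀ a ∈ O Q, ∀ b ∈ O Q, a * b * a⁻¹ * b⁻¹ ∈ E Q := fun a ha b hb =>
    hG.commutator_le_E (Subgroup.commutator_mem_commutator ha hb)
  have hmul : ∀ a ∈ O Q, ∀ b ∈ O Q, a * a ∈ E Q → b * b ∈ E Q → (a * b) * (a * b) ∈ E Q := by
    intro a ha b hb h1 h2
    have e : (a * b) * (a * b) =
        (a * (b * a * b⁻¹ * a⁻¹) * a⁻¹) * (a * a) * (b * b) := by group
    rw [e]
    refine (E Q).mul_mem ((E Q).mul_mem ?_ h1) h2
    exact conj_mem_E ha (hcomm b hb a ha)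
  rw [O_eq_closure hG.nondeg] at hg
  have key : g ∈ O Q ∧ g * g ∈ E Q := by
    induction hg using Subgroup.closure_induction with
    | mem x hx =>
      rcases hx with ⟨v, hv, rfl⟩ | ⟨u, w, hu, hw, rfl⟩
      · exact ⟨refl_mem_O hv, by rw [refl_mul_self]; exact (E Q).one_mem⟩
      · exact ⟨siegel_mem_O hu hw, (E Q).mul_mem (siegel_mem_E hu hw) (siegel_mem_E hu hw)⟩
    | one => exact ⟨(O Q).one_mem, by rw [one_mul]; exact (E Q).one_mem⟩
    | mul x y _ _ hx hy => exact ⟨(O Q).mul_mem hx.1 hy.1, hmul x hx.1 y hy.1 hx.2 hy.2⟩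
    | inv x _ hx =>
      refine ⟨(O Q).inv_mem hx.1, ?_⟩
      rw [← mul_inv_rev]
      exact (E Q).inv_mem hx.2
  exact key.2

/-- Isometries of odd order are in `E Q`. -/
theorem mem_E_of_odd [FiniteDimensional F V] (hG : Good Q) {g : V ≃ₗ[F] V} (hg : g ∈ O Q) {n : ℕ}
    (hn : Odd n) (hgn : g ^ n = 1) : g ∈ E Q := by
  obtain ⟨k, rfl⟩ := hn
  have e : g = (g ^ (k + 1)) * (g ^ (k + 1)) := by
    rw [← pow_add, show k + 1 + (k + 1) = (2 * k + 1) + 1 by ring, pow_succ, hgn, one_mul]
  rw [e]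
  exact sq_mem_E hG ((O Q).pow_mem hg _)

/-- Unipotent isometries `u` with `(u - 1)³ = 0` are in `E Q` (odd characteristic). -/
theorem mem_E_of_unip [Finite F] [FiniteDimensional F V] (hG : Good Q) (h2 : (2 : F) ≠ 0)
    {g : V ≃ₗ[F] V} (hg : g ∈ O Q)
    (hu : ∀ v, g (g (g v)) - (3 : F) • g (g v) + (3 : F) • g v - v = 0) : g ∈ E Q := by
  obtain ⟨p, hp⟩ := CharP.exists F
  have hpp : p.Prime := (CharP.char_is_prime_or_zero F p).resolve_right (by
    rintro rfl
    have : CharZero F := CharP.charP_to_charZero F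
    exact not_finite F)
  have hp2 : p ≠ 2 := by
    rintro rfl
    exact h2 (CharTwo.two_eq_zero)
  have hodd : Odd p := hpp.odd_of_ne_two hp2
  have : Fact p.Prime := ⟨hpp⟩
  let N : Module.End F V := g.toLinearMap - 1
  have hN3 : N ^ 3 = 0 := by
    ext v
    have := hu v
    simp only [N, pow_succ, pow_zero, one_mul, Module.End.mul_apply, LinearMap.sub_apply,
      LinearEquiv.coe_coe, Module.End.one_apply, map_sub, LinearMap.zero_apply]
    rw [← this]
    module
  have hNp : N ^ (p ^ 2) = 0 := by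
    have h3 : 3 ≤ p ^ 2 := by
      have := hpp.two_le
      nlinarith
    obtain ⟨k, hk⟩ := Nat.exists_eq_add_of_le h3
    rw [hk, pow_add, hN3, zero_mul]
  have hchar : CharP (Module.End F V) p := by
    have : Nontrivial V := by
      obtain ⟨x, hx, -⟩ := hG.sing
      exact ⟨⟨x, 0, hx⟩⟩
    exact charP_of_injective_algebraMap (algebraMap F (Module.End F V)).injective p
  have h1 : (g.toLinearMap : Module.End F V) = 1 + N := by simp [N]
  have h3 : (g.toLinearMap : Module.End F V) ^ (p ^ 2) = 1 := by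
    rw [h1, add_pow_char_pow_of_commute p 2 (Commute.one_left N), hNp, one_pow, add_zero]
  refine mem_E_of_odd hG hg (hodd.pow (n := 2)) ?_
  have h4 : ((g ^ (p ^ 2) : V ≃ₗ[F] V).toLinearMap : Module.End F V) = 1 := by
    rw [← h3]
    clear * -
    induction p ^ 2 with
    | zero => rfl
    | succ n ih =>
      rw [pow_succ, pow_succ, ← ih]
      rfl
  ext v
  exact LinearMap.congr_fun h4 v

end Cfsg.Agent.H884.Ext
end

-- part: H884/Ext2
section
/-!
# Extension fields in orthogonal groups: stabilisers of singular points (helper884)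
-/

set_option autoImplicit false
set_option linter.unusedSectionVars false

namespace Cfsg.Agent.H884.Ext

open QuadraticMap Cfsg.Agent.LieClassical.OrthCore Cfsg.Agent.LieClassical.OrthTrans
  Cfsg.Agent.LieClassical.OrthSimple Cfsg.Agent.LieClassical.OrthFinite Cfsg.Agent.H883.Root
  Cfsg.Agent.H883.Sub Module

variable {F K V : Type*} [Field F] [Field K] [Algebra F K] [AddCommGroup V] [Module F V] [Module K V]
  [IsScalarTower F K V] {Q : QuadraticForm F V} {QK : QuadraticForm K V}

/-- The `K`-Siegel transformation as an `F`-linear map. -/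
def rho (F : Type*) {K V : Type*} [Field F] [Field K] [Algebra F K] [AddCommGroup V] [Module F V]
    [Module K V] [IsScalarTower F K V] (QK : QuadraticForm K V) (v y : V) (hv : QK v = 0)
    (hy : polar QK v y = 0) : V ≃ₗ[F] V :=
  (siegel QK v y hv hy).restrictScalars F

theorem rho_apply {v y : V} (hv : QK v = 0) (hy : polar QK v y = 0) (x : V) :
    rho F QK v y hv hy x =
      x + polar QK v x • y - polar QK y x • v - (QK y * polar QK v x) • v :=
  siegel_apply hv hy x

theorem rho_mul {v y y' : V} (hv : QK v = 0) (hy : polar QK v y = 0) (hy' : polar QK v y' = 0)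
    (h : polar QK v (y + y') = 0) :
    rho F QK v y hv hy * rho F QK v y' hv hy' = rho F QK v (y + y') hv h := by
  ext x
  exact siegelLin_comp hv hy hy' x

theorem rho_inv {v y : V} (hv : QK v = 0) (hy : polar QK v y = 0) (hy' : polar QK v (-y) = 0) :
    (rho F QK v y hv hy)⁻¹ = rho F QK v (-y) hv hy' := by
  rw [inv_eq_iff_mul_eq_one, rho_mul hv hy hy' (by rw [add_neg_cancel, polar_zero_right])]
  ext x
  rw [rho_apply]
  simp

theorem rho_smul {v y : V} (hv : QK v = 0) (hy : polar QK v y = 0) (c : K) (x : V) :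
    rho F QK v y hv hy (c • x) = c • rho F QK v y hv hy x :=
  (siegel QK v y hv hy).map_smul c x

theorem rho_perp {v y x : V} (hv : QK v = 0) (hy : polar QK v y = 0) (hx : polar QK v x = 0) :
    rho F QK v y hv hy x = x - polar QK y x • v := by
  rw [rho_apply, hx]
  simp

theorem rho_self {v y : V} (hv : QK v = 0) (hy : polar QK v y = 0) (c : K) :
    rho F QK v y hv hy (c • v) = c • v := by
  rw [rho_perp hv hy (by rw [polar_smul_right, polar_self_of_sing hv, smul_zero]), polar_smul_right,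
    polar_comm QK y v, hy]
  simp

theorem rho_mem_NK {v y : V} (hv : QK v = 0) (hy : polar QK v y = 0) :
    rho F QK v y hv hy ∈ NK F K V := mem_NK_of_linear (rho_smul hv hy)

theorem TF.rho_mem_O (h : TF Q QK) {v y : V} (hv : QK v = 0) (hy : polar QK v y = 0) :
    rho F QK v y hv hy ∈ O Q := h.restrict_mem_O (siegel_mem_O hv hy)

theorem TF.rho_mem_E [FiniteDimensional F V] (h : TF Q QK) (hG : Good Q) {v y : V} (hv : QK v = 0)
    (hy : polar QK v y = 0) : rho F QK v y hv hy ∈ E Q := by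
  have hy2 : polar QK v ((2 : K)⁻¹ • y) = 0 := by rw [polar_smul_right, hy, smul_zero]
  have e : (2 : K)⁻¹ • y + (2 : K)⁻¹ • y = y := by
    rw [← two_smul K ((2 : K)⁻¹ • y), smul_smul, mul_inv_cancel₀ h.two, one_smul]
  have e2 : rho F QK v y hv hy =
      rho F QK v ((2 : K)⁻¹ • y) hv hy2 * rho F QK v ((2 : K)⁻¹ • y) hv hy2 := by
    rw [rho_mul hv hy2 hy2 (by rw [e]; exact hy)]
    congr 1
    exact e.symm
  rw [e2]
  exact sq_mem_E hG (h.rho_mem_O hv hy2)

theorem TF.restrict_mem_E [FiniteDimensional F V] (h : TF Q QK) (hG : Good Q) {g : V ≃ₗ[K] V}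
    (hg : g ∈ E QK) : g.restrictScalars F ∈ E Q := by
  induction hg using Subgroup.closure_induction with
  | mem x hx =>
    obtain ⟨u, w, hu, hw, rfl⟩ := hx
    exact h.rho_mem_E hG hu hw
  | one => exact (E Q).one_mem
  | mul x y _ _ hx hy => exact (E Q).mul_mem hx hy
  | inv x _ hx => exact (E Q).inv_mem hx

/-- `X` is an overgroup in `E Q` of the normaliser of `K`. -/
structure Over (Q : QuadraticForm F V) (K : Type*) [Field K] [Algebra F K] [Module K V]
    (X : Subgroup (V ≃ₗ[F] V)) : Prop where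
  le : X ≤ E Q
  ge : ∀ g ∈ E Q, g ∈ NK F K V → g ∈ X

/-- Two nonzero singular vectors have a common opposite. -/
theorem exists_opp (h : TF Q QK) (hm : 3 ≤ finrank K V) {v v' : V} (hv : QK v = 0)
    (hv' : QK v' = 0) (h0 : v ≠ 0) (h0' : v' ≠ 0) :
    ∃ u, QK u = 0 ∧ polar QK u v ≠ 0 ∧ polar QK u v' ≠ 0 := by
  by_cases hp : polar QK v v' = 0
  · obtain ⟨z, hz, hz'⟩ : ∃ z, polar QK z v ≠ 0 ∧ polar QK z v' ≠ 0 := by
      obtain ⟨z1, h1⟩ := h.nondeg.exists_polar_ne h0
      obtain ⟨z2, h2⟩ := h.nondeg.exists_polar_ne h0'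
      rw [polar_comm] at h1 h2
      by_cases h3 : polar QK z1 v' = 0
      · by_cases h4 : polar QK z2 v = 0
        · exact ⟨z1 + z2, by rw [polar_add_left, h4, add_zero]; exact h1,
            by rw [polar_add_left, h3, zero_add]; exact h2⟩
        · exact ⟨z2, h4, h2⟩
      · exact ⟨z1, h1, h3⟩
    refine ⟨z + (-(QK z * (polar QK z v)⁻¹)) • v, ?_, ?_, ?_⟩
    · rw [Q_add, QuadraticMap.map_smul, hv, polar_smul_right]
      simp only [smul_eq_mul, mul_zero, add_zero]
      field_simp
      ring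
    · rw [polar_add_left, polar_smul_left, polar_self_of_sing hv, smul_zero, add_zero]
      exact hz
    · rw [polar_add_left, polar_smul_left, hp, smul_zero, add_zero]
      exact hz'
  · obtain ⟨y, hy, hyv, hyv'⟩ : ∃ y, QK y ≠ 0 ∧ polar QK v y = 0 ∧ polar QK v' y = 0 := by
      have hH : Hyp QK v ((polar QK v v')⁻¹ • v') :=
        ⟨hv, by rw [QuadraticMap.map_smul, hv', smul_zero],
          by rw [polar_smul_right, smul_eq_mul, inv_mul_cancel₀ hp]⟩
      obtain ⟨a, c, h1, h2, h3, h4, h5⟩ := exists_perp2 h.nondeg hm hH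
      have h2' : polar QK v' a = 0 := by
        rw [polar_smul_left, smul_eq_mul] at h2
        exact (mul_eq_zero.1 h2).resolve_left (inv_ne_zero hp)
      have h4' : polar QK v' c = 0 := by
        rw [polar_smul_left, smul_eq_mul] at h4
        exact (mul_eq_zero.1 h4).resolve_left (inv_ne_zero hp)
      rcases exists_nonsing h5 with h6 | h6 | h6
      · exact ⟨a, h6, h1, h2'⟩
      · exact ⟨c, h6, h3, h4'⟩
      · exact ⟨a + c, h6, by rw [polar_add_right, h1, h3, add_zero],
          by rw [polar_add_right, h2', h4', add_zero]⟩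
    refine ⟨v + y + (-(QK y * (polar QK v v')⁻¹)) • v', ?_, ?_, ?_⟩
    · rw [Q_add, Q_add, QuadraticMap.map_smul, hv, hv', polar_smul_right, polar_add_left, hyv,
        polar_comm QK y v', hyv']
      simp only [smul_eq_mul, mul_zero, add_zero, zero_add]
      field_simp
      ring
    · rw [polar_add_left, polar_add_left, polar_smul_left, polar_self_of_sing hv, polar_comm QK y v,
        hyv, polar_comm QK v' v, smul_eq_mul, neg_mul, mul_assoc, inv_mul_cancel₀ hp]
      simpa using hy
    · rw [polar_add_left, polar_add_left, polar_smul_left, polar_self_of_sing hv', polar_comm QK y v',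
        hyv']
      simpa using hp

/-- `E QK` is transitive on singular points. -/
theorem exists_trans (h : TF Q QK) (hm : 3 ≤ finrank K V) {v v' : V} (hv : QK v = 0)
    (hv' : QK v' = 0) (h0 : v ≠ 0) (h0' : v' ≠ 0) :
    ∃ g ∈ E QK, ∃ a : K, a ≠ 0 ∧ g v = a • v' := by
  obtain ⟨u, hu, h1, h2⟩ := exists_opp h hm hv hv' h0 h0'
  have hH : Hyp QK u ((polar QK u v)⁻¹ • v) :=
    ⟨hu, by rw [QuadraticMap.map_smul, hv, smul_zero],
      by rw [polar_smul_right, smul_eq_mul, inv_mul_cancel₀ h1]⟩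
  have hH' : Hyp QK u ((polar QK u v')⁻¹ • v') :=
    ⟨hu, by rw [QuadraticMap.map_smul, hv', smul_zero],
      by rw [polar_smul_right, smul_eq_mul, inv_mul_cancel₀ h2]⟩
  obtain ⟨g, hg, -, hg'⟩ := siegel_partner hH hH'
  refine ⟨g, hg, polar QK u v * (polar QK u v')⁻¹, mul_ne_zero h1 (inv_ne_zero h2), ?_⟩
  rw [map_smul] at hg'
  rw [mul_smul, ← hg', smul_smul, mul_inv_cancel₀ h1, one_smul]

theorem Over.exists_trans [FiniteDimensional F V] {X : Subgroup (V ≃ₗ[F] V)} (hX : Over Q K X)
    (h : TF Q QK) (hG : Good Q) (hm : 3 ≤ finrank K V) {v v' : V} (hv : QK v = 0)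
    (hv' : QK v' = 0) (h0 : v ≠ 0) (h0' : v' ≠ 0) :
    ∃ g ∈ X, (∀ (c : K) (x : V), g (c • x) = c • g x) ∧ ∃ a : K, a ≠ 0 ∧ g v = a • v' := by
  obtain ⟨g, hg, a, ha, hga⟩ := Ext.exists_trans h hm hv hv' h0 h0'
  exact ⟨g.restrictScalars F, hX.ge _ (h.restrict_mem_E hG hg)
    (mem_NK_of_linear fun c x => g.map_smul c x), fun c x => g.map_smul c x, a, ha, hga⟩

theorem Over.rho_mem [FiniteDimensional F V] {X : Subgroup (V ≃ₗ[F] V)} (hX : Over Q K X)
    (h : TF Q QK) (hG : Good Q) {v y : V} (hv : QK v = 0) (hy : polar QK v y = 0) :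
    rho F QK v y hv hy ∈ X := hX.ge _ (h.rho_mem_E hG hv hy) (rho_mem_NK hv hy)

/-! ### Transformations attached to skew maps of `K` -/

/-- A vector orthogonal to `v^⊥` is a multiple of `v`. -/
theorem eq_smul_of_perp (h : TF Q QK) {v v' w : V} (hH : Hyp QK v v')
    (hw : ∀ z, polar QK v z = 0 → polar QK w z = 0) : w = polar QK v' w • v := by
  rw [← sub_eq_zero]
  apply h.nondeg
  intro y
  have h1 : polar QK v (y - polar QK v y • v') = 0 := by
    rw [polar_sub_right, polar_smul_right, hH.pair, smul_eq_mul, mul_one, sub_self]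
  have h2 := hw _ h1
  rw [polar_sub_right, polar_smul_right, sub_eq_zero] at h2
  rw [polar_sub_left, polar_smul_left, h2, polar_comm QK w v', smul_eq_mul, smul_eq_mul]
  ring

/-- An isometry fixing `v^⊥` pointwise. -/
theorem exists_beta [Finite K] (h : TF Q QK) {v v' : V} (hH : Hyp QK v v') {g : V ≃ₗ[F] V}
    (hg : g ∈ O Q) (hfix : ∀ x, polar QK v x = 0 → g x = x) :
    ∃ β : K →ₗ[F] K, ∀ x, g x = x + β (polar QK v x) • v := by
  have h1 : ∀ x, g x - x = polar QK v' (g x - x) • v := by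
    intro x
    apply eq_smul_of_perp h hH
    intro z hz
    apply h.polarK_eq_zero
    intro c
    have hz' : polar QK v (c • z) = 0 := by rw [polar_smul_right, hz, smul_zero]
    have e : polar Q (c • (g x - x)) z = polar Q (g x - x) (c • z) := by
      rw [h.smul_left, h.smul_right]
    rw [e, polar_sub_left]
    nth_rewrite 1 [← hfix _ hz']
    rw [polar_map hg, sub_self]
  let T : K →ₗ[F] V := (LinearMap.toSpanSingleton K V v').restrictScalars F
  let P : V →ₗ[F] K := (polarBilin QK v').restrictScalars F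
  refine ⟨P ∘ₗ (g.toLinearMap - LinearMap.id) ∘ₗ T, fun x => ?_⟩
  have h2 : g x - x = g (polar QK v x • v') - polar QK v x • v' := by
    have h3 : polar QK v (x - polar QK v x • v') = 0 := by
      rw [polar_sub_right, polar_smul_right, hH.pair, smul_eq_mul, mul_one, sub_self]
    have h4 := hfix _ h3
    rw [map_sub] at h4
    rw [sub_eq_sub_iff_sub_eq_sub]
    exact h4
  have h5 : (P ∘ₗ (g.toLinearMap - LinearMap.id) ∘ₗ T) (polar QK v x) =
      polar QK v' (g (polar QK v x • v') - polar QK v x • v') := rfl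
  rw [h5, ← h1, ← h2]
  abel

/-- Trivial on `Kv`, on `v^⊥ / Kv`. -/
structure Uni (QK : QuadraticForm K V) (v : V) (q : V ≃ₗ[F] V) : Prop where
  fix : ∀ c : K, q (c • v) = c • v
  perp : ∀ x, polar QK v x = 0 → ∃ c : K, q x = x + c • v

theorem Uni.polar_eq [Finite K] (h : TF Q QK) {v : V} {q : V ≃ₗ[F] V} (hq : Uni QK v q)
    (hO : q ∈ O Q) (x : V) : polar QK v (q x) = polar QK v x := by
  apply trace_ext' (F := F)
  intro c
  rw [← h.smul_left, ← h.smul_left]
  nth_rewrite 1 [← hq.fix c]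
  exact polar_map hO _ _

theorem Uni.inv {v : V} {q : V ≃ₗ[F] V} (hq : Uni QK v q) : Uni QK v q⁻¹ := by
  have h1 : ∀ c : K, q⁻¹ (c • v) = c • v := by
    intro c
    apply q.injective
    rw [hq.fix]
    exact q.apply_symm_apply _
  refine ⟨h1, fun x hx => ?_⟩
  obtain ⟨c, hc⟩ := hq.perp x hx
  refine ⟨-c, ?_⟩
  apply q.injective
  rw [map_add, hq.fix, hc, neg_smul, add_neg_cancel_right]
  exact q.apply_symm_apply _

theorem Uni.mul {v : V} {q q' : V ≃ₗ[F] V} (hq : Uni QK v q) (hq' : Uni QK v q') :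
    Uni QK v (q * q') := by
  refine ⟨fun c => ?_, fun x hx => ?_⟩
  · rw [LinearEquiv.mul_apply, hq'.fix, hq.fix]
  · obtain ⟨c, hc⟩ := hq.perp x hx
    obtain ⟨c', hc'⟩ := hq'.perp x hx
    exact ⟨c + c', by rw [LinearEquiv.mul_apply, hc', map_add, hq.fix, hc, add_smul]; abel⟩

theorem uni_rho {v y : V} (hv : QK v = 0) (hy : polar QK v y = 0) :
    Uni QK v (rho F QK v y hv hy) :=
  ⟨rho_self hv hy, fun x hx => ⟨-polar QK y x, by rw [rho_perp hv hy hx, neg_smul]; abel⟩⟩

/-- The hypothesis `B = 1`. -/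
def Triv (QK : QuadraticForm K V) (X : Subgroup (V ≃ₗ[F] V)) (v : V) : Prop :=
  ∀ β : K →ₗ[F] K, (∃ g ∈ X, ∀ x, g x = x + β (polar QK v x) • v) → β = 0

theorem Triv.eq_one [Finite K] (h : TF Q QK) {X : Subgroup (V ≃ₗ[F] V)} (hXO : X ≤ O Q) {v v' : V}
    (hH : Hyp QK v v') (hT : Triv QK X v) {g : V ≃ₗ[F] V} (hg : g ∈ X)
    (hfix : ∀ x, polar QK v x = 0 → g x = x) : g = 1 := by
  obtain ⟨β, hβ⟩ := exists_beta h hH (hXO hg) hfix
  have h0 := hT β ⟨g, hg, hβ⟩
  ext x
  rw [hβ, h0]
  simp

/-- Elements of `X` in the unipotent radical commute with the `K`-Siegel transformations. -/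
theorem Triv.commute [Finite K] [FiniteDimensional F V] (h : TF Q QK) (hG : Good Q)
    {X : Subgroup (V ≃ₗ[F] V)} (hX : Over Q K X) {v v' : V} (hH : Hyp QK v v')
    (hT : Triv QK X v) {q : V ≃ₗ[F] V} (hq : q ∈ X) (hU : Uni QK v q) {y : V}
    (hy : polar QK v y = 0) (x : V) :
    q (rho F QK v y hH.left hy x) = rho F QK v y hH.left hy (q x) := by
  have hXO : X ≤ O Q := fun g hg => E_le_O (hX.le hg)
  set ρ := rho F QK v y hH.left hy with hρ
  have hρX : ρ ∈ X := hX.rho_mem h hG hH.left hy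
  have hρU : Uni QK v ρ := uni_rho hH.left hy
  have h1 : q * ρ * q⁻¹ * ρ⁻¹ = 1 := by
    apply hT.eq_one h hXO hH
    · exact X.mul_mem (X.mul_mem (X.mul_mem hq hρX) (X.inv_mem hq)) (X.inv_mem hρX)
    · intro x hx
      obtain ⟨c, hc⟩ := hU.inv.perp x hx
      obtain ⟨d, hd⟩ := hρU.inv.perp x hx
      have h2 : q (x + c • v) = x := by
        rw [← hc]; exact q.apply_symm_apply _
      have h3 : ρ (x + d • v) = x := by
        rw [← hd]; exact ρ.apply_symm_apply _
      rw [map_add, hρU.fix] at h3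
      have h4 : ρ (x + c • v + d • v) = x + c • v := by
        rw [map_add, map_add, hρU.fix, hρU.fix, add_right_comm, h3]
      rw [LinearEquiv.mul_apply, LinearEquiv.mul_apply, LinearEquiv.mul_apply, hd, map_add, hc,
        hU.inv.fix, h4, h2]
  have h5 : q * ρ = ρ * q := by
    have : q * ρ = (q * ρ * q⁻¹ * ρ⁻¹) * (ρ * q) := by group
    rw [this, h1, one_mul]
  exact LinearEquiv.congr_fun h5 x

/-- Elements of `X` in the unipotent radical are `K`-Siegel transformations. -/
theorem Triv.exists_rho [Finite K] [FiniteDimensional F V] (h : TF Q QK) (hG : Good Q)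
    {X : Subgroup (V ≃ₗ[F] V)} (hX : Over Q K X) {v v' : V} (hH : Hyp QK v v')
    (hT : Triv QK X v) {q : V ≃ₗ[F] V} (hq : q ∈ X) (hU : Uni QK v q) :
    ∃ (w : V) (hw : polar QK v w = 0), polar QK v' w = 0 ∧ q = rho F QK v w hH.left hw := by
  have hXO : X ≤ O Q := fun g hg => E_le_O (hX.le hg)
  set w0 := q v' - v' with hw0
  have h1 : polar QK v w0 = 0 := by
    rw [hw0, polar_sub_right, hU.polar_eq h (hXO hq), sub_self]
  set w := w0 - polar QK v' w0 • v with hw
  have h2 : polar QK v w = 0 := by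
    rw [hw, polar_sub_right, polar_smul_right, h1, polar_self_of_sing hH.left, smul_zero, sub_zero]
  have h3 : polar QK v' w = 0 := by
    rw [hw, polar_sub_right, polar_smul_right, hH.pair', smul_eq_mul, mul_one, sub_self]
  refine ⟨w, h2, h3, ?_⟩
  set ρ := rho F QK v w hH.left h2 with hρ
  have hρX : ρ ∈ X := hX.rho_mem h hG hH.left h2
  have hρU : Uni QK v ρ := uni_rho hH.left h2
  -- `q' = ρ⁻¹ q`
  have hq'X : ρ⁻¹ * q ∈ X := X.mul_mem (X.inv_mem hρX) hq
  have hq'U : Uni QK v (ρ⁻¹ * q) := hρU.inv.mul hU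
  have hρv' : ρ v' = v' + w - QK w • v := by
    rw [hρ, rho_apply, hH.pair, polar_comm QK w v', h3]
    simp
  have hqv' : q v' = v' + w + polar QK v' w0 • v := by
    rw [hw, hw0]; abel
  have hv' : (ρ⁻¹ * q) v' = v' + (polar QK v' w0 + QK w) • v := by
    apply ρ.injective
    rw [map_add, hρU.fix, hρv']
    have : ρ ((ρ⁻¹ * q) v') = q v' := ρ.apply_symm_apply _
    rw [this, hqv', add_smul]
    abel
  have hz : ∀ z, polar QK v z = 0 → polar QK v' z = 0 → (ρ⁻¹ * q) z = z := by
    intro z hz hz'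
    have h4 := hT.commute h hG hX hH hq'X hq'U hz v'
    have h5 : rho F QK v z hH.left hz v' = v' + z - QK z • v := by
      rw [rho_apply, hH.pair, polar_comm QK z v', hz']
      simp
    rw [hv', h5, map_sub, map_add, hv', map_add, h5, hq'U.fix, rho_self] at h4
    have h6 : (ρ⁻¹ * q) z = (v' + (polar QK v' w0 + QK w) • v + (ρ⁻¹ * q) z - QK z • v) -
        (v' + (polar QK v' w0 + QK w) • v) + QK z • v := by abel
    rw [h6, h4]
    abel
  have hone : ρ⁻¹ * q = 1 := by
    apply hT.eq_one h hXO hH hq'X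
    intro x hx
    have h4 : x = polar QK v' x • v + (x - polar QK v' x • v) := by abel
    have h5 : (ρ⁻¹ * q) (x - polar QK v' x • v) = x - polar QK v' x • v := by
      apply hz
      · rw [polar_sub_right, polar_smul_right, hx, polar_self_of_sing hH.left, smul_zero, sub_zero]
      · rw [polar_sub_right, polar_smul_right, hH.pair', smul_eq_mul, mul_one, sub_self]
    rw [h4, map_add, hq'U.fix, h5]
  have : q = ρ * (ρ⁻¹ * q) := by group
  rw [this, hone, mul_one]

end Cfsg.Agent.H884.Ext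
end

-- part: H884/Ext3
section
/-!
# Extension fields in orthogonal groups: the stabiliser of a singular point is semilinear (helper884)
-/

set_option autoImplicit false
set_option linter.unusedSectionVars false

namespace Cfsg.Agent.H884.Ext

open QuadraticMap Cfsg.Agent.LieClassical.OrthCore Cfsg.Agent.LieClassical.OrthTrans
  Cfsg.Agent.LieClassical.OrthSimple Cfsg.Agent.LieClassical.OrthFinite Cfsg.Agent.H883.Root
  Cfsg.Agent.H883.Sub Module

variable {F K V : Type*} [Field F] [Field K] [Algebra F K] [AddCommGroup V] [Module F V] [Module K V]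
  [IsScalarTower F K V] {Q : QuadraticForm F V} {QK : QuadraticForm K V}

theorem rho_sq {v y : V} (hv : QK v = 0) (hy : polar QK v y = 0) (x : V) :
    rho F QK v y hv hy (rho F QK v y hv hy x) - (2 : F) • rho F QK v y hv hy x + x =
      -((2 : K) • (QK y * polar QK v x) • v) := by
  have h1 : rho F QK v y hv hy (rho F QK v y hv hy x) =
      rho F QK v (y + y) hv (by rw [polar_add_right, hy, add_zero]) x := by
    rw [← rho_mul hv hy hy]; rfl
  have h2 : ∀ z : V, (2 : F) • z = z + z := fun z => two_smul F z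
  have h3 : ∀ z : V, (2 : K) • z = z + z := fun z => two_smul K z
  rw [h1, rho_apply, rho_apply, Q_add, polar_self', polar_add_left, h2, h3]
  module

/-- A map of `K` satisfying `∀ c, ∃ t, ∀ a, f (c ^ 2 * a) = t * f a` is semilinear. -/
theorem exists_sigma [Finite K] (h2 : (2 : K) ≠ 0) (f : K →ₗ[F] K) (hf : Function.Injective f)
    (hsq : ∀ c : K, ∃ t, ∀ a, f (c ^ 2 * a) = t * f a) :
    ∃ σ : K ≃ₐ[F] K, ∀ c a, f (c * a) = σ c * f a := by
  have hall : ∀ c : K, ∃ t, ∀ a, f (c * a) = t * f a := by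
    intro c
    obtain ⟨s, hs⟩ := hsq ((c + 1) / 2)
    obtain ⟨t, ht⟩ := hsq ((c - 1) / 2)
    refine ⟨s - t, fun a => ?_⟩
    have e : c * a = ((c + 1) / 2) ^ 2 * a - ((c - 1) / 2) ^ 2 * a := by
      field_simp
      ring
    rw [e, map_sub, hs, ht]
    ring
  have h1 : f 1 ≠ 0 := fun h0 => one_ne_zero (hf (h0.trans (map_zero f).symm))
  have hmul : ∀ c a, f (c * a) = f c * (f 1)⁻¹ * f a := by
    intro c a
    obtain ⟨t, ht⟩ := hall c
    have h3 := ht 1
    rw [mul_one] at h3
    rw [ht, h3, mul_assoc t, mul_inv_cancel₀ h1, mul_one]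
  let s : K →ₐ[F] K :=
    { toFun := fun c => f c * (f 1)⁻¹
      map_one' := mul_inv_cancel₀ h1
      map_mul' := fun c d => by rw [hmul]; ring
      map_zero' := by rw [map_zero, zero_mul]
      map_add' := fun c d => by rw [map_add, add_mul]
      commutes' := fun a => by
        have : (algebraMap F K) a = a • (1 : K) := Algebra.algebraMap_eq_smul_one a
        rw [this, map_smul, smul_mul_assoc, mul_inv_cancel₀ h1] }
  have hs : Function.Bijective s := by
    have hinj : Function.Injective s := s.toRingHom.injective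
    exact ⟨hinj, Finite.surjective_of_injective hinj⟩
  exact ⟨AlgEquiv.ofBijective s hs, hmul⟩

section Stab

variable [Finite K] [FiniteDimensional F V] {X : Subgroup (V ≃ₗ[F] V)} {v v' : V}

/-- The action on a point. -/
theorem exists_on_point (hv0 : v ≠ 0) {g : V ≃ₗ[F] V} (hg : ∀ c : K, ∃ c' : K, g (c • v) = c' • v) :
    ∃ f : K →ₗ[F] K, Function.Injective f ∧ ∀ c, g (c • v) = f c • v := by
  choose f hf using hg
  have hinj : ∀ {a b : K}, a • v = b • v → a = b := fun h => smul_left_injective K hv0 h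
  refine ⟨{ toFun := f, map_add' := fun a b => ?_, map_smul' := fun a b => ?_ }, ?_, hf⟩
  · apply hinj
    rw [← hf, add_smul, add_smul, map_add, hf, hf]
  · apply hinj
    rw [← hf, RingHom.id_apply, smul_assoc, smul_assoc, map_smul, hf]
  · intro a b hab
    have hab' : f a = f b := hab
    apply hinj
    apply g.injective
    rw [hf, hf, hab']

theorem inv_on_point {g : V ≃ₗ[F] V} {f : K →ₗ[F] K} (hf : Function.Injective f)
    (hg : ∀ c, g (c • v) = f c • v) : ∀ c : K, ∃ c' : K, g⁻¹ (c • v) = c' • v := by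
  intro c
  obtain ⟨d, rfl⟩ := Finite.surjective_of_injective hf c
  exact ⟨d, by rw [← hg]; exact g.symm_apply_apply _⟩

theorem perp_of_point (h : TF Q QK) {g : V ≃ₗ[F] V} (hgO : g ∈ O Q) {f : K →ₗ[F] K}
    (hf : Function.Injective f) (hg : ∀ c, g (c • v) = f c • v) {x : V} (hx : polar QK v x = 0) :
    polar QK v (g x) = 0 := by
  apply trace_ext (F := F)
  intro c
  obtain ⟨d, rfl⟩ := Finite.surjective_of_injective hf c
  rw [← h.smul_left, ← hg, polar_map hgO, h.smul_left, hx, mul_zero, map_zero]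

/-- Conjugation of Siegel transformations by the stabiliser of the point. -/
theorem Triv.conj_rho (h : TF Q QK) (hG : Good Q) (hX : Over Q K X) (hH : Hyp QK v v')
    (hT : Triv QK X v) {g : V ≃ₗ[F] V} (hgX : g ∈ X) (hg : ∀ c : K, ∃ c' : K, g (c • v) = c' • v)
    {y : V} (hy : polar QK v y = 0) :
    ∃ (w : V) (hw : polar QK v w = 0), polar QK v' w = 0 ∧
      ∀ x, g (rho F QK v y hH.left hy x) = rho F QK v w hH.left hw (g x) := by
  have hXO : X ≤ O Q := fun g hg => E_le_O (hX.le hg)
  obtain ⟨f, hf, hgf⟩ := exists_on_point hH.left_ne hg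
  have hgi := inv_on_point hf hgf
  obtain ⟨f', hf', hgf'⟩ := exists_on_point hH.left_ne hgi
  have hρX := hX.rho_mem h hG hH.left hy
  obtain ⟨w, hw, hw', e⟩ := hT.exists_rho h hG hX hH
    (q := g * rho F QK v y hH.left hy * g⁻¹) (X.mul_mem (X.mul_mem hgX hρX) (X.inv_mem hgX)) (by
      refine ⟨fun c => ?_, fun x hx => ?_⟩
      · obtain ⟨c', hc'⟩ := hgi c
        rw [LinearEquiv.mul_apply, LinearEquiv.mul_apply, hc', rho_self, ← hc']
        exact g.apply_symm_apply _
      · have h1 : polar QK v (g⁻¹ x) = 0 := perp_of_point h ((O Q).inv_mem (hXO hgX)) hf' hgf' hx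
        obtain ⟨c', hc'⟩ := hg (polar QK y (g⁻¹ x))
        refine ⟨-c', ?_⟩
        rw [LinearEquiv.mul_apply, LinearEquiv.mul_apply, rho_perp hH.left hy h1, map_sub, hc',
          neg_smul, ← sub_eq_add_neg]
        congr 1
        exact g.apply_symm_apply _)
  refine ⟨w, hw, hw', fun x => ?_⟩
  rw [← e, LinearEquiv.mul_apply, LinearEquiv.mul_apply]
  congr 2
  exact (g.symm_apply_apply x).symm

theorem exists_nonsing_perp (h : TF Q QK) (hm : 3 ≤ finrank K V) (hH : Hyp QK v v') :
    ∃ y, QK y ≠ 0 ∧ polar QK v y = 0 ∧ polar QK v' y = 0 := by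
  obtain ⟨a, c, h1, h2, h3, h4, h5⟩ := exists_perp2 h.nondeg hm hH
  rcases exists_nonsing h5 with h6 | h6 | h6
  · exact ⟨a, h6, h1, h2⟩
  · exact ⟨c, h6, h3, h4⟩
  · exact ⟨a + c, h6, by rw [polar_add_right, h1, h3, add_zero],
      by rw [polar_add_right, h2, h4, add_zero]⟩

/-- An element of `X` stabilising the point `Kv` is semilinear. -/
theorem Triv.stab_le (h : TF Q QK) (hG : Good Q) (hm : 3 ≤ finrank K V) (hX : Over Q K X)
    (hH : Hyp QK v v') (hT : Triv QK X v) {g : V ≃ₗ[F] V} (hgX : g ∈ X)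
    (hg : ∀ c : K, ∃ c' : K, g (c • v) = c' • v) : g ∈ NK F K V := by
  have hXO : X ≤ O Q := fun g hg => E_le_O (hX.le hg)
  have hv := hH.left
  have hv0 := hH.left_ne
  have hnt : Nontrivial V := ⟨⟨v, 0, hv0⟩⟩
  obtain ⟨f, hf, hgf⟩ := exists_on_point hv0 hg
  have hfs : Function.Surjective f := Finite.surjective_of_injective hf
  have hgi := inv_on_point hf hgf
  have hinj : ∀ {a b : K}, a • v = b • v → a = b := fun h => smul_left_injective K hv0 h
  have hperp : ∀ {x}, polar QK v x = 0 → polar QK v (g x) = 0 :=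
    fun hx => perp_of_point h (hXO hgX) hf hgf hx
  -- the action on `V / v^⊥`
  let k : K →ₗ[F] K := ((polarBilin QK v).restrictScalars F) ∘ₗ g.toLinearMap ∘ₗ
    ((LinearMap.toSpanSingleton K V v').restrictScalars F)
  have hk : ∀ a, k a = polar QK v (g (a • v')) := fun a => rfl
  -- star
  have hstar : ∀ y, polar QK v y = 0 → ∃ t : K, ∀ a, f (QK y * a) = t * k a := by
    intro y hy
    obtain ⟨w, hw, -, hconj⟩ := hT.conj_rho h hG hX hH hgX hg hy
    have key : ∀ x : V, f (QK y * polar QK v x) = QK w * polar QK v (g x) := by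
      intro x
      have h1 := congrArg g (rho_sq (F := F) hv hy x)
      have h2 := rho_sq (F := F) hv hw (g x)
      have h3 : ∀ z : V, (2 : K) • z = (2 : F) • z := by
        intro z
        rw [two_smul, two_smul]
      rw [h3, map_add, map_sub, map_smul, hconj, hconj, h2, map_neg, neg_inj, map_smul, hgf,
        ← h3] at h1
      exact (hinj (smul_right_injective V h.two h1)).symm
    refine ⟨QK w, fun a => ?_⟩
    have h1 := key (a • v')
    rw [polar_smul_right, hH.pair, smul_eq_mul, mul_one] at h1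
    exact h1
  obtain ⟨y0, hy0, hvy0, hvy0'⟩ := exists_nonsing_perp h hm hH
  obtain ⟨t0, ht0⟩ := hstar y0 hvy0
  have ht00 : t0 ≠ 0 := by
    rintro rfl
    have h1 := ht0 1
    rw [zero_mul, mul_one] at h1
    exact hy0 (hf (h1.trans (map_zero f).symm))
  obtain ⟨σ, hσ⟩ := exists_sigma h.two f hf (by
    intro c
    obtain ⟨t, ht⟩ := hstar (c • y0) (by rw [polar_smul_right, hvy0, smul_zero])
    refine ⟨t * t0⁻¹, fun a => ?_⟩
    have h1 := ht ((QK y0)⁻¹ * a)
    have h2 := ht0 ((QK y0)⁻¹ * a)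
    rw [QuadraticMap.map_smul, smul_eq_mul] at h1
    rw [← mul_assoc, mul_inv_cancel₀ hy0, one_mul] at h2
    have e : c * c * QK y0 * ((QK y0)⁻¹ * a) = c ^ 2 * a := by
      field_simp
    rw [e] at h1
    rw [h1, h2]
    field_simp)
  have hkσ : ∀ c a, k (c * a) = σ c * k a := by
    intro c a
    apply mul_left_cancel₀ ht00
    rw [← ht0, mul_left_comm, hσ, ht0]
    ring
  set μ := f 1 with hμ
  set κ := k 1 with hκ
  have hfμ : ∀ c, f c = σ c * μ := fun c => by rw [hμ, ← hσ, mul_one]
  have hkκ : ∀ c, k c = σ c * κ := fun c => by rw [hκ, ← hkσ, mul_one]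
  have htrσ : ∀ c, Algebra.trace F K (σ c) = Algebra.trace F K c :=
    fun c => Algebra.trace_eq_of_algEquiv σ c
  have hμκ : μ * κ = 1 := by
    apply trace_ext' (F := F)
    intro c
    obtain ⟨c, rfl⟩ := σ.surjective c
    have h1 : polar Q (g v) (g (c • v')) = polar Q v (c • v') := polar_map (hXO hgX) _ _
    have h2 : g v = μ • v := by
      have := hgf 1
      rwa [one_smul] at this
    rw [h2, h.smul_left, ← hk, hkκ, h.smul_right, hH.pair, mul_one] at h1
    rw [mul_one (σ c), htrσ, ← h1]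
    congr 1
    ring
  -- semilinearity modulo `Kv`
  have hmod : ∀ z, polar QK v z = 0 → ∀ c : K, ∃ d : K, g (c • z) = σ c • g z + d • v := by
    intro z hz c
    have hcz : polar QK v (c • z) = 0 := by rw [polar_smul_right, hz, smul_zero]
    refine ⟨polar QK v' (g (c • z) - σ c • g z), ?_⟩
    rw [← eq_smul_of_perp h hH (w := g (c • z) - σ c • g z), add_sub_cancel]
    intro w hw
    obtain ⟨y, hy, -, hconj⟩ := hT.conj_rho h hG hX hH (X.inv_mem hgX) hgi hw
    -- `g ρ_y = ρ_w g`
    have hconj' : ∀ x, g (rho F QK v y hv hy x) = rho F QK v w hv hw (g x) := by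
      intro x
      have h1 := hconj (g x)
      have h2 : g⁻¹ (g x) = x := g.symm_apply_apply x
      rw [h2] at h1
      rw [← h1]
      exact g.apply_symm_apply _
    have h3 : ∀ x, polar QK v x = 0 → f (polar QK y x) = polar QK w (g x) := by
      intro x hx
      have h4 := hconj' x
      rw [rho_perp hv hy hx, rho_perp hv hw (hperp hx), map_sub, hgf] at h4
      exact hinj (sub_right_injective h4)
    rw [polar_comm, polar_sub_right, polar_smul_right, ← h3 _ hcz, ← h3 _ hz, polar_smul_right,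
      smul_eq_mul, hσ, smul_eq_mul, sub_self]
  -- the semilinear isometry
  let pL : V →ₗ[F] V := LinearMap.id
    - ((polarBilin QK v').smulRight v).restrictScalars F
    - ((polarBilin QK v).smulRight v').restrictScalars F
  have hpL : ∀ x, pL x = x - polar QK v' x • v - polar QK v x • v' := fun x => rfl
  let pV : V →ₗ[F] V := LinearMap.id - ((polarBilin QK v').smulRight v).restrictScalars F
  have hpV : ∀ x, pV x = x - polar QK v' x • v := fun x => rfl
  let A1 : V →ₗ[F] V := ((LinearMap.toSpanSingleton K V v).restrictScalars F) ∘ₗ f ∘ₗ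
    ((polarBilin QK v').restrictScalars F)
  have hA1 : ∀ x, A1 x = f (polar QK v' x) • v := fun x => rfl
  let A2 : V →ₗ[F] V := ((LinearMap.toSpanSingleton K V v').restrictScalars F) ∘ₗ k ∘ₗ
    ((polarBilin QK v).restrictScalars F)
  have hA2 : ∀ x, A2 x = k (polar QK v x) • v' := fun x => rfl
  let H : V →ₗ[F] V := A1 + pV ∘ₗ g.toLinearMap ∘ₗ pL + A2
  have hHx : ∀ x, H x = f (polar QK v' x) • v + pV (g (pL x)) + k (polar QK v x) • v' :=
    fun x => rfl
  have hpL1 : ∀ x, polar QK v (pL x) = 0 := by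
    intro x
    rw [hpL, polar_sub_right, polar_sub_right, polar_smul_right, polar_smul_right, hH.polar_left,
      hH.pair, smul_zero, smul_eq_mul, mul_one, sub_zero, sub_self]
  have hpL2 : ∀ x, polar QK v' (pL x) = 0 := by
    intro x
    rw [hpL, polar_sub_right, polar_sub_right, polar_smul_right, polar_smul_right, hH.polar_right,
      hH.pair', smul_zero, smul_eq_mul, mul_one, sub_self, sub_zero]
  have hpVp : ∀ x, polar QK v x = 0 → polar QK v (pV x) = 0 := by
    intro x hx
    rw [hpV, polar_sub_right, polar_smul_right, hx, hH.polar_left, smul_zero, sub_zero]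
  have hpVp' : ∀ x, polar QK v' (pV x) = 0 := by
    intro x
    rw [hpV, polar_sub_right, polar_smul_right, hH.pair', smul_eq_mul, mul_one, sub_self]
  have hdec : ∀ x, x = polar QK v' x • v + pL x + polar QK v x • v' := by
    intro x
    rw [hpL]; abel
  have hHsemi : ∀ (c : K) (x : V), H (c • x) = σ c • H x := by
    intro c x
    rw [hHx, hHx, polar_smul_right, polar_smul_right, smul_eq_mul, smul_eq_mul, hσ, hkσ]
    have h1 : pL (c • x) = c • pL x := by
      rw [hpL, hpL, polar_smul_right, polar_smul_right, smul_eq_mul, smul_eq_mul]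
      module
    obtain ⟨d, hd⟩ := hmod (pL x) (hpL1 x) c
    have h2 : pV (g (c • pL x)) = σ c • pV (g (pL x)) := by
      rw [hd, hpV, hpV, polar_add_right, polar_smul_right, polar_smul_right, hH.pair', smul_eq_mul,
        smul_eq_mul]
      module
    rw [h1, h2]
    module
  have hQH : ∀ x, Q (H x) = Q x := by
    intro x
    have h1 : ∀ (a : K) (z : V) (b : K), polar QK v z = 0 → polar QK v' z = 0 →
        QK (a • v + z + b • v') = a * b + QK z := by
      intro a z b hz hz'
      rw [Q_add, Q_add, QuadraticMap.map_smul, QuadraticMap.map_smul, hH.left, hH.right,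
        polar_add_left, polar_smul_left, polar_smul_left, polar_smul_right, polar_smul_right, hz,
        polar_comm QK z v', hz', hH.pair]
      simp only [smul_eq_mul]
      ring
    have h2 : QK (pV (g (pL x))) = QK (g (pL x)) := by
      rw [hpV, sub_eq_add_neg, ← neg_smul, Q_add, QuadraticMap.map_smul, hH.left, polar_smul_right,
        polar_comm QK (g (pL x)) v, hperp (hpL1 x)]
      simp
    have h3 : Q (g (pL x)) = Q (pL x) := hXO hgX _
    rw [h.tr, h.tr, hHx, h1 _ _ _ (hpVp _ (hperp (hpL1 x))) (hpVp' _), h2, map_add, ← h.tr, h3,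
      hfμ, hkκ]
    conv_rhs => rw [hdec x, h1 _ _ _ (hpL1 x) (hpL2 x), map_add, ← h.tr]
    congr 1
    rw [← htrσ (polar QK v' x * polar QK v x), map_mul σ]
    congr 1
    calc σ (polar QK v' x) * μ * (σ (polar QK v x) * κ)
        = σ (polar QK v' x) * σ (polar QK v x) * (μ * κ) := by ring
      _ = _ := by rw [hμκ, mul_one]
  have hpolH : ∀ x y, polar Q (H x) (H y) = polar Q x y := by
    intro x y
    rw [polar, polar, ← map_add, hQH, hQH, hQH]
  have hHinj : Function.Injective H := by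
    rw [← LinearMap.ker_eq_bot, LinearMap.ker_eq_bot']
    intro x hx
    apply h.nondegF
    intro y
    rw [← hpolH, hx, polar_zero_left]
  let H' : V ≃ₗ[F] V := LinearEquiv.ofInjectiveEndo H hHinj
  have hH' : ∀ x, H' x = H x := fun x => rfl
  have hH'O : H' ∈ O Q := hQH
  have hH'N : H' ∈ NK F K V := ⟨σ.toRingEquiv, hHsemi⟩
  have hH'v : ∀ c : K, H' (c • v) = g (c • v) := by
    intro c
    have h1 : pL (c • v) = 0 := by
      rw [hpL, polar_smul_right, polar_smul_right, hH.pair', hH.polar_left, smul_eq_mul, mul_one,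
        smul_zero, zero_smul, sub_self, sub_zero]
    rw [hH', hHx, h1, map_zero, map_zero, add_zero, polar_smul_right, polar_smul_right, hH.pair',
      hH.polar_left, smul_zero, map_zero, zero_smul, add_zero, smul_eq_mul, mul_one, hgf]
  set u := H'⁻¹ * g with hu
  have hHu : ∀ x, H' (u x) = g x := fun x => H'.apply_symm_apply _
  have huU : Uni QK v u := by
    refine ⟨fun c => ?_, fun x hx => ?_⟩
    · apply H'.injective
      rw [hHu, hH'v]
    · have h1 : g x = H' x + polar QK v' (g (pL x)) • v := by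
        rw [hH', hHx, hx, map_zero, zero_smul, add_zero, hpV]
        conv_lhs => rw [hdec x, hx, zero_smul, add_zero, map_add, hgf]
        abel
      obtain ⟨e, he⟩ := hfs (polar QK v' (g (pL x)))
      refine ⟨e, ?_⟩
      apply H'.injective
      rw [hHu, map_add, hH'v, hgf, he, h1]
  have huO : u ∈ O Q := (O Q).mul_mem ((O Q).inv_mem hH'O) (hXO hgX)
  have hFfin : Finite F := Finite.of_injective _ (algebraMap F K).injective
  have huE : u ∈ E Q := by
    apply mem_E_of_unip hG h.twoF huO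
    intro x
    have h1 : polar QK v (u x - x) = 0 := by
      rw [polar_sub_right, huU.polar_eq h huO, sub_self]
    obtain ⟨c, hc⟩ := huU.perp _ h1
    have h2 : u (u x) = u x + (u x - x) + c • v := by
      rw [map_sub] at hc
      rw [add_assoc, ← hc]; abel
    have h3 : u (u (u x)) = u x + (u x - x) + (u x - x) + c • v + c • v + c • v := by
      rw [h2, map_add, map_add, huU.fix, hc, h2]
      abel
    rw [h3, h2]
    have e2 : ∀ z : V, (3 : F) • z = z + z + z := by
      intro z
      rw [show (3 : F) = 1 + 1 + 1 by norm_num, add_smul, add_smul, one_smul]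
    rw [e2, e2]
    abel
  have hH'E : H' ∈ E Q := by
    have : H' = g * u⁻¹ := by rw [hu]; group
    rw [this]
    exact (E Q).mul_mem (hX.le hgX) ((E Q).inv_mem huE)
  have hH'X : H' ∈ X := hX.ge _ hH'E hH'N
  have huX : u ∈ X := X.mul_mem (X.inv_mem hH'X) hgX
  obtain ⟨w, hw, -, e⟩ := hT.exists_rho h hG hX hH huX huU
  have : g = H' * u := by rw [hu]; group
  rw [this, e]
  exact (NK F K V).mul_mem hH'N (rho_mem_NK _ _)

end Stab

end Cfsg.Agent.H884.Ext
end

-- part: H884/Ext4
section
/-!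
# Extension fields in orthogonal groups: the case `B = 1` (helper884)

Fusion of vectors in an overgroup is controlled by the normaliser of the field.
-/

set_option autoImplicit false
set_option linter.unusedSectionVars false

namespace Cfsg.Agent.H884.Ext

open QuadraticMap Cfsg.Agent.LieClassical.OrthCore Cfsg.Agent.LieClassical.OrthTrans
  Cfsg.Agent.LieClassical.OrthSimple Cfsg.Agent.LieClassical.OrthFinite Cfsg.Agent.H883.Root
  Cfsg.Agent.H883.Sub Module

/-- If the `p`-subgroups `P`, `P'` of `S` have unique fixed points `H`, `kH` on `G / H` then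
these points are in the same `S`-orbit. -/
theorem exists_mem_of_fix {G : Type*} [Group G] [Finite G] {p : ℕ} [Fact p.Prime]
    {H S P P' : Subgroup G} (hP : IsPGroup p P) (hP' : IsPGroup p P') (hPS : P ≤ S)
    (hP'S : P' ≤ S) (hPH : P ≤ H) (hfix : ∀ g, (∀ x ∈ P, g⁻¹ * x * g ∈ H) → g ∈ H) {k : G}
    (hfix' : ∀ g, (∀ x ∈ P', g⁻¹ * x * g ∈ H) → k⁻¹ * g ∈ H) : ∃ s ∈ S, k⁻¹ * s ∈ H := by
  classical
  by_contra hcon
  push Not at hcon
  have key : ∀ (R : Subgroup G) (hR : R ≤ S) (s : S),
      ((s : S ⧸ H.subgroupOf S) ∈ MulAction.fixedPoints (R.subgroupOf S) (S ⧸ H.subgroupOf S)) ↔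
        ∀ x ∈ R, (s : G)⁻¹ * x * s ∈ H := by
    intro R hR s
    constructor
    · intro h x hx
      have h1 := h ⟨⟨x, hR hx⟩, hx⟩
      have h2 : (((⟨x, hR hx⟩ : S) * s : S) : S ⧸ H.subgroupOf S) = (s : S ⧸ H.subgroupOf S) := h1
      rw [eq_comm, QuotientGroup.eq, Subgroup.mem_subgroupOf] at h2
      have h3 : (s : G)⁻¹ * (x * s) ∈ H := h2
      rwa [← mul_assoc] at h3
    · rintro h ⟨⟨x, hxS⟩, hx⟩
      have h1 : (((⟨x, hxS⟩ : S) * s : S) : S ⧸ H.subgroupOf S) = (s : S ⧸ H.subgroupOf S) := by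
        rw [eq_comm, QuotientGroup.eq, Subgroup.mem_subgroupOf]
        change (s : G)⁻¹ * (x * s) ∈ H
        rw [← mul_assoc]
        exact h x hx
      exact h1
  have hp1 : IsPGroup p (P.subgroupOf S) :=
    hP.comap_of_injective S.subtype Subtype.val_injective
  have hp2 : IsPGroup p (P'.subgroupOf S) :=
    hP'.comap_of_injective S.subtype Subtype.val_injective
  have h1 := hp1.card_modEq_card_fixedPoints (S ⧸ H.subgroupOf S)
  have h2 := hp2.card_modEq_card_fixedPoints (S ⧸ H.subgroupOf S)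
  have h3 : Nat.card (MulAction.fixedPoints (P.subgroupOf S) (S ⧸ H.subgroupOf S)) = 1 := by
    rw [Nat.card_eq_one_iff_unique]
    constructor
    · constructor
      rintro ⟨a, ha⟩ ⟨b, hb⟩
      obtain ⟨a, rfl⟩ := QuotientGroup.mk_surjective a
      obtain ⟨b, rfl⟩ := QuotientGroup.mk_surjective b
      have ha' := hfix _ ((key P hPS a).1 ha)
      have hb' := hfix _ ((key P hPS b).1 hb)
      apply Subtype.ext
      change (a : S ⧸ H.subgroupOf S) = b
      rw [QuotientGroup.eq, Subgroup.mem_subgroupOf]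
      exact H.mul_mem (H.inv_mem ha') hb'
    · exact ⟨⟨((1 : S) : S ⧸ H.subgroupOf S), (key P hPS 1).2 fun x hx => by
        simpa using hPH hx⟩⟩
  have h4 : Nat.card (MulAction.fixedPoints (P'.subgroupOf S) (S ⧸ H.subgroupOf S)) = 0 := by
    rw [Nat.card_eq_zero]
    left
    constructor
    rintro ⟨a, ha⟩
    obtain ⟨a, rfl⟩ := QuotientGroup.mk_surjective a
    exact hcon a a.2 (hfix' _ ((key P' hP'S a).1 ha))
  rw [h3] at h1
  rw [h4] at h2
  have h5 := h1.symm.trans h2
  have h6 : p ∣ 1 := (Nat.modEq_zero_iff_dvd).1 h5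
  exact (Fact.out : p.Prime).one_lt.ne' (Nat.dvd_one.1 h6)

variable {F K V : Type*} [Field F] [Field K] [Algebra F K] [AddCommGroup V] [Module F V] [Module K V]
  [IsScalarTower F K V] {Q : QuadraticForm F V} {QK : QuadraticForm K V}

theorem exists_sq_sub (h2 : (2 : K) ≠ 0) (c : K) : ∃ s t : K, c = s ^ 2 - t ^ 2 :=
  ⟨(c + 1) / 2, (c - 1) / 2, by field_simp; ring⟩

theorem smul_perp {v y : V} (hy : polar QK v y = 0) (c : K) : polar QK v (c • y) = 0 := by
  rw [polar_smul_right, hy, smul_zero]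

section

variable [Finite K] [FiniteDimensional F V] {X : Subgroup (V ≃ₗ[F] V)}

theorem exists_bijOn {v w : V} (hw0 : w ≠ 0) {g : V ≃ₗ[F] V}
    (hg : ∀ κ : K, ∃ b : K, κ • w = g (b • v)) : ∀ b : K, ∃ κ : K, g (b • v) = κ • w := by
  choose f hf using hg
  have hinj : Function.Injective f := by
    intro a b hab
    apply smul_left_injective K hw0
    change a • w = b • w
    rw [hf, hf, hab]
  intro b
  obtain ⟨κ, rfl⟩ := Finite.surjective_of_injective hinj b
  exact ⟨κ, (hf κ).symm⟩

/-- **Unique fixed points.** -/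
theorem unique_fix (h : TF Q QK) (hG : Good Q) (hm : 3 ≤ finrank K V) (hX : Over Q K X)
    (hT : ∀ v, v ≠ 0 → QK v = 0 → Triv QK X v) {v y : V} (hv0 : v ≠ 0) (hv : QK v = 0)
    (hy : polar QK v y = 0) (hy0 : QK y ≠ 0) {g : V ≃ₗ[F] V} (hg : g ∈ X)
    (hgN : ∀ c : K, g * rho F QK v (c • y) hv (smul_perp hy c) * g⁻¹ ∈ NK F K V) :
    g ∈ NK F K V := by
  have hXO : X ≤ O Q := fun g hg => E_le_O (hX.le hg)
  have hFfin : Finite F := Finite.of_injective _ (algebraMap F K).injective
  have hnt : Nontrivial V := ⟨⟨v, 0, hv0⟩⟩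
  obtain ⟨v', hH⟩ := exists_hyp h.nondeg hv hv0
  have hg0 : ∀ x, g (g⁻¹ x) = x := fun x => g.apply_symm_apply x
  have hg1 : ∀ x, g⁻¹ (g x) = x := fun x => g.symm_apply_apply x
  -- a linear conjugate
  obtain ⟨c, hc, hlin⟩ : ∃ c : K, c ≠ 0 ∧ ∀ (a : K) (x : V),
      (g * rho F QK v (c • y) hv (smul_perp hy c) * g⁻¹) (a • x) =
        a • (g * rho F QK v (c • y) hv (smul_perp hy c) * g⁻¹) x := by
    choose σ hσ using hgN
    let f : K → (K ≃ₐ[F] K) := fun c => toAlgEquiv (hσ c)
    have hnot : ¬ Function.Injective f := by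
      intro hinj
      have := Fintype.ofFinite K
      have := Fintype.ofFinite F
      have h1 : Nat.card K ≤ Nat.card (K ≃ₐ[F] K) := Nat.card_le_card_of_injective f hinj
      have h2 : Nat.card (K ≃ₐ[F] K) ≤ finrank F K := by
        rw [Nat.card_eq_fintype_card]
        exact AlgEquiv.card_le
      have h3 : Nat.card K = Nat.card F ^ finrank F K := by
        rw [Nat.card_eq_fintype_card, Nat.card_eq_fintype_card]
        exact Module.card_eq_pow_finrank
      have h4 : 1 < Nat.card F := Finite.one_lt_card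
      have h5 := Nat.lt_pow_self h4 (n := finrank F K)
      omega
    rw [Function.Injective] at hnot
    push Not at hnot
    obtain ⟨c1, c2, he, hne⟩ := hnot
    have he' : σ c1 = σ c2 := by
      ext a
      exact AlgEquiv.congr_fun he a
    refine ⟨c1 - c2, sub_ne_zero.2 hne, fun a x => ?_⟩
    have hneg : polar QK v (-(c2 • y)) = 0 := by rw [polar_neg_right, smul_perp hy, neg_zero]
    have e1 : rho F QK v ((c1 - c2) • y) hv (smul_perp hy _) =
        rho F QK v (c1 • y) hv (smul_perp hy _) * (rho F QK v (c2 • y) hv (smul_perp hy _))⁻¹ := by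
      rw [rho_inv hv (smul_perp hy _) hneg, rho_mul hv _ _ (by
        rw [← sub_eq_add_neg, ← sub_smul]; exact smul_perp hy _)]
      congr 1
      rw [sub_smul, sub_eq_add_neg]
    set A := g * rho F QK v (c1 • y) hv (smul_perp hy c1) * g⁻¹ with hA
    set B := g * rho F QK v (c2 • y) hv (smul_perp hy c2) * g⁻¹ with hB
    have e2 : g * rho F QK v ((c1 - c2) • y) hv (smul_perp hy _) * g⁻¹ = A * B⁻¹ := by
      rw [e1, hA, hB]; group
    have hBi : ∀ (a : K) (x : V), B⁻¹ (a • x) = (σ c2).symm a • B⁻¹ x := by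
      intro a x
      apply B.injective
      rw [hσ c2, RingEquiv.apply_symm_apply]
      change B (B.symm (a • x)) = a • B (B.symm x)
      rw [LinearEquiv.apply_symm_apply, LinearEquiv.apply_symm_apply]
    have hA' : ∀ (a : K) (x : V), A (a • x) = σ c1 a • A x := hσ c1
    have e3 : ∀ x, (A * B⁻¹) x = A (B⁻¹ x) := fun x => rfl
    rw [e2, e3, e3, hBi, hA', he', RingEquiv.apply_symm_apply]
  set ρ := rho F QK v (c • y) hv (smul_perp hy c) with hρ
  set t := g * ρ * g⁻¹ with ht
  set d := (2 : K) * QK (c • y) with hd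
  have hd0 : d ≠ 0 := by
    rw [hd, QuadraticMap.map_smul, smul_eq_mul]
    exact mul_ne_zero h.two (mul_ne_zero (mul_ne_zero hc hc) hy0)
  have hD : ∀ x, t (t x) - (2 : F) • t x + x = -g ((d * polar QK v (g⁻¹ x)) • v) := by
    intro x
    have h1 := congrArg g (rho_sq (F := F) hv (smul_perp hy c) (g⁻¹ x))
    have h2 : ∀ z, t (g z) = g (ρ z) := by
      intro z
      rw [ht, LinearEquiv.mul_apply, LinearEquiv.mul_apply, hg1]
    rw [map_add, map_sub, map_smul, ← hρ, ← h2, ← h2, hg0, map_neg, smul_smul, ← mul_assoc, ← hd] at h1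
    exact h1
  have hDlin : ∀ (κ : K) (x : V), t (t (κ • x)) - (2 : F) • t (κ • x) + κ • x =
      κ • (t (t x) - (2 : F) • t x + x) := by
    intro κ x
    rw [hlin, hlin, smul_add, smul_sub, smul_comm κ (2 : F)]
  have hline : ∀ κ : K, ∃ b : K, κ • g v = g (b • v) := by
    intro κ
    obtain ⟨z0, hz0⟩ : ∃ z0, polar QK v (g⁻¹ z0) = -d⁻¹ :=
      ⟨g ((-d⁻¹) • v'), by rw [hg1, polar_smul_right, hH.pair, smul_eq_mul, mul_one]⟩
    have h1 : t (t z0) - (2 : F) • t z0 + z0 = g v := by
      rw [hD, hz0, mul_neg, mul_inv_cancel₀ hd0, neg_one_smul, map_neg, neg_neg]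
    refine ⟨-(d * polar QK v (g⁻¹ (κ • z0))), ?_⟩
    rw [← h1, ← hDlin, hD, neg_smul, map_neg]
  have hgv0 : g v ≠ 0 := fun h0 => hv0 (g.map_eq_zero_iff.1 h0)
  have hline' := exists_bijOn hgv0 hline
  have hgvs : QK (g v) = 0 := by
    have h1 : ∀ κ : K, Algebra.trace F K (κ ^ 2 * QK (g v)) = 0 := by
      intro κ
      obtain ⟨b, hb⟩ := hline κ
      have h2 : Q (κ • g v) = 0 := by
        rw [hb, hXO hg, h.tr, QuadraticMap.map_smul, hv, smul_zero, map_zero]
      rw [h.tr, QuadraticMap.map_smul, smul_eq_mul, ← pow_two] at h2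
      exact h2
    apply trace_ext (F := F)
    intro a
    obtain ⟨s, t, rfl⟩ := exists_sq_sub h.two a
    rw [sub_mul, map_sub, h1, h1, sub_self]
  obtain ⟨k, hkX, hklin, a, ha, hka⟩ := hX.exists_trans h hG hm hgvs hv hgv0 hv0
  have h1 : k * g ∈ NK F K V := by
    refine (hT v hv0 hv).stab_le h hG hm hX hH (X.mul_mem hkX hg) fun b => ?_
    obtain ⟨κ, hκ⟩ := hline' b
    exact ⟨κ * a, by rw [LinearEquiv.mul_apply, hκ, hklin, hka, smul_smul]⟩
  have h2 : g = k⁻¹ * (k * g) := by group
  rw [h2]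
  exact (NK F K V).mul_mem ((NK F K V).inv_mem (mem_NK_of_linear hklin)) h1

/-- Every vector is orthogonal to a suitable pair `(v, y)`. -/
theorem exists_pair [FiniteDimensional K V] (h : TF Q QK) (hm : 4 ≤ finrank K V) (x : V) :
    ∃ v y, v ≠ 0 ∧ QK v = 0 ∧ polar QK v y = 0 ∧ QK y ≠ 0 ∧ polar QK v x = 0 ∧
      polar QK y x = 0 := by
  by_cases hx : QK x = 0
  · by_cases hx0 : x = 0
    · obtain ⟨v, hv0, hv, -⟩ := exists_sing_perp (Q := QK) ![] (by omega : 0 + 3 ≤ finrank K V)
      obtain ⟨v', hH⟩ := exists_hyp h.nondeg hv hv0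
      obtain ⟨y, hy, hvy, -⟩ := exists_nonsing_perp h (by omega) hH
      exact ⟨v, y, hv0, hv, hvy, hy, by rw [hx0, polar_zero_right], by rw [hx0, polar_zero_right]⟩
    · obtain ⟨v', hH⟩ := exists_hyp h.nondeg hx hx0
      obtain ⟨y, hy, hvy, -⟩ := exists_nonsing_perp h (by omega) hH
      exact ⟨x, y, hx0, hx, hvy, hy, polar_self_of_sing hx, by rw [polar_comm]; exact hvy⟩
  · obtain ⟨v, hv0, hv, hvx⟩ := exists_sing_perp (Q := QK) ![x] (by omega : 1 + 3 ≤ finrank K V)
    have hxv : polar QK x v = 0 := hvx 0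
    obtain ⟨z, hz1, hz2⟩ := exists_sep h.nondeg (x := v) (z := x) (by
      rintro c rfl
      rw [QuadraticMap.map_smul, smul_eq_mul] at hv
      rcases mul_eq_zero.1 hv with h1 | h1
      · rw [mul_self_eq_zero] at h1
        exact hv0 (by rw [h1, zero_smul])
      · exact hx h1)
    have hH : Hyp QK v (z + (-QK z) • v) := by
      refine ⟨hv, ?_, ?_⟩
      · rw [Q_add, QuadraticMap.map_smul, hv, polar_smul_right, polar_comm QK z v, hz2]
        simp
      · rw [polar_add_right, polar_smul_right, polar_self_of_sing hv, hz2]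
        simp
    have hxv' : polar QK x (z + (-QK z) • v) = 0 := by
      rw [polar_add_right, polar_smul_right, hz1, hxv]
      simp
    set v' := z + (-QK z) • v with hv'
    obtain ⟨a, ha0, ha⟩ := exists_perp_ne (Q := QK) ![v, v', x] (by omega)
    have h1 : polar QK v a = 0 := ha 0
    have h2 : polar QK v' a = 0 := ha 1
    have h3 : polar QK x a = 0 := ha 2
    obtain ⟨c, hc⟩ := h.nondeg.exists_polar_eq ha0 1
    have hxx : polar QK x x ≠ 0 := by
      rw [polar_self']
      exact mul_ne_zero h.two hx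
    set c' := proj QK v v' c - (polar QK x c * (polar QK x x)⁻¹) • x with hc'
    have h4 : polar QK v c' = 0 := by
      rw [hc', polar_sub_right, polar_proj_left hH, polar_smul_right, polar_comm QK v x, hxv]
      simp
    have h5 : polar QK v' c' = 0 := by
      rw [hc', polar_sub_right, polar_proj_right hH, polar_smul_right, polar_comm QK v' x, hxv']
      simp
    have h6 : polar QK x c' = 0 := by
      rw [hc', polar_sub_right, polar_proj_of_perp (by rw [polar_comm]; exact hxv)
        (by rw [polar_comm]; exact hxv'), polar_smul_right, smul_eq_mul, mul_assoc,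
        inv_mul_cancel₀ hxx, mul_one, sub_self]
    have h7 : polar QK a c' = 1 := by
      rw [hc', polar_sub_right, polar_proj_of_perp h1 h2, hc, polar_smul_right,
        polar_comm QK a x, h3]
      simp
    rcases exists_nonsing h7 with h8 | h8 | h8
    · exact ⟨v, a, hv0, hv, h1, h8, by rw [polar_comm]; exact hxv, by rw [polar_comm]; exact h3⟩
    · exact ⟨v, c', hv0, hv, h4, h8, by rw [polar_comm]; exact hxv, by rw [polar_comm]; exact h6⟩
    · exact ⟨v, a + c', hv0, hv, by rw [polar_add_right, h1, h4, add_zero], h8,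
        by rw [polar_comm]; exact hxv,
        by rw [polar_comm, polar_add_right, h3, h6, add_zero]⟩

/-- The `p`-group `{ρ_{v, cy}}`. -/
def PG (F : Type*) {K V : Type*} [Field F] [Field K] [Algebra F K] [AddCommGroup V] [Module F V]
    [Module K V] [IsScalarTower F K V] (QK : QuadraticForm K V) (v y : V) (hv : QK v = 0)
    (hy : polar QK v y = 0) : Subgroup (V ≃ₗ[F] V) where
  carrier := {g | ∃ c : K, g = rho F QK v (c • y) hv (smul_perp hy c)}
  mul_mem' := by
    rintro _ _ ⟨c, rfl⟩ ⟨d, rfl⟩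
    refine ⟨c + d, ?_⟩
    rw [rho_mul hv _ _ (by rw [← add_smul]; exact smul_perp hy _)]
    congr 1
    rw [add_smul]
  one_mem' := by
    refine ⟨0, ?_⟩
    ext x
    rw [rho_apply]
    simp
  inv_mem' := by
    rintro _ ⟨c, rfl⟩
    refine ⟨-c, ?_⟩
    rw [rho_inv hv _ (by rw [polar_neg_right, smul_perp hy, neg_zero])]
    congr 1
    rw [neg_smul]

theorem PG_pow {v y : V} (hv : QK v = 0) (hy : polar QK v y = 0) (c : K) (n : ℕ) :
    rho F QK v (c • y) hv (smul_perp hy c) ^ n =
      rho F QK v (((n : K) * c) • y) hv (smul_perp hy _) := by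
  induction n with
  | zero =>
    rw [pow_zero]
    ext x
    rw [rho_apply]
    simp
  | succ n ih =>
    rw [pow_succ, ih, rho_mul hv _ _ (by rw [← add_smul]; exact smul_perp hy _)]
    congr 1
    rw [← add_smul]
    congr 1
    push_cast
    ring

theorem isPGroup_PG {p : ℕ} [Fact p.Prime] [CharP K p] {v y : V} (hv : QK v = 0)
    (hy : polar QK v y = 0) : IsPGroup p (PG F QK v y hv hy) := by
  rintro ⟨_, c, rfl⟩
  refine ⟨1, ?_⟩
  apply Subtype.ext
  rw [pow_one, Subgroup.coe_pow, PG_pow hv hy]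
  ext x
  rw [rho_apply, CharP.cast_eq_zero]
  simp

/-- **Control of fusion of vectors.** -/
theorem fusion [FiniteDimensional K V] (h : TF Q QK) (hG : Good Q) (hm : 4 ≤ finrank K V)
    (hX : Over Q K X) (hT : ∀ v, v ≠ 0 → QK v = 0 → Triv QK X v) {g : V ≃ₗ[F] V} (hg : g ∈ X)
    (x : V) : ∃ k ∈ X, k ∈ NK F K V ∧ g x = k x := by
  have hFfin : Finite F := Finite.of_injective _ (algebraMap F K).injective
  have hVfin : Finite V := Module.finite_of_finite F
  have hfin : Finite (V ≃ₗ[F] V) := Finite.of_injective (fun f => (f : V → V)) DFunLike.coe_injective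
  obtain ⟨p, hp⟩ := CharP.exists K
  have hpp : p.Prime := (CharP.char_is_prime_or_zero K p).resolve_right (by
    rintro rfl
    have : CharZero K := CharP.charP_to_charZero K
    exact not_finite K)
  have : Fact p.Prime := ⟨hpp⟩
  obtain ⟨v, y, hv0, hv, hvy, hy, hvx, hyx⟩ := exists_pair h hm x
  obtain ⟨w, z, hw0, hw, hwz, hz, hwx, hzx⟩ := exists_pair h hm (g x)
  have hm3 : 3 ≤ finrank K V := by omega
  let S : Subgroup X := (MulAction.stabilizer (V ≃ₗ[F] V) x).subgroupOf X
  have hS : ∀ s : X, s ∈ S ↔ (s : V ≃ₗ[F] V) x = x := fun s => Iff.rfl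
  let P : Subgroup X := (PG F QK v y hv hvy).subgroupOf X
  let P' : Subgroup X := ((PG F QK w z hw hwz).map (MulAut.conj g⁻¹).toMonoidHom).subgroupOf X
  have hfixx : ∀ {v y x : V} (hv : QK v = 0) (hy : polar QK v y = 0), polar QK v x = 0 →
      polar QK y x = 0 → ∀ c : K, rho F QK v (c • y) hv (smul_perp hy c) x = x := by
    intro v y x hv hy hvx hyx c
    rw [rho_apply, hvx, polar_smul_left, hyx]
    simp
  obtain ⟨s, hs, hs'⟩ := exists_mem_of_fix (p := p) (G := X) (H := (NK F K V).subgroupOf X) (S := S)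
    (P := P) (P' := P') (k := ⟨g⁻¹, X.inv_mem hg⟩)
    ((isPGroup_PG hv hvy).comap_of_injective _ Subtype.val_injective)
    (((isPGroup_PG hw hwz).map _).comap_of_injective _ Subtype.val_injective) (by
      rintro ⟨s, hsX⟩ ⟨c, hc⟩
      rw [hS]
      change s = _ at hc
      change s x = x
      rw [hc]
      exact hfixx hv hvy hvx hyx c) (by
      rintro ⟨s, hsX⟩ ⟨_, ⟨c, rfl⟩, hc⟩
      rw [hS]
      have hc' : g⁻¹ * rho F QK w (c • z) hw (smul_perp hwz c) * g⁻¹⁻¹ = s := hc
      change s x = x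
      rw [← hc', inv_inv, LinearEquiv.mul_apply, LinearEquiv.mul_apply, hfixx hw hwz hwx hzx c]
      exact g.symm_apply_apply x) (by
      rintro ⟨s, hsX⟩ ⟨c, hc⟩
      change s = _ at hc
      change s ∈ NK F K V
      rw [hc]
      exact rho_mem_NK _ _) (by
      rintro ⟨s, hsX⟩ hs
      change s ∈ NK F K V
      have h1 : s⁻¹ ∈ NK F K V := by
        apply unique_fix h hG hm3 hX hT hv0 hv hvy hy (X.inv_mem hsX)
        intro c
        rw [inv_inv]
        exact hs ⟨rho F QK v (c • y) hv (smul_perp hvy c), hX.rho_mem h hG hv _⟩ ⟨c, rfl⟩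
      rw [← inv_inv s]
      exact (NK F K V).inv_mem h1) (by
      rintro ⟨s, hsX⟩ hs
      change (g⁻¹)⁻¹ * s ∈ NK F K V
      rw [inv_inv]
      have h1 : (g * s)⁻¹ ∈ NK F K V := by
        apply unique_fix h hG hm3 hX hT hw0 hw hwz hz (X.inv_mem (X.mul_mem hg hsX))
        intro c
        have h2 := hs ⟨g⁻¹ * rho F QK w (c • z) hw (smul_perp hwz c) * g⁻¹⁻¹,
          X.mul_mem (X.mul_mem (X.inv_mem hg) (hX.rho_mem h hG hw _)) (X.inv_mem (X.inv_mem hg))⟩
          ⟨_, ⟨c, rfl⟩, rfl⟩
        have h3 : s⁻¹ * (g⁻¹ * rho F QK w (c • z) hw (smul_perp hwz c) * g⁻¹⁻¹) * s ∈ NK F K V := h2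
        have e : (g * s)⁻¹ * rho F QK w (c • z) hw (smul_perp hwz c) * (g * s)⁻¹⁻¹ =
            s⁻¹ * (g⁻¹ * rho F QK w (c • z) hw (smul_perp hwz c) * g⁻¹⁻¹) * s := by group
        rw [e]
        exact h3
      rw [← inv_inv (g * s)]
      exact (NK F K V).inv_mem h1)
  refine ⟨g * s, X.mul_mem hg s.2, ?_, ?_⟩
  · have h1 : (g⁻¹)⁻¹ * (s : V ≃ₗ[F] V) ∈ NK F K V := hs'
    rwa [inv_inv] at h1
  · rw [LinearEquiv.mul_apply, (hS s).1 hs]

/-- **Case `B = 1`**: the overgroup is semilinear. -/
theorem le_NK_of_triv [FiniteDimensional K V] (h : TF Q QK) (hG : Good Q) (hm : 4 ≤ finrank K V)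
    (hX : Over Q K X) (hT : ∀ v, v ≠ 0 → QK v = 0 → Triv QK X v) : X ≤ NK F K V := by
  have hXO : X ≤ O Q := fun g hg => E_le_O (hX.le hg)
  intro g hg
  obtain ⟨v, hv0, hv, -⟩ := exists_sing_perp (Q := QK) ![] (by omega : 0 + 3 ≤ finrank K V)
  have hnt : Nontrivial V := ⟨⟨v, 0, hv0⟩⟩
  obtain ⟨v', hH⟩ := exists_hyp h.nondeg hv hv0
  have hsing : ∀ k ∈ X, ∀ x, QK x = 0 → QK (k x) = 0 := by
    intro k hk x hx
    obtain ⟨l, hl, ⟨σ, hσ⟩, e⟩ := fusion h hG hm hX hT hk x
    rw [e, h.quad_sigma (hXO hl) hσ, hx, map_zero]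
  have horth : ∀ k ∈ X, ∀ x y, QK x = 0 → QK y = 0 → polar QK x y = 0 →
      polar QK (k x) (k y) = 0 := by
    intro k hk x y hx hy hxy
    have h1 : QK (x + y) = 0 := by rw [Q_add, hx, hy, hxy]; simp
    have h2 := hsing k hk _ h1
    rw [map_add, Q_add, hsing k hk x hx, hsing k hk y hy] at h2
    simpa using h2
  obtain ⟨l, hl, hlN, e⟩ := fusion h hG hm hX hT hg v
  have hg1 : l⁻¹ * g ∈ X := X.mul_mem (X.inv_mem hl) hg
  have hg1v : (l⁻¹ * g) v = v := by
    rw [LinearEquiv.mul_apply, e]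
    exact l.symm_apply_apply v
  set k := l⁻¹ * g with hk
  have hkN : k ∈ NK F K V := by
    refine (hT v hv0 hv).stab_le h hG (by omega) hX hH hg1 fun c => ?_
    have hcv : QK (c • v) = 0 := by rw [QuadraticMap.map_smul, hv, smul_zero]
    have hz : QK (k (c • v)) = 0 := hsing k hg1 _ hcv
    have hvz : polar QK v (k (c • v)) = 0 := by
      have := horth k hg1 v (c • v) hv hcv (by
        rw [polar_smul_right, polar_self_of_sing hv, smul_zero])
      rwa [hg1v] at this
    set z := k (c • v) with hzdef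
    set w := z - polar QK v' z • v with hw
    have hvw : polar QK v w = 0 := by
      rw [hw, polar_sub_right, polar_smul_right, hvz, hH.polar_left, smul_zero, sub_zero]
    have hv'w : polar QK v' w = 0 := by
      rw [hw, polar_sub_right, polar_smul_right, hH.pair', smul_eq_mul, mul_one, sub_self]
    have hws : QK w = 0 := by
      rw [hw, sub_eq_add_neg, ← neg_smul, Q_add, QuadraticMap.map_smul, hz, hv, polar_smul_right,
        polar_comm QK z v, hvz]
      simp
    have hw0 : w = 0 := by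
      by_contra hw0
      obtain ⟨w', hH', h1, h2⟩ := exists_hyp_perp h.nondeg hH hws hw0 hvw hv'w
      have hki : k⁻¹ v = v := by
        apply k.injective
        rw [hg1v]
        exact k.apply_symm_apply v
      have h3 : polar QK v (k⁻¹ w') = 0 := by
        have := horth k⁻¹ (X.inv_mem hg1) v w' hv hH'.right h1
        rwa [hki] at this
      have h4 : polar QK (c • v) (k⁻¹ w') = 0 := by rw [polar_smul_left, h3, smul_zero]
      have h5 := horth k hg1 _ _ hcv (hsing _ (X.inv_mem hg1) _ hH'.right) h4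
      have h6 : k (k⁻¹ w') = w' := k.apply_symm_apply w'
      rw [h6, ← hzdef] at h5
      have h7 : z = w + polar QK v' z • v := by rw [hw]; abel
      rw [h7, polar_add_left, polar_smul_left, h1, hH'.pair] at h5
      simp at h5
    refine ⟨polar QK v' z, ?_⟩
    rw [← sub_eq_zero]
    exact hw0
  have : g = l * k := by rw [hk]; group
  rw [this]
  exact (NK F K V).mul_mem hlN hkN

end

end Cfsg.Agent.H884.Ext
end
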