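import Mathlib
import Cfsg.Agent.H884.Ext4
set_option linter.all false

-- part: H884/ExtB1
section
/-!
# Extension fields in orthogonal groups: symmetric spaces of skew maps of `K` (helper884)
-/

set_option autoImplicit false
set_option linter.unusedSectionVars false

namespace Cfsg.Agent.H884.Ext

open Module

section Hua

variable {F K : Type*} [Field F] [Field K] [Algebra F K]

/-- Hua's identity: an additive subgroup containing `1`, closed under inverses, is a subring. -/
theorem hua_mul (h2 : (2 : K) ≠ 0) (A : Submodule F K) (h1 : (1 : K) ∈ A)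
    (hinv : ∀ a ∈ A, a⁻¹ ∈ A) : ∀ a ∈ A, ∀ b ∈ A, a * b ∈ A := by
  have hsq : ∀ a ∈ A, a ^ 2 ∈ A := by
    intro a ha
    by_cases h0 : a = 0
    · rw [h0, zero_pow two_ne_zero]; exact A.zero_mem
    by_cases h1' : a = 1
    · rw [h1', one_pow]; exact h1
    have h3 : (1 - a) ≠ 0 := sub_ne_zero.2 (Ne.symm h1')
    have e : a ^ 2 = a - (a⁻¹ + (1 - a)⁻¹)⁻¹ := by
      have h4 : a⁻¹ + (1 - a)⁻¹ = (a * (1 - a))⁻¹ := by field_simp; ring
      rw [h4, inv_inv]
      ring
    rw [e]
    exact A.sub_mem ha (hinv _ (A.add_mem (hinv _ ha) (hinv _ (A.sub_mem h1 ha))))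
  have hhalf : ∀ c ∈ A, (2 : K)⁻¹ * c ∈ A := by
    intro c hc
    have e : (2 : K)⁻¹ * c = (c⁻¹ + c⁻¹)⁻¹ := by
      rw [← two_mul, mul_inv, inv_inv]
    rw [e]
    exact hinv _ (A.add_mem (hinv _ hc) (hinv _ hc))
  intro a ha b hb
  have e : a * b = (2 : K)⁻¹ * ((a + b) ^ 2 - a ^ 2 - b ^ 2) := by
    field_simp
    ring
  rw [e]
  exact hhalf _ (A.sub_mem (A.sub_mem (hsq _ (A.add_mem ha hb)) (hsq _ ha)) (hsq _ hb))

/-- Over an extension of prime degree such a subspace is `F` or everything. -/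
theorem hua (h2 : (2 : K) ≠ 0) [FiniteDimensional F K] (hr : (finrank F K).Prime)
    (A : Submodule F K) (h1 : (1 : K) ∈ A) (hinv : ∀ a ∈ A, a⁻¹ ∈ A) :
    A = ⊤ ∨ ∀ a ∈ A, ∃ c : F, a = algebraMap F K c := by
  let S : Subalgebra F K :=
    { A with
      mul_mem' := fun {a b} ha hb => hua_mul h2 A h1 hinv a ha b hb
      algebraMap_mem' := fun c => by
        change algebraMap F K c ∈ A
        rw [Algebra.algebraMap_eq_smul_one]
        exact A.smul_mem _ h1 }
  have hS : ∀ a, a ∈ S ↔ a ∈ A := fun a => Iff.rfl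
  have := Subalgebra.isSimpleOrder_of_finrank_prime F K hr
  rcases eq_bot_or_eq_top S with h | h
  · right
    intro a ha
    have h3 : a ∈ (⊥ : Subalgebra F K) := h ▸ (hS a).2 ha
    obtain ⟨c, hc⟩ := Algebra.mem_bot.1 h3
    exact ⟨c, hc.symm⟩
  · left
    rw [eq_top_iff]
    intro a _
    rw [← hS, h]
    trivial

/-- The multiplier ring of a proper nonzero subspace is `F`. -/
theorem multiplier [FiniteDimensional F K] (hr : (finrank F K).Prime) (A : Submodule F K)
    (hA0 : A ≠ ⊥) (hA1 : A ≠ ⊤) {c : K} (hc : ∀ a ∈ A, c * a ∈ A) :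
    ∃ x : F, c = algebraMap F K x := by
  let S : Subalgebra F K :=
    { carrier := {c | ∀ a ∈ A, c * a ∈ A}
      mul_mem' := fun {x y} hx hy a ha => by rw [mul_assoc]; exact hx _ (hy _ ha)
      add_mem' := fun {x y} hx hy a ha => by rw [add_mul]; exact A.add_mem (hx _ ha) (hy _ ha)
      algebraMap_mem' := fun x a ha => by
        rw [← Algebra.smul_def]
        exact A.smul_mem _ ha }
  have hS : c ∈ S := hc
  have := Subalgebra.isSimpleOrder_of_finrank_prime F K hr
  rcases eq_bot_or_eq_top S with h | h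
  · rw [h] at hS
    obtain ⟨x, hx⟩ := Algebra.mem_bot.1 hS
    exact ⟨x, hx.symm⟩
  · exfalso
    obtain ⟨a, ha, ha0⟩ := Submodule.exists_mem_ne_zero_of_ne_bot hA0
    apply hA1
    rw [eq_top_iff]
    intro x _
    have h3 : x * a⁻¹ ∈ S := by rw [h]; trivial
    have h4 : x * a⁻¹ * a ∈ A := h3 a ha
    rwa [mul_assoc, inv_mul_cancel₀ ha0, mul_one] at h4

end Hua

section SymB

variable {F K : Type*} [Field F] [Field K] [Algebra F K]

/-- `c β c`. -/
def cj (F : Type*) {K : Type*} [Field F] [Field K] [Algebra F K] (c : K) (β : K →ₗ[F] K) :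
    K →ₗ[F] K := LinearMap.mulLeft F c ∘ₗ β ∘ₗ LinearMap.mulLeft F c

theorem cj_apply (c : K) (β : K →ₗ[F] K) (a : K) : cj F c β a = c * β (c * a) := rfl

/-- A symmetric space of skew maps. -/
structure Sym (B : Submodule F (K →ₗ[F] K)) : Prop where
  skew : ∀ β ∈ B, ∀ a, Algebra.trace F K (a * β a) = 0
  cj : ∀ β ∈ B, ∀ c : K, cj F c β ∈ B

variable {B : Submodule F (K →ₗ[F] K)}

theorem Sym.skew' (hB : Sym B) {β : K →ₗ[F] K} (hβ : β ∈ B) (a b : K) :
    Algebra.trace F K (a * β b) = - Algebra.trace F K (b * β a) := by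
  have h1 := hB.skew β hβ (a + b)
  rw [map_add, add_mul, mul_add, mul_add, map_add, map_add, map_add, hB.skew β hβ,
    hB.skew β hβ, zero_add, add_zero] at h1
  exact eq_neg_of_add_eq_zero_left h1

/-- The skew map `x ∧ y`. -/
noncomputable def wedge (F : Type*) {K : Type*} [Field F] [Field K] [Algebra F K] (x y : K) : K →ₗ[F] K :=
  (Algebra.traceForm F K x).smulRight y - (Algebra.traceForm F K y).smulRight x

theorem wedge_apply (x y a : K) : wedge F x y a =
    Algebra.trace F K (x * a) • y - Algebra.trace F K (y * a) • x := rfl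

theorem cj_wedge (c x y : K) : cj F c (wedge F x y) = wedge F (c * x) (c * y) := by
  ext a
  rw [cj_apply, wedge_apply, wedge_apply, mul_sub, mul_smul_comm, mul_smul_comm]
  congr 3
  · ring_nf
  · ring_nf

theorem wedge_swap (x y : K) : wedge F y x = - wedge F x y := by
  ext a
  rw [LinearMap.neg_apply, wedge_apply, wedge_apply]
  abel

theorem wedge_add_right (x y z : K) : wedge F x (y + z) = wedge F x y + wedge F x z := by
  ext a
  rw [LinearMap.add_apply, wedge_apply, wedge_apply, wedge_apply, add_mul, map_add]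
  module

theorem wedge_smul_right (x y : K) (c : F) : wedge F x (c • y) = c • wedge F x y := by
  ext a
  rw [LinearMap.smul_apply, wedge_apply, wedge_apply, smul_mul_assoc, map_smul]
  module

theorem wedge_self (x : K) : wedge F x x = 0 := by
  ext a
  rw [wedge_apply, sub_self, LinearMap.zero_apply]

/-- If a symmetric space contains one decomposable map it contains all. -/
theorem Sym.wedge_all (hB : Sym B) (h2 : (2 : K) ≠ 0) [FiniteDimensional F K]
    (hr : (finrank F K).Prime) {x y : K} (hx : x ≠ 0) (hy : ∀ c : F, y ≠ c • x)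
    (hxy : wedge F x y ∈ B) : ∀ x' y', wedge F x' y' ∈ B := by
  let A : Submodule F K :=
    { carrier := {η | wedge F 1 η ∈ B}
      add_mem' := fun {a b} ha hb => by
        change wedge F 1 (a + b) ∈ B
        rw [wedge_add_right]
        exact B.add_mem ha hb
      zero_mem' := by
        have e : wedge F (1 : K) 0 = 0 := by
          have := wedge_smul_right (F := F) (1 : K) 0 0
          rwa [zero_smul, zero_smul] at this
        change wedge F 1 0 ∈ B
        rw [e]
        exact B.zero_mem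
      smul_mem' := fun c a ha => by
        change wedge F 1 (c • a) ∈ B
        rw [wedge_smul_right]
        exact B.smul_mem _ ha }
  have hA : ∀ η, η ∈ A ↔ wedge F 1 η ∈ B := fun η => Iff.rfl
  have h1 : (1 : K) ∈ A := by
    rw [hA, wedge_self]
    exact B.zero_mem
  have hinv : ∀ a ∈ A, a⁻¹ ∈ A := by
    intro a ha
    by_cases h0 : a = 0
    · rw [h0, inv_zero]; exact A.zero_mem
    rw [hA] at ha ⊢
    have h3 := hB.cj _ ha a⁻¹
    rw [cj_wedge, mul_one, inv_mul_cancel₀ h0, wedge_swap] at h3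
    have h4 := B.neg_mem h3
    rwa [neg_neg] at h4
  have hxyA : x⁻¹ * y ∈ A := by
    rw [hA]
    have h3 := hB.cj _ hxy x⁻¹
    rwa [cj_wedge, inv_mul_cancel₀ hx] at h3
  have htop : A = ⊤ := by
    rcases hua h2 hr A h1 hinv with h | h
    · exact h
    · exfalso
      obtain ⟨c, hc⟩ := h _ hxyA
      apply hy c
      rw [Algebra.smul_def, ← hc, mul_comm, ← mul_assoc, mul_inv_cancel₀ hx, one_mul]
  intro x' y'
  by_cases h0 : x' = 0
  · have e : wedge F 0 y' = 0 := by
      rw [← neg_eq_zero, ← wedge_swap]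
      have := wedge_smul_right (F := F) y' 0 0
      rwa [zero_smul, zero_smul] at this
    rw [h0, e]
    exact B.zero_mem
  have h3 : wedge F 1 (x'⁻¹ * y') ∈ B := by
    rw [← hA, htop]
    trivial
  have h4 := hB.cj _ h3 x'
  rwa [cj_wedge, mul_one, ← mul_assoc, mul_inv_cancel₀ h0, one_mul] at h4

variable [Finite K]

/-- (P1) -/
theorem Sym.ann (hB : Sym B) (h2 : (2 : K) ≠ 0) (hr : (finrank F K).Prime) (hne : B ≠ ⊥) {x y : K}
    (hx : x ≠ 0) (h : ∀ β ∈ B, Algebra.trace F K (x * β y) = 0) : ∃ c : F, y = c • x := by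
  have hfd : FiniteDimensional F K := FiniteDimensional.of_finrank_pos hr.pos
  let A : Submodule F K :=
    { carrier := {y | ∀ β ∈ B, Algebra.trace F K (β y) = 0}
      add_mem' := fun {a b} ha hb β hβ => by rw [map_add, map_add, ha β hβ, hb β hβ, add_zero]
      zero_mem' := fun β _ => by rw [map_zero, map_zero]
      smul_mem' := fun c a ha β hβ => by rw [map_smul, map_smul, ha β hβ, smul_zero] }
  have hA : ∀ y, y ∈ A ↔ ∀ β ∈ B, Algebra.trace F K (β y) = 0 := fun y => Iff.rfl
  have h1 : (1 : K) ∈ A := by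
    intro β hβ
    have := hB.skew β hβ 1
    rwa [one_mul] at this
  have hinv : ∀ a ∈ A, a⁻¹ ∈ A := by
    intro a ha
    by_cases h0 : a = 0
    · rw [h0, inv_zero]; exact A.zero_mem
    intro β hβ
    have h3 := ha _ (hB.cj β hβ a⁻¹)
    rw [cj_apply, inv_mul_cancel₀ h0, hB.skew' hβ, one_mul, neg_eq_zero] at h3
    exact h3
  have hxy : x⁻¹ * y ∈ A := by
    intro β hβ
    have h3 := h _ (hB.cj β hβ x⁻¹)
    rwa [cj_apply, ← mul_assoc, mul_inv_cancel₀ hx, one_mul] at h3
  rcases hua h2 hr A h1 hinv with h3 | h3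
  · exfalso
    obtain ⟨β, hβ, hβ0⟩ := Submodule.exists_mem_ne_zero_of_ne_bot hne
    apply hβ0
    ext a
    rw [LinearMap.zero_apply]
    apply trace_ext (F := F)
    intro c
    by_cases h0 : c = 0
    · rw [h0, zero_mul, map_zero]
    have h4 : c⁻¹ * a ∈ A := by rw [h3]; trivial
    have h5 := h4 _ (hB.cj β hβ c)
    rwa [cj_apply, ← mul_assoc, mul_inv_cancel₀ h0, one_mul] at h5
  · obtain ⟨c, hc⟩ := h3 _ hxy
    refine ⟨c, ?_⟩
    rw [Algebra.smul_def, ← hc, mul_comm, ← mul_assoc, mul_inv_cancel₀ hx, one_mul]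

/-- The values at `e` are all elements trace-orthogonal to `e`. -/
theorem Sym.exists_value (hB : Sym B) (h2 : (2 : K) ≠ 0) (hr : (finrank F K).Prime) (hne : B ≠ ⊥)
    {e δ : K} (he : e ≠ 0) (hδ : Algebra.trace F K (e * δ) = 0) : ∃ β ∈ B, β e = δ := by
  have hfd : FiniteDimensional F K := FiniteDimensional.of_finrank_pos hr.pos
  by_contra hcon
  push Not at hcon
  let I : Submodule F K := B.map (LinearMap.applyₗ (R := F) e : (K →ₗ[F] K) →ₗ[F] K)
  have hI : δ ∉ I := by
    rintro ⟨β, hβ, h3⟩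
    exact hcon β hβ h3
  obtain ⟨φ, hφ, hφI⟩ := Submodule.exists_dual_map_eq_bot_of_notMem hI inferInstance
  obtain ⟨y, hy⟩ := exists_trace φ
  have h3 : ∀ β ∈ B, Algebra.trace F K (y * β e) = 0 := by
    intro β hβ
    rw [← hy]
    have h4 : φ (β e) ∈ I.map φ := Submodule.mem_map_of_mem ⟨β, hβ, rfl⟩
    rw [hφI] at h4
    exact (Submodule.mem_bot F).1 h4
  obtain ⟨c, hc⟩ := hB.ann h2 hr hne he (fun β hβ => by rw [hB.skew' hβ, h3 β hβ, neg_zero])
  apply hφ
  rw [hy, hc, smul_mul_assoc, map_smul, hδ, smul_zero]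

/-- A skew map of an odd-dimensional `K` is singular. -/
theorem exists_ker_of_skew (h2 : (2 : K) ≠ 0) (hodd : Odd (finrank F K)) {β : K →ₗ[F] K}
    (hβ : ∀ a, Algebra.trace F K (a * β a) = 0) : ∃ z, z ≠ 0 ∧ β z = 0 := by
  classical
  have hfd : FiniteDimensional F K := FiniteDimensional.of_finrank_pos hodd.pos
  have h2F : (2 : F) ≠ 0 := by
    intro h
    apply h2
    have h3 := congrArg (algebraMap F K) h
    rwa [map_ofNat, map_zero] at h3
  have hskew : ∀ a b, Algebra.trace F K (a * β b) = - Algebra.trace F K (b * β a) := by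
    intro a b
    have h1 := hβ (a + b)
    rw [map_add, add_mul, mul_add, mul_add, map_add, map_add, map_add, hβ, hβ, zero_add,
      add_zero] at h1
    exact eq_neg_of_add_eq_zero_left h1
  let bs := finBasis F K
  let M : Matrix (Fin (finrank F K)) (Fin (finrank F K)) F :=
    Matrix.of fun i j => Algebra.trace F K (bs i * β (bs j))
  have hM : M.transpose = -M := by
    ext i j
    rw [Matrix.transpose_apply, Matrix.neg_apply]
    exact hskew _ _
  have hdet : M.det = 0 := by
    have h3 := Matrix.det_transpose M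
    rw [hM, Matrix.det_neg, Fintype.card_fin, hodd.neg_one_pow, neg_one_mul] at h3
    have h4 : (2 : F) * M.det = 0 := by linear_combination -h3
    exact (mul_eq_zero.1 h4).resolve_left h2F
  obtain ⟨w, hw, hMw⟩ := Matrix.exists_mulVec_eq_zero_iff.2 hdet
  refine ⟨∑ j, w j • bs j, ?_, ?_⟩
  · intro h0
    apply hw
    funext j
    exact Fintype.linearIndependent_iff.1 bs.linearIndependent w h0 j
  · apply trace_ext (F := F)
    intro c
    have h3 : ∀ i, Algebra.trace F K (bs i * β (∑ j, w j • bs j)) = 0 := by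
      intro i
      have h4 : ∑ j, M i j * w j = 0 := congrFun hMw i
      rw [map_sum, Finset.mul_sum, map_sum]
      rw [← h4]
      apply Finset.sum_congr rfl
      intro j _
      rw [map_smul, mul_smul_comm, map_smul, smul_eq_mul, mul_comm]
      rfl
    rw [← bs.sum_repr c, Finset.sum_mul, map_sum]
    apply Finset.sum_eq_zero
    intro i _
    rw [smul_mul_assoc, map_smul, h3, smul_zero]

/-- (P2) -/
theorem Sym.exists_kill (hB : Sym B) (h2 : (2 : K) ≠ 0) (hr : (finrank F K).Prime)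
    (hodd : Odd (finrank F K)) (hne : B ≠ ⊥) {e e' : K} (he : e ≠ 0) (he' : ∀ c : F, e' ≠ c • e) :
    ∃ β ∈ B, β e = 0 ∧ β e' ≠ 0 := by
  have hfd : FiniteDimensional F K := FiniteDimensional.of_finrank_pos hr.pos
  have hFfin : Finite F := Finite.of_injective _ (algebraMap F K).injective
  have hEfin : Finite (K →ₗ[F] K) := Finite.of_injective (fun f => (f : K → K)) DFunLike.coe_injective
  let A : Submodule F K :=
    { carrier := {y | ∀ β ∈ B, β 1 = 0 → β y = 0}
      add_mem' := fun {a b} ha hb β hβ h1 => by rw [map_add, ha β hβ h1, hb β hβ h1, add_zero]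
      zero_mem' := fun β _ _ => by rw [map_zero]
      smul_mem' := fun c a ha β hβ h1 => by rw [map_smul, ha β hβ h1, smul_zero] }
  have h1 : (1 : K) ∈ A := fun β hβ h1 => h1
  have hinv : ∀ a ∈ A, a⁻¹ ∈ A := by
    intro a ha
    by_cases h0 : a = 0
    · rw [h0, inv_zero]; exact A.zero_mem
    -- `B_1 = B_a`
    have hsub : {β | β ∈ B ∧ β 1 = 0} ⊆ {β | β ∈ B ∧ β a = 0} :=
      fun β hβ => ⟨hβ.1, ha β hβ.1 hβ.2⟩
    have hcard : Nat.card {β : K →ₗ[F] K | β ∈ B ∧ β a = 0} ≤
        Nat.card {β : K →ₗ[F] K | β ∈ B ∧ β 1 = 0} := by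
      refine Nat.card_le_card_of_injective
        (fun β => ⟨Ext.cj F a β.1, hB.cj _ β.2.1 a, by
          rw [cj_apply, mul_one, β.2.2, mul_zero]⟩) ?_
      rintro ⟨β, hβ⟩ ⟨γ, hγ⟩ hβγ
      apply Subtype.ext
      have h3 : Ext.cj F a β = Ext.cj F a γ := congrArg Subtype.val hβγ
      change β = γ
      ext x
      have h4 := LinearMap.congr_fun h3 (a⁻¹ * x)
      rw [cj_apply, cj_apply, ← mul_assoc, mul_inv_cancel₀ h0, one_mul] at h4
      exact mul_left_cancel₀ h0 h4
    have heq : {β : K →ₗ[F] K | β ∈ B ∧ β 1 = 0} = {β | β ∈ B ∧ β a = 0} := by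
      refine Set.eq_of_subset_of_ncard_le hsub ?_ (Set.toFinite _)
      rw [← Nat.card_coe_set_eq, ← Nat.card_coe_set_eq]
      exact hcard
    intro β hβ hβ1
    have h3 : Ext.cj F a⁻¹ β ∈ {β : K →ₗ[F] K | β ∈ B ∧ β a = 0} := by
      refine ⟨hB.cj _ hβ _, ?_⟩
      rw [cj_apply, inv_mul_cancel₀ h0, hβ1, mul_zero]
    rw [← heq] at h3
    have h4 := h3.2
    rw [cj_apply, mul_one] at h4
    exact (mul_eq_zero.1 h4).resolve_left (inv_ne_zero h0)
  rcases hua h2 hr A h1 hinv with h3 | h3
  · exfalso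
    obtain ⟨β, hβ, hβ0⟩ := Submodule.exists_mem_ne_zero_of_ne_bot hne
    obtain ⟨z, hz, hβz⟩ := exists_ker_of_skew h2 hodd (hB.skew β hβ)
    apply hβ0
    have h4 : ∀ x, Ext.cj F z β x = 0 := by
      intro x
      have hx : x ∈ A := by rw [h3]; trivial
      exact hx _ (hB.cj _ hβ z) (by rw [cj_apply, mul_one, hβz, mul_zero])
    ext x
    have h5 := h4 (z⁻¹ * x)
    rw [cj_apply, ← mul_assoc, mul_inv_cancel₀ hz, one_mul] at h5
    exact (mul_eq_zero.1 h5).resolve_left hz
  · by_contra hcon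
    push Not at hcon
    have h4 : e⁻¹ * e' ∈ A := by
      intro β hβ hβ1
      have h5 := hcon _ (hB.cj β hβ e⁻¹) (by
        rw [cj_apply, inv_mul_cancel₀ he, hβ1, mul_zero])
      rw [cj_apply] at h5
      exact (mul_eq_zero.1 h5).resolve_left (inv_ne_zero he)
    obtain ⟨c, hc⟩ := h3 _ h4
    apply he' c
    rw [Algebra.smul_def, ← hc, mul_comm, ← mul_assoc, mul_inv_cancel₀ he, one_mul]

/-- (F) A symmetric space stable under a transvection contains a decomposable map. -/
theorem Sym.wedge_of_transvection (hB : Sym B) (h2 : (2 : K) ≠ 0) (hr : (finrank F K).Prime)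
    (h3r : 3 ≤ finrank F K) (hne : B ≠ ⊥) {d e : K} (hd : d ≠ 0) (he : e ≠ 0)
    (hst : ∀ β ∈ B, ∃ β' ∈ B, ∀ a, β' a =
      β (a + Algebra.trace F K (d * a) • e) +
        Algebra.trace F K (e * β (a + Algebra.trace F K (d * a) • e)) • d) :
    ∀ x' y', wedge F x' y' ∈ B := by
  have hfd : FiniteDimensional F K := FiniteDimensional.of_finrank_pos hr.pos
  have key : ∀ β ∈ B, wedge F d (β e) ∈ B := by
    intro β hβ
    obtain ⟨β', hβ', h⟩ := hst β hβ
    have e1 : wedge F d (β e) = β' - β := by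
      ext a
      rw [LinearMap.sub_apply, h, wedge_apply, map_add, map_smul, mul_add, map_add, mul_smul_comm,
        map_smul, hB.skew β hβ, smul_zero, add_zero, hB.skew' hβ, mul_comm a (β e)]
      rw [neg_smul]
      abel
    rw [e1]
    exact B.sub_mem hβ' hβ
  -- choose `β` with `β e ∉ F d`
  obtain ⟨y, hy1, hy2⟩ : ∃ y, Algebra.trace F K (y * d) = 0 ∧ ∀ c : F, y ≠ c • e := by
    by_contra hcon
    push Not at hcon
    let T : K →ₗ[F] F := (Algebra.traceForm F K).flip d
    have hT : ∀ y, T y = Algebra.trace F K (y * d) := fun y => rfl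
    have h4 : LinearMap.ker T ≤ Submodule.span F {e} := by
      intro y hy
      obtain ⟨c, hc⟩ := hcon y (by rw [← hT]; exact hy)
      rw [hc]
      exact Submodule.smul_mem _ _ (Submodule.mem_span_singleton_self e)
    have h5 := Submodule.finrank_mono h4
    have h6 : finrank F (Submodule.span F {e}) ≤ 1 :=
      (finrank_span_le_card (R := F) ({e} : Set K)).trans (by simp)
    have h7 := LinearMap.finrank_range_add_finrank_ker T
    have h8 : finrank F (LinearMap.range T) ≤ 1 := by
      refine (Submodule.finrank_le _).trans ?_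
      rw [finrank_self]
    omega
  obtain ⟨β, hβ, hβy⟩ : ∃ β ∈ B, Algebra.trace F K (y * β e) ≠ 0 := by
    by_contra hcon
    push Not at hcon
    obtain ⟨c, hc⟩ := hB.ann h2 hr hne he (y := y) (fun β hβ => by
      rw [hB.skew' hβ, hcon β hβ, neg_zero])
    exact hy2 c hc
  refine hB.wedge_all h2 hr hd (fun c hc => hβy ?_) (key β hβ)
  rw [hc, mul_smul_comm, map_smul, hy1, smul_zero]

end SymB

end Cfsg.Agent.H884.Ext
end

-- part: H884/ExtB2
section
/-!
# Extension fields in orthogonal groups: the space `B` attached to a singular point (helper884)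
-/

set_option autoImplicit false
set_option linter.unusedSectionVars false

namespace Cfsg.Agent.H884.Ext

open QuadraticMap Cfsg.Agent.LieClassical.OrthCore Cfsg.Agent.LieClassical.OrthTrans
  Cfsg.Agent.LieClassical.OrthSimple Cfsg.Agent.LieClassical.OrthFinite Cfsg.Agent.H883.Root
  Cfsg.Agent.H883.Sub Module

section Fourth

variable {K : Type*} [Field K] [Finite K]

/-- Sums of fourth powers. -/
theorem closure_fourth (hK : 9 < Nat.card K) :
    AddSubgroup.closure (Set.range fun s : K => s ^ 4) = ⊤ := by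
  classical
  set A := AddSubgroup.closure (Set.range fun s : K => s ^ 4) with hA
  have hgen : ∀ s : K, s ^ 4 ∈ A := fun s => AddSubgroup.subset_closure ⟨s, rfl⟩
  have hmul1 : ∀ s : K, ∀ b ∈ A, s ^ 4 * b ∈ A := by
    intro s b hb
    induction hb using AddSubgroup.closure_induction with
    | mem x hx =>
      obtain ⟨t, rfl⟩ := hx
      change s ^ 4 * t ^ 4 ∈ A
      rw [← mul_pow]
      exact hgen _
    | zero => rw [mul_zero]; exact A.zero_mem
    | add x y _ _ hx hy => rw [mul_add]; exact A.add_mem hx hy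
    | neg x _ hx => rw [mul_neg]; exact A.neg_mem hx
  have hmul : ∀ a ∈ A, ∀ b ∈ A, a * b ∈ A := by
    intro a ha b hb
    induction ha using AddSubgroup.closure_induction with
    | mem x hx =>
      obtain ⟨t, rfl⟩ := hx
      exact hmul1 t b hb
    | zero => rw [zero_mul]; exact A.zero_mem
    | add x y _ _ hx hy => rw [add_mul]; exact A.add_mem hx hy
    | neg x _ hx => rw [neg_mul]; exact A.neg_mem hx
  let R : Subring K :=
    { A with
      mul_mem' := fun {a b} ha hb => hmul a ha b hb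
      one_mem' := by
        have := hgen 1
        rwa [one_pow] at this }
  have hR : ∀ a, a ∈ R ↔ a ∈ A := fun a => Iff.rfl
  have := Fintype.ofFinite K
  have := Fintype.ofFinite R
  let _ : Field R := Fintype.fieldOfDomain R
  have hcard : Fintype.card K = Fintype.card R ^ finrank R K := Module.card_eq_pow_finrank
  have hpos : 0 < finrank R K := finrank_pos
  by_cases h1 : finrank R K = 1
  · have h2 : Fintype.card K = Fintype.card R := by rw [hcard, h1, pow_one]
    have h3 : Function.Surjective (Subtype.val : R → K) :=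
      (Fintype.bijective_iff_injective_and_card _).2 ⟨Subtype.val_injective, h2.symm⟩ |>.2
    rw [eq_top_iff]
    intro x _
    obtain ⟨y, rfl⟩ := h3 x
    exact y.2
  · exfalso
    have h2 : Nat.card R ^ 2 ≤ Nat.card K := by
      rw [Nat.card_eq_fintype_card, Nat.card_eq_fintype_card, hcard]
      exact Nat.pow_le_pow_right Fintype.card_pos (by omega)
    -- the number of fourth powers
    have h3 : Nat.card (powMonoidHom 4 : Kˣ →* Kˣ).ker ≤ 4 := by
      have e : (powMonoidHom 4 : Kˣ →* Kˣ).ker = rootsOfUnity 4 K := by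
        ext u
        rw [MonoidHom.mem_ker, mem_rootsOfUnity]
        rfl
      rw [e]
      exact card_rootsOfUnity K 4
    have h4 := Subgroup.card_mul_index (powMonoidHom 4 : Kˣ →* Kˣ).ker
    rw [Subgroup.index_ker, Nat.card_units] at h4
    have h5 : Nat.card (powMonoidHom 4 : Kˣ →* Kˣ).range + 1 ≤ Nat.card R := by
      have h6 : Nat.card (Option (powMonoidHom 4 : Kˣ →* Kˣ).range) ≤ Nat.card R := by
        let f : Option (powMonoidHom 4 : Kˣ →* Kˣ).range → R := fun o =>
          match o with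
          | none => 0
          | some u => ⟨((u : Kˣ) : K), by
              obtain ⟨s, hs⟩ := u.2
              have h7 : ((u : Kˣ) : K) = (s : K) ^ 4 := by
                rw [← hs]; rfl
              rw [h7]
              exact hgen _⟩
        refine Nat.card_le_card_of_injective f ?_
        rintro (_ | u) (_ | v) h
        · rfl
        · exfalso
          have h5 : (0 : K) = ((v : Kˣ) : K) := congrArg Subtype.val h
          exact (v : Kˣ).ne_zero h5.symm
        · exfalso
          have h5 : ((u : Kˣ) : K) = 0 := congrArg Subtype.val h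
          exact (u : Kˣ).ne_zero h5
        · have h5 : ((u : Kˣ) : K) = ((v : Kˣ) : K) := congrArg Subtype.val h
          congr 1
          exact Subtype.ext (Units.ext h5)
      rwa [Finite.card_option] at h6
    generalize Nat.card (powMonoidHom 4 : Kˣ →* Kˣ).range = m at h4 h5
    generalize Nat.card (powMonoidHom 4 : Kˣ →* Kˣ).ker = k at h3 h4
    have h8 : 1 < Nat.card K := by omega
    have h9 : Nat.card K ≤ 4 * m + 1 := by
      have : k * m ≤ 4 * m := Nat.mul_le_mul_right _ h3
      omega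
    generalize Nat.card R = ρ at h2 h5
    generalize Nat.card K = κ at *
    have h10 : m + 1 ≤ ρ := h5
    have h11 : 3 ≤ m := by omega
    nlinarith

end Fourth

variable {F K V : Type*} [Field F] [Field K] [Algebra F K] [AddCommGroup V] [Module F V] [Module K V]
  [IsScalarTower F K V] {Q : QuadraticForm F V} {QK : QuadraticForm K V}

/-- `X` contains the transformation attached to `β`. -/
def HasB (QK : QuadraticForm K V) (X : Subgroup (V ≃ₗ[F] V)) (v : V) (β : K →ₗ[F] K) : Prop :=
  ∃ g ∈ X, ∀ x, g x = x + β (polar QK v x) • v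

variable {X : Subgroup (V ≃ₗ[F] V)} {v v' : V} {β γ : K →ₗ[F] K}

theorem HasB.zero : HasB QK X v (0 : K →ₗ[F] K) := ⟨1, X.one_mem, fun x => by simp⟩

theorem HasB.add (hv : QK v = 0) (h1 : HasB QK X v β) (h2 : HasB QK X v γ) :
    HasB QK X v (β + γ) := by
  obtain ⟨g, hg, hgx⟩ := h1
  obtain ⟨k, hk, hkx⟩ := h2
  refine ⟨g * k, X.mul_mem hg hk, fun x => ?_⟩
  rw [LinearEquiv.mul_apply, hkx, hgx, polar_add_right, polar_smul_right, polar_self_of_sing hv,
    smul_zero, add_zero, LinearMap.add_apply, add_smul]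
  abel

theorem HasB.neg (hv : QK v = 0) (h1 : HasB QK X v β) : HasB QK X v (-β) := by
  obtain ⟨g, hg, hgx⟩ := h1
  refine ⟨g⁻¹, X.inv_mem hg, fun x => ?_⟩
  have h2 : g (x + (-β) (polar QK v x) • v) = x := by
    rw [hgx, polar_add_right, polar_smul_right, polar_self_of_sing hv, smul_zero, add_zero,
      LinearMap.neg_apply, neg_smul, neg_add_cancel_right]
  apply g.injective
  rw [h2]
  exact g.apply_symm_apply x

theorem HasB.sub (hv : QK v = 0) (h1 : HasB QK X v β) (h2 : HasB QK X v γ) :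
    HasB QK X v (β - γ) := by
  rw [sub_eq_add_neg]
  exact h1.add hv (h2.neg hv)

theorem HasB.nsmul (hv : QK v = 0) (h1 : HasB QK X v β) (n : ℕ) : HasB QK X v (n • β) := by
  induction n with
  | zero => rw [zero_smul]; exact HasB.zero
  | succ n ih => rw [succ_nsmul]; exact ih.add hv h1

theorem HasB.half [Finite K] (h2 : (2 : K) ≠ 0) (hv : QK v = 0) (h1 : HasB QK X v (β + β)) :
    HasB QK X v β := by
  obtain ⟨p, hp⟩ := CharP.exists K
  have hpp : p.Prime := (CharP.char_is_prime_or_zero K p).resolve_right (by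
    rintro rfl
    have : CharZero K := CharP.charP_to_charZero K
    exact not_finite K)
  have hp2 : p ≠ 2 := by
    rintro rfl
    exact h2 (CharTwo.two_eq_zero)
  obtain ⟨k, hk⟩ := hpp.odd_of_ne_two hp2
  have h3 := h1.nsmul hv (k + 1)
  have e : (k + 1) • (β + β) = β := by
    rw [← two_nsmul, smul_smul, show (k + 1) * 2 = p + 1 by omega, succ_nsmul]
    have : p • β = 0 := by
      ext a
      rw [LinearMap.smul_apply, LinearMap.zero_apply, nsmul_eq_mul, CharP.cast_eq_zero, zero_mul]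
    rw [this, zero_add]
  rwa [e] at h3

theorem HasB.skew (h : TF Q QK) (hXO : X ≤ O Q) (hH : Hyp QK v v') (h1 : HasB QK X v β) (a : K) :
    Algebra.trace F K (a * β a) = 0 := by
  obtain ⟨g, hg, hgx⟩ := h1
  have h2 := hXO hg (a • v')
  rw [hgx, h.tr, h.tr, polar_smul_right, hH.pair, smul_eq_mul, mul_one, Q_add,
    QuadraticMap.map_smul, QuadraticMap.map_smul, hH.left, hH.right, polar_smul_left,
    polar_smul_right, hH.pair'] at h2
  simpa using h2

theorem HasB.conj [Finite K] [Nontrivial V] (h : TF Q QK) (hXO : X ≤ O Q) {k : V ≃ₗ[F] V}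
    (hk : k ∈ X) (hlin : ∀ (c : K) (x : V), k (c • x) = c • k x) (h1 : HasB QK X v β) :
    HasB QK X (k v) β := by
  obtain ⟨g, hg, hgx⟩ := h1
  refine ⟨k * g * k⁻¹, X.mul_mem (X.mul_mem hk hg) (X.inv_mem hk), fun x => ?_⟩
  have h2 : k (k⁻¹ x) = x := k.apply_symm_apply x
  have h3 : polar QK (k v) x = polar QK v (k⁻¹ x) := by
    have := h.polar_sigma (hXO hk) (σ := RingEquiv.refl K) hlin v (k⁻¹ x)
    rw [h2] at this
    exact this
  rw [LinearEquiv.mul_apply, LinearEquiv.mul_apply, hgx, map_add, hlin, h2, h3]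

theorem HasB.smul {c : K} (h1 : HasB QK X (c • v) β) : HasB QK X v (cj F c β) := by
  obtain ⟨g, hg, hgx⟩ := h1
  refine ⟨g, hg, fun x => ?_⟩
  rw [hgx, cj_apply, polar_smul_left, smul_smul, smul_eq_mul, mul_comm c (β _)]

/-- The torus. -/
def torLin (QK : QuadraticForm K V) (v v' : V) (e : K) : V →ₗ[K] V :=
  LinearMap.id + (e - 1) • (polarBilin QK v').smulRight v + (e⁻¹ - 1) • (polarBilin QK v).smulRight v'

theorem torLin_apply (e : K) (x : V) : torLin QK v v' e x =
    x + (e - 1) • polar QK v' x • v + (e⁻¹ - 1) • polar QK v x • v' := rfl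

theorem torLin_comp (hH : Hyp QK v v') {e : K} (he : e ≠ 0) (x : V) :
    torLin QK v v' e (torLin QK v v' e⁻¹ x) = x := by
  rw [torLin_apply, torLin_apply]
  simp only [polar_add_right, polar_smul_right, hH.polar_left, hH.polar_right, hH.pair, hH.pair',
    smul_eq_mul, mul_zero, mul_one, add_zero, inv_inv, smul_smul]
  have h1 : e * e⁻¹ = 1 := mul_inv_cancel₀ he
  have e1 : ∀ (a b : K), x + (e⁻¹ - 1) • a • v + (e - 1) • b • v' +
      ((e - 1) * (a + (e⁻¹ - 1) * a)) • v + ((e⁻¹ - 1) * (b + (e - 1) * b)) • v' =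
      x + ((e * e⁻¹ - 1) * a) • v + ((e * e⁻¹ - 1) * b) • v' := by
    intro a b
    module
  have e2 := e1 (polar QK v' x) (polar QK v x)
  rw [h1, sub_self, zero_mul, zero_mul, zero_smul, zero_smul, add_zero, add_zero] at e2
  simp only [smul_smul] at e2
  exact e2

/-- The torus element. -/
def tor (QK : QuadraticForm K V) (v v' : V) (hH : Hyp QK v v') (e : K) (he : e ≠ 0) :
    V ≃ₗ[K] V :=
  LinearEquiv.ofLinearMap (torLin QK v v' e) (torLin QK v v' e⁻¹)
    (by
      ext x
      exact torLin_comp hH he x)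
    (by
      ext x
      have := torLin_comp hH (inv_ne_zero he) x
      rw [inv_inv] at this
      exact this)

theorem tor_apply (hH : Hyp QK v v') {e : K} (he : e ≠ 0) (x : V) : tor QK v v' hH e he x =
    x + (e - 1) • polar QK v' x • v + (e⁻¹ - 1) • polar QK v x • v' := rfl

theorem tor_mem_O (hH : Hyp QK v v') {e : K} (he : e ≠ 0) : tor QK v v' hH e he ∈ O QK := by
  intro x
  rw [tor_apply, Q_add, Q_add]
  simp only [QuadraticMap.map_smul, polar_add_left, polar_smul_right, polar_smul_left,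
    hH.left, hH.right, hH.pair, smul_eq_mul, mul_zero, add_zero, mul_one]
  rw [polar_comm QK x v, polar_comm QK x v']
  have h1 : e * e⁻¹ = 1 := mul_inv_cancel₀ he
  linear_combination (polar QK v x * polar QK v' x) * h1

theorem tor_left (hH : Hyp QK v v') {e : K} (he : e ≠ 0) : tor QK v v' hH e he v = e • v := by
  rw [tor_apply, hH.pair', hH.polar_left]
  module

section

variable [Finite K] [FiniteDimensional F V]

theorem Over.tor_mem (hX : Over Q K X) (h : TF Q QK) (hG : Good Q) (hH : Hyp QK v v') {e : K}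
    (he : e ≠ 0) : ∃ k ∈ X, (∀ (c : K) (x : V), k (c • x) = c • k x) ∧ k v = (e ^ 2) • v := by
  set t := (tor QK v v' hH e he).restrictScalars F with ht
  have htlin : ∀ (c : K) (x : V), t (c • x) = c • t x := fun c x =>
    (tor QK v v' hH e he).map_smul c x
  have htv : t v = e • v := tor_left hH he
  have htt : ∀ x, (t * t) x = t (t x) := fun x => rfl
  have hlin : ∀ (c : K) (x : V), (t * t) (c • x) = c • (t * t) x := by
    intro c x
    rw [htt, htt, htlin, htlin]
  refine ⟨t * t, hX.ge _ (sq_mem_E hG (h.restrict_mem_O (tor_mem_O hH he)))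
    (mem_NK_of_linear hlin), hlin, ?_⟩
  rw [htt, htv, htlin, htv, smul_smul, pow_two]

/-- Stability of `B` under the torus. -/
theorem HasB.tor (h : TF Q QK) (hG : Good Q) (hX : Over Q K X) (hH : Hyp QK v v')
    (h1 : HasB QK X v β) (e : K) : HasB QK X v (cj F (e ^ 2) β) := by
  have hXO : X ≤ O Q := fun g hg => E_le_O (hX.le hg)
  have hnt : Nontrivial V := ⟨⟨v, 0, hH.left_ne⟩⟩
  by_cases he : e = 0
  · have : cj F (e ^ 2) β = 0 := by
      ext a
      rw [he, cj_apply]
      simp
    rw [this]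
    exact HasB.zero
  · obtain ⟨k, hk, hlin, hkv⟩ := hX.tor_mem h hG hH he
    have h2 := h1.conj h hXO hk hlin
    rw [hkv] at h2
    exact h2.smul

/-- `c β + β c`. -/
def dv (F : Type*) {K : Type*} [Field F] [Field K] [Algebra F K] (c : K) (β : K →ₗ[F] K) :
    K →ₗ[F] K := LinearMap.mulLeft F c ∘ₗ β + β ∘ₗ LinearMap.mulLeft F c

theorem dv_apply (c : K) (β : K →ₗ[F] K) (a : K) : dv F c β a = c * β a + β (c * a) := rfl

theorem HasB.dv_fourth (h : TF Q QK) (hG : Good Q) (hX : Over Q K X) (hH : Hyp QK v v')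
    (h1 : HasB QK X v β) (s : K) : HasB QK X v (dv F (s ^ 4) β) := by
  have hv := hH.left
  have a1 := h1.tor h hG hX hH (s ^ 2 + 1)
  have a2 := h1.tor h hG hX hH (s ^ 2 - 1)
  have a3 := h1.tor h hG hX hH (s ^ 2)
  have a4 := h1.tor h hG hX hH s
  have a5 := (((a1.add hv a2).sub hv (a3.add hv a3)).sub hv (h1.add hv h1)).sub hv (a4.nsmul hv 8)
  apply HasB.half h.two hv
  convert a5 using 1
  ext a
  have e1 : β ((s ^ 2 + 1) ^ 2 * a) = β (s ^ 4 * a) + 2 * β (s ^ 2 * a) + β a := by
    have : (s ^ 2 + 1) ^ 2 * a = s ^ 4 * a + (s ^ 2 * a + s ^ 2 * a) + a := by ring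
    rw [this, map_add, map_add, map_add]
    ring
  have e2 : β ((s ^ 2 - 1) ^ 2 * a) = β (s ^ 4 * a) - 2 * β (s ^ 2 * a) + β a := by
    have : (s ^ 2 - 1) ^ 2 * a = s ^ 4 * a - (s ^ 2 * a + s ^ 2 * a) + a := by ring
    rw [this, map_add, map_sub, map_add]
    ring
  have e3 : (s ^ 2) ^ 2 * a = s ^ 4 * a := by ring
  have e4 : (8 • Ext.cj F (s ^ 2) β) a = 8 * (s ^ 2 * β (s ^ 2 * a)) := by
    rw [LinearMap.smul_apply, cj_apply, nsmul_eq_mul]
    norm_num
  simp only [LinearMap.add_apply, LinearMap.sub_apply, dv_apply, cj_apply, e1, e2, e3, e4]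
  ring

theorem HasB.dv (h : TF Q QK) (hG : Good Q) (hX : Over Q K X) (hH : Hyp QK v v')
    (hK : 9 < Nat.card K) (h1 : HasB QK X v β) (c : K) : HasB QK X v (dv F c β) := by
  have hv := hH.left
  have hc : c ∈ AddSubgroup.closure (Set.range fun s : K => s ^ 4) := by
    rw [closure_fourth hK]; trivial
  induction hc using AddSubgroup.closure_induction with
  | mem x hx =>
    obtain ⟨s, rfl⟩ := hx
    exact h1.dv_fourth h hG hX hH s
  | zero =>
    have : Ext.dv F (0 : K) β = 0 := by
      ext a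
      rw [dv_apply]
      simp
    rw [this]
    exact HasB.zero
  | add x y _ _ hx hy =>
    have : Ext.dv F (x + y) β = Ext.dv F x β + Ext.dv F y β := by
      ext a
      rw [LinearMap.add_apply, dv_apply, dv_apply, dv_apply, add_mul, add_mul, map_add]
      ring
    rw [this]
    exact hx.add hv hy
  | neg x _ hx =>
    have : Ext.dv F (-x) β = - Ext.dv F x β := by
      ext a
      rw [LinearMap.neg_apply, dv_apply, dv_apply, neg_mul, neg_mul, map_neg]
      ring
    rw [this]
    exact hx.neg hv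

theorem HasB.smulF (h : TF Q QK) (hG : Good Q) (hX : Over Q K X) (hH : Hyp QK v v')
    (hK : 9 < Nat.card K) (h1 : HasB QK X v β) (c : F) : HasB QK X v (c • β) := by
  apply HasB.half h.two hH.left
  convert h1.dv h hG hX hH hK (algebraMap F K c) using 1
  ext a
  rw [LinearMap.add_apply, LinearMap.smul_apply, dv_apply, ← Algebra.smul_def,
    ← Algebra.smul_def, map_smul]

theorem HasB.cj (h : TF Q QK) (hG : Good Q) (hX : Over Q K X) (hH : Hyp QK v v')
    (hK : 9 < Nat.card K) (h1 : HasB QK X v β) (c : K) : HasB QK X v (cj F c β) := by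
  have hv := hH.left
  apply HasB.half h.two hv
  have h2 := (h1.dv h hG hX hH hK c).dv h hG hX hH hK c
  have h3 := h1.dv h hG hX hH hK (c ^ 2)
  convert h2.sub hv h3 using 1
  ext a
  have e1 : c * (c * a) = c ^ 2 * a := by ring
  simp only [LinearMap.add_apply, LinearMap.sub_apply, dv_apply, cj_apply, e1]
  ring

/-- The space `B`. -/
def BB (h : TF Q QK) (hG : Good Q) (hX : Over Q K X) (hH : Hyp QK v v') (hK : 9 < Nat.card K) :
    Submodule F (K →ₗ[F] K) where
  carrier := {β | HasB QK X v β}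
  add_mem' h1 h2 := h1.add hH.left h2
  zero_mem' := HasB.zero
  smul_mem' c _ h1 := h1.smulF h hG hX hH hK c

theorem mem_BB (h : TF Q QK) (hG : Good Q) (hX : Over Q K X) (hH : Hyp QK v v')
    (hK : 9 < Nat.card K) : β ∈ BB h hG hX hH hK ↔ HasB QK X v β := Iff.rfl

theorem sym_BB (h : TF Q QK) (hG : Good Q) (hX : Over Q K X) (hH : Hyp QK v v')
    (hK : 9 < Nat.card K) : Sym (BB h hG hX hH hK) where
  skew _ hβ a := HasB.skew h (fun _ hg => E_le_O (hX.le hg)) hH hβ a
  cj _ hβ c := HasB.cj h hG hX hH hK hβ c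

end

end Cfsg.Agent.H884.Ext
end

-- part: H884/ExtB3
section
/-!
# Extension fields in orthogonal groups: maximal intersections (helper884)
-/

set_option autoImplicit false
set_option linter.unusedSectionVars false

namespace Cfsg.Agent.H884.Ext

open QuadraticMap Cfsg.Agent.LieClassical.OrthCore Cfsg.Agent.LieClassical.OrthTrans
  Cfsg.Agent.LieClassical.OrthSimple Cfsg.Agent.LieClassical.OrthFinite Cfsg.Agent.H883.Root
  Cfsg.Agent.H883.Sub Module

variable {F K V : Type*} [Field F] [Field K] [Algebra F K] [AddCommGroup V] [Module F V] [Module K V]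
  [IsScalarTower F K V] {Q : QuadraticForm F V} {QK : QuadraticForm K V}

variable {X : Subgroup (V ≃ₗ[F] V)} {v v' : V} {β γ : K →ₗ[F] K}

section

variable [Finite K]

/-- A map of rank one. -/
theorem exists_rank_one {N : K →ₗ[F] K} {d : K} (hd : d ≠ 0) (hN0 : N ≠ 0)
    (hN : ∀ c, ∃ x : F, N c = x • d) :
    ∃ e : K, e ≠ 0 ∧ ∀ c, N c = Algebra.trace F K (e * c) • d := by
  obtain ⟨a, ha⟩ : ∃ a : K, Algebra.trace F K (a * d) = 1 := by
    by_contra hcon
    push Not at hcon
    apply hd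
    apply trace_ext (F := F)
    intro c
    by_contra h0
    apply hcon ((Algebra.trace F K (c * d))⁻¹ • c)
    rw [smul_mul_assoc, map_smul, smul_eq_mul, inv_mul_cancel₀ h0]
  obtain ⟨e, he⟩ := exists_trace ((Algebra.traceForm F K a) ∘ₗ N)
  have h1 : ∀ c, N c = Algebra.trace F K (e * c) • d := by
    intro c
    obtain ⟨x, hx⟩ := hN c
    rw [← he]
    change N c = Algebra.trace F K (a * N c) • d
    rw [hx, mul_smul_comm, map_smul, ha, smul_eq_mul, mul_one]
  refine ⟨e, ?_, h1⟩
  rintro rfl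
  apply hN0
  ext c
  rw [h1, zero_mul, map_zero, zero_smul, LinearMap.zero_apply]

variable [FiniteDimensional F V]

/-- Conjugation by an element stabilising the point. -/
theorem HasB.stab (h : TF Q QK) (hXO : X ≤ O Q) {g : V ≃ₗ[F] V} (hg : g ∈ X) {T Tt : K →ₗ[F] K}
    (hT : ∀ c, g (c • v) = T c • v)
    (hTt : ∀ c a, Algebra.trace F K (c * Tt a) = Algebra.trace F K (T c * a))
    (h1 : HasB QK X v β) : HasB QK X v (T ∘ₗ β ∘ₗ Tt) := by
  obtain ⟨k, hk, hkx⟩ := h1
  refine ⟨g * k * g⁻¹, X.mul_mem (X.mul_mem hg hk) (X.inv_mem hg), fun x => ?_⟩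
  have h2 : g (g⁻¹ x) = x := g.apply_symm_apply x
  have h3 : polar QK v (g⁻¹ x) = Tt (polar QK v x) := by
    apply trace_ext' (F := F)
    intro c
    rw [hTt, ← h.smul_left, ← h.smul_left, ← hT, ← polar_map (hXO hg) (c • v), h2]
  rw [LinearEquiv.mul_apply, LinearEquiv.mul_apply, hkx, map_add, hT, h2, h3]
  rfl

/-- The adjoint of a map of `K`. -/
theorem exists_adj (T : K →ₗ[F] K) : ∃ Tt : K →ₗ[F] K,
    ∀ c a, Algebra.trace F K (c * Tt a) = Algebra.trace F K (T c * a) := by
  choose f hf using fun a : K => exists_trace (F := F) ((Algebra.traceForm F K a) ∘ₗ T)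
  have hf' : ∀ c a, Algebra.trace F K (c * f a) = Algebra.trace F K (T c * a) := by
    intro c a
    rw [mul_comm c, ← hf, mul_comm]
    rfl
  refine ⟨{ toFun := f, map_add' := fun a b => ?_, map_smul' := fun x a => ?_ }, hf'⟩
  · apply trace_ext' (F := F)
    intro c
    rw [hf', mul_add, map_add, mul_add, map_add, hf', hf']
  · apply trace_ext' (F := F)
    intro c
    rw [hf', RingHom.id_apply, mul_smul_comm, map_smul, mul_smul_comm, map_smul, hf']

/-- (F') -/
theorem wedge_of_transvection (h : TF Q QK) (hG : Good Q) (hX : Over Q K X) (hH : Hyp QK v v')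
    (hK : 9 < Nat.card K) (hr : (finrank F K).Prime) (h3r : 3 ≤ finrank F K)
    (hne : BB h hG hX hH hK ≠ ⊥) {g : V ≃ₗ[F] V} (hg : g ∈ X) {d e : K} (hd : d ≠ 0) (he : e ≠ 0)
    (hT : ∀ c : K, g (c • v) = (c + Algebra.trace F K (e * c) • d) • v) :
    ∀ x y, HasB QK X v (wedge F x y) := by
  have hXO : X ≤ O Q := fun g hg => E_le_O (hX.le hg)
  refine (sym_BB h hG hX hH hK).wedge_of_transvection h.two hr h3r hne hd he ?_
  intro β hβ
  let T : K →ₗ[F] K := LinearMap.id + (Algebra.traceForm F K e).smulRight d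
  let Tt : K →ₗ[F] K := LinearMap.id + (Algebra.traceForm F K d).smulRight e
  have hTa : ∀ c, T c = c + Algebra.trace F K (e * c) • d := fun c => rfl
  have hTta : ∀ c, Tt c = c + Algebra.trace F K (d * c) • e := fun c => rfl
  refine ⟨T ∘ₗ β ∘ₗ Tt, HasB.stab h hXO hg (T := T) (Tt := Tt) hT ?_ hβ, fun a => rfl⟩
  intro c a
  rw [hTta, hTa, mul_add, add_mul, map_add, map_add, mul_smul_comm, map_smul, smul_mul_assoc,
    map_smul, smul_eq_mul, smul_eq_mul, mul_comm c e]
  ring

/-- (G') -/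
theorem rank_one_of_ker (h : TF Q QK) (hG : Good Q) (hX : Over Q K X) (hH : Hyp QK v v')
    (hK : 9 < Nat.card K) (hr : (finrank F K).Prime) (hne : BB h hG hX hH hK ≠ ⊥)
    {n : ℕ} (hmin : ∀ γ : K →ₗ[F] K, HasB QK X v γ → γ ≠ 0 → finrank F (LinearMap.ker γ) ≤ n)
    {g : V ≃ₗ[F] V} (hg : g ∈ X) {N : K →ₗ[F] K} (hN : ∀ c : K, g (c • v) = (c + N c) • v)
    (hNN : ∀ c, N (N c) = 0) (hN0 : N ≠ 0) (hker : n < finrank F (LinearMap.ker N)) :
    ∃ d e : K, d ≠ 0 ∧ e ≠ 0 ∧ ∀ c, N c = Algebra.trace F K (e * c) • d := by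
  have hfd : FiniteDimensional F K := FiniteDimensional.of_finrank_pos hr.pos
  have hXO : X ≤ O Q := fun g hg => E_le_O (hX.le hg)
  have hv := hH.left
  obtain ⟨Nt, hNt⟩ := exists_adj N
  have hNtNt : ∀ a, Nt (Nt a) = 0 := by
    intro a
    apply trace_ext (F := F)
    intro c
    rw [hNt, hNt, hNN, zero_mul, map_zero]
  let T : K →ₗ[F] K := LinearMap.id + N
  let Tt : K →ₗ[F] K := LinearMap.id + Nt
  have hTa : ∀ c, T c = c + N c := fun c => rfl
  have hTta : ∀ c, Tt c = c + Nt c := fun c => rfl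
  have hadj : ∀ c a, Algebra.trace F K (c * Tt a) = Algebra.trace F K (T c * a) := by
    intro c a
    rw [hTta, hTa, mul_add, add_mul, map_add, map_add, hNt]
  have hzero : ∀ β, HasB QK X v β → ∀ a, N (β (Nt a)) = 0 := by
    intro β hβ
    have h1 := HasB.stab h hXO hg (T := T) (Tt := Tt) hN hadj hβ
    have h2 := HasB.stab h hXO hg (T := T) (Tt := Tt) hN hadj h1
    have h3 : HasB QK X v (N ∘ₗ β ∘ₗ Nt) := by
      apply HasB.half h.two hv
      convert ((h2.sub hv (h1.add hv h1)).add hv hβ) using 1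
      ext a
      simp only [LinearMap.add_apply, LinearMap.sub_apply, LinearMap.comp_apply, hTa, hTta,
        map_add, hNN, hNtNt, map_zero, add_zero]
      ring
    by_contra hcon
    push Not at hcon
    obtain ⟨a, ha⟩ := hcon
    have h4 : N ∘ₗ β ∘ₗ Nt ≠ 0 := by
      intro h0
      exact ha (LinearMap.congr_fun h0 a)
    have h5 := hmin _ h3 h4
    have h6 : finrank F (LinearMap.range (N ∘ₗ β ∘ₗ Nt)) ≤ finrank F (LinearMap.range N) :=
      Submodule.finrank_mono (LinearMap.range_comp_le_range _ _)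
    have h7 := LinearMap.finrank_range_add_finrank_ker (N ∘ₗ β ∘ₗ Nt)
    have h8 := LinearMap.finrank_range_add_finrank_ker N
    omega
  -- `Nt` has rank one
  obtain ⟨x0, hx0⟩ : ∃ x0, Nt x0 ≠ 0 := by
    by_contra hcon
    push Not at hcon
    apply hN0
    ext c
    rw [LinearMap.zero_apply]
    apply trace_ext (F := F)
    intro a
    rw [mul_comm, ← hNt, hcon, mul_zero, map_zero]
  have hspan : ∀ y, ∃ x : F, Nt y = x • Nt x0 := by
    intro y
    refine (sym_BB h hG hX hH hK).ann h.two hr hne hx0 fun β hβ => ?_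
    rw [mul_comm, hNt' hNt, hzero β hβ, zero_mul, map_zero]
  set e := Nt x0 with he
  obtain ⟨a0, ha0⟩ : ∃ a0 : K, Algebra.trace F K (e * a0) = 1 := by
    by_contra hcon
    push Not at hcon
    apply hx0
    apply trace_ext (F := F)
    intro c
    by_contra h0
    apply hcon ((Algebra.trace F K (c * e))⁻¹ • c)
    rw [mul_smul_comm, map_smul, smul_eq_mul, mul_comm e c, inv_mul_cancel₀ h0]
  have hN1 : ∀ a, Algebra.trace F K (e * a) = 0 → N a = 0 := by
    intro a ha
    apply trace_ext (F := F)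
    intro c
    obtain ⟨x, hx⟩ := hspan c
    rw [mul_comm, ← hNt, hx, mul_smul_comm, map_smul, mul_comm a e, ha, smul_zero]
  have hN2 : ∀ c, N c = Algebra.trace F K (e * c) • N a0 := by
    intro c
    have h1 := hN1 (c - Algebra.trace F K (e * c) • a0) (by
      rw [mul_sub, map_sub, mul_smul_comm, map_smul, ha0, smul_eq_mul, mul_one, sub_self])
    rwa [map_sub, map_smul, sub_eq_zero] at h1
  refine ⟨N a0, e, ?_, hx0, hN2⟩
  intro h0
  apply hN0
  ext c
  rw [hN2, h0, smul_zero, LinearMap.zero_apply]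
where
  hNt' {N Nt : K →ₗ[F] K} (hNt : ∀ c a, Algebra.trace F K (c * Nt a) = Algebra.trace F K (N c * a))
      {c a : K} : Algebra.trace F K (c * Nt a) = Algebra.trace F K (N c * a) := hNt c a

end

/-- The `K`-line as a subspace over `F`. -/
def ln (F K : Type*) {V : Type*} [Field F] [Field K] [Algebra F K] [AddCommGroup V] [Module F V]
    [Module K V] [IsScalarTower F K V] (v : V) : Submodule F V := (K ∙ v).restrictScalars F

theorem mem_ln {x : V} : x ∈ ln F K v ↔ ∃ c : K, c • v = x := Submodule.mem_span_singleton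

theorem smul_mem_ln (c : K) : c • v ∈ ln F K v := mem_ln.2 ⟨c, rfl⟩

theorem finrank_ln (hv0 : v ≠ 0) : finrank F (ln F K v) = finrank F K := by
  have h1 : ln F K v = LinearMap.range ((LinearMap.toSpanSingleton K V v).restrictScalars F) := by
    ext x
    rw [mem_ln]
    rfl
  rw [h1]
  apply LinearMap.finrank_range_of_inj
  exact smul_left_injective K hv0

/-- The `X`-orbit of a line. -/
def Orb (K : Type*) {F V : Type*} [Field F] [Field K] [Algebra F K] [AddCommGroup V] [Module F V]
    [Module K V] [IsScalarTower F K V] (X : Subgroup (V ≃ₗ[F] V)) (v : V) :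
    Set (Submodule F V) := {U | ∃ g ∈ X, U = (ln F K v).map (g : V →ₗ[F] V)}

theorem map_mem_Orb {U : Submodule F V} (hU : U ∈ Orb K X v) {g : V ≃ₗ[F] V} (hg : g ∈ X) :
    U.map (g : V →ₗ[F] V) ∈ Orb K X v := by
  obtain ⟨k, hk, rfl⟩ := hU
  refine ⟨g * k, X.mul_mem hg hk, ?_⟩
  rw [← Submodule.map_comp]
  rfl

theorem self_mem_Orb : ln F K v ∈ Orb K X v := ⟨1, X.one_mem, by
  change _ = Submodule.map LinearMap.id _
  rw [Submodule.map_id]⟩

theorem finrank_Orb (hv0 : v ≠ 0) {U : Submodule F V} (hU : U ∈ Orb K X v) :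
    finrank F U = finrank F K := by
  obtain ⟨k, hk, rfl⟩ := hU
  rw [LinearEquiv.finrank_map_eq k]
  exact finrank_ln hv0

section

variable [Finite K] [FiniteDimensional F V]

/-- The dichotomy for maximal intersections. -/
theorem dichotomy_max {U : Submodule F V} (hU : U ∈ Orb K X v) {d : ℕ}
    (hmax : ∀ U1 ∈ Orb K X v, ∀ U2 ∈ Orb K X v, U1 ≠ U2 → finrank F ↥(U1 ⊓ U2) ≤ d)
    (hd : finrank F ↥(U ⊓ ln F K v) = d) {k : V ≃ₗ[F] V} (hk : k ∈ X) {ν : V →ₗ[F] K}
    (hkν : ∀ u ∈ U, k u = u + ν u • v) (hν : ∀ c : K, ν (c • v) = 0) :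
    (∀ u ∈ U, ν u • v ∈ U) ∨ ∀ u ∈ U, ν u • v ∈ U → u ∈ ln F K v := by
  by_cases hkU : U.map (k : V →ₗ[F] V) = U
  · left
    intro u hu
    have h1 : k u ∈ U := by
      rw [← hkU]
      exact Submodule.mem_map_of_mem hu
    have h2 : ν u • v = k u - u := by rw [hkν u hu]; abel
    rw [h2]
    exact U.sub_mem h1 hu
  · right
    let P : V →ₗ[F] V := ((LinearMap.toSpanSingleton K V v).restrictScalars F) ∘ₗ ν
    have hP : ∀ x, P x = ν x • v := fun x => rfl
    let W : Submodule F V := U ⊓ U.comap P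
    have hW : ∀ x, x ∈ W ↔ x ∈ U ∧ ν x • v ∈ U := fun x => Iff.rfl
    have h1 : W.map (k : V →ₗ[F] V) ≤ U ⊓ U.map (k : V →ₗ[F] V) := by
      rintro _ ⟨x, hx, rfl⟩
      have hx' := (hW x).1 hx
      refine ⟨?_, Submodule.mem_map_of_mem hx'.1⟩
      change k x ∈ U
      rw [hkν x hx'.1]
      exact U.add_mem hx'.1 hx'.2
    have h2 : finrank F W ≤ d := by
      rw [← LinearEquiv.finrank_map_eq k W]
      exact (Submodule.finrank_mono h1).trans (hmax U hU _ (map_mem_Orb hU hk) (Ne.symm hkU))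
    have h3 : U ⊓ ln F K v ≤ W := by
      intro x hx
      rw [hW]
      refine ⟨hx.1, ?_⟩
      obtain ⟨c, rfl⟩ := mem_ln.1 hx.2
      rw [hν, zero_smul]
      exact U.zero_mem
    have h4 : U ⊓ ln F K v = W := Submodule.eq_of_le_of_finrank_le h3 (by rw [hd]; exact h2)
    intro u hu hu'
    have h5 : u ∈ W := (hW u).2 ⟨hu, hu'⟩
    rw [← h4] at h5
    exact h5.2

/-- The data produced by the maximal intersection argument. -/
def Special (K : Type*) {F V : Type*} [Field F] [Field K] [Algebra F K] [AddCommGroup V]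
    [Module F V] [Module K V] [IsScalarTower F K V] (X : Subgroup (V ≃ₗ[F] V)) (U : Submodule F V)
    (v : V) : Prop :=
  ∃ k ∈ X, ∃ ν : V →ₗ[F] K, (∀ u ∈ U, k u = u + ν u • v) ∧ (∀ u ∈ U, ν u • v ∈ U) ∧
    (∀ c : K, ν (c • v) = 0) ∧ (∃ u ∈ U, ν u ≠ 0) ∧
    ((∃ u ∈ U, u ∉ ln F K v ∧ ν u = 0) ∨ ∃ δ : K, ∀ u ∈ U, ∃ c : F, ν u = c • δ)

theorem exists_special [FiniteDimensional K V] (h : TF Q QK) (hG : Good Q) (hX : Over Q K X)
    (hH : Hyp QK v v') (hK : 9 < Nat.card K) (hr : (finrank F K).Prime) (hodd : Odd (finrank F K))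
    (hne : BB h hG hX hH hK ≠ ⊥) {U : Submodule F V} (hU : U ∈ Orb K X v) {d : ℕ}
    (hmax : ∀ U1 ∈ Orb K X v, ∀ U2 ∈ Orb K X v, U1 ≠ U2 → finrank F ↥(U1 ⊓ U2) ≤ d)
    (hd : finrank F ↥(U ⊓ ln F K v) = d) (hd1 : 1 ≤ d) (hne' : U ≠ ln F K v) :
    Special K X U v := by
  have hfd : FiniteDimensional F K := FiniteDimensional.of_finrank_pos hr.pos
  have hXO : X ≤ O Q := fun g hg => E_le_O (hX.le hg)
  have hv := hH.left
  have hv0 := hH.left_ne
  have hfr : finrank F U = finrank F K := finrank_Orb hv0 hU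
  have hsym := sym_BB h hG hX hH hK
  -- `U` is totally singular
  have hUs : ∀ u ∈ U, ∀ w ∈ U, polar Q u w = 0 := by
    obtain ⟨g, hg, rfl⟩ := hU
    rintro _ ⟨u, hu, rfl⟩ _ ⟨w, hw, rfl⟩
    obtain ⟨a, rfl⟩ := mem_ln.1 hu
    obtain ⟨b, rfl⟩ := mem_ln.1 hw
    change polar Q (g (a • v)) (g (b • v)) = 0
    rw [polar_map (hXO hg), h.smul_left, polar_smul_right, polar_self_of_sing hv]
    simp
  -- the set `Δ`
  let Δ : Submodule F K := U.comap ((LinearMap.toSpanSingleton K V v).restrictScalars F)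
  have hΔ : ∀ δ, δ ∈ Δ ↔ δ • v ∈ U := fun δ => Iff.rfl
  obtain ⟨δ, hδ, hδ0⟩ : ∃ δ, δ ∈ Δ ∧ δ ≠ 0 := by
    have h1 : U ⊓ ln F K v ≠ ⊥ := by
      intro h0
      rw [h0, finrank_bot] at hd
      omega
    obtain ⟨x, hx, hx0⟩ := Submodule.exists_mem_ne_zero_of_ne_bot h1
    obtain ⟨δ, rfl⟩ := mem_ln.1 hx.2
    exact ⟨δ, hx.1, fun h0 => hx0 (by rw [h0, zero_smul])⟩
  have hnotall : ¬ ∀ κ : K, κ • v ∈ U := by
    intro hall
    apply hne'
    symm
    apply Submodule.eq_of_le_of_finrank_eq
    · intro x hx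
      obtain ⟨c, rfl⟩ := mem_ln.1 hx
      exact hall c
    · rw [hfr, finrank_ln hv0]
  by_cases hE : ∃ u1 ∈ U, polar QK v u1 ≠ 0
  · obtain ⟨u1, hu1, ha1⟩ := hE
    have hu1' : u1 ∉ ln F K v := by
      intro hc
      obtain ⟨c, rfl⟩ := mem_ln.1 hc
      apply ha1
      rw [polar_smul_right, polar_self_of_sing hv, smul_zero]
    have hlin : ∀ (β : K →ₗ[F] K), ∃ ν : V →ₗ[F] K, ∀ x, ν x = β (polar QK v x) :=
      fun β => ⟨β ∘ₗ ((polarBilin QK v).restrictScalars F), fun x => rfl⟩
    by_cases hcase : ∃ u2 ∈ U, ∀ c : F, polar QK v u2 ≠ c • polar QK v u1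
    · obtain ⟨u2, hu2, h2⟩ := hcase
      obtain ⟨β, hβ, hβ1, hβ2⟩ := hsym.exists_kill h.two hr hodd hne ha1 h2
      obtain ⟨k, hk, hkx⟩ := hβ
      obtain ⟨ν, hν⟩ := hlin β
      have hν0 : ∀ c : K, ν (c • v) = 0 := by
        intro c
        rw [hν, polar_smul_right, polar_self_of_sing hv, smul_zero, map_zero]
      have hkν : ∀ u ∈ U, k u = u + ν u • v := fun u _ => by rw [hkx, hν]
      have hν1 : ν u1 = 0 := by rw [hν, hβ1]
      refine ⟨k, hk, ν, hkν, ?_, hν0, ⟨u2, hu2, by rw [hν]; exact hβ2⟩, Or.inl ⟨u1, hu1, hu1', hν1⟩⟩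
      rcases dichotomy_max hU hmax hd hk hkν hν0 with h3 | h3
      · exact h3
      · exfalso
        exact hu1' (h3 u1 hu1 (by rw [hν1, zero_smul]; exact U.zero_mem))
    · push Not at hcase
      have htr : Algebra.trace F K (polar QK v u1 * δ) = 0 := by
        have h3 := hUs _ ((hΔ δ).1 hδ) u1 hu1
        rw [h.smul_left] at h3
        rw [mul_comm]
        exact h3
      obtain ⟨β, hβ, hβ1⟩ := hsym.exists_value h.two hr hne ha1 htr
      obtain ⟨k, hk, hkx⟩ := hβ
      obtain ⟨ν, hν⟩ := hlin β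
      have hcδ : ∀ u ∈ U, ∃ c : F, ν u = c • δ := by
        intro u hu
        obtain ⟨c, hc⟩ := hcase u hu
        exact ⟨c, by rw [hν, hc, map_smul, hβ1]⟩
      refine ⟨k, hk, ν, fun u _ => by rw [hkx, hν], ?_, ?_, ⟨u1, hu1, by rw [hν, hβ1]; exact hδ0⟩,
        Or.inr ⟨δ, hcδ⟩⟩
      · intro u hu
        obtain ⟨c, hc⟩ := hcδ u hu
        rw [hc, smul_assoc]
        exact U.smul_mem c hδ
      · intro c
        rw [hν, polar_smul_right, polar_self_of_sing hv, smul_zero, map_zero]
  · push Not at hE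
    obtain ⟨u1, hu1, hu1'⟩ : ∃ u1 ∈ U, u1 ∉ ln F K v := by
      by_contra hcon
      push Not at hcon
      exact hne' (Submodule.eq_of_le_of_finrank_eq hcon (by rw [hfr, finrank_ln hv0]))
    have hu1v : ∀ c : K, u1 ≠ c • v := fun c hc => hu1' (hc ▸ smul_mem_ln c)
    have hlin : ∀ y : V, ∃ ν : V →ₗ[F] K, ∀ x, ν x = - polar QK y x :=
      fun y => ⟨-((polarBilin QK y).restrictScalars F), fun x => rfl⟩
    have key : ∀ y, polar QK v y = 0 → polar QK y u1 ∈ Δ →
        ∀ u ∈ U, polar QK y u ∈ Δ := by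
      intro y hy hyu1 u hu
      obtain ⟨ν, hν⟩ := hlin y
      have hν0 : ∀ c : K, ν (c • v) = 0 := by
        intro c
        rw [hν, polar_smul_right, polar_comm QK y v, hy, smul_zero, neg_zero]
      have hkν : ∀ u ∈ U, rho F QK v y hv hy u = u + ν u • v := by
        intro u hu
        rw [rho_perp hv hy (hE u hu), hν, neg_smul, sub_eq_add_neg]
      rcases dichotomy_max hU hmax hd (hX.rho_mem h hG hv hy) hkν hν0 with h3 | h3
      · have h4 := h3 u hu
        rw [hν, neg_smul] at h4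
        have h5 := U.neg_mem h4
        rw [neg_neg] at h5
        exact h5
      · exfalso
        apply hu1'
        apply h3 u1 hu1
        rw [hν, neg_smul]
        exact U.neg_mem hyu1
    -- `U ≤ K u1 + K v`
    have hclaim1 : ∀ u ∈ U, ∃ c e : K, u = c • u1 + e • v := by
      intro u hu
      by_contra hcon
      push Not at hcon
      have h1 : u ∉ Submodule.span K {u1, v} := by
        intro h2
        obtain ⟨c, e, hce⟩ := Submodule.mem_span_pair.1 h2
        exact hcon c e hce.symm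
      rw [← perp_perp h.nondeg (Submodule.span K {u1, v}), mem_perp] at h1
      push Not at h1
      obtain ⟨y, hy, hyu⟩ := h1
      rw [mem_perp] at hy
      have hyu1 : polar QK u1 y = 0 := hy u1 (Submodule.subset_span (by simp))
      have hyv : polar QK v y = 0 := hy v (Submodule.subset_span (by simp))
      apply hnotall
      intro κ
      have h3 := key ((κ * (polar QK y u)⁻¹) • y) (by rw [polar_smul_right, hyv, smul_zero]) (by
        rw [polar_smul_left, polar_comm QK y u1, hyu1, smul_zero]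
        exact Δ.zero_mem) u hu
      rw [polar_smul_left, smul_eq_mul, mul_assoc, inv_mul_cancel₀ hyu, mul_one] at h3
      exact h3
    -- a vector `y` with given value at `u1`
    have hex : ∀ a : K, ∃ y, polar QK v y = 0 ∧ polar QK y u1 = a := by
      intro a
      obtain ⟨y, hy1, hy2⟩ := exists_sep h.nondeg hu1v
      exact ⟨a • y, by rw [polar_smul_right, hy1, smul_zero],
        by rw [polar_smul_left, polar_comm QK y u1, hy2, smul_eq_mul, mul_one]⟩
    have hclaim2 : ∀ u ∈ U, ∃ c : F, ∃ e : K, u = c • u1 + e • v := by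
      intro u hu
      obtain ⟨c, e, hce⟩ := hclaim1 u hu
      obtain ⟨x, hx⟩ := multiplier hr Δ (fun h0 => hδ0 (by
        have h1 := hδ
        rw [h0] at h1
        exact (Submodule.mem_bot F).1 h1)) (fun h0 => hnotall fun κ => by
          have h1 : κ ∈ Δ := by rw [h0]; trivial
          exact h1) (c := c) (by
        intro a ha
        obtain ⟨y, hy1, hy2⟩ := hex a
        have h3 := key y hy1 (by rw [hy2]; exact ha) u hu
        rw [hce, polar_add_right, polar_smul_right, polar_smul_right, hy2, polar_comm QK y v, hy1,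
          smul_zero, add_zero, smul_eq_mul] at h3
        exact h3)
      exact ⟨x, e, by rw [hce, hx, algebraMap_smul]⟩
    obtain ⟨y, hy1, hy2⟩ := hex δ
    obtain ⟨ν, hν⟩ := hlin y
    refine ⟨rho F QK v y hv hy1, hX.rho_mem h hG hv hy1, ν, ?_, ?_, ?_, ⟨u1, hu1, ?_⟩,
      Or.inr ⟨δ, ?_⟩⟩
    · intro u hu
      rw [rho_perp hv hy1 (hE u hu), hν, neg_smul, sub_eq_add_neg]
    · intro u hu
      rw [hν, neg_smul]
      exact U.neg_mem (key y hy1 (by rw [hy2]; exact hδ) u hu)
    · intro c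
      rw [hν, polar_smul_right, polar_comm QK y v, hy1, smul_zero, neg_zero]
    · rw [hν, hy2, neg_ne_zero]
      exact hδ0
    · intro u hu
      obtain ⟨c, e, hce⟩ := hclaim2 u hu
      refine ⟨-c, ?_⟩
      rw [hν, hce, polar_add_right, polar_smul_right, polar_comm QK y v, hy1, smul_zero, add_zero,
        ← algebraMap_smul K c u1, polar_smul_right, hy2, algebraMap_smul, neg_smul]

end

end Cfsg.Agent.H884.Ext
end

-- part: H884/ExtB4
section
/-!
# Extension fields in orthogonal groups: odd degree (helper884)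
-/

set_option autoImplicit false
set_option linter.unusedSectionVars false

namespace Cfsg.Agent.H884.Ext

open QuadraticMap Cfsg.Agent.LieClassical.OrthCore Cfsg.Agent.LieClassical.OrthTrans
  Cfsg.Agent.LieClassical.OrthSimple Cfsg.Agent.LieClassical.OrthFinite Cfsg.Agent.H883.Root
  Cfsg.Agent.H883.Sub Module

variable {F K V : Type*} [Field F] [Field K] [Algebra F K] [AddCommGroup V] [Module F V] [Module K V]
  [IsScalarTower F K V] {Q : QuadraticForm F V} {QK : QuadraticForm K V}

variable {X : Subgroup (V ≃ₗ[F] V)} {v v' : V} {β γ : K →ₗ[F] K}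

/-- From a special element to a unipotent map of `K` realised on `K v`. -/
theorem Special.exists_nil (hH : Hyp QK v v') {g : V ≃ₗ[F] V} (hg : g ∈ X)
    (hsp : Special K X ((ln F K v).map (g : V →ₗ[F] V)) v) :
    ∃ k ∈ X, ∃ (N : K →ₗ[F] K) (ν : V →ₗ[F] K),
      (∀ c : K, k (c • v) = (c + N c) • v) ∧ (∀ c, N (N c) = 0) ∧ N ≠ 0 ∧
      (∀ c : K, g (N c • v) = ν (g (c • v)) • v) ∧ (∀ c : K, ν (c • v) = 0) ∧
      ((∃ u ∈ (ln F K v).map (g : V →ₗ[F] V), u ∉ ln F K v ∧ ν u = 0) ∨
        ∃ δ : K, ∀ u ∈ (ln F K v).map (g : V →ₗ[F] V), ∃ c : F, ν u = c • δ) := by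
  obtain ⟨k, hk, ν, h1, h2, h3, ⟨u0, hu0, hν0⟩, h4⟩ := hsp
  have hv0 := hH.left_ne
  let T : K →ₗ[F] V := (LinearMap.toSpanSingleton K V v).restrictScalars F
  let P : V →ₗ[F] K := (polarBilin QK v').restrictScalars F
  let N : K →ₗ[F] K := P ∘ₗ (g⁻¹ : V ≃ₗ[F] V).toLinearMap ∘ₗ T ∘ₗ ν ∘ₗ g.toLinearMap ∘ₗ T
  have hN : ∀ c : K, N c = polar QK v' (g⁻¹ (ν (g (c • v)) • v)) := fun c => rfl
  have hmem : ∀ c : K, g (c • v) ∈ (ln F K v).map (g : V →ₗ[F] V) := fun c =>
    Submodule.mem_map_of_mem (smul_mem_ln c)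
  have hNv : ∀ c : K, N c • v = g⁻¹ (ν (g (c • v)) • v) := by
    intro c
    obtain ⟨x, hx, hxe⟩ := h2 _ (hmem c)
    obtain ⟨a, rfl⟩ := mem_ln.1 hx
    have e : g⁻¹ (ν (g (c • v)) • v) = a • v := by
      rw [← hxe]
      exact g.symm_apply_apply _
    rw [hN, e, polar_smul_right, hH.pair', smul_eq_mul, mul_one]
  have hgN : ∀ c : K, g (N c • v) = ν (g (c • v)) • v := by
    intro c
    rw [hNv]
    exact g.apply_symm_apply _
  have hNN : ∀ c, N (N c) = 0 := by
    intro c
    have e := hNv (N c)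
    rw [hgN, h3, zero_smul, map_zero] at e
    exact (smul_eq_zero.1 e).resolve_right hv0
  refine ⟨g⁻¹ * k * g, X.mul_mem (X.mul_mem (X.inv_mem hg) hk) hg, N, ν, ?_, hNN, ?_, hgN, h3, h4⟩
  · intro c
    rw [LinearEquiv.mul_apply, LinearEquiv.mul_apply, h1 _ (hmem c), map_add, ← hNv, add_smul]
    congr 1
    exact g.symm_apply_apply _
  · intro h0
    obtain ⟨x, hx, rfl⟩ := hu0
    obtain ⟨a, rfl⟩ := mem_ln.1 hx
    have e := hgN a
    rw [h0, LinearMap.zero_apply, zero_smul, map_zero] at e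
    exact hν0 ((smul_eq_zero.1 e.symm).resolve_right hv0)

section

variable [Finite K] [FiniteDimensional F V]

/-- Small kernels. -/
theorem ker_le (h : TF Q QK) (hG : Good Q) (hX : Over Q K X) (hm : 3 ≤ finrank K V)
    (hH : Hyp QK v v') {n : ℕ}
    (hmax : ∀ U1 ∈ Orb K X v, ∀ U2 ∈ Orb K X v, U1 ≠ U2 → finrank F ↥(U1 ⊓ U2) ≤ n)
    {γ : K →ₗ[F] K} (hγ : HasB QK X v γ) (hγ0 : γ ≠ 0) :
    finrank F (LinearMap.ker γ) ≤ n := by
  have hv := hH.left
  have hv0 := hH.left_ne
  obtain ⟨g, hg, hlin, a, ha, hga⟩ := hX.exists_trans h hG hm hH.left hH.right hH.left_ne hH.right_ne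
  have hU : (ln F K v').map ((1 : V ≃ₗ[F] V) : V →ₗ[F] V) ∈ Orb K X v := by
    apply map_mem_Orb _ X.one_mem
    refine ⟨g, hg, ?_⟩
    ext x
    rw [mem_ln]
    constructor
    · rintro ⟨c, rfl⟩
      refine ⟨(c * a⁻¹) • v, smul_mem_ln _, ?_⟩
      change g ((c * a⁻¹) • v) = _
      rw [hlin, hga, smul_smul, mul_assoc, inv_mul_cancel₀ ha, mul_one]
    · rintro ⟨y, hy, rfl⟩
      obtain ⟨c, rfl⟩ := mem_ln.1 hy
      refine ⟨c * a, ?_⟩
      change _ = g (c • v)
      rw [hlin, hga, smul_smul]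
  have hU1 : ln F K v' ∈ Orb K X v := by
    have e : (ln F K v').map ((1 : V ≃ₗ[F] V) : V →ₗ[F] V) = ln F K v' := by
      change Submodule.map LinearMap.id _ = _
      rw [Submodule.map_id]
    rwa [e] at hU
  obtain ⟨k, hk, hkx⟩ := hγ
  have hkv : ∀ a : K, k (a • v') = a • v' + γ a • v := by
    intro a
    rw [hkx, polar_smul_right, hH.pair, smul_eq_mul, mul_one]
  have hU2 := map_mem_Orb hU1 hk
  have hne : ln F K v' ≠ (ln F K v').map (k : V →ₗ[F] V) := by
    intro he
    apply hγ0
    ext a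
    have h1 : k (a • v') ∈ ln F K v' := by
      rw [he]
      exact Submodule.mem_map_of_mem (smul_mem_ln a)
    rw [hkv] at h1
    obtain ⟨c, hc⟩ := mem_ln.1 h1
    have h2 := congrArg (polar QK v') hc
    rw [polar_add_right, polar_smul_right, polar_smul_right, polar_smul_right, hH.polar_right,
      hH.pair', smul_zero, smul_zero, zero_add, smul_eq_mul, mul_one] at h2
    rw [← h2, LinearMap.zero_apply]
  refine le_trans ?_ (hmax _ hU1 _ hU2 hne)
  let T : K →ₗ[F] V := (LinearMap.toSpanSingleton K V v').restrictScalars F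
  have hT : Function.Injective T := smul_left_injective K hH.right_ne
  have h3 : (LinearMap.ker γ).map T ≤ ln F K v' ⊓ (ln F K v').map (k : V →ₗ[F] V) := by
    rintro _ ⟨a, ha, rfl⟩
    refine ⟨smul_mem_ln a, a • v', smul_mem_ln a, ?_⟩
    change k (a • v') = a • v'
    have ha' : γ a = 0 := ha
    rw [hkv, ha', zero_smul, add_zero]
  refine le_trans (le_of_eq ?_) (Submodule.finrank_mono h3)
  exact (LinearEquiv.finrank_eq (Submodule.equivMapOfInjective T hT _))

/-- **Odd degree, `B ≠ 1`**: a transvection on `K v`. -/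
theorem exists_transvection [FiniteDimensional K V] (h : TF Q QK) (hG : Good Q)
    (hX : Over Q K X) (hm : 3 ≤ finrank K V) (hH : Hyp QK v v') (hK : 9 < Nat.card K)
    (hr : (finrank F K).Prime) (hodd : Odd (finrank F K)) (hne : BB h hG hX hH hK ≠ ⊥) :
    ∃ g ∈ X, ∃ d e : K, d ≠ 0 ∧ e ≠ 0 ∧
      ∀ c : K, g (c • v) = (c + Algebra.trace F K (e * c) • d) • v := by
  classical
  have hfd : FiniteDimensional F K := FiniteDimensional.of_finrank_pos hr.pos
  have hXO : X ≤ O Q := fun g hg => E_le_O (hX.le hg)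
  have hv := hH.left
  have hv0 := hH.left_ne
  let P : ℕ → Prop := fun n => ∃ U1 ∈ Orb K X v, ∃ U2 ∈ Orb K X v, U1 ≠ U2 ∧
    finrank F ↥(U1 ⊓ U2) = n
  have hPle : ∀ n, P n → n ≤ finrank F K := by
    rintro n ⟨U1, h1, U2, h2, -, rfl⟩
    rw [← finrank_Orb hv0 h1]
    exact Submodule.finrank_mono inf_le_left
  obtain ⟨β, hβ, hβ0⟩ := Submodule.exists_mem_ne_zero_of_ne_bot hne
  obtain ⟨z, hz0, hz⟩ := exists_ker_of_skew h.two hodd (HasB.skew h hXO hH hβ)
  have hker : 1 ≤ finrank F (LinearMap.ker β) := by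
    rw [Nat.succ_le_iff, Module.finrank_pos_iff_exists_ne_zero]
    exact ⟨⟨z, hz⟩, fun h0 => hz0 (congrArg Subtype.val h0)⟩
  obtain ⟨n0, hn0, hPn0⟩ : ∃ n, 1 ≤ n ∧ P n := by
    by_contra hcon
    push Not at hcon
    have h1 : ∀ U1 ∈ Orb K X v, ∀ U2 ∈ Orb K X v, U1 ≠ U2 → finrank F ↥(U1 ⊓ U2) ≤ 0 := by
      intro U1 h1 U2 h2 h12
      by_contra h3
      exact hcon _ (by omega) ⟨U1, h1, U2, h2, h12, rfl⟩
    have h2 := ker_le h hG hX hm hH h1 hβ hβ0
    omega
  set d := Nat.findGreatest P (finrank F K) with hd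
  have hPd : P d := Nat.findGreatest_spec (hPle _ hPn0) hPn0
  have hd1 : 1 ≤ d := hn0.trans (Nat.le_findGreatest (hPle _ hPn0) hPn0)
  have hmax : ∀ U1 ∈ Orb K X v, ∀ U2 ∈ Orb K X v, U1 ≠ U2 → finrank F ↥(U1 ⊓ U2) ≤ d := by
    intro U1 h1 U2 h2 h12
    have hP : P (finrank F ↥(U1 ⊓ U2)) := ⟨U1, h1, U2, h2, h12, rfl⟩
    exact Nat.le_findGreatest (hPle _ hP) hP
  obtain ⟨U1, hU1, U2, hU2, h12, hfr⟩ := hPd
  obtain ⟨g1, hg1, rfl⟩ := hU1
  obtain ⟨g2, hg2, rfl⟩ := hU2
  -- move `U1` to the line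
  set g := g1⁻¹ * g2 with hgdef
  have hg : g ∈ X := X.mul_mem (X.inv_mem hg1) hg2
  have hmap : ((ln F K v).map (g : V →ₗ[F] V)).map (g1 : V →ₗ[F] V) =
      (ln F K v).map (g2 : V →ₗ[F] V) := by
    rw [← Submodule.map_comp]
    congr 1
    ext x
    change g1 (g x) = g2 x
    rw [hgdef]
    exact g1.apply_symm_apply _
  have hUd : finrank F ↥((ln F K v).map (g : V →ₗ[F] V) ⊓ ln F K v) = d := by
    rw [← hfr, ← LinearEquiv.finrank_map_eq g1 ((ln F K v).map (g : V →ₗ[F] V) ⊓ ln F K v),
      Submodule.map_inf _ g1.injective, hmap, inf_comm]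
  have hUne : (ln F K v).map (g : V →ₗ[F] V) ≠ ln F K v := by
    intro he
    apply h12
    rw [← hmap, he]
  have hUorb : (ln F K v).map (g : V →ₗ[F] V) ∈ Orb K X v := ⟨g, hg, rfl⟩
  have hsp := exists_special h hG hX hH hK hr hodd hne hUorb hmax hUd hd1 hUne
  obtain ⟨k, hk, N, ν, hkN, hNN, hN0, hgN, hν, hcase⟩ := hsp.exists_nil hH hg
  rcases hcase with ⟨u, hu, hul, hνu⟩ | ⟨δ, hδ⟩
  · -- big kernel
    have hmin : ∀ γ : K →ₗ[F] K, HasB QK X v γ → γ ≠ 0 → finrank F (LinearMap.ker γ) ≤ d :=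
      fun γ hγ hγ0 => ker_le h hG hX hm hH hmax hγ hγ0
    have hkerN : d < finrank F (LinearMap.ker N) := by
      let T : K →ₗ[F] V := g.toLinearMap ∘ₗ (LinearMap.toSpanSingleton K V v).restrictScalars F
      have hT : ∀ c, T c = g (c • v) := fun c => rfl
      let W : Submodule F V := (ln F K v).map (g : V →ₗ[F] V) ⊓ LinearMap.ker ν
      have h1 : (ln F K v).map (g : V →ₗ[F] V) ⊓ ln F K v < W := by
        rw [lt_iff_le_and_ne]
        constructor
        · rintro x ⟨hx1, hx2⟩
          refine ⟨hx1, ?_⟩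
          obtain ⟨c, rfl⟩ := mem_ln.1 hx2
          exact hν c
        · intro he
          have : u ∈ (ln F K v).map (g : V →ₗ[F] V) ⊓ ln F K v := by
            rw [he]
            exact ⟨hu, hνu⟩
          exact hul this.2
      have h2 := Submodule.finrank_lt_finrank_of_lt h1
      rw [hUd] at h2
      have h3 : W ≤ (LinearMap.ker N).map T := by
        rintro x ⟨⟨y, hy, rfl⟩, hx2⟩
        obtain ⟨c, rfl⟩ := mem_ln.1 hy
        refine ⟨c, ?_, rfl⟩
        have e := hgN c
        have hx2' : ν (g (c • v)) = 0 := hx2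
        rw [hx2', zero_smul] at e
        have e2 := g.map_eq_zero_iff.1 e
        exact (smul_eq_zero.1 e2).resolve_right hv0
      exact h2.trans_le ((Submodule.finrank_mono h3).trans (Submodule.finrank_map_le _ _))
    obtain ⟨d', e', hd', he', hN⟩ := rank_one_of_ker h hG hX hH hK hr hne hmin hk hkN hNN hN0 hkerN
    exact ⟨k, hk, d', e', hd', he', fun c => by rw [hkN, hN]⟩
  · -- rank one
    obtain ⟨c0, hc0⟩ : ∃ c0, N c0 ≠ 0 := by
      by_contra hcon
      push Not at hcon
      exact hN0 (LinearMap.ext hcon)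
    have hmem : ∀ c : K, g (c • v) ∈ (ln F K v).map (g : V →ₗ[F] V) := fun c =>
      Submodule.mem_map_of_mem (smul_mem_ln c)
    obtain ⟨x0, hx0⟩ := hδ _ (hmem c0)
    have hx00 : x0 ≠ 0 := by
      rintro rfl
      have e := hgN c0
      rw [hx0, zero_smul, zero_smul] at e
      have e2 := g.map_eq_zero_iff.1 e
      exact hc0 ((smul_eq_zero.1 e2).resolve_right hv0)
    have hN1 : ∀ c, ∃ x : F, N c = x • N c0 := by
      intro c
      obtain ⟨x, hx⟩ := hδ _ (hmem c)
      refine ⟨x * x0⁻¹, ?_⟩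
      have e : N c • v = ((x * x0⁻¹) • N c0) • v := by
        apply g.injective
        have e1 : ((x * x0⁻¹) • N c0) • v = (x * x0⁻¹) • (N c0 • v) := smul_assoc _ _ _
        rw [e1, LinearEquiv.map_smul g (x * x0⁻¹) _, hgN, hgN, hx, hx0, smul_assoc, smul_assoc,
          smul_smul, mul_assoc, inv_mul_cancel₀ hx00, mul_one]
      exact smul_left_injective K hv0 e
    obtain ⟨e', he', hN⟩ := exists_rank_one hc0 hN0 hN1
    exact ⟨k, hk, N c0, e', hc0, he', fun c => by rw [hkN, hN]⟩

/-! ### From decomposable maps to Siegel transformations -/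

/-- A decomposable map is a Siegel transformation over `F`. -/
theorem has_of_wedge (h : TF Q QK) (hv : QK v = 0) {x y : K} (hxy : HasB QK X v (wedge F x y)) :
    Has Q X (x • v) (y • v) := by
  have hQ : ∀ c : K, Q (c • v) = 0 := fun c => h.sing (by rw [QuadraticMap.map_smul, hv, smul_zero])
  have hp : polar Q (x • v) (y • v) = 0 := by
    apply h.perp_of
    rw [polar_smul_left, polar_smul_right, polar_self_of_sing hv, smul_zero, smul_zero]
  refine ⟨hQ x, hp, ?_⟩
  obtain ⟨g, hg, hgx⟩ := hxy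
  have e : siegel Q (x • v) (y • v) (hQ x) hp = g := by
    ext z
    rw [siegel_apply, hgx, wedge_apply, h.smul_left, h.smul_left, hQ, zero_mul, zero_smul, sub_zero,
      sub_smul, smul_assoc, smul_assoc]
    abel
  rw [e]
  exact hg

/-- Transport between singular points. -/
theorem wedge_transport [FiniteDimensional K V] (h : TF Q QK) (hG : Good Q)
    (hX : Over Q K X) (hm : 3 ≤ finrank K V) (hv : QK v = 0) (hv0 : v ≠ 0)
    (hw : ∀ x y, HasB QK X v (wedge F x y)) {w : V} (hQw : QK w = 0) (hw0 : w ≠ 0) (x y : K) :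
    HasB QK X w (wedge F x y) := by
  have hXO : X ≤ O Q := fun g hg => E_le_O (hX.le hg)
  have hnt : Nontrivial V := ⟨⟨v, 0, hv0⟩⟩
  obtain ⟨g, hg, hlin, a, ha, hga⟩ := hX.exists_trans h hG hm hv hQw hv0 hw0
  have h1 := (hw (a⁻¹ * x) (a⁻¹ * y)).conj h hXO hg hlin
  rw [hga] at h1
  have h2 := h1.smul
  rwa [cj_wedge, ← mul_assoc, mul_inv_cancel₀ ha, one_mul, ← mul_assoc, mul_inv_cancel₀ ha,
    one_mul] at h2

theorem hasB_transport [FiniteDimensional K V] (h : TF Q QK) (hG : Good Q)
    (hX : Over Q K X) (hm : 3 ≤ finrank K V) (hv : QK v = 0) (hv0 : v ≠ 0)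
    (hβ : HasB QK X v β) (hβ0 : β ≠ 0) {w : V} (hQw : QK w = 0) (hw0 : w ≠ 0) :
    ∃ γ : K →ₗ[F] K, HasB QK X w γ ∧ γ ≠ 0 := by
  have hXO : X ≤ O Q := fun g hg => E_le_O (hX.le hg)
  have hnt : Nontrivial V := ⟨⟨v, 0, hv0⟩⟩
  obtain ⟨g, hg, hlin, a, ha, hga⟩ := hX.exists_trans h hG hm hv hQw hv0 hw0
  have h1 := hβ.conj h hXO hg hlin
  rw [hga] at h1
  refine ⟨_, h1.smul, fun h0 => hβ0 ?_⟩
  ext x
  have h2 := LinearMap.congr_fun h0 (a⁻¹ * x)
  rw [cj_apply, ← mul_assoc, mul_inv_cancel₀ ha, one_mul, LinearMap.zero_apply] at h2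
  rw [LinearMap.zero_apply]
  exact (mul_eq_zero.1 h2).resolve_left ha

/-- Choice of functionals. -/
theorem exists_trace_zero_one {a b : K} (ha : a ≠ 0) (hb : ∀ c : F, b ≠ c • a) :
    ∃ x : K, Algebra.trace F K (x * a) = 0 ∧ Algebra.trace F K (x * b) = 1 := by
  have hfin : Finite F := Finite.of_injective _ (algebraMap F K).injective
  have hfd : FiniteDimensional F K := inferInstance
  have hb' : b ∉ Submodule.span F {a} := by
    intro h
    obtain ⟨c, hc⟩ := Submodule.mem_span_singleton.1 h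
    exact hb c hc.symm
  obtain ⟨φ, hφ, hφI⟩ := Submodule.exists_dual_map_eq_bot_of_notMem hb' inferInstance
  obtain ⟨y, hy⟩ := exists_trace φ
  have h1 : Algebra.trace F K (y * a) = 0 := by
    rw [← hy]
    have h4 : φ a ∈ (Submodule.span F {a}).map φ :=
      Submodule.mem_map_of_mem (Submodule.mem_span_singleton_self a)
    rw [hφI] at h4
    exact (Submodule.mem_bot F).1 h4
  have h2 : Algebra.trace F K (y * b) ≠ 0 := by
    rw [← hy]
    exact hφ
  refine ⟨(Algebra.trace F K (y * b))⁻¹ • y, ?_, ?_⟩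
  · rw [smul_mul_assoc, map_smul, h1, smul_zero]
  · rw [smul_mul_assoc, map_smul, smul_eq_mul, inv_mul_cancel₀ h2]

theorem exists_trace_notin (h3r : 3 ≤ finrank F K) (a b : K) :
    ∃ y : K, Algebra.trace F K (y * a) = 0 ∧ ∀ c : F, y ≠ c • b := by
  have hfin : Finite F := Finite.of_injective _ (algebraMap F K).injective
  have hfd : FiniteDimensional F K := inferInstance
  by_contra hcon
  push Not at hcon
  let T : K →ₗ[F] F := (Algebra.traceForm F K).flip a
  have hT : ∀ y, T y = Algebra.trace F K (y * a) := fun y => rfl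
  have h4 : LinearMap.ker T ≤ Submodule.span F {b} := by
    intro y hy
    obtain ⟨c, hc⟩ := hcon y (by rw [← hT]; exact hy)
    rw [hc]
    exact Submodule.smul_mem _ _ (Submodule.mem_span_singleton_self b)
  have h5 := Submodule.finrank_mono h4
  have h6 : finrank F (Submodule.span F {b}) ≤ 1 :=
    (finrank_span_le_card (R := F) ({b} : Set K)).trans (by simp)
  have h7 := LinearMap.finrank_range_add_finrank_ker T
  have h8 : finrank F (LinearMap.range T) ≤ 1 := by
    refine (Submodule.finrank_le _).trans ?_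
    rw [finrank_self]
  omega

/-- Opposite points. -/
theorem has_opp (h : TF Q QK) (h3r : 3 ≤ finrank F K) (hH : Hyp QK v v')
    (hw : ∀ x y, HasB QK X v (wedge F x y)) (hw' : ∀ x y, HasB QK X v' (wedge F x y)) {a a' : K}
    (ha : Algebra.trace F K (a * a') = 0) : Has Q X (a' • v') (a • v) := by
  have hQ : ∀ c : K, Q (c • v) = 0 := fun c =>
    h.sing (by rw [QuadraticMap.map_smul, hH.left, smul_zero])
  by_cases ha0 : a' = 0
  · rw [ha0, zero_smul]
    exact has_zero_left _
  obtain ⟨b, hb1, hb2⟩ := exists_trace_notin (F := F) h3r a a'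
  obtain ⟨x, hx1, hx2⟩ := exists_trace_zero_one ha0 hb2
  have hp : ∀ c d : K, polar Q (c • v) (d • v') = Algebra.trace F K (c * d) := by
    intro c d
    rw [h.smul_left, polar_smul_right, hH.pair, smul_eq_mul, mul_one]
  have h1 := Has.comm' (has_of_wedge h hH.left (hw x a)) (has_of_wedge h hH.right (hw' a' b))
    (by rw [hp, hx1]) (by rw [hp, ha]) (hQ a) (by rw [hp, mul_comm, hb1])
  rwa [hp, hx2, one_smul] at h1

/-- All Siegel transformations at a `K`-singular vector. -/
theorem full_of_wedge [FiniteDimensional K V] (h : TF Q QK) (hG : Good Q)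
    (hX : Over Q K X) (hm : 3 ≤ finrank K V) (h3r : 3 ≤ finrank F K) (hv : QK v = 0) (hv0 : v ≠ 0)
    (hw : ∀ x y, HasB QK X v (wedge F x y)) {u : V} (hu : QK u = 0) (hu0 : u ≠ 0) :
    Full Q X u := by
  have hall : ∀ w, QK w = 0 → w ≠ 0 → ∀ x y, HasB QK X w (wedge F x y) :=
    fun w hw1 hw0 => wedge_transport h hG hX hm hv hv0 hw hw1 hw0
  obtain ⟨u', hH⟩ := exists_hyp h.nondeg hu hu0
  refine ⟨h.sing hu, fun w hw1 => ?_⟩
  have hself : ∀ b : K, Has Q X u (b • u) := by
    intro b
    have := has_of_wedge h hu (hall u hu hu0 1 b)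
    rwa [one_smul] at this
  -- opposite
  have hopp : ∀ u'', Hyp QK u u'' → ∀ a : K, Algebra.trace F K a = 0 → Has Q X u (a • u'') := by
    intro u'' hH' a ha
    have := has_opp h h3r hH'.symm (hall u'' hH'.right hH'.right_ne) (hall u hu hu0) (a := a)
      (a' := 1) (by rw [mul_one]; exact ha)
    rwa [one_smul] at this
  obtain ⟨a0, ha0, ha00⟩ : ∃ a0 : K, Algebra.trace F K a0 = 0 ∧ a0 ≠ 0 := by
    obtain ⟨y, hy1, hy2⟩ := exists_trace_notin (F := F) (K := K) h3r 1 0
    refine ⟨y, by rwa [mul_one] at hy1, fun h0 => hy2 0 (by rw [h0, zero_smul])⟩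
  have hperp : ∀ z, polar QK u z = 0 → polar QK u' z = 0 → Has Q X u z := by
    intro z hz1 hz2
    have key : ∀ y, polar QK u y = 0 → polar QK u' y = 0 → Has Q X u (a0 • y) := by
      intro y hy1 hy2
      have hH' : Hyp QK u (u' + y - QK y • u) := by
        refine ⟨hu, ?_, ?_⟩
        · rw [sub_eq_add_neg, Q_add, Q_add, QuadraticMap.map_neg, QuadraticMap.map_smul, hu,
            hH.right, polar_neg_right, polar_smul_right, polar_add_left, hH.pair', hy2,
            polar_comm QK y u, hy1]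
          simp
        · rw [polar_sub_right, polar_add_right, polar_smul_right, hH.pair, hy1, hH.polar_left]
          simp
      have h1 := hopp _ hH' a0 ha0
      have h2 := hopp _ hH a0 ha0
      have h3 := (h1.sub h2).add (hself (a0 * QK y))
      convert h3 using 1
      rw [smul_sub, smul_add, smul_smul]
      abel
    have := key (a0⁻¹ • z) (by rw [polar_smul_right, hz1, smul_zero])
      (by rw [polar_smul_right, hz2, smul_zero])
    rwa [smul_smul, mul_inv_cancel₀ ha00, one_smul] at this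
  have hdec : w = polar QK u w • u' + (w - polar QK u w • u' - polar QK u' w • u) +
      polar QK u' w • u := by abel
  rw [hdec]
  refine ((hopp u' hH _ ?_).add (hperp _ ?_ ?_)).add (hself _)
  · rw [← h.polar_eq]
    exact hw1
  · rw [polar_sub_right, polar_sub_right, polar_smul_right, polar_smul_right, hH.pair,
      hH.polar_left]
    simp
  · rw [polar_sub_right, polar_sub_right, polar_smul_right, polar_smul_right, hH.polar_right,
      hH.pair']
    simp

theorem E_le_of_full [FiniteDimensional K V] (h : TF Q QK) (hG : Good Q) (hH : Hyp QK v v')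
    (hf : ∀ u, QK u = 0 → u ≠ 0 → Full Q X u) : E Q ≤ X := by
  obtain ⟨a, ha⟩ : ∃ a : K, Algebra.trace F K a ≠ 0 := by
    by_contra hcon
    push Not at hcon
    exact one_ne_zero (trace_ext (F := F) (a := (1 : K)) fun c => by rw [mul_one]; exact hcon c)
  have ha0 : a ≠ 0 := by
    rintro rfl
    exact ha (map_zero _)
  refine E_le_of_full_pair hG (hf v hH.left hH.left_ne)
    (hf (a • v') (by rw [QuadraticMap.map_smul, hH.right, smul_zero]) ?_) (u' := a • v') ?_
  · exact smul_ne_zero ha0 hH.right_ne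
  · rw [h.polar_eq, polar_smul_right, hH.pair, smul_eq_mul, mul_one]
    exact ha

/-- **Odd degree, `B ≠ 1`.** -/
theorem E_le_of_odd [FiniteDimensional K V] (h : TF Q QK) (hG : Good Q)
    (hX : Over Q K X) (hm : 3 ≤ finrank K V) (hr : (finrank F K).Prime) (h3r : 3 ≤ finrank F K)
    (hK : 9 < Nat.card K) (hv : QK v = 0) (hv0 : v ≠ 0) (hT : ¬ Triv QK X v) : E Q ≤ X := by
  have hodd : Odd (finrank F K) := hr.odd_of_ne_two (by omega)
  obtain ⟨v', hH⟩ := exists_hyp h.nondeg hv hv0
  have hne : BB h hG hX hH hK ≠ ⊥ := by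
    intro h0
    apply hT
    intro β hβ
    have h1 : β ∈ BB h hG hX hH hK := hβ
    rw [h0] at h1
    exact (Submodule.mem_bot F).1 h1
  obtain ⟨g, hg, d, e, hd, he, hge⟩ := exists_transvection h hG hX hm hH hK hr hodd hne
  have hw := wedge_of_transvection h hG hX hH hK hr h3r hne hg hd he hge
  exact E_le_of_full h hG hH fun u hu hu0 => full_of_wedge h hG hX hm h3r hv hv0 hw hu hu0

end

end Cfsg.Agent.H884.Ext
end

-- part: H884/ExtB5
section
/-!
# Extension fields in orthogonal groups: degree two, and the maximality theorem (helper884)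
-/

set_option autoImplicit false
set_option linter.unusedSectionVars false

namespace Cfsg.Agent.H884.Ext

open QuadraticMap Cfsg.Agent.LieClassical.OrthCore Cfsg.Agent.LieClassical.OrthTrans
  Cfsg.Agent.LieClassical.OrthSimple Cfsg.Agent.LieClassical.OrthFinite Cfsg.Agent.H883.Root
  Cfsg.Agent.H883.Sub Module

variable {F K V : Type*} [Field F] [Field K] [Algebra F K] [AddCommGroup V] [Module F V] [Module K V]
  [IsScalarTower F K V] {Q : QuadraticForm F V} {QK : QuadraticForm K V}

variable {X : Subgroup (V ≃ₗ[F] V)} {v v' : V} {β γ : K →ₗ[F] K}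

/-! ### Quadratic extensions -/

theorem exists_j (hr : finrank F K = 2) : ∃ j : K, j ≠ 0 ∧ Algebra.trace F K j = 0 := by
  have hfd : FiniteDimensional F K := FiniteDimensional.of_finrank_pos (by omega)
  have h7 := LinearMap.finrank_range_add_finrank_ker (Algebra.trace F K)
  have h8 : finrank F (LinearMap.range (Algebra.trace F K)) ≤ 1 := by
    refine (Submodule.finrank_le _).trans ?_
    rw [finrank_self]
  have h9 : 0 < finrank F (LinearMap.ker (Algebra.trace F K)) := by omega
  obtain ⟨⟨j, hj⟩, hj0⟩ := Module.finrank_pos_iff_exists_ne_zero.1 h9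
  exact ⟨j, fun h0 => hj0 (Subtype.ext h0), hj⟩

theorem decomp_j (h2 : (2 : F) ≠ 0) (hr : finrank F K = 2) {j : K} (hj0 : j ≠ 0)
    (hj : Algebra.trace F K j = 0) :
    (∀ p : K, ∃ a b : F, p = algebraMap F K a + b • j) ∧
      ∃ D : F, j * j = algebraMap F K D := by
  have hfd : FiniteDimensional F K := FiniteDimensional.of_finrank_pos (by omega)
  have hli : LinearIndependent F ![(1 : K), j] := by
    rw [LinearIndependent.pair_iff]
    intro s t hst
    have h1 := congrArg (Algebra.trace F K) hst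
    rw [map_add, map_smul, map_smul, hj, map_zero, smul_zero, add_zero,
      ← map_one (algebraMap F K), Algebra.trace_algebraMap, hr, smul_eq_mul, nsmul_eq_mul, mul_one,
      Nat.cast_ofNat] at h1
    have hs : s = 0 := (mul_eq_zero.1 h1).resolve_right h2
    refine ⟨hs, ?_⟩
    rw [hs, zero_smul, zero_add] at hst
    exact (smul_eq_zero.1 hst).resolve_right hj0
  let b : Basis (Fin 2) F K := basisOfLinearIndependentOfCardEqFinrank hli (by rw [hr]; rfl)
  have hb0 : b 0 = 1 := by simp [b]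
  have hb1 : b 1 = j := by simp [b]
  have hdec : ∀ p : K, p = algebraMap F K (b.repr p 0) + (b.repr p 1) • j := by
    intro p
    conv_lhs => rw [← b.sum_repr p]
    rw [Fin.sum_univ_two, hb0, hb1, Algebra.algebraMap_eq_smul_one]
  refine ⟨fun p => ⟨_, _, hdec p⟩, b.repr (j * j) 0, ?_⟩
  have h3 := Algebra.trace_eq_matrix_trace b j
  rw [hj, Matrix.trace_fin_two, Algebra.leftMulMatrix_eq_repr_mul,
    Algebra.leftMulMatrix_eq_repr_mul, hb0, hb1, mul_one] at h3
  have h4 : b.repr j 0 = 0 := by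
    rw [← hb1, b.repr_self]
    simp
  rw [h4, zero_add] at h3
  have h5 := hdec (j * j)
  rwa [← h3, zero_smul, add_zero] at h5

theorem two_j (h2 : (2 : F) ≠ 0) (hr : finrank F K = 2) {j : K} (hj0 : j ≠ 0)
    (hj : Algebra.trace F K j = 0) (p : K) :
    Algebra.trace F K p • j + algebraMap F K (Algebra.trace F K (j * p)) = 2 * j * p := by
  obtain ⟨h3, D, hD⟩ := decomp_j h2 hr hj0 hj
  obtain ⟨a, b, rfl⟩ := h3 p
  have e1 : Algebra.trace F K (algebraMap F K a + b • j) = 2 * a := by
    rw [map_add, map_smul, hj, smul_zero, add_zero, Algebra.trace_algebraMap, hr, nsmul_eq_mul,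
      Nat.cast_ofNat]
  have e2 : j * (algebraMap F K a + b • j) = a • j + algebraMap F K (b * D) := by
    rw [mul_add, mul_smul_comm, hD, Algebra.smul_def, Algebra.smul_def, map_mul]
    ring
  have e3 : Algebra.trace F K (j * (algebraMap F K a + b • j)) = 2 * (b * D) := by
    rw [e2, map_add, map_smul, hj, smul_zero, zero_add, Algebra.trace_algebraMap, hr, nsmul_eq_mul,
      Nat.cast_ofNat]
  rw [e1, e3, mul_assoc, e2]
  simp only [Algebra.smul_def, map_mul, map_ofNat]
  ring

section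

variable [Finite K]

/-- Skew maps of a quadratic extension. -/
theorem skew_unique (h2 : (2 : F) ≠ 0) (hr : finrank F K = 2) (hβ0 : β ≠ 0)
    (hβ : ∀ a, Algebra.trace F K (a * β a) = 0) (hγ : ∀ a, Algebra.trace F K (a * γ a) = 0) :
    ∃ c : F, γ = c • β := by
  obtain ⟨j, hj0, hj⟩ := exists_j (F := F) hr
  obtain ⟨hdec, -⟩ := decomp_j h2 hr hj0 hj
  have key : ∀ δ : K →ₗ[F] K, (∀ a, Algebra.trace F K (a * δ a) = 0) →
      Algebra.trace F K (j * δ 1) = 0 → δ = 0 := by
    intro δ hδ h1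
    have h3 : Algebra.trace F K (1 * δ 1) = 0 := hδ 1
    have h4 : Algebra.trace F K (j * δ j) = 0 := hδ j
    have h5 : Algebra.trace F K (1 * δ j) = 0 := by
      have h6 := hδ (1 + j)
      rw [map_add, add_mul, mul_add, mul_add, map_add, map_add, map_add, h3, h4, h1, zero_add,
        add_zero, add_zero] at h6
      exact h6
    have h6 : ∀ y : K, Algebra.trace F K (1 * y) = 0 → Algebra.trace F K (j * y) = 0 → y = 0 := by
      intro y hy1 hy2
      apply trace_ext (F := F)
      intro c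
      obtain ⟨a, b, rfl⟩ := hdec c
      rw [add_mul, map_add, smul_mul_assoc, map_smul, hy2, smul_zero, add_zero,
        ← Algebra.smul_def, map_smul]
      rw [one_mul] at hy1
      rw [hy1, smul_zero]
    have h7 := h6 _ h3 h1
    have h8 := h6 _ h5 h4
    ext p
    obtain ⟨a, b, rfl⟩ := hdec p
    rw [map_add, map_smul, h8, smul_zero, add_zero, Algebra.algebraMap_eq_smul_one, map_smul, h7,
      smul_zero, LinearMap.zero_apply]
  have hβj : Algebra.trace F K (j * β 1) ≠ 0 := fun h0 => hβ0 (key β hβ h0)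
  refine ⟨Algebra.trace F K (j * γ 1) * (Algebra.trace F K (j * β 1))⁻¹, ?_⟩
  rw [← sub_eq_zero]
  apply key
  · intro a
    rw [LinearMap.sub_apply, LinearMap.smul_apply, mul_sub, mul_smul_comm, map_sub, map_smul, hβ,
      hγ, smul_zero, sub_zero]
  · rw [LinearMap.sub_apply, LinearMap.smul_apply, mul_sub, mul_smul_comm, map_sub, map_smul,
      smul_eq_mul, mul_assoc, inv_mul_cancel₀ hβj, mul_one, sub_self]

theorem wedge_skew (x y a : K) : Algebra.trace F K (a * wedge F x y a) = 0 := by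
  rw [wedge_apply, mul_sub, mul_smul_comm, mul_smul_comm, map_sub, map_smul, map_smul, smul_eq_mul,
    smul_eq_mul, mul_comm a y, mul_comm a x]
  ring

/-- Small fields. -/
theorem eq_of_card_le [Finite F] (h2 : (2 : F) ≠ 0) (hF : Nat.card F ≤ 3) (c : F) :
    c = 0 ∨ c = 1 ∨ c = -1 := by
  classical
  have := Fintype.ofFinite F
  by_contra hcon
  push Not at hcon
  have h3 : ({0, 1, -1, c} : Finset F).card = 4 := by
    have e1 : (1 : F) ≠ -1 := by
      intro h
      apply h2
      linear_combination h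
    rw [Finset.card_insert_of_notMem, Finset.card_insert_of_notMem, Finset.card_insert_of_notMem,
      Finset.card_singleton]
    · simp only [Finset.mem_singleton]
      exact fun h => hcon.2.2 h.symm
    · simp only [Finset.mem_insert, Finset.mem_singleton]
      rintro (h | h)
      · exact e1 h
      · exact hcon.2.1 h.symm
    · simp only [Finset.mem_insert, Finset.mem_singleton]
      rintro (h | h | h)
      · exact zero_ne_one h
      · exact one_ne_zero (neg_eq_zero.1 h.symm)
      · exact hcon.1 h.symm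
  have h4 := Finset.card_le_univ ({0, 1, -1, c} : Finset F)
  rw [h3, ← Nat.card_eq_fintype_card] at h4
  omega

variable [FiniteDimensional F V]

/-- Quadratic extensions: all decomposable maps. -/
theorem wedge_of_two (h : TF Q QK) (hG : Good Q) (hX : Over Q K X) (hr : finrank F K = 2)
    (hv : QK v = 0) (hv0 : v ≠ 0) (hT : ¬ Triv QK X v) (x y : K) :
    HasB QK X v (wedge F x y) := by
  have hXO : X ≤ O Q := fun g hg => E_le_O (hX.le hg)
  have hFfin : Finite F := Finite.of_injective _ (algebraMap F K).injective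
  have hfd : FiniteDimensional F K := FiniteDimensional.of_finrank_pos (by omega)
  obtain ⟨v', hH⟩ := exists_hyp h.nondeg hv hv0
  unfold Triv at hT
  push Not at hT
  obtain ⟨β, hβ, hβ0⟩ := hT
  have hβ' : HasB QK X v β := hβ
  obtain ⟨c, hc⟩ := skew_unique (γ := wedge F x y) h.twoF hr hβ0 (hβ'.skew h hXO hH) (wedge_skew x y)
  rw [hc]
  by_cases hK : 9 < Nat.card K
  · exact hβ'.smulF h hG hX hH hK c
  · have h3 : Nat.card F ≤ 3 := by
      have h4 : Nat.card K = Nat.card F ^ finrank F K := Module.natCard_eq_pow_finrank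
      rw [hr] at h4
      nlinarith
    rcases eq_of_card_le h.twoF h3 c with h4 | h4 | h4
    · rw [h4, zero_smul]
      exact HasB.zero
    · rw [h4, one_smul]
      exact hβ'
    · have e : (-1 : F) • β = -β := by
        ext a
        rw [LinearMap.smul_apply, LinearMap.neg_apply, neg_smul, one_smul]
      rw [h4, e]
      exact hβ'.neg hv

/-- Two orthogonal singular points. -/
theorem has_of_two (h : TF Q QK) (hG : Good Q) (hX : Over Q K X) (hr : finrank F K = 2)
    (hall : ∀ w, QK w = 0 → ∀ x y, HasB QK X w (wedge F x y)) {w : V} (hv : QK v = 0)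
    (hw : QK w = 0) (hvw : polar QK v w = 0) : Has Q X v w := by
  obtain ⟨j, hj0, hj⟩ := exists_j (F := F) hr
  have htwo := two_j h.twoF hr hj0 hj
  have h2 := h.two
  -- `w = (2 j c) w0`
  set c : K := (2 * j)⁻¹ with hc
  have hjc : 2 * j * c = 1 := mul_inv_cancel₀ (mul_ne_zero h2 hj0)
  have hvcw : QK (v + c • w) = 0 := by
    rw [Q_add, QuadraticMap.map_smul, hv, hw, polar_smul_right, hvw]
    simp
  have hcw : QK (c • w) = 0 := by rw [QuadraticMap.map_smul, hw, smul_zero]
  obtain ⟨g1, hg1, hg1x⟩ := hall _ hvcw 1 j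
  obtain ⟨g2, hg2, hg2x⟩ := (hall _ hv 1 j).neg hv
  obtain ⟨g3, hg3, hg3x⟩ := (hall _ hcw 1 j).neg hcw
  have hg4 := hX.rho_mem h hG hv hvw
  have hww : polar QK w w = 0 := polar_self_of_sing hw
  have hvv : polar QK v v = 0 := polar_self_of_sing hv
  have hwv : polar QK w v = 0 := by rw [polar_comm, hvw]
  have hQw : Q w = 0 := h.sing hw
  have hpF : polar Q v w = 0 := h.perp_of hvw
  refine ⟨h.sing hv, hpF, ?_⟩
  have e : siegel Q v w (h.sing hv) hpF = g1 * (g2 * (g3 * rho F QK v w hv hvw)) := by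
    ext x
    rw [LinearEquiv.mul_apply, LinearEquiv.mul_apply, LinearEquiv.mul_apply, siegel_apply,
      rho_apply, hg3x, hg2x, hg1x, hQw, hw, h.polar_eq, h.polar_eq]
    simp only [polar_add_left, polar_add_right, polar_sub_right, polar_smul_left,
      polar_smul_right, hvv, hww, hvw, hwv, smul_eq_mul, mul_zero, add_zero, sub_zero, zero_mul,
      zero_smul]
    simp only [LinearMap.neg_apply, wedge_apply, one_mul, map_add, add_smul]
    set p := polar QK v x
    set s := polar QK w x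
    have e1 := htwo p
    have e2 := htwo (c * s)
    have e3 : 2 * j * (c * s) = s := by rw [← mul_assoc, hjc, one_mul]
    rw [e3] at e2
    have e4 : Algebra.trace F K s = 2 * Algebra.trace F K (j * (c * s)) := by
      have := congrArg (Algebra.trace F K) e3
      rw [← this, mul_assoc, ← map_ofNat (algebraMap F K) 2, ← Algebra.smul_def, map_smul,
        smul_eq_mul]
    rw [← algebraMap_smul K (Algebra.trace F K p) w, ← algebraMap_smul K (Algebra.trace F K s) v, e4]
    simp only [Algebra.smul_def, map_mul, map_ofNat, mul_one] at e1 e2 ⊢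
    have h5 : algebraMap F K (Algebra.trace F K p) = p + c * (algebraMap F K (Algebra.trace F K p) * j -
        algebraMap F K (Algebra.trace F K (j * p))) := by
      linear_combination (algebraMap F K (Algebra.trace F K p)) * (-hjc) + p * hjc + c * e1
    have h6 : 2 * algebraMap F K (Algebra.trace F K (j * (c * s))) =
        s - (algebraMap F K (Algebra.trace F K (c * s)) * j -
          algebraMap F K (Algebra.trace F K (j * (c * s)))) := by
      linear_combination e2
    linear_combination (norm := module) h5 • w - h6 • v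
  rw [e]
  exact X.mul_mem hg1 (X.mul_mem hg2 (X.mul_mem hg3 hg4))

/-- Witt index at least two. -/
def Wi (QK : QuadraticForm K V) : Prop :=
  ∀ x y : V, Hyp QK x y → ∃ w : V, w ≠ 0 ∧ QK w = 0 ∧ polar QK x w = 0 ∧ polar QK y w = 0

theorem wi_of_finrank [FiniteDimensional K V] (hm : 5 ≤ finrank K V) : Wi QK := by
  intro x y _
  obtain ⟨w, hw0, hw, h⟩ := exists_sing_perp (Q := QK) ![x, y] (by omega)
  exact ⟨w, hw0, hw, h 0, h 1⟩

/-- **Degree two, `B ≠ 1`**: all Siegel transformations. -/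
theorem full_of_two (h : TF Q QK) (hG : Good Q) (hX : Over Q K X) (hr : finrank F K = 2)
    (hW : Wi QK) (hall : ∀ w, QK w = 0 → ∀ x y, HasB QK X w (wedge F x y)) {u : V}
    (hu : QK u = 0) (hu0 : u ≠ 0) : Full Q X u := by
  obtain ⟨u', hH⟩ := exists_hyp h.nondeg hu hu0
  refine ⟨h.sing hu, fun w hw => ?_⟩
  have hself : ∀ b : K, Has Q X u (b • u) := by
    intro b
    have := has_of_wedge h hu (hall u hu 1 b)
    rwa [one_smul] at this
  -- a second hyperbolic pair
  obtain ⟨z, hz0, hz, huz, hu'z⟩ := hW u u' hH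
  obtain ⟨z', hHz, huz', hu'z'⟩ := exists_hyp_perp h.nondeg hH hz hz0 huz hu'z
  have hperp : ∀ y, polar QK u y = 0 → polar QK u' y = 0 → Has Q X u y := by
    intro y hy1 hy2
    exact sing_induction_perp hHz huz huz' hu'z hu'z' (P := fun y => Has Q X u y)
      (fun a c _ _ _ _ ha hc => ha.add hc)
      (fun a ha h1 _ => has_of_two h hG hX hr hall hu ha h1) y hy1 hy2
  -- opposite
  obtain ⟨b, hb⟩ : ∃ b : K, Algebra.trace F K b = 1 := by
    have h1 : ∃ c : K, Algebra.trace F K c ≠ 0 := by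
      by_contra hcon
      push Not at hcon
      exact one_ne_zero (trace_ext (F := F) (a := (1 : K)) fun c => by rw [mul_one]; exact hcon c)
    obtain ⟨c, hc⟩ := h1
    exact ⟨(Algebra.trace F K c)⁻¹ • c, by rw [map_smul, smul_eq_mul, inv_mul_cancel₀ hc]⟩
  have hopp : ∀ a : K, Algebra.trace F K a = 0 → Has Q X u (a • u') := by
    intro a ha
    have hau : QK (a • u') = 0 := by rw [QuadraticMap.map_smul, hH.right, smul_zero]
    have h1 : Has Q X z (a • u') := has_of_two h hG hX hr hall hz hau (by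
      rw [polar_smul_right, polar_comm QK z u', hu'z, smul_zero])
    have h2 : Has Q X u (b • z') := hperp _ (by rw [polar_smul_right, huz', smul_zero])
      (by rw [polar_smul_right, hu'z', smul_zero])
    have h3 := Has.comm' h1 h2 (h.perp_of (by rw [polar_comm, huz]))
      (by rw [h.smul_left, hH.pair', mul_one, ha]) (h.sing hau)
      (by rw [h.smul_left, polar_smul_right, hu'z', smul_zero, mul_zero, map_zero])
    rwa [h.smul_right, hHz.pair, mul_one, hb, one_smul] at h3
  have hdec : w = polar QK u w • u' + (w - polar QK u w • u' - polar QK u' w • u) +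
      polar QK u' w • u := by abel
  rw [hdec]
  refine ((hopp _ ?_).add (hperp _ ?_ ?_)).add (hself _)
  · rw [← h.polar_eq]
    exact hw
  · rw [polar_sub_right, polar_sub_right, polar_smul_right, polar_smul_right, hH.pair,
      hH.polar_left]
    simp
  · rw [polar_sub_right, polar_sub_right, polar_smul_right, polar_smul_right, hH.polar_right,
      hH.pair']
    simp

theorem E_le_of_two [FiniteDimensional K V] (h : TF Q QK) (hG : Good Q) (hX : Over Q K X)
    (hm : 3 ≤ finrank K V) (hr : finrank F K = 2) (hW : Wi QK) (hv : QK v = 0) (hv0 : v ≠ 0)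
    (hT : ¬ Triv QK X v) : E Q ≤ X := by
  obtain ⟨v', hH⟩ := exists_hyp h.nondeg hv hv0
  have hw := wedge_of_two h hG hX hr hv hv0 hT
  have hall : ∀ w, QK w = 0 → ∀ x y, HasB QK X w (wedge F x y) := by
    intro w hw1 x y
    by_cases hw0 : w = 0
    · rw [hw0]
      exact ⟨1, X.one_mem, fun x => by simp⟩
    · exact wedge_transport h hG hX hm hv hv0 hw hw1 hw0 x y
  exact E_le_of_full h hG hH fun u hu hu0 => full_of_two h hG hX hr hW hall hu hu0

/-- **The overgroups of the semilinear group in the orthogonal group.** -/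
theorem overgroup [FiniteDimensional K V] (h : TF Q QK) (hG : Good Q) (hX : Over Q K X)
    (hm : 4 ≤ finrank K V) (hr : (finrank F K).Prime) (h2 : finrank F K = 2 → Wi QK) :
    X ≤ NK F K V ∨ E Q ≤ X := by
  by_cases hT : ∀ v, v ≠ 0 → QK v = 0 → Triv QK X v
  · exact Or.inl (le_NK_of_triv h hG hm hX hT)
  · right
    push Not at hT
    obtain ⟨v, hv0, hv, hT⟩ := hT
    by_cases hr2 : finrank F K = 2
    · exact E_le_of_two h hG hX (by omega) hr2 (h2 hr2) hv hv0 hT
    · have h3r : 3 ≤ finrank F K := by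
        have := hr.two_le
        omega
      have hFfin : Finite F := Finite.of_injective _ (algebraMap F K).injective
      have hfd : FiniteDimensional F K := FiniteDimensional.of_finrank_pos hr.pos
      have hK : 9 < Nat.card K := by
        have h4 : Nat.card K = Nat.card F ^ finrank F K := Module.natCard_eq_pow_finrank
        have h5 : 3 ≤ Nat.card F := by
          have h6 : 1 < Nat.card F := Finite.one_lt_card
          by_contra h7
          have h8 : Nat.card F = 2 := by omega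
          apply h.twoF
          have h9 : ((Nat.card F : ℕ) : F) = 0 := by
            have := Fintype.ofFinite F
            rw [Nat.card_eq_fintype_card]
            exact Nat.cast_card_eq_zero F
          rwa [h8] at h9
        rw [h4]
        calc 9 < 3 ^ 3 := by norm_num
          _ ≤ Nat.card F ^ 3 := Nat.pow_le_pow_left h5 3
          _ ≤ Nat.card F ^ finrank F K := Nat.pow_le_pow_right (by omega) h3r
      exact E_le_of_odd h hG hX (by omega) hr h3r hK hv hv0 hT

end

end Cfsg.Agent.H884.Ext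
end
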