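import Cfsg.Agent.H884.CgOrth
import Cfsg.Agent.S0295
import Cfsg.Agent.S0296
import Cfsg.Agent.S0297
import Cfsg.Agent.H365.Zsig
import Cfsg.Agent.H946.ExcNum_m3
import Cfsg.Agent.H884.CxMain_m3
import Cfsg.Agent.H918.UBase
import Cfsg.Agent.S0246
import Cfsg.Agent.S0279
import Cfsg.Agent.H899.Cyc.CycOut
import Cfsg.Agent.H262.ElFewAll
import Cfsg.Agent.S0254
import Cfsg.Agent.S2119
import Cfsg.Agent.H189.FeitTits
import Cfsg.Agent.Lib.FinFast
import Cfsg.Agent.H264.FKS.ResCore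
import Cfsg.Agent.H304.PslRes_m3
import Cfsg.Agent.H251.GeoUMain
import Cfsg.Agent.H813.SaxSpK
import Cfsg.Agent.H884.ElO8
import Cfsg.Agent.LieClassical.SLGen
import Cfsg.Agent.S0270
import Cfsg.Agent.S0283
import Cfsg.Agent.H947.Cyc.Basic_m3
import Mathlib
import Cfsg.Agent.H264.FKS.Final_m3
import Cfsg.Agent.H57.BG.SpKill
import Cfsg.Agent.H884.Od8.Row_m3
import Cfsg.Agent.H375.Odd.Inst
import Cfsg.Agent.H349.BG.Cross_m3
import Cfsg.Agent.S0818
import Cfsg.Agent.H217.Odm.Real_m3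
import Cfsg.Agent.H57.BG.Dead
import Cfsg.Agent.H123.SporSimple
import Cfsg.Agent.H489.OutSpor
import Cfsg.Agent.H153.ZerosSuz
import Cfsg.Agent.H361.Alt.Suz
import Cfsg.Agent.LThreeFi22.Inst
import Cfsg.Agent.H867.SporMI
import Cfsg.Agent.PreUniqCo.FiTwentyTwo
import Cfsg.Agent.H603.SporElim
import Cfsg.Agent.Prune
set_option linter.all false

section
prune_inst 0x7ffefdfcebbb31deffff7e7faed9dffc3b90dfffefdff943ffec6bef8bdf031209e5fbad0de0f8fe0e02c23410b87853fb7eeeffeb6fdc7ffffd5ff45ffbee5ff7ffbd0111d788340f3c6fff93f0778e7f3fffffffffffffffffffffffffffbeffbfffffffff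

-- part: H884/IgCyc
section
prune_inst 0x1000310044e010000000050040003c00f2000000002b8000000102400f88c50180400720b010010542c020844038000811000009001000000000000001180080000306020050ac0c100006000080000000000000000000000000000000000000000000000
set_option linter.all false
open scoped Cfsg.Agent.FastGrp

-- part: H884/CgFin
section
/-!
# Cyclic gaps of the orthogonal groups, standard forms (for S3561, S3679)

`cg_odd`, `cg_minus`, `cg_plus` : every subgroup `M` has a `CGap`, or is in the residual class, or fixes a nonsingular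
point (`m` even).
-/

set_option autoImplicit false

namespace Cfsg.Agent.H884.Cg

open Cfsg Cfsg.Geo Cfsg.Agent.OrdDiv Cfsg.Agent.H436 Cfsg.Agent.H915.GN Cfsg.Agent.H264.FKS
open Cfsg.Agent.H899.CG Cfsg.Agent.H884.El Cfsg.Agent.LieClassical Cfsg.Agent.H955
open Cfsg.Agent.LieClassical.OmegaReindex
open scoped MatrixGroups

theorem not_comm_of_primes {T : Type*} [Group T] [Finite T] [IsSimpleGroup T] {r s : ℕ} (hr : r.Prime) (hs : s.Prime)
    (hrs : r ≠ s) (h1 : r ∣ Nat.card T) (h2 : s ∣ Nat.card T) : ¬ ∀ a b : T, a * b = b * a := by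
  intro hc
  have := Fact.mk hr
  obtain ⟨x, hx⟩ := exists_prime_orderOf_dvd_card' r h1
  have hn : (Subgroup.zpowers x).Normal := ⟨fun n hn g => by rw [hc g n, mul_inv_cancel_right]; exact hn⟩
  rcases hn.eq_bot_or_eq_top with h | h
  · rw [Subgroup.zpowers_eq_bot] at h
    rw [h, orderOf_one] at hx
    exact hr.one_lt.ne hx
  · have h3 : Nat.card T = r := by
      rw [← hx, ← Nat.card_zpowers, h, Subgroup.card_top]
    rw [h3] at h2
    exact hrs ((Nat.prime_dvd_prime_iff_eq hs hr).1 h2).symm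

/-- the condition on the outer automorphisms for a named group -/
theorem outOK_of {T : Type} [Group T] [Finite T] [IsSimpleGroup T] {g : Grp} {p a : ℕ} (hp : p.Prime)
    (hna : ¬ ∀ x y : T, x * y = y * x) (hn : IsNamed g T) (hch : HasChar p g) (ha : fld g = p ^ a) :
    OutOK T (fld g) a := by
  intro e r he hr hra
  have hlt := hr.lt (by omega)
  have h5 : 5 ≤ r := by
    by_contra hcon
    have h4 : r = 4 := by omega
    have := hr.prime
    rw [h4] at this
    exact absurd this (by norm_num)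
  refine not_dvd_out hna hp hn hch hr.prime h5 ha hra fun h => ?_
  have h6 := (hr.dvd_iff (by rw [ha]; exact Nat.one_le_pow _ _ hp.pos) 2).1 h
  have := Nat.le_of_dvd (by norm_num) h6
  omega

variable {F : Type} [Field F] [Fintype F]

theorem two_primes {m : ℕ} (hm : 3 ≤ m) (hexc : ¬ (Nat.card F = 2 ∧ m = 4)) {T : Type} [Group T]
    (h1 : ∀ r, PP (Nat.card F) (2 * m - 2) r → r ∣ Nat.card T) (h2 : ∀ r, PP (Nat.card F) (oddE m) r → r ∣ Nat.card T) :
    ∃ r s : ℕ, r.Prime ∧ s.Prime ∧ r ≠ s ∧ r ∣ Nat.card T ∧ s ∣ Nat.card T := by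
  have hq := one_lt_q F
  have ho3 := oddE_odd (m := m) (by omega)
  have he33 : 3 ≤ oddE m := by
    rcases Nat.even_or_odd m with he | ho
    · rw [oddE_of_even he]
      obtain ⟨k, hk⟩ := he
      omega
    · rw [oddE_of_odd ho]; exact hm
  obtain ⟨r, hr⟩ := exists_pp (q := Nat.card F) (e := 2 * m - 2) (by omega) (by omega) (by
    rintro ⟨h3, h4⟩
    exact hexc ⟨h3, by omega⟩)
  obtain ⟨s, hs⟩ := exists_pp (q := Nat.card F) (e := oddE m) (by omega) he33 (by
    rintro ⟨-, h⟩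
    rw [h] at ho3
    exact absurd ho3 (by decide))
  refine ⟨r, s, hr.prime, hs.prime, ?_, h1 r hr, h2 s hs⟩
  refine hr.ne_of_ne hs ?_
  intro h
  rw [← h] at ho3
  have : Even (2 * m - 2) := ⟨m - 1, by omega⟩
  exact (Nat.not_even_iff_odd.2 ho3) this

/-- **`PΩ⁻_{2m}(q)`.** -/
theorem cg_minus {m : ℕ} (hm : 4 ≤ m) {a' b : F}
    (hab : ∀ z₁ z₂ : F, z₁ ^ 2 + a' * z₁ * z₂ + b * z₂ ^ 2 = 0 → z₁ = 0 ∧ z₂ = 0)
    (M : Subgroup (POmega F (quadFormMinus (m - 1) F a' b))) :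
    CGap _ M ∨ InOrthogonalResidualClass (pre (quadFormMinus (m - 1) F a' b) M) := by
  obtain ⟨p, a, hp, ha, hpa⟩ := exists_char F
  have hT : IsNamed (.ominus m (Fintype.card F)) (POmega F (quadFormMinus (m - 1) F a' b)) :=
    .mk' ⟨F, inferInstance, inferInstance, a', b, rfl, hab, ⟨MulEquiv.refl _⟩⟩ ⟨hm, Fintype.isPrimePow_card_of_field⟩
      (ominus_eq hm hab)
  have hs : IsSimpleGroup (POmega F (quadFormMinus (m - 1) F a' b)) := S0297.result m hm a' b hab
  have hfin : Finite (POmega F (quadFormMinus (m - 1) F a' b)) := Quotient.finite _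
  have hq := one_lt_q F
  have hD := data_minus hm hab
  have hQ := nondeg_iff.2 (quadMinus_nondegenerate (m := m - 1) hab)
  have hP := not_isPlus_quadMinus (m := m - 1) hab
  have hna : ¬ ∀ x y : POmega F (quadFormMinus (m - 1) F a' b), x * y = y * x := by
    have key : ∀ e, (e = 2 * m ∨ e = 3) → ∀ r, PP (Nat.card F) e r →
        r ∣ Nat.card (POmega F (⇑(quadMinus (m - 1) F a' b))) := by
      intro e he r hr
      have hr2 : r ≠ 2 := by have := hr.lt (by omega); omega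
      have hev : Even (Fintype.card ((Fin (m - 1) ⊕ Fin (m - 1)) ⊕ Fin 2)) := by
        rw [card_minus (by omega)]; exact even_two_mul m
      rcases he with rfl | rfl
      · obtain ⟨g, h1, h2', h3, -⟩ := exists_g (A := 1) hQ hr (even_two_mul m) (by omega) le_rfl
          (Or.inl ⟨hev, Or.inr ⟨by rw [card_minus (by omega)]; omega, iff_of_false hP (by decide)⟩⟩)
        exact dvd_card_T hD h1 hr.prime hr2 h2' h3
      · obtain ⟨g, h1, h2', h3, -⟩ := exists_g_odd (A := 1) hQ hr (by decide) (by omega) le_rfl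
          (Or.inl ⟨hev, Or.inl (by rw [card_minus (by omega)]; omega)⟩)
        exact dvd_card_T hD h1 hr.prime hr2 h2' h3
    rw [coe_quadMinus] at key
    obtain ⟨r, hr⟩ := exists_pp (q := Nat.card F) (e := 2 * m) (by omega) (by omega) (by omega)
    obtain ⟨s, hs⟩ := exists_pp (q := Nat.card F) (e := 3) (by omega) le_rfl (by omega)
    exact not_comm_of_primes hr.prime hs.prime (hr.ne_of_ne hs (by omega)) (key _ (Or.inl rfl) r hr)
      (key _ (Or.inr rfl) s hs)
  have hfl : fld (.ominus m (Fintype.card F)) = p ^ a := by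
    rw [← hpa, Nat.card_eq_fintype_card]; rfl
  have hout : OutOK (POmega F (quadFormMinus (m - 1) F a' b)) (Nat.card F) a := by
    have := outOK_of hp hna hT ⟨a, by rw [← Nat.card_eq_fintype_card]; exact hpa⟩ hfl
    rw [Nat.card_eq_fintype_card]
    exact this
  have h : OutOK (POmega F (⇑(quadMinus (m - 1) F a' b))) (Nat.card F) a →
      ∀ M : Subgroup (POmega F (⇑(quadMinus (m - 1) F a' b))),
      CGap _ M ∨ InOrthogonalResidualClass (pre (⇑(quadMinus (m - 1) F a' b)) M) := fun ho M =>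
    cg_minus_gen hp ha hpa hm (card_minus (by omega)) hQ hP hD ho M
  rw [coe_quadMinus] at h
  exact h hout M

/-- **`PΩ⁺_{2m}(q)`.** -/
theorem cg_plus {m : ℕ} (hm : 4 ≤ m) (hexc : ¬ (Nat.card F = 2 ∧ m = 4)) (M : Subgroup (POmega F (quadFormPlus m F))) :
    CGap _ M ∨ InOrthogonalResidualClass (pre (quadFormPlus m F) M) ∨
      (Even m ∧ ∃ v, quadFormPlus m F v ≠ 0 ∧
        pre (quadFormPlus m F) M ≤ subspaceStabilizer (Submodule.span F {v})) := by
  obtain ⟨p, a, hp, ha, hpa⟩ := exists_char F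
  have hT : IsNamed (.oplus m (Fintype.card F)) (POmega F (quadFormPlus m F)) :=
    .mk' ⟨F, inferInstance, inferInstance, rfl, ⟨MulEquiv.refl _⟩⟩ ⟨hm, Fintype.isPrimePow_card_of_field⟩
      (oplus_eq hm)
  have hs : IsSimpleGroup (POmega F (quadFormPlus m F)) := S0296.result m hm
  have hfin : Finite (POmega F (quadFormPlus m F)) := Quotient.finite _
  have hq := one_lt_q F
  have hD := data_plus (F := F) hm
  have hQ := nondeg_iff.2 (quadPlus_nondegenerate (F := F) (m := m))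
  have hP := isPlus_quadPlus (F := F) m
  have hna : ¬ ∀ x y : POmega F (quadFormPlus m F), x * y = y * x := by
    have hev : Even (Fintype.card (Fin m ⊕ Fin m)) := by rw [card_plus]; exact even_two_mul m
    have key : ∀ e, (e = 2 * m - 2 ∨ e = 3) → ∀ r, PP (Nat.card F) e r →
        r ∣ Nat.card (POmega F (⇑(quadPlus m F))) := by
      intro e he r hr
      have hr2 : r ≠ 2 := by have := hr.lt (by omega); omega
      rcases he with rfl | rfl
      · obtain ⟨g, h1, h2', h3, -⟩ := exists_g (A := 1) hQ hr ⟨m - 1, by omega⟩ (by omega) le_rfl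
          (Or.inl ⟨hev, Or.inl (by rw [card_plus]; omega)⟩)
        exact dvd_card_T hD h1 hr.prime hr2 h2' h3
      · obtain ⟨g, h1, h2', h3, -⟩ := exists_g_odd (A := 1) hQ hr (by decide) (by omega) le_rfl
          (Or.inl ⟨hev, Or.inl (by rw [card_plus]; omega)⟩)
        exact dvd_card_T hD h1 hr.prime hr2 h2' h3
    rw [coe_quadPlus] at key
    obtain ⟨r, hr⟩ := exists_pp (q := Nat.card F) (e := 2 * m - 2) (by omega) (by omega) (fun h => hexc ⟨h.1, by omega⟩)
    obtain ⟨s, hs⟩ := exists_pp (q := Nat.card F) (e := 3) (by omega) le_rfl (by omega)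
    exact not_comm_of_primes hr.prime hs.prime (hr.ne_of_ne hs (by omega)) (key _ (Or.inl rfl) r hr)
      (key _ (Or.inr rfl) s hs)
  have hfl : fld (.oplus m (Fintype.card F)) = p ^ a := by
    rw [← hpa, Nat.card_eq_fintype_card]; rfl
  have hout : OutOK (POmega F (quadFormPlus m F)) (Nat.card F) a := by
    have := outOK_of hp hna hT ⟨a, by rw [← Nat.card_eq_fintype_card]; exact hpa⟩ hfl
    rw [Nat.card_eq_fintype_card]
    exact this
  have h : OutOK (POmega F (⇑(quadPlus m F))) (Nat.card F) a → ∀ M : Subgroup (POmega F (⇑(quadPlus m F))),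
      CGap _ M ∨ InOrthogonalResidualClass (pre (⇑(quadPlus m F)) M) ∨
      (Even m ∧ ∃ v, quadPlus m F v ≠ 0 ∧
        pre (⇑(quadPlus m F)) M ≤ subspaceStabilizer (Submodule.span F {v})) := fun ho M =>
    cg_plus_gen hp ha hpa hm (card_plus m) hQ hP hexc hD ho M
  rw [coe_quadPlus] at h
  exact h hout M

end Cfsg.Agent.H884.Cg
end

-- part: H884/IgNum
section
/-!
# Full parts of primitive primes: a finite check (helper884, for S3561 and S3679)

`Hit A n p` : for all primes `r` with `ord_r(p) = n` the full `r`-part of `p ^ n - 1` divides `A`.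

`hits_complete` : if the boolean check `hitsB fac s L` is true (`fac` the factorization of `A`, primes at most 73) then
`Hit A n p`, `n ≥ 3`, `p` prime, `p ≠ s` implies `(n, p) ∈ L`: there are only finitely many `(n, p)`.
-/

set_option autoImplicit false

namespace Cfsg.Agent.H884.Ig

open Polynomial Cfsg.Agent.H436 Cfsg.Agent.H365.Zsig Cfsg.Agent.Lib.Zsigmondy

/-- the full parts of the primes `r` with `ord_r(p) = n` divide `A` -/
def Hit (A n p : ℕ) : Prop := ∀ r k : ℕ, Prim p n r → r ^ k ∣ p ^ n - 1 → r ^ k ∣ A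

theorem prim_of_orderOf {q n r : ℕ} (hq : 1 ≤ q) (hn : 1 ≤ n) (hr : r.Prime) (h : orderOf (q : ZMod r) = n) :
    Prim q n r := by
  refine ⟨hr, fun m => ?_, fun hd => ?_⟩
  · rw [dvd_pow_sub_one_iff hq, h]
  · have := Fact.mk hr
    have h0 : (q : ZMod r) = 0 := (ZMod.natCast_eq_zero_iff q r).2 hd
    have h1 : (q : ZMod r) ^ n = 1 := by rw [← h]; exact pow_orderOf_eq_one _
    rw [h0, zero_pow (by omega)] at h1
    exact zero_ne_one h1

/-- `Φ_n(q)` divides `A P`, `P` the largest prime divisor of `n` -/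
theorem Ph_dvd_of_hit {A q n P : ℕ} (hq : 2 ≤ q) (hn : 3 ≤ n) (hA : A ≠ 0) (h : Hit A n q)
    (hP : P.Prime) (hPn : P ∣ n) (hmax : ∀ s : ℕ, s.Prime → s ∣ n → s ≤ P) : Ph n q ∣ A * P := by
  have hN1 := Ph_gt_one (n := n) (q := q) (by omega) hq
  have hAP : A * P ≠ 0 := Nat.mul_ne_zero hA hP.ne_zero
  rw [← Nat.factorization_le_iff_dvd (by omega) hAP]
  intro s
  by_cases hs : s.Prime
  swap
  · rw [Nat.factorization_eq_zero_of_not_prime _ hs]; exact Nat.zero_le _
  by_cases hsN : s ∣ Ph n q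
  swap
  · rw [Nat.factorization_eq_zero_of_not_dvd hsN]; exact Nat.zero_le _
  rcases prime_dvd_Ph (by omega) hq hs hsN with h1 | ⟨k, m, h1, h2, h3, h4, h5⟩
  · have h6 := prim_of_orderOf (by omega) (by omega) hs h1
    rw [← hs.pow_dvd_iff_le_factorization hAP]
    refine (h s _ h6 ((Nat.ordProj_dvd _ _).trans (Ph_dvd (by omega) (by omega)))).mul_right _
  · have h6 : (Ph n q).factorization s ≤ 1 := by
      by_contra hlt
      push Not at hlt
      exact sq_not_dvd hn hq hs h1 h2 h3 h4 h5 ((hs.pow_dvd_iff_le_factorization (by omega)).2 hlt)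
    refine h6.trans ?_
    rw [← hs.dvd_iff_one_le_factorization hAP]
    rw [_root_.Cfsg.Agent.H365.Zsig.eq_max hs h1 h4 h5 hP hPn hmax]
    exact Dvd.intro_left _ rfl

theorem Ph_lower {n q : ℕ} (hn : 3 ≤ n) (hq : 2 ≤ q) : (q - 1) ^ n.totient < Ph n q := by
  have h1 : (1 : ℝ) < (q : ℝ) := by exact_mod_cast (show 1 < q by omega)
  have h2 := Polynomial.sub_one_pow_totient_lt_cyclotomic_eval (n := n) (by omega) h1
  rw [Ph_real (by omega)] at h2
  have h3 : ((q : ℝ) - 1) = ((q - 1 : ℕ) : ℝ) := by rw [Nat.cast_sub (by omega)]; simp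
  rw [h3] at h2
  exact_mod_cast h2

theorem Ph_upper {n q : ℕ} (hn : 3 ≤ n) (hq : 2 ≤ q) : Ph n q < (q + 1) ^ n.totient := by
  have h1 : (1 : ℝ) < (q : ℝ) := by exact_mod_cast (show 1 < q by omega)
  have h2 := Polynomial.cyclotomic_eval_lt_add_one_pow_totient (n := n) (by omega) h1
  rw [Ph_real (by omega)] at h2
  exact_mod_cast h2

/-! ### tables -/

/-- the primes up to 73 -/
def ps : List ℕ := [2, 3, 5, 7, 11, 13, 17, 19, 23, 29, 31, 37, 41, 43, 47, 53, 59, 61, 67, 71, 73]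

theorem prime_of_mem_ps {r : ℕ} (h : r ∈ ps) : r.Prime := by
  have key : ∀ r ∈ ps, r.Prime := by decide +kernel
  exact key r h

theorem le_of_mem_ps {r : ℕ} (h : r ∈ ps) : r ≤ 73 := by
  have key : ∀ r ∈ ps, r ≤ 73 := by decide +kernel
  exact key r h

/-- the largest prime divisor of `n ≤ 72` -/
def gpt : List ℕ := [0, 0, 2, 3, 2, 5, 3, 7, 2, 3, 5, 11, 3, 13, 7, 5, 2, 17, 3, 19, 5, 7, 11, 23, 3, 5, 13, 3, 7, 29,
  5, 31, 2, 11, 17, 7, 3, 37, 19, 13, 5, 41, 7, 43, 11, 5, 23, 47, 3, 7, 5, 17, 13, 53, 3, 11, 7, 19, 29, 59, 5, 61,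
  31, 7, 2, 13, 11, 67, 17, 23, 7, 71, 3]

/-- `φ(n)` for `n ≤ 72` -/
def pht : List ℕ := [0, 1, 1, 2, 2, 4, 2, 6, 4, 6, 4, 10, 4, 12, 6, 8, 8, 16, 6, 18, 8, 12, 10, 22, 8, 20, 12, 18, 12,
  28, 8, 30, 16, 20, 16, 24, 12, 36, 18, 24, 16, 40, 12, 42, 20, 24, 22, 46, 16, 42, 20, 32, 24, 52, 18, 40, 24, 36,
  28, 58, 16, 60, 30, 36, 32, 48, 20, 66, 32, 44, 24, 70, 24]

set_option maxRecDepth 100000 in
theorem pht_ok : ((List.range 73).all fun n => Nat.beq (pht.getD n 0) (Nat.totient n)) = true := by decide +kernel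

set_option maxRecDepth 100000 in
theorem gpt_ok : ((List.range 73).all fun n => Nat.blt n 2 || (decide (gpt.getD n 0 ∈ ps) &&
    Nat.beq (n % gpt.getD n 0) 0 && (List.range 73).all fun s => !(decide (s ∈ ps)) || !(Nat.beq (n % s) 0) ||
      Nat.ble s (gpt.getD n 0))) = true := by decide +kernel

set_option maxRecDepth 100000 in
theorem ps_ok : ∀ s < 73, s.Prime → s ∈ ps := by decide +kernel

theorem mem_ps {s : ℕ} (hs : s.Prime) (h : s ≤ 73) : s ∈ ps := by
  rcases Nat.lt_or_ge s 73 with h1 | h1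
  · exact ps_ok s h1 hs
  · have : s = 73 := by omega
    subst this
    decide

theorem pht_eq {n : ℕ} (hn : n ≤ 72) : pht.getD n 0 = n.totient := by
  have h := pht_ok
  rw [List.all_eq_true] at h
  exact Nat.eq_of_beq_eq_true (h n (List.mem_range.2 (by omega)))

theorem gpt_spec {n : ℕ} (h2 : 2 ≤ n) (hn : n ≤ 72) : (gpt.getD n 0).Prime ∧ gpt.getD n 0 ∣ n ∧
    ∀ s : ℕ, s.Prime → s ∣ n → s ≤ gpt.getD n 0 := by
  have h := gpt_ok
  rw [List.all_eq_true] at h
  have h3 := h n (List.mem_range.2 (by omega))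
  rw [Bool.or_eq_true, Nat.blt_eq, Bool.and_eq_true, Bool.and_eq_true] at h3
  rcases h3 with h3 | ⟨⟨h3, h4⟩, h5⟩
  · omega
  refine ⟨prime_of_mem_ps (of_decide_eq_true h3), Nat.dvd_of_mod_eq_zero (Nat.eq_of_beq_eq_true h4),
    fun s hs hd => ?_⟩
  have hsn := Nat.le_of_dvd (by omega) hd
  rw [List.all_eq_true] at h5
  have h6 := h5 s (List.mem_range.2 (by omega))
  rw [Bool.or_eq_true, Bool.or_eq_true, Bool.not_eq_true', Bool.not_eq_true'] at h6
  rcases h6 with (h6 | h6) | h6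
  · exact absurd (mem_ps hs (by omega)) (of_decide_eq_false h6)
  · have : Nat.beq (n % s) 0 = true := by
      rw [Nat.mod_eq_zero_of_dvd hd]
      rfl
    rw [this] at h6
    exact absurd h6 (by decide)
  · exact Nat.le_of_ble_eq_true h6

/-! ### factorizations -/

/-- the value of a factorization -/
def val (fac : List (ℕ × ℕ)) : ℕ := (fac.map fun x => x.1 ^ x.2).prod

theorem val_nil : val [] = 1 := rfl

theorem val_cons (r k : ℕ) (t : List (ℕ × ℕ)) : val ((r, k) :: t) = r ^ k * val t := by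
  unfold val
  rw [List.map_cons, List.prod_cons]

theorem val_ne_zero {fac : List (ℕ × ℕ)} (h : ∀ x ∈ fac, x.1.Prime) : val fac ≠ 0 := by
  induction fac with
  | nil => exact one_ne_zero
  | cons x t ih =>
    obtain ⟨r, k⟩ := x
    rw [val_cons]
    refine Nat.mul_ne_zero (pow_ne_zero _ (h (r, k) (List.mem_cons_self)).ne_zero) (ih fun y hy =>
      h y (List.mem_cons_of_mem _ hy))

/-- the divisors of a factored number -/
def divsL : List (ℕ × ℕ) → List ℕ
  | [] => [1]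
  | x :: t => (divsL t).flatMap fun y => (List.range (x.2 + 1)).map fun j => x.1 ^ j * y

theorem mem_divsL {fac : List (ℕ × ℕ)} (h : ∀ x ∈ fac, x.1.Prime) {D : ℕ} (hD : D ∣ val fac) : D ∈ divsL fac := by
  induction fac generalizing D with
  | nil =>
    rw [val_nil, Nat.dvd_one] at hD
    rw [hD]
    exact List.mem_singleton.2 rfl
  | cons x t ih =>
    obtain ⟨r, k⟩ := x
    rw [val_cons] at hD
    obtain ⟨d₁, d₂, h1, h2, rfl⟩ := (Nat.dvd_mul).1 hD
    obtain ⟨j, hj, rfl⟩ := (Nat.dvd_prime_pow (h (r, k) List.mem_cons_self)).1 h1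
    rw [divsL, List.mem_flatMap]
    refine ⟨d₂, ih (fun y hy => h y (List.mem_cons_of_mem _ hy)) h2, ?_⟩
    rw [List.mem_map]
    exact ⟨j, List.mem_range.2 (by change j < k + 1; omega), rfl⟩

theorem pow_dvd_mul_congr {s m X Y : ℕ} (hs : s.Prime) (hm : m ≠ 0) (hX : X ≠ 0) (hY : Y ≠ 0)
    (h : ∀ k, s ^ k ∣ X → s ^ k ∣ Y) {k : ℕ} (hk : s ^ k ∣ m * X) : s ^ k ∣ m * Y := by
  rw [hs.pow_dvd_iff_le_factorization (Nat.mul_ne_zero hm hX), Nat.factorization_mul hm hX] at hk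
  rw [hs.pow_dvd_iff_le_factorization (Nat.mul_ne_zero hm hY), Nat.factorization_mul hm hY]
  have h1 := h (X.factorization s) (Nat.ordProj_dvd _ _)
  rw [hs.pow_dvd_iff_le_factorization hY] at h1
  rw [Finsupp.add_apply] at hk ⊢
  omega

/-- the part of the primes `≡ 1 mod n` -/
theorem dvd_filter {fac : List (ℕ × ℕ)} (h : ∀ x ∈ fac, x.1.Prime) {n s : ℕ} (hs : s.Prime) (hsn : s % n = 1)
    {k : ℕ} (hk : s ^ k ∣ val fac) : s ^ k ∣ val (fac.filter fun x => Nat.beq (x.1 % n) 1) := by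
  induction fac generalizing k with
  | nil => exact hk
  | cons x t ih =>
    obtain ⟨r, j⟩ := x
    have hr := h (r, j) List.mem_cons_self
    have ht := fun y hy => h y (List.mem_cons_of_mem (r, j) hy)
    have h0 := val_ne_zero ht
    have h0' : val (t.filter fun x => Nat.beq (x.1 % n) 1) ≠ 0 :=
      val_ne_zero fun y hy => ht y (List.mem_of_mem_filter hy)
    rw [val_cons] at hk
    have h1 := pow_dvd_mul_congr hs (pow_ne_zero j hr.ne_zero) h0 h0' (fun k hk => ih ht hk) hk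
    by_cases hrn : r % n = 1
    · rw [List.filter_cons_of_pos (by rw [Nat.beq_eq]; exact hrn), val_cons]
      exact h1
    · rw [List.filter_cons_of_neg (by
        rw [Nat.beq_eq]
        exact hrn)]
      have hco : Nat.Coprime (s ^ k) (r ^ j) := by
        refine Nat.Coprime.pow _ _ ((Nat.coprime_primes hs hr).2 ?_)
        rintro rfl
        exact hrn hsn
      exact hco.dvd_of_dvd_mul_left h1

/-! ### the primitive part -/

/-- remove the common factors with `b` -/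
def rem : ℕ → ℕ → ℕ → ℕ
  | 0, x, _ => x
  | f + 1, x, b => bif Nat.beq (Nat.gcd x b) 1 then x else rem f (x / Nat.gcd x b) b

theorem rem_dvd (f x b : ℕ) : rem f x b ∣ x := by
  induction f generalizing x with
  | zero => exact dvd_rfl
  | succ f ih =>
    rw [rem]
    cases Nat.beq (x.gcd b) 1
    · exact (ih _).trans (Nat.div_dvd_of_dvd (Nat.gcd_dvd_left _ _))
    · exact dvd_rfl

/-- the product of `p ^ (n / l) - 1`, `l` prime, `l ∣ n` -/
def bb (n p : ℕ) : ℕ := (ps.map fun l => bif Nat.beq (n % l) 0 then p ^ (n / l) - 1 else 1).prod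

theorem dvd_bb {n p l : ℕ} (hl : l ∈ ps) (hln : l ∣ n) : p ^ (n / l) - 1 ∣ bb n p := by
  unfold bb
  have h1 : (bif Nat.beq (n % l) 0 then p ^ (n / l) - 1 else 1) = p ^ (n / l) - 1 := by
    rw [Nat.mod_eq_zero_of_dvd hln]
    rfl
  rw [← h1]
  exact List.dvd_prod (List.mem_map_of_mem hl)

/-- a prime divisor of `q ^ n - 1` prime to `bb n q` is primitive -/
theorem prim_of_bb {n q s : ℕ} (hq : 2 ≤ q) (hn : 1 ≤ n) (hn72 : n ≤ 72) (hs : s.Prime) (h1 : s ∣ q ^ n - 1)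
    (h2 : ¬ s ∣ bb n q) : Prim q n s := by
  have h3 : orderOf (q : ZMod s) ∣ n := by rwa [← dvd_pow_sub_one_iff (by omega)]
  refine prim_of_orderOf (by omega) hn hs ?_
  by_contra hne
  obtain ⟨t, ht⟩ := h3
  have ht1 : t ≠ 1 := by
    rintro rfl
    exact hne (by rw [ht, mul_one])
  obtain ⟨l, hl, hlt⟩ := Nat.exists_prime_and_dvd ht1
  have hln : l ∣ n := ht ▸ hlt.mul_left _
  have hl72 := Nat.le_of_dvd (by omega) hln
  apply h2
  refine dvd_trans ?_ (dvd_bb (mem_ps hl (by omega)) hln)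
  rw [dvd_pow_sub_one_iff (by omega)]
  obtain ⟨u, rfl⟩ := hlt
  refine ⟨u, ?_⟩
  rw [ht, show orderOf (q : ZMod s) * (l * u) = orderOf (q : ZMod s) * u * l by ring]
  exact Nat.mul_div_cancel _ hl.pos

/-- `killB A n q a = true`: some primitive prime `s ∤ a` with full part not dividing `A` -/
def killB (A n q a : ℕ) : Bool :=
  let b := bb n q * a
  let y := rem 40 (q ^ n - 1) b
  Nat.beq (Nat.gcd y b) 1 && !(Nat.beq (A % y) 0)

theorem kill {A n q a : ℕ} (hq : 2 ≤ q) (hn : 1 ≤ n) (hn72 : n ≤ 72) (h : killB A n q a = true)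
    (hh : ∀ r k : ℕ, Prim q n r → ¬ r ∣ a → r ^ k ∣ q ^ n - 1 → r ^ k ∣ A) : False := by
  unfold killB at h
  simp only [Bool.and_eq_true, Bool.not_eq_true'] at h
  obtain ⟨h1, h2⟩ := h
  have h1 := Nat.eq_of_beq_eq_true h1
  have h3 := rem_dvd 40 (q ^ n - 1) (bb n q * a)
  generalize rem 40 (q ^ n - 1) (bb n q * a) = y at h1 h2 h3
  have h4 : y ∣ A := by
    rw [Nat.dvd_iff_prime_pow_dvd_dvd]
    intro s k hs hk
    rcases Nat.eq_zero_or_pos k with rfl | hk0
    · rw [pow_zero]; exact one_dvd _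
    have h5 : s ∣ y := (dvd_pow_self s hk0.ne').trans hk
    have h6 : ¬ s ∣ bb n q * a := by
      intro h7
      have := Nat.dvd_gcd h5 h7
      rw [h1] at this
      exact hs.one_lt.ne' (Nat.dvd_one.1 this)
    refine hh s k (prim_of_bb hq hn hn72 hs (h5.trans h3) fun h7 => h6 (h7.mul_right _))
      (fun h7 => h6 (h7.mul_left _)) (hk.trans h3)
  rw [Nat.mod_eq_zero_of_dvd h4] at h2
  exact absurd h2 (by decide)

/-! ### the check -/

private def fn {α : Type} (x : ℕ) (f : ℕ → α) : α := Nat.rec (f 0) (fun n _ => f (Nat.succ n)) x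

private theorem fn_eq {α : Type} (x : ℕ) (f : ℕ → α) : fn x f = f x := by cases x <;> rfl

/-- integer root, bit by bit (not verified) -/
def rt (k D : ℕ) : ℕ :=
  Nat.rec (motive := fun _ => ℕ → ℕ) (fun x => x) (fun b ih x => fn (Nat.add x (Nat.shiftLeft 1 b)) fun y =>
    Bool.rec (ih x) (ih y) (Nat.ble (Nat.pow y k) D))
    (Nat.rec (motive := fun _ => ℕ → ℕ) (fun t => t) (fun _ ih t =>
      Bool.rec t (fn (Nat.succ t) ih) (Nat.ble (Nat.shiftLeft 1 (Nat.mul k t)) D)) 80 1) 0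

/-- the check for one `p` -/
def chkP (A n s D : ℕ) (L : List (ℕ × ℕ)) (p : ℕ) : Bool :=
  Nat.blt p 2 || (!(Nat.beq ((p ^ n - 1) % D) 0) || (Nat.beq p s || (killB A n p 1 || decide ((n, p) ∈ L) ||
    (ps.any fun l => Nat.blt l p && Nat.beq (p % l) 0))))

private def chkQ (A n s D : ℕ) (L : List (ℕ × ℕ)) (p : ℕ) : Bool :=
  Bool.rec true (chkP A n s D L p) (Nat.beq (Nat.mod (Nat.sub (Nat.pow p n) 1) D) 0)

private theorem chkQ_eq (A n s D : ℕ) (L : List (ℕ × ℕ)) (p : ℕ) : chkQ A n s D L p = chkP A n s D L p := by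
  show @Bool.rec (fun _ => Bool) true (chkP A n s D L p) (Nat.beq ((p ^ n - 1) % D) 0) = _
  cases e : Nat.beq ((p ^ n - 1) % D) 0
  · rw [chkP, e]
    exact (Bool.or_true _).symm
  · rfl

/-- the check for one divisor -/
def goodD (A n k s : ℕ) (L : List (ℕ × ℕ)) (D : ℕ) : Bool :=
  fn D fun D => fn (rt k D) fun x =>
  Nat.ble (Nat.pow x k) D && (Nat.blt D (Nat.pow (Nat.succ x) k) && (chkQ A n s D L (Nat.sub x 1) && (chkQ A n s D L x &&
    chkQ A n s D L (Nat.succ x))))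

theorem chkP_sound {A n s p : ℕ} {L : List (ℕ × ℕ)} (hn : 1 ≤ n) (hn72 : n ≤ 72) (hp : p.Prime) (hps : p ≠ s)
    (h : Hit A n p) (hc : chkP A n s (Ph n p) L p = true) : (n, p) ∈ L := by
  unfold chkP at hc
  simp only [Bool.or_eq_true, Bool.not_eq_true', Nat.blt_eq, Nat.beq_eq] at hc
  rcases hc with hc | hc | hc | (hc | hc) | hc
  · exact absurd hp.two_le (by omega)
  · rw [Nat.mod_eq_zero_of_dvd (Ph_dvd (by omega) hp.one_le)] at hc
    exact absurd hc (by decide)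
  · exact absurd hc hps
  · exact (kill hp.two_le hn hn72 hc fun r k h1 _ h3 => h r k h1 h3).elim
  · exact of_decide_eq_true hc
  · rw [List.any_eq_true] at hc
    obtain ⟨l, hl, hl2⟩ := hc
    rw [Bool.and_eq_true, Nat.blt_eq, Nat.beq_eq] at hl2
    exfalso
    have h1 := (Nat.prime_dvd_prime_iff_eq (prime_of_mem_ps hl) hp).1 (Nat.dvd_of_mod_eq_zero hl2.2)
    omega

theorem goodD_sound {A n s p : ℕ} {L : List (ℕ × ℕ)} (hn : 3 ≤ n) (hn72 : n ≤ 72) (hp : p.Prime) (hps : p ≠ s)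
    (h : Hit A n p) (hc : goodD A n n.totient s L (Ph n p) = true) : (n, p) ∈ L := by
  unfold goodD at hc
  simp only [fn_eq, chkQ_eq, Bool.and_eq_true, Nat.pow_eq, Nat.sub_eq, Nat.succ_eq_add_one] at hc
  generalize rt n.totient (Ph n p) = x at hc
  obtain ⟨h1, h2, h3, h4, h5⟩ := hc
  have h1 := Nat.le_of_ble_eq_true h1
  have h2 : Ph n p < (x + 1) ^ n.totient := by rwa [Nat.blt_eq] at h2
  have hk : n.totient ≠ 0 := (Nat.totient_pos.2 (by omega)).ne'
  have h6 : p - 1 < x + 1 := lt_of_pow_lt_pow_left₀ _ (Nat.zero_le _) ((Ph_lower hn hp.two_le).trans h2)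
  have h7 : x < p + 1 := lt_of_pow_lt_pow_left₀ _ (Nat.zero_le _) (h1.trans_lt (Ph_upper hn hp.two_le))
  have h8 := hp.two_le
  rcases (by omega : p = x - 1 ∨ p = x ∨ p = x + 1) with h9 | h9 | h9
  · rw [← h9] at h3
    exact chkP_sound (by omega) hn72 hp hps h h3
  · rw [← h9] at h4
    exact chkP_sound (by omega) hn72 hp hps h h4
  · rw [← h9] at h5
    exact chkP_sound (by omega) hn72 hp hps h h5

/-- the check for one `n` -/
def chkN (fac : List (ℕ × ℕ)) (s : ℕ) (L : List (ℕ × ℕ)) (n : ℕ) : Bool :=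
  Nat.blt n 3 || ((!(Nat.beq n 6) && (fac.all fun x => !(Nat.beq (x.1 % n) 1))) ||
    (divsL ((gpt.getD n 0, 1) :: fac.filter fun x => Nat.beq (x.1 % n) 1)).all
      (goodD (val fac) n (pht.getD n 0) s L))

/-- **The check.** -/
def hitsB (fac : List (ℕ × ℕ)) (s : ℕ) (L : List (ℕ × ℕ)) : Bool :=
  (fac.all fun x => decide (x.1 ∈ ps)) && (List.range 73).all (chkN fac s L)

theorem prime_dvd_val {fac : List (ℕ × ℕ)} (h : ∀ x ∈ fac, x.1.Prime) {r : ℕ} (hr : r.Prime) (hd : r ∣ val fac) :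
    ∃ x ∈ fac, x.1 = r := by
  induction fac with
  | nil =>
    rw [val_nil] at hd
    exact absurd (Nat.dvd_one.1 hd) hr.one_lt.ne'
  | cons x t ih =>
    obtain ⟨u, k⟩ := x
    rw [val_cons] at hd
    rcases hr.dvd_mul.1 hd with h1 | h1
    · exact ⟨(u, k), List.mem_cons_self, ((Nat.prime_dvd_prime_iff_eq hr (h _ List.mem_cons_self)).1
        (hr.dvd_of_dvd_pow h1)).symm⟩
    · obtain ⟨y, hy, h2⟩ := ih (fun y hy => h y (List.mem_cons_of_mem _ hy)) h1
      exact ⟨y, List.mem_cons_of_mem _ hy, h2⟩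

theorem prim_mod {q e r : ℕ} (h : Prim q e r) (he : 2 ≤ e) : r % e = 1 ∧ e < r := by
  have hc : Nat.Coprime q r := ((Nat.Prime.coprime_iff_not_dvd h.prime).2 h.not_dvd).symm
  have h2 := Nat.ModEq.pow_totient hc
  rw [Nat.totient_prime h.prime] at h2
  have hq : 1 ≤ q := by
    rcases Nat.eq_zero_or_pos q with rfl | h
    · exact absurd (dvd_zero r) h.not_dvd
    · exact h
  obtain ⟨t, ht⟩ := (h.dvd_iff _).1 ((Nat.modEq_iff_dvd' (Nat.one_le_pow _ _ hq)).1 h2.symm)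
  have h3 := h.prime.two_le
  have h4 : r = e * t + 1 := by omega
  have h5 : 1 ≤ t := by
    rcases Nat.eq_zero_or_pos t with rfl | h
    · omega
    · exact h
  constructor
  · rw [h4, Nat.mul_add_mod, Nat.mod_eq_of_lt (by omega)]
  · have := Nat.mul_le_mul_left e h5
    omega

/-- **Completeness of the list of hits.** -/
theorem hits_complete {fac : List (ℕ × ℕ)} {s : ℕ} {L : List (ℕ × ℕ)} (hc : hitsB fac s L = true) {n p : ℕ}
    (hn : 3 ≤ n) (hp : p.Prime) (hps : p ≠ s) (h : Hit (val fac) n p) : (n, p) ∈ L := by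
  unfold hitsB at hc
  rw [Bool.and_eq_true, List.all_eq_true, List.all_eq_true] at hc
  obtain ⟨h1, h2⟩ := hc
  have hfp : ∀ x ∈ fac, x.1.Prime := fun x hx => prime_of_mem_ps (of_decide_eq_true (h1 x hx))
  have hf73 : ∀ x ∈ fac, x.1 ≤ 73 := fun x hx => le_of_mem_ps (of_decide_eq_true (h1 x hx))
  have hA := val_ne_zero hfp
  -- `n ≤ 72`
  have hex : ¬ (p = 2 ∧ n = 6) → ∃ x ∈ fac, Prim p n x.1 := by
    intro h6
    obtain ⟨r, hr⟩ := exists_prim hp.two_le hn h6
    have h3 := h r 1 hr (by rw [pow_one]; exact hr.dvd dvd_rfl)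
    rw [pow_one] at h3
    obtain ⟨x, hx, rfl⟩ := prime_dvd_val hfp hr.prime h3
    exact ⟨x, hx, hr⟩
  have hn72 : n ≤ 72 := by
    by_contra hcon
    push Not at hcon
    obtain ⟨x, hx, hr⟩ := hex (by omega)
    have := (prim_mod hr (by omega)).2
    have := hf73 x hx
    omega
  have h3 := h2 n (List.mem_range.2 (by omega))
  unfold chkN at h3
  rw [Bool.or_eq_true, Bool.or_eq_true, Bool.and_eq_true, Nat.blt_eq] at h3
  rcases h3 with h3 | ⟨h3, h4⟩ | h3
  · omega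
  · exfalso
    obtain ⟨x, hx, hr⟩ := hex (by
      rintro ⟨-, rfl⟩
      exact absurd h3 (by decide))
    rw [List.all_eq_true] at h4
    have h5 := h4 x hx
    rw [(prim_mod hr (by omega)).1] at h5
    exact absurd h5 (by decide)
  · rw [List.all_eq_true, pht_eq hn72] at h3
    obtain ⟨hP, hPn, hmax⟩ := gpt_spec (n := n) (by omega) hn72
    refine goodD_sound hn hn72 hp hps h (h3 _ (mem_divsL ?_ ?_))
    · intro x hx
      rcases List.mem_cons.1 hx with rfl | hx
      · exact hP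
      · exact hfp x (List.mem_of_mem_filter hx)
    · rw [val_cons, pow_one, mul_comm]
      refine Ph_dvd_of_hit hp.two_le hn (val_ne_zero fun x hx => hfp x (List.mem_of_mem_filter hx)) ?_ hP hPn hmax
      intro r k hr hk
      exact dvd_filter hfp hr.prime (prim_mod hr (by omega)).1 (h r k hr hk)

end Cfsg.Agent.H884.Ig
end

-- part: H884/IgCyc
section
/-!
# Cyclic primes of the named classical groups (helper884, for S3561 and S3679)

* `InE g e` : the exponents `e` such that the primes `r` with `ord_r(q) = e` have cyclic Sylow subgroups (all of them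
  for `PSL`, only `e = 2 f`, `f` odd, for `PSU`, only even `e` for `PSp`);
* `cycW_named` : these primes satisfy `CycW`;
* `cyc_named`  : and `Cyc` if they do not divide the field exponent;
* `pow_dvd_named` : their full part in `q ^ e - 1` divides `|T|`.
-/

set_option autoImplicit false

namespace Cfsg.Agent.H884.Ig

open Cfsg Cfsg.Geo Cfsg.Agent.OrdDiv Cfsg.Agent.H436 Cfsg.Agent.H915.GN Cfsg.Agent.H264.FKS Module
open Cfsg.Agent.H899.CG Cfsg.Agent.H884.El Cfsg.Agent.H884.Cg Cfsg.Agent.LieClassical Cfsg.Agent.H955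
open Cfsg.Agent.LieClassical.OmegaReindex Cfsg.Agent.H278.El.Num QuadraticMap Cfsg.Agent.LieClassical.OrthCore
open Cfsg.Agent.H278.El.SporNum (IsCl)
open Cfsg.Agent.H951 (fx cm Inv)
open scoped MatrixGroups

universe u

/-- the exponents with cyclic Sylow subgroups -/
def InE : Grp → ℕ → Prop
  | .psl n _, e => 3 ≤ e ∧ e ≤ n ∧ n < 2 * e
  | .psp m _, e => e % 2 = 0 ∧ 4 ≤ e ∧ e ≤ 2 * m ∧ m < e
  | .psu n _, e => e % 4 = 2 ∧ 6 ≤ e ∧ e ≤ 2 * n ∧ n < e
  | .oodd m _, e => (e % 2 = 0 ∧ 4 ≤ e ∧ e ≤ 2 * m ∧ 2 * m + 1 < 2 * e) ∨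
      (e % 2 = 1 ∧ 3 ≤ e ∧ e ≤ m ∧ 2 * m + 1 < 4 * e)
  | .oplus m _, e => (e % 2 = 0 ∧ 4 ≤ e ∧ e ≤ 2 * m - 2 ∧ m < e) ∨ (e % 2 = 1 ∧ 3 ≤ e ∧ e ≤ m ∧ m < 2 * e)
  | .ominus m _, e => (e % 2 = 0 ∧ 4 ≤ e ∧ e ≤ 2 * m ∧ m < e) ∨ (e % 2 = 1 ∧ 3 ≤ e ∧ e < m ∧ m < 2 * e)
  | _, _ => False

theorem InE.three {g : Grp} {e : ℕ} (h : InE g e) : 3 ≤ e := by
  cases g <;> simp only [InE] at h <;> (clear * - h; omega)

/-! ### the full part divides the order -/

theorem pow_dvd_c {u k X d c : ℕ} (hu : u.Prime) (hd : ¬ u ∣ d) (h : d * c = X) (hX : u ^ k ∣ X) : u ^ k ∣ c := by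
  rw [← h] at hX
  exact (Nat.Coprime.pow_left k ((Nat.Prime.coprime_iff_not_dvd hu).2 hd)).dvd_of_dvd_mul_left hX

theorem not_dvd_sq {q e u : ℕ} (h : Prim q e u) (he : 3 ≤ e) : ¬ u ∣ q ^ 2 - 1 := by
  intro h1
  have := Nat.le_of_dvd (by norm_num) ((h.dvd_iff 2).1 h1)
  omega

theorem five_le' {q e u : ℕ} (h : Prim q e u) (he : 3 ≤ e) : 5 ≤ u := by
  have h1 := (prim_mod h (by omega)).2
  by_contra h2
  have h4 : u = 4 := by omega
  have := h.prime
  rw [h4] at this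
  exact absurd this (by norm_num)

theorem not_dvd_le {u k j : ℕ} (h5 : 5 ≤ u) (hk : 1 ≤ k) (hk4 : k ≤ 4) : ¬ u ∣ Nat.gcd k j := by
  intro h
  have := Nat.le_of_dvd (by omega) (h.trans (Nat.gcd_dvd_left _ _))
  omega

theorem pow_prB {q e u m k : ℕ} (_h : Prim q e u) (he : 3 ≤ e) (_hm : 1 ≤ m) (h1 : e ≤ 2 * m)
    (h2 : e % 2 = 1 → e ≤ m) (hk : u ^ k ∣ q ^ e - 1) : u ^ k ∣ prB q m := by
  rcases Nat.even_or_odd' e with ⟨j, hj | hj⟩
  · have h3 := prB_dvd (q := q) (m := m) (i := j - 1) (by omega)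
    rw [Nat.sub_add_cancel (by omega), ← hj] at h3
    exact hk.trans h3
  · have h3 := prB_dvd (q := q) (m := m) (i := e - 1) (by omega)
    rw [Nat.sub_add_cancel (by omega)] at h3
    refine (hk.trans ?_).trans h3
    rw [show q ^ (2 * e) - 1 = (q ^ e + 1) * (q ^ e - 1) by
      rw [mul_comm 2 e, pow_mul]
      have := Nat.sq_sub_sq (q ^ e) 1
      rwa [one_pow] at this]
    exact Dvd.intro_left _ rfl

/-- **The full part divides the order.** -/
theorem pow_dvd_named {g : Grp} {c e r k : ℕ} (hg : Cond g) (hc : den g * c = num g) (he : InE g e)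
    (hr : Prim (Cx.fq g) e r) (hk : r ^ k ∣ Cx.fq g ^ e - 1) : r ^ k ∣ c := by
  have he3 := he.three
  have hp := hr.prime
  have h5 := five_le' hr he3
  have h2 := not_dvd_sq hr he3
  cases g with
  | psl n q =>
    obtain ⟨h3, h4, h6⟩ := he
    obtain ⟨h7, -⟩ := not_dvd_of_sq h2
    have h1 : Nat.gcd n (q - 1) * (q - 1) * c = glN n q := hc
    refine pow_dvd_c hp (fun h8 => ?_) h1 ?_
    · rcases hp.dvd_mul.1 h8 with h9 | h9
      · exact h7 (h9.trans (Nat.gcd_dvd_right _ _))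
      · exact h7 h9
    · have h8 := dvd_list (fun i => q ^ n - q ^ i) (n := n) (i := n - e) (by omega)
      refine Dvd.dvd.trans ?_ h8
      rw [pow_sub_pow q (show n = (n - e) + e by omega)]
      exact hk.mul_left _
  | psp m q =>
    obtain ⟨h3, h4, h6, h7⟩ := he
    have h1 : Nat.gcd 2 (q - 1) * c = q ^ (m ^ 2) * prB q m := hc
    exact pow_dvd_c hp (not_dvd_le h5 (by norm_num) (by norm_num)) h1
      ((pow_prB hr he3 (by omega) h6 (by omega) hk).mul_left _)
  | psu n q =>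
    obtain ⟨h3, h4, h6, h7⟩ := he
    obtain ⟨-, h8⟩ := not_dvd_of_sq h2
    have h1 : Nat.gcd n (q + 1) * (q + 1) * c = q ^ (n * (n - 1) / 2) * prU q n := hc
    refine pow_dvd_c hp (fun h8' => ?_) h1 (Dvd.dvd.mul_left ?_ _)
    · rcases hp.dvd_mul.1 h8' with h9 | h9
      · exact h8 (h9.trans (Nat.gcd_dvd_right _ _))
      · exact h8 h9
    · obtain ⟨j, hj⟩ : ∃ j, e = 2 * j := ⟨e / 2, by omega⟩
      have h9 := dvd_list (fU q) (n := n) (i := j - 1) (by omega)
      refine Dvd.dvd.trans ?_ h9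
      have h10 : fU q (j - 1) = q ^ j + 1 := by
        unfold fU
        rw [Nat.sub_add_cancel (by omega : 1 ≤ j)]
        have h11 : (j - 1) % 2 = 0 := by omega
        rw [h11]; rfl
      rw [h10]
      have h11 : q ^ e - 1 = (q ^ j + 1) * (q ^ j - 1) := by
        rw [hj, mul_comm 2 j, pow_mul]
        have := Nat.sq_sub_sq (q ^ j) 1
        rwa [one_pow] at this
      have h12 : ¬ r ∣ q ^ j - 1 := by
        intro h
        have := Nat.le_of_dvd (by omega) ((hr.dvd_iff j).1 h)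
        omega
      have hk' : r ^ k ∣ q ^ e - 1 := hk
      rw [h11] at hk'
      exact (Nat.Coprime.pow_left k ((Nat.Prime.coprime_iff_not_dvd hp).2 h12)).dvd_of_dvd_mul_right hk'
  | oodd m q =>
    have h1 : 2 * c = q ^ (m ^ 2) * prB q m := hc
    have h3 : 3 ≤ m := hg.1
    simp only [InE] at he
    refine pow_dvd_c hp (fun h => ?_) h1 ((pow_prB hr he3 (by omega) (by omega) (by omega) hk).mul_left _)
    have := Nat.le_of_dvd (by norm_num) h
    omega
  | oplus m q =>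
    have h1 : Nat.gcd 4 (q ^ m - 1) * c = q ^ (m * (m - 1)) * ((q ^ m - 1) * prB q (m - 1)) := hc
    have h3 : 4 ≤ m := hg.1
    simp only [InE] at he
    refine pow_dvd_c hp (not_dvd_le h5 (by norm_num) (by norm_num)) h1 (Dvd.dvd.mul_left ?_ _)
    by_cases h4 : e = m ∧ e % 2 = 1
    · rw [← h4.1]
      exact hk.mul_right _
    · exact (pow_prB (m := m - 1) hr he3 (by omega) (by (clear * - he; omega)) (by omega) hk).mul_left _
  | ominus m q =>
    have h1 : Nat.gcd 4 (q ^ m + 1) * c = q ^ (m * (m - 1)) * ((q ^ m + 1) * prB q (m - 1)) := hc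
    have h3 : 4 ≤ m := hg.1
    simp only [InE] at he
    refine pow_dvd_c hp (not_dvd_le h5 (by norm_num) (by norm_num)) h1 (Dvd.dvd.mul_left ?_ _)
    by_cases h4 : e = 2 * m
    · have h11 : q ^ e - 1 = (q ^ m + 1) * (q ^ m - 1) := by
        rw [h4, mul_comm 2 m, pow_mul]
        have := Nat.sq_sub_sq (q ^ m) 1
        rwa [one_pow] at this
      have h12 : ¬ r ∣ q ^ m - 1 := by
        intro h
        have := Nat.le_of_dvd (by omega) ((hr.dvd_iff m).1 h)
        omega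
      have hk' : r ^ k ∣ q ^ e - 1 := hk
      rw [h11] at hk'
      exact ((Nat.Coprime.pow_left k ((Nat.Prime.coprime_iff_not_dvd hp).2 h12)).dvd_of_dvd_mul_right hk').mul_right _
    · exact (pow_prB (m := m - 1) hr he3 (by omega) (by omega) (by omega) hk).mul_left _
  | _ => exact he.elim

/-! ### cyclicity -/

theorem pp_of_prim {q e r : ℕ} (hq : 1 ≤ q) (h : Prim q e r) : PP q e r := by
  refine ⟨h.prime, Nat.dvd_antisymm ?_ ?_⟩
  · rw [← Lib.Zsigmondy.dvd_pow_sub_one_iff hq]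
    exact h.dvd dvd_rfl
  · rw [← h.dvd_iff, Lib.Zsigmondy.dvd_pow_sub_one_iff hq]

section lin

variable {G : Type*} [Group G] [Finite G] {ι : Type*} [Fintype ι] [DecidableEq ι] {F : Type*} [Field F] [Fintype F]

omit [Finite G] in
/-- one block -/
theorem cycW_lin {T : Type*} [Group T] {e r : ℕ} (π : G →* T) (hπ : Function.Surjective π)
    (hK : π.ker ≤ Subgroup.center G) (hrK : ¬ r ∣ Nat.card π.ker) (hrT : r ∣ Nat.card T) (ρ : G →* GL ι F)
    (hρ : Function.Injective ρ) (hr : PP (Nat.card F) e r) (he : 2 ≤ e) (hn : Fintype.card ι < 2 * e) :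
    CycW T r := by
  have hlt := hr.lt (by omega)
  have hrp := Fact.mk hr.prime
  have hne : (r : F) ≠ 0 := hr.ne0 (by omega)
  let R : G →* Module.End F (ι → F) :=
    ((Matrix.toLinAlgEquiv' : Matrix ι ι F ≃ₐ[F] _).toAlgHom.toRingHom.toMonoidHom.comp
      (Units.coeHom (Matrix ι ι F))).comp ρ
  have hR : Function.Injective R := by
    intro x y h
    apply hρ
    apply Units.ext
    exact (Matrix.toLinAlgEquiv' : Matrix ι ι F ≃ₐ[F] _).injective h
  have hU : ∀ x : G, x ^ r = 1 → ∀ U : Submodule F (ι → F), _root_.Cfsg.Agent.H951.Inv (R x) U → U ⊓ fx (R x) = ⊥ → e ∣ finrank F U := by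
    intro x hx U hU hUf
    have hxr : R x ^ r = 1 := by rw [← map_pow, hx, map_one]
    have h1 := H951.ord_dvd_finrank hxr hU hUf
    rwa [ord_eq hr] at h1
  refine cycW_of (d := e) (e := e) π hπ hK hr.prime (by omega) hne hrK hrT R hR (by omega) (by omega) ?_ ?_
  · intro x hx hx1
    have hxr : R x ^ r = 1 := by rw [← map_pow, hx, map_one]
    have h1 := hU x hx (cm (R x)) H951.inv_cm (by
      rw [inf_comm]
      exact (H951.isCompl_fx_cm hne hxr).inf_eq_bot)
    have h2 : finrank F (cm (R x)) ≠ 0 := by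
      intro h
      apply hx1
      apply hR
      rw [map_one]
      exact sub_eq_zero.1 (LinearMap.range_eq_bot.1 (Submodule.finrank_eq_zero.1 h))
    have h3 : finrank F (cm (R x)) ≤ Fintype.card ι := by
      rw [← Module.finrank_fintype_fun_eq_card F (η := ι)]
      exact Submodule.finrank_le _
    obtain ⟨t, ht⟩ := h1
    have h4 : t ≠ 0 := by rintro rfl; omega
    have h5 : t < 2 := by
      by_contra h
      push Not at h
      have := Nat.mul_le_mul_left e h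
      omega
    have h6 : t = 1 := by omega
    rw [ht, h6, mul_one]
  · intro x hx U h1 h2 h3
    exact Nat.le_of_dvd (Nat.pos_of_ne_zero fun h => h3 (Submodule.finrank_eq_zero.1 h)) (hU x hx U h1 h2)

end lin

section orth

variable {ι : Type} [Fintype ι] [DecidableEq ι] {F : Type u} [Field F] [Fintype F] {Q : QuadraticForm F (ι → F)}

theorem cycW_orth' (hD : H390.Lift.Data Q) {e r : ℕ} (hr : PP (Nat.card F) e r) (he : 2 ≤ e) {d : ℕ} (hde : d ≤ 2 * e)
    (hd : ∀ g ∈ isometryGroup F (⇑Q), g ^ r = 1 → g ≠ 1 → finrank F (cm (lin g)) = d)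
    (hg : r ∣ Nat.card (POmega F (⇑Q))) : CycW (POmega F (⇑Q)) r := by
  have hlt := hr.lt (by omega)
  have hrp := Fact.mk hr.prime
  have hr2 : r ≠ 2 := by omega
  have hne := hr.ne0 (F := F) (by omega)
  refine cycW_of (QuotientGroup.mk' (Subgroup.center (Omega F (⇑Q)))) (QuotientGroup.mk'_surjective _) ?_ hr.prime
    (by omega) hne ?_ hg (rep (⇑Q)) (rep_injective _) (show 0 < e by omega) hde
    ?_ ?_
  · rw [QuotientGroup.ker_mk']
  · rw [QuotientGroup.ker_mk']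
    intro h
    obtain ⟨z, hz⟩ := exists_prime_orderOf_dvd_card' r h
    have h1 := H390.Lift.center_sq hD z z.2
    have h2 : z ^ 2 = 1 := Subtype.ext h1
    have h3 := orderOf_dvd_of_pow_eq_one h2
    rw [hz] at h3
    exact hr2 ((Nat.prime_dvd_prime_iff_eq hr.prime Nat.prime_two).1 h3)
  · intro x hx hx1
    refine hd _ x.1.2 ?_ ?_
    · exact congrArg (fun y : Omega F (⇑Q) => ((y : isometryGroup F (⇑Q)) : GL ι F)) hx
    · intro h
      exact hx1 (Subtype.ext (Subtype.ext h))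
  · intro x hx U hU hUf hU0
    have hxr : rep (⇑Q) x ^ r = 1 := by rw [← map_pow, hx, map_one]
    have h1 := H951.ord_dvd_finrank hxr hU hUf
    rw [ord_eq hr] at h1
    exact Nat.le_of_dvd (Nat.pos_of_ne_zero fun h => hU0 (Submodule.finrank_eq_zero.1 h)) h1

theorem cycW_orth_of (hD : H390.Lift.Data Q) (hQ : Nondeg Q) {e r : ℕ} (hr : PP (Nat.card F) e r) (he3 : 3 ≤ e)
    (h : (e % 2 = 0 ∧ Fintype.card ι < 2 * e) ∨ (e % 2 = 1 ∧ Fintype.card ι < 4 * e))
    (hg : r ∣ Nat.card (POmega F (⇑Q))) : CycW (POmega F (⇑Q)) r := by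
  rcases h with ⟨he, hn⟩ | ⟨he, hn⟩
  · refine cycW_orth' hD hr (by omega) (d := e) (by omega) (fun g hg hgr hg1 => ?_) hg
    have hx : lin g ^ r = 1 := by rw [← H251.GeoCard.toLin_pow, hgr]; exact lin_one
    exact ((Iso.mk' hr (by omega) hx (lin_iso le_rfl hg)).even_case hQ (lin_ne_one hg1) hr (Nat.even_iff.2 he)
      (by rw [finrank_V]; exact hn)).1
  · refine cycW_orth' hD hr (by omega) (d := 2 * e) le_rfl (fun g hg hgr hg1 => ?_) hg
    have hx : lin g ^ r = 1 := by rw [← H251.GeoCard.toLin_pow, hgr]; exact lin_one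
    exact ((Iso.mk' hr (by omega) hx (lin_iso le_rfl hg)).odd_case hQ (lin_ne_one hg1) hr (Nat.odd_iff.2 he)
      (by rw [finrank_V]; exact hn)).1

end orth

section named

variable {T : Type} [Group T] [Finite T]

theorem center_sl_pow {n : ℕ} {F : Type} [Field F] {z : SL(n, F)} (hz : z ∈ Subgroup.center SL(n, F))
    {r : ℕ} (hzr : z ^ r = 1) [Fintype F] (hr : r.Prime) (h : ¬ r ∣ Fintype.card F - 1) (hn : 1 ≤ n) : z = 1 := by
  obtain ⟨a, ha, hz2⟩ := Matrix.SpecialLinearGroup.mem_center_iff.1 hz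
  have hne : Nonempty (Fin n) := ⟨⟨0, by omega⟩⟩
  have h1 : a ^ r = 1 := by
    have h2 : (Matrix.scalar (Fin n) a) ^ r = 1 := by
      rw [hz2, ← Matrix.SpecialLinearGroup.coe_pow, hzr, Matrix.SpecialLinearGroup.coe_one]
    rw [← map_pow, ← map_one (Matrix.scalar (Fin n))] at h2
    exact Matrix.scalar_inj.1 h2
  have ha0 : a ≠ 0 := by
    rintro rfl
    rw [zero_pow hr.ne_zero] at h1
    exact zero_ne_one h1
  have h3 : a = 1 := by
    have h4 : orderOf a ∣ r := orderOf_dvd_of_pow_eq_one h1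
    rcases (Nat.dvd_prime hr).1 h4 with h5 | h5
    · exact orderOf_eq_one_iff.1 h5
    · exfalso
      apply h
      rw [← h5]
      exact orderOf_dvd_of_pow_eq_one (FiniteField.pow_card_sub_one_eq_one a ha0)
  apply Subtype.ext
  rw [← hz2, h3, map_one]
  rfl

/-- `Sp → GL` -/
def spHom (m : ℕ) (F : Type) [Field F] : Matrix.symplecticGroup (Fin m) F →* GL (Fin m ⊕ Fin m) F :=
  MonoidHom.toHomUnits (Matrix.symplecticGroup (Fin m) F).subtype

/-- **`CycW`.** -/
theorem cycW_named {g : Grp} (hT : IsNamed g T) {e r : ℕ} (he : InE g e) (hr : Prim (Cx.fq g) e r) : CycW T r := by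
  have he3 := he.three
  have hlt := (prim_mod hr (by omega)).2
  have h5 := five_le' hr he3
  have hrT : r ∣ Nat.card T := by
    have := pow_dvd_named (k := 1) hT.cond hT.eq he hr (by rw [pow_one]; exact hr.dvd dvd_rfl)
    rwa [pow_one] at this
  obtain ⟨hreal, hcond, -, -⟩ := hT
  cases g with
  | psl n q =>
    obtain ⟨F, _, _, hF, ⟨f⟩⟩ := hreal
    have hr' : Prim q e r := hr
    have hpp : PP (Nat.card F) e r := by
      rw [Nat.card_eq_fintype_card, hF]
      exact pp_of_prim (hcond.2.2.pos) hr'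
    have hrS : r ∣ Nat.card (Matrix.ProjectiveSpecialLinearGroup (Fin n) F) := by rwa [← Nat.card_congr f.toEquiv]
    refine CycW.congr f.symm (cycW_lin (QuotientGroup.mk' (Subgroup.center SL(n, F))) (QuotientGroup.mk'_surjective _)
      (by rw [QuotientGroup.ker_mk']) ?_ hrS Matrix.SpecialLinearGroup.toGL ?_ hpp (by omega)
      (by rw [Fintype.card_fin]; exact he.2.2))
    · rw [QuotientGroup.ker_mk']
      intro h
      have := Fact.mk hr.prime
      obtain ⟨z, hz⟩ := exists_prime_orderOf_dvd_card' r h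
      have h1 : (z : SL(n, F)) ^ r = 1 := by
        rw [← hz, ← Subgroup.coe_pow, pow_orderOf_eq_one, Subgroup.coe_one]
      have h2 := center_sl_pow z.2 h1 hr.prime (by
        rw [hF]
        intro h3
        have h4 : r ∣ q ^ 1 - 1 := by rwa [pow_one]
        have := Nat.le_of_dvd one_pos ((hr'.dvd_iff 1).1 h4)
        omega) (by have := he.2.1; omega)
      have h3 : z = 1 := Subtype.ext h2
      rw [h3, orderOf_one] at hz
      exact hr.prime.one_lt.ne hz
    · intro a b h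
      exact Subtype.ext (congrArg (fun x : GL (Fin n) F => (x : Matrix (Fin n) (Fin n) F)) h)
  | psp m q =>
    obtain ⟨F, _, _, hF, ⟨f⟩⟩ := hreal
    have hr' : Prim q e r := hr
    have hpp : PP (Nat.card F) e r := by
      rw [Nat.card_eq_fintype_card, hF]
      exact pp_of_prim (hcond.2.2.pos) hr'
    have hrS : r ∣ Nat.card (PSp m F) := by rwa [← Nat.card_congr f.toEquiv]
    refine CycW.congr f.symm (cycW_lin (QuotientGroup.mk' (Subgroup.center (Matrix.symplecticGroup (Fin m) F)))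
      (QuotientGroup.mk'_surjective _) (by rw [QuotientGroup.ker_mk']) ?_ hrS (spHom m F) ?_ hpp (by omega)
      (by rw [Fintype.card_sum, Fintype.card_fin]; have := he.2.2.2; omega))
    · rw [QuotientGroup.ker_mk', S0246.result (q := Fintype.card F) rfl m (by have := hcond.1; omega)]
      exact not_dvd_le h5 (by norm_num) (by norm_num)
    · intro a b h
      have h1 : ((spHom m F a : GL (Fin m ⊕ Fin m) F) : Matrix (Fin m ⊕ Fin m) (Fin m ⊕ Fin m) F) =
          ((spHom m F b : GL (Fin m ⊕ Fin m) F) : Matrix (Fin m ⊕ Fin m) (Fin m ⊕ Fin m) F) := by rw [h]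
      exact Subtype.ext h1
  | psu n q =>
    obtain ⟨F, _, _, hF, ⟨f⟩⟩ := hreal
    have hr' : Prim q e r := hr
    obtain ⟨h3, h4, h6, h7⟩ := he
    have hq := hcond.2.2.pos
    obtain ⟨j, hj⟩ : ∃ j, e = 2 * j := ⟨e / 2, by omega⟩
    have hpr : Prim (q ^ 2) j r := by
      refine ⟨hr'.prime, fun m => ?_, fun h => hr'.not_dvd (hr'.prime.dvd_of_dvd_pow h)⟩
      rw [← pow_mul, hr'.dvd_iff, hj]
      exact Nat.mul_dvd_mul_iff_left (by norm_num)
    have hpp : PP (Nat.card F) j r := by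
      rw [Nat.card_eq_fintype_card, hF]
      exact pp_of_prim (Nat.one_le_pow _ _ hq) hpr
    have hrS : r ∣ Nat.card (PSU n F q) := by rwa [← Nat.card_congr f.toEquiv]
    refine CycW.congr f.symm (cycW_lin (QuotientGroup.mk' (Subgroup.center (SU n F q)))
      (QuotientGroup.mk'_surjective _) (by rw [QuotientGroup.ker_mk']) ?_ hrS (H918.suHom n F q)
      H918.suHom_injective hpp (by omega) (by rw [Fintype.card_fin]; omega))
    rw [QuotientGroup.ker_mk', S0279.result hF n hcond.1]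
    intro h
    have h8 : r ∣ q + 1 := h.trans (Nat.gcd_dvd_right _ _)
    exact (not_dvd_of_sq (not_dvd_sq hr' he3)).2 h8
  | oodd m q =>
    obtain ⟨F, _, _, hF, ⟨f⟩⟩ := hreal
    have hpp : PP (Nat.card F) e r := by
      rw [Nat.card_eq_fintype_card, hF]
      exact pp_of_prim (hcond.2.2.pos) hr
    have hrS : r ∣ Nat.card (POmega F (quadFormOdd m F)) := by rwa [← Nat.card_congr f.toEquiv]
    have hodd : Odd (Fintype.card F) := by rw [hF]; exact hcond.2.1
    have h2 := H390.two_ne_zero_of_odd hodd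
    refine CycW.congr f.symm ?_
    have key := cycW_orth_of (Q := quadOdd m F) (data_odd hcond.1 h2)
      (nondeg_iff.2 (quadOdd_nondegenerate h2 (F := F) (m := m))) hpp he3 (by
        rw [card_odd]
        simp only [InE] at he
        omega)
    rw [coe_quadOdd] at key
    exact key hrS
  | oplus m q =>
    obtain ⟨F, _, _, hF, ⟨f⟩⟩ := hreal
    have hpp : PP (Nat.card F) e r := by
      rw [Nat.card_eq_fintype_card, hF]
      exact pp_of_prim (hcond.2.pos) hr
    have hrS : r ∣ Nat.card (POmega F (quadFormPlus m F)) := by rwa [← Nat.card_congr f.toEquiv]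
    refine CycW.congr f.symm ?_
    have key := cycW_orth_of (Q := quadPlus m F) (data_plus (F := F) hcond.1)
      (nondeg_iff.2 (quadPlus_nondegenerate (F := F) (m := m))) hpp he3 (by
        rw [card_plus]
        simp only [InE] at he
        omega)
    rw [coe_quadPlus] at key
    exact key hrS
  | ominus m q =>
    obtain ⟨F, _, _, a, b, hF, hab, ⟨f⟩⟩ := hreal
    have hm : 4 ≤ m := hcond.1
    have hpp : PP (Nat.card F) e r := by
      rw [Nat.card_eq_fintype_card, hF]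
      exact pp_of_prim (hcond.2.pos) hr
    have hrS : r ∣ Nat.card (POmega F (quadFormMinus (m - 1) F a b)) := by rwa [← Nat.card_congr f.toEquiv]
    refine CycW.congr f.symm ?_
    have key := cycW_orth_of (Q := quadMinus (m - 1) F a b) (data_minus hm hab)
      (nondeg_iff.2 (quadMinus_nondegenerate (m := m - 1) hab)) hpp he3 (by
        rw [card_minus (by omega)]
        simp only [InE] at he
        omega)
    rw [coe_quadMinus] at key
    exact key hrS
  | _ => exact he.elim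

/-- **`Cyc`.** -/
theorem cyc_named [IsSimpleGroup T] (hna : ¬ ∀ a b : T, a * b = b * a) {g : Grp} {p : ℕ} (hp : p.Prime)
    (hT : IsNamed g T) (hch : HasChar p g) {e r : ℕ} (he : InE g e) (hr : Prim (Cx.fq g) e r)
    (hnd : NDF (Cx.fq g) r) : Cyc T r := by
  have he3 := he.three
  have h2 := not_dvd_sq hr he3
  have hfld : fld g = Cx.fq g := by
    cases g <;> first | rfl | exact he.elim
  refine cyc_of_weak hna hp hT hch (five_le' hr he3) (by rw [hfld]; exact hnd) ?_ (cycW_named hT he hr)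
  cases g with
  | psl n q => exact (not_dvd_of_sq h2).1
  | psu n q => exact (not_dvd_of_sq h2).2
  | _ => exact trivial

end named

end Cfsg.Agent.H884.Ig
end

private theorem dce_e7a3f26dbe85 : _root_.True := by
  try have : _root_.True := by simp only [_root_.Cfsg.Agent.H884.Ig.InE.eq_7]
  try have : _root_.True := by simp only [_root_.Cfsg.Agent.H884.Ig.InE.eq_3]
  try have : _root_.True := by simp only [_root_.Cfsg.Agent.H884.Ig.divsL.eq_2]
  try have : _root_.True := by simp only [_root_.Cfsg.Agent.H884.Ig.rem.eq_def]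
  try have : _root_.True := by simp only [_root_.Cfsg.Agent.H884.Ig.InE.eq_2]
  try have : _root_.True := by simp only [_root_.Cfsg.Agent.H884.Ig.InE.eq_5]
  try have : _root_.True := by simp only [_root_.Cfsg.Agent.H884.Ig.InE._sparseCasesOn_1.else_eq]
  try have : _root_.True := by simp only [_root_.Cfsg.Agent.H884.Ig.InE.eq_1]
  try have : _root_.True := by simp only [_root_.Cfsg.Agent.H884.Ig.InE.eq_6]
  try have : _root_.True := by simp only [_root_.Cfsg.Agent.H884.Ig.InE.eq_4]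
  try have : _root_.True := by simp only [_root_.Cfsg.Agent.H884.Ig.divsL.eq_1]
  try have : _root_.True := by simp only [_root_.Cfsg.Agent.H884.Ig.rem.eq_1]
  try have : _root_.True := by simp only [_root_.Cfsg.Agent.H884.Ig.rem.eq_2]
  try have : _root_.True := by simp only [_root_.Cfsg.Agent.H884.Ig.divsL.eq_def]
  exact _root_.True.intro
end

-- part: H884/RowAllA
section
prune_inst 0x102031044c62100000000512420020007000000000208000010103400a08c1008000090000000109504830801000000811000000020000000a003000000200000002c20002500d04200006800080000000000000000000000000000000000004000000000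
set_option linter.all false
open scoped Cfsg.Agent.FastGrp

-- part: H884/IgDat
section
/-!
# The finitely many `(n, p)` with the full primitive part of `p ^ n - 1` dividing `f |g|` (helper884)

`g` in helper278's `crossList` (Lie type, Landazuri-Seitz bound at most 36; `s` the characteristic, `f` the field
exponent), a sporadic group (`f = 2`) or `A_m`, `m ≤ 10` (`f = 4`).
-/

set_option autoImplicit false

namespace Cfsg.Agent.H884.Ig

open Cfsg.Agent.OrdDiv

/-- an entry: name, characteristic, factor, factorization of `f |g|`, hits -/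
structure Dat where
  g : Grp
  s : ℕ
  f : ℕ
  fac : List (ℕ × ℕ)
  L : List (ℕ × ℕ)

def okD (x : Dat) : Bool := Nat.beq (val x.fac) (x.f * ordN x.g) && hitsB x.fac x.s x.L

/-- groups of Lie type, part 0 -/
def lie0 : List Dat := [
  ⟨.psl 2 4, 2, 2, [(2, 3), (3, 1), (5, 1)], [(4, 3)]⟩,
  ⟨.psl 2 5, 5, 1, [(2, 2), (3, 1), (5, 1)], [(4, 2), (4, 3), (6, 2)]⟩,
  ⟨.psl 2 7, 7, 1, [(2, 3), (3, 1), (7, 1)], [(3, 2), (6, 2), (6, 3), (6, 5)]⟩,
  ⟨.psl 2 8, 2, 3, [(2, 3), (3, 3), (7, 1)], [(6, 3), (6, 5)]⟩,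
  ⟨.psl 2 9, 3, 2, [(2, 4), (3, 2), (5, 1)], [(4, 2), (6, 2)]⟩,
  ⟨.psl 2 11, 11, 1, [(2, 2), (3, 1), (5, 1), (11, 1)], [(4, 2), (4, 3), (6, 2), (10, 2)]⟩,
  ⟨.psl 2 13, 13, 1, [(2, 2), (3, 1), (7, 1), (13, 1)], [(3, 2), (3, 3), (4, 5), (6, 2), (6, 3), (6, 5), (6, 17), (12, 2)]⟩,
  ⟨.psl 2 16, 2, 4, [(2, 6), (3, 1), (5, 1), (17, 1)], [(4, 3), (4, 13)]⟩,
  ⟨.psl 2 17, 17, 1, [(2, 4), (3, 2), (17, 1)], [(6, 2), (8, 2)]⟩,
  ⟨.psl 2 19, 19, 1, [(2, 2), (3, 2), (5, 1), (19, 1)], [(3, 7), (4, 2), (4, 3), (6, 2), (18, 2)]⟩,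
  ⟨.psl 2 23, 23, 1, [(2, 3), (3, 1), (11, 1), (23, 1)], [(6, 2), (10, 2)]⟩,
  ⟨.psl 2 25, 5, 2, [(2, 4), (3, 1), (5, 2), (13, 1)], [(3, 3), (4, 2), (4, 3), (4, 7), (6, 2), (12, 2)]⟩,
  ⟨.psl 2 27, 3, 3, [(2, 2), (3, 4), (7, 1), (13, 1)], [(3, 2), (4, 5), (6, 2), (6, 5), (6, 17), (12, 2)]⟩,
  ⟨.psl 2 29, 29, 1, [(2, 2), (3, 1), (5, 1), (7, 1), (29, 1)], [(3, 2), (4, 2), (4, 3), (4, 17), (6, 2), (6, 3), (6, 5)]⟩,
  ⟨.psl 2 31, 31, 1, [(2, 5), (3, 1), (5, 1), (31, 1)], [(3, 5), (4, 2), (4, 3), (5, 2), (6, 2)]⟩]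

private noncomputable def _root_.Cfsg.Agent.LsF.fd6399c_0 : {f // @Cfsg.Agent.H884.Ig.val = f} := ⟨_, by first | (delta Cfsg.Agent.H884.Ig.val; rewrite [Cfsg.Agent.LsF.npow_pat, Cfsg.Agent.LsF.map_eq, Cfsg.Agent.LsF.prod_eq]; exact rfl) | exact rfl⟩
private noncomputable def _root_.Cfsg.Agent.LsF.fd6399c_1 : {f // @Nat.factorial = f} := ⟨_, by first | (delta Nat.factorial Nat.brecOn.go Nat.brecOn Nat.factorial._f; rewrite [Cfsg.Agent.LsF.nmul_pat]; (try delta Nat.factorial.match_1); (try delta Nat.casesOn); first | dsimp -zeta only | exact rfl) | exact rfl⟩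
private noncomputable def _root_.Cfsg.Agent.LsF.fd6399c_2 : {f // @Cfsg.Agent.OrdDiv.glN = f} := ⟨_, by first | (delta Cfsg.Agent.OrdDiv.glN; rewrite [Cfsg.Agent.LsF.nsub_pat, Cfsg.Agent.LsF.npow_pat, Cfsg.Agent.LsF.map_eq, Cfsg.Agent.LsF.range_eq, Cfsg.Agent.LsF.prod_eq]; exact rfl) | exact rfl⟩
private noncomputable def _root_.Cfsg.Agent.LsF.fd6399c_3 : {f // @Cfsg.Agent.OrdDiv.fPSL = f} := ⟨_, by first | (delta Cfsg.Agent.OrdDiv.fPSL; rewrite [Cfsg.Agent.LsF.fd6399c_2.2, Cfsg.Agent.LsF.nmul_pat, Cfsg.Agent.LsF.nsub_pat, Cfsg.Agent.LsF.ndiv_pat, Cfsg.Agent.LsF.and_eq, Cfsg.Agent.LsF.not_eq]; exact rfl) | exact rfl⟩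
private noncomputable def _root_.Cfsg.Agent.LsF.fd6399c_4 : {f // @Cfsg.Agent.OrdDiv.prB = f} := ⟨_, by first | (delta Cfsg.Agent.OrdDiv.prB; rewrite [Cfsg.Agent.LsF.nadd_pat, Cfsg.Agent.LsF.nmul_pat, Cfsg.Agent.LsF.nsub_pat, Cfsg.Agent.LsF.npow_pat, Cfsg.Agent.LsF.map_eq, Cfsg.Agent.LsF.range_eq, Cfsg.Agent.LsF.prod_eq]; exact rfl) | exact rfl⟩
private noncomputable def _root_.Cfsg.Agent.LsF.fd6399c_5 : {f // @Cfsg.Agent.OrdDiv.fPSp = f} := ⟨_, by first | (delta Cfsg.Agent.OrdDiv.fPSp; rewrite [Cfsg.Agent.LsF.fd6399c_4.2, Cfsg.Agent.LsF.nmul_pat, Cfsg.Agent.LsF.nsub_pat, Cfsg.Agent.LsF.npow_pat, Cfsg.Agent.LsF.and_eq, Cfsg.Agent.LsF.not_eq]; exact rfl) | exact rfl⟩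
private noncomputable def _root_.Cfsg.Agent.LsF.fd6399c_6 : {f // @Cfsg.Agent.OrdDiv.prU = f} := ⟨_, by first | (delta Cfsg.Agent.OrdDiv.prU; rewrite [Cfsg.Agent.LsF.nadd_pat, Cfsg.Agent.LsF.nsub_pat, Cfsg.Agent.LsF.nmod_pat, Cfsg.Agent.LsF.npow_pat, Cfsg.Agent.LsF.map_eq, Cfsg.Agent.LsF.range_eq, Cfsg.Agent.LsF.prod_eq, Cfsg.Agent.LsF.dBoolEq_eq, Cfsg.Agent.LsF.ite_eq]; exact rfl) | exact rfl⟩
private noncomputable def _root_.Cfsg.Agent.LsF.fd6399c_7 : {f // @Cfsg.Agent.OrdDiv.fPSU = f} := ⟨_, by first | (delta Cfsg.Agent.OrdDiv.fPSU; rewrite [Cfsg.Agent.LsF.fd6399c_6.2, Cfsg.Agent.LsF.nadd_pat, Cfsg.Agent.LsF.nmul_pat, Cfsg.Agent.LsF.nsub_pat, Cfsg.Agent.LsF.ndiv_pat, Cfsg.Agent.LsF.npow_pat, Cfsg.Agent.LsF.and_eq, Cfsg.Agent.LsF.not_eq]; exact rfl) | exact rfl⟩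
private noncomputable def _root_.Cfsg.Agent.LsF.fd6399c_8 : {f // @Cfsg.Agent.OrdDiv.fOOdd = f} := ⟨_, by first | (delta Cfsg.Agent.OrdDiv.fOOdd; rewrite [Cfsg.Agent.LsF.fd6399c_4.2, Cfsg.Agent.LsF.nmul_pat, Cfsg.Agent.LsF.nmod_pat, Cfsg.Agent.LsF.npow_pat]; exact rfl) | exact rfl⟩
private noncomputable def _root_.Cfsg.Agent.LsF.fd6399c_9 : {f // @Cfsg.Agent.OrdDiv.fOPlus = f} := ⟨_, by first | (delta Cfsg.Agent.OrdDiv.fOPlus; rewrite [Cfsg.Agent.LsF.fd6399c_4.2, Cfsg.Agent.LsF.nmul_pat, Cfsg.Agent.LsF.nsub_pat, Cfsg.Agent.LsF.npow_pat]; exact rfl) | exact rfl⟩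
private noncomputable def _root_.Cfsg.Agent.LsF.fd6399c_10 : {f // @Cfsg.Agent.OrdDiv.fOMinus = f} := ⟨_, by first | (delta Cfsg.Agent.OrdDiv.fOMinus; rewrite [Cfsg.Agent.LsF.fd6399c_4.2, Cfsg.Agent.LsF.nadd_pat, Cfsg.Agent.LsF.nmul_pat, Cfsg.Agent.LsF.nsub_pat, Cfsg.Agent.LsF.npow_pat]; exact rfl) | exact rfl⟩
private noncomputable def _root_.Cfsg.Agent.LsF.fd6399c_11 : {f // @Cfsg.Agent.OrdDiv.one = f} := ⟨_, by first | (delta Cfsg.Agent.OrdDiv.one; rewrite [Cfsg.Agent.LsF.nadd_pat, Cfsg.Agent.LsF.nmul_pat, Cfsg.Agent.LsF.npow_pat]; exact rfl) | exact rfl⟩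
private noncomputable def _root_.Cfsg.Agent.LsF.fd6399c_12 : {f // @Cfsg.Agent.OrdDiv.fG2 = f} := ⟨_, by first | (delta Cfsg.Agent.OrdDiv.fG2; rewrite [Cfsg.Agent.LsF.fd6399c_11.2, Cfsg.Agent.LsF.nmul_pat, Cfsg.Agent.LsF.nsub_pat, Cfsg.Agent.LsF.npow_pat]; exact rfl) | exact rfl⟩
private noncomputable def _root_.Cfsg.Agent.LsF.fd6399c_13 : {f // @Cfsg.Agent.OrdDiv.fF4 = f} := ⟨_, by first | (delta Cfsg.Agent.OrdDiv.fF4; rewrite [Cfsg.Agent.LsF.fd6399c_11.2, Cfsg.Agent.LsF.nmul_pat, Cfsg.Agent.LsF.nsub_pat, Cfsg.Agent.LsF.npow_pat]; exact rfl) | exact rfl⟩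
private noncomputable def _root_.Cfsg.Agent.LsF.fd6399c_14 : {f // @Cfsg.Agent.OrdDiv.fE6 = f} := ⟨_, by first | (delta Cfsg.Agent.OrdDiv.fE6; rewrite [Cfsg.Agent.LsF.fd6399c_11.2, Cfsg.Agent.LsF.nmul_pat, Cfsg.Agent.LsF.nsub_pat, Cfsg.Agent.LsF.npow_pat]; exact rfl) | exact rfl⟩
private noncomputable def _root_.Cfsg.Agent.LsF.fd6399c_15 : {f // @Cfsg.Agent.OrdDiv.fE7 = f} := ⟨_, by first | (delta Cfsg.Agent.OrdDiv.fE7; rewrite [Cfsg.Agent.LsF.fd6399c_11.2, Cfsg.Agent.LsF.nmul_pat, Cfsg.Agent.LsF.nsub_pat, Cfsg.Agent.LsF.npow_pat]; exact rfl) | exact rfl⟩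
private noncomputable def _root_.Cfsg.Agent.LsF.fd6399c_16 : {f // @Cfsg.Agent.OrdDiv.fE8 = f} := ⟨_, by first | (delta Cfsg.Agent.OrdDiv.fE8; rewrite [Cfsg.Agent.LsF.fd6399c_11.2, Cfsg.Agent.LsF.nmul_pat, Cfsg.Agent.LsF.nsub_pat, Cfsg.Agent.LsF.npow_pat]; exact rfl) | exact rfl⟩
private noncomputable def _root_.Cfsg.Agent.LsF.fd6399c_17 : {f // @Cfsg.Agent.OrdDiv.fTE6 = f} := ⟨_, by first | (delta Cfsg.Agent.OrdDiv.fTE6; rewrite [Cfsg.Agent.LsF.fd6399c_11.2, Cfsg.Agent.LsF.nadd_pat, Cfsg.Agent.LsF.nmul_pat, Cfsg.Agent.LsF.nsub_pat, Cfsg.Agent.LsF.npow_pat]; exact rfl) | exact rfl⟩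
private noncomputable def _root_.Cfsg.Agent.LsF.fd6399c_18 : {f // @Cfsg.Agent.OrdDiv.fTD4 = f} := ⟨_, by first | (delta Cfsg.Agent.OrdDiv.fTD4; rewrite [Cfsg.Agent.LsF.fd6399c_11.2, Cfsg.Agent.LsF.nadd_pat, Cfsg.Agent.LsF.nmul_pat, Cfsg.Agent.LsF.nsub_pat, Cfsg.Agent.LsF.npow_pat]; exact rfl) | exact rfl⟩
private noncomputable def _root_.Cfsg.Agent.LsF.fd6399c_19 : {f // @Cfsg.Agent.OrdDiv.fSz = f} := ⟨_, by first | (delta Cfsg.Agent.OrdDiv.fSz; rewrite [Cfsg.Agent.LsF.fd6399c_11.2, Cfsg.Agent.LsF.nadd_pat, Cfsg.Agent.LsF.nmul_pat, Cfsg.Agent.LsF.nsub_pat, Cfsg.Agent.LsF.nmod_pat, Cfsg.Agent.LsF.npow_pat, Cfsg.Agent.LsF.and_eq]; exact rfl) | exact rfl⟩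
private noncomputable def _root_.Cfsg.Agent.LsF.fd6399c_20 : {f // @Cfsg.Agent.OrdDiv.fRee = f} := ⟨_, by first | (delta Cfsg.Agent.OrdDiv.fRee; rewrite [Cfsg.Agent.LsF.fd6399c_11.2, Cfsg.Agent.LsF.nadd_pat, Cfsg.Agent.LsF.nmul_pat, Cfsg.Agent.LsF.nsub_pat, Cfsg.Agent.LsF.nmod_pat, Cfsg.Agent.LsF.npow_pat, Cfsg.Agent.LsF.and_eq]; exact rfl) | exact rfl⟩
private noncomputable def _root_.Cfsg.Agent.LsF.fd6399c_21 : {f // @Cfsg.Agent.OrdDiv.fTF4 = f} := ⟨_, by first | (delta Cfsg.Agent.OrdDiv.fTF4; rewrite [Cfsg.Agent.LsF.fd6399c_11.2, Cfsg.Agent.LsF.nadd_pat, Cfsg.Agent.LsF.nmul_pat, Cfsg.Agent.LsF.nsub_pat, Cfsg.Agent.LsF.nmod_pat, Cfsg.Agent.LsF.npow_pat, Cfsg.Agent.LsF.and_eq]; exact rfl) | exact rfl⟩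
private noncomputable def _root_.Cfsg.Agent.LsF.fd6399c_22 : {f // @Cfsg.Agent.OrdDiv.instDecidableEqGrp.decEq = f} := ⟨_, by first | (delta Cfsg.Agent.OrdDiv.instDecidableEqGrp.decEq; rewrite [Cfsg.Agent.LsF.instDecEq_eq, Cfsg.Agent.LsF.dite_eq]; (try delta Cfsg.Agent.OrdDiv.instDecidableEqGrp.decEq.match_1); (try delta Decidable.casesOn); exact rfl) | exact rfl⟩
private noncomputable def _root_.Cfsg.Agent.LsF.fd6399c_23 : {f // @Cfsg.Agent.OrdDiv.instDecidableEqGrp = f} := ⟨_, by first | (delta Cfsg.Agent.OrdDiv.instDecidableEqGrp; rewrite [Cfsg.Agent.LsF.fd6399c_22.2]; exact rfl) | exact rfl⟩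
private noncomputable def _root_.Cfsg.Agent.LsF.fd6399c_24 : {f // @Cfsg.Agent.OrdDiv.ordN = f} := ⟨_, by first | (delta Cfsg.Agent.OrdDiv.ordN Option.map; rewrite [Cfsg.Agent.LsF.fd6399c_1.2, Cfsg.Agent.LsF.fd6399c_3.2, Cfsg.Agent.LsF.fd6399c_5.2, Cfsg.Agent.LsF.fd6399c_7.2, Cfsg.Agent.LsF.fd6399c_8.2, Cfsg.Agent.LsF.fd6399c_9.2, Cfsg.Agent.LsF.fd6399c_10.2, Cfsg.Agent.LsF.fd6399c_12.2, Cfsg.Agent.LsF.fd6399c_13.2, Cfsg.Agent.LsF.fd6399c_14.2, Cfsg.Agent.LsF.fd6399c_15.2, Cfsg.Agent.LsF.fd6399c_16.2, Cfsg.Agent.LsF.fd6399c_17.2, Cfsg.Agent.LsF.fd6399c_18.2, Cfsg.Agent.LsF.fd6399c_19.2, Cfsg.Agent.LsF.fd6399c_20.2, Cfsg.Agent.LsF.fd6399c_21.2, Cfsg.Agent.LsF.fd6399c_23.2, Cfsg.Agent.LsF.ndiv_pat, Cfsg.Agent.LsF.find?_eq, Cfsg.Agent.LsF.ogetD_eq, Cfsg.Agent.LsF.decide_eq]; (try delta Cfsg.Agent.OrdDiv.ordN.match_1); (try delta Cfsg.Agent.OrdDiv.ordN._sparseCasesOn_1); (try delta Option.getD.match_1); (try delta Option.casesOn);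 exact rfl) | exact rfl⟩
private noncomputable def _root_.Cfsg.Agent.LsF.fd6399c_25 : {f // @Cfsg.Agent.H884.Ig.divsL = f} := ⟨_, by first | (delta Cfsg.Agent.H884.Ig.divsL List.brecOn List.brecOn.go Cfsg.Agent.H884.Ig.divsL._f; rewrite [Cfsg.Agent.LsF.nadd_pat, Cfsg.Agent.LsF.nmul_pat, Cfsg.Agent.LsF.npow_pat, Cfsg.Agent.LsF.map_eq, Cfsg.Agent.LsF.flatMap_eq, Cfsg.Agent.LsF.range_eq]; (try delta Cfsg.Agent.H884.Ig.divsL.match_1); (try delta List.casesOn); first | dsimp -zeta only | exact rfl) | exact rfl⟩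
private noncomputable def _root_.Cfsg.Agent.LsF.fd6399c_33 : {f // @Cfsg.Agent.H884.Ig.chkN = f} := ⟨_, by first | (delta Cfsg.Agent.H884.Ig.chkN; rewrite [Cfsg.Agent.LsF.fd6399c_25.2, Cfsg.Agent.LsF.fd6399c_0.2, Cfsg.Agent.LsF.nmod_pat, Cfsg.Agent.LsF.and_eq, Cfsg.Agent.LsF.or_eq, Cfsg.Agent.LsF.not_eq, Cfsg.Agent.LsF.all_eq, Cfsg.Agent.LsF.filter_eq, Cfsg.Agent.LsF.getD_eq]; exact rfl) | exact rfl⟩
private noncomputable def _root_.Cfsg.Agent.LsF.fd6399c_34 : {f // @Cfsg.Agent.H884.Ig.hitsB = f} := ⟨_, by first | (delta Cfsg.Agent.H884.Ig.hitsB; rewrite [Cfsg.Agent.LsF.dMemE_pat, Cfsg.Agent.LsF.fd6399c_33.2, Cfsg.Agent.LsF.and_eq, Cfsg.Agent.LsF.instDecEq_eq, Cfsg.Agent.LsF.all_eq, Cfsg.Agent.LsF.range_eq, Cfsg.Agent.LsF.decide_eq]; exact rfl) | exact rfl⟩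
private noncomputable def _root_.Cfsg.Agent.LsF.fd6399c_35 : {f // @Cfsg.Agent.H884.Ig.okD = f} := ⟨_, by first | (delta Cfsg.Agent.H884.Ig.okD; rewrite [Cfsg.Agent.LsF.fd6399c_0.2, Cfsg.Agent.LsF.fd6399c_24.2, Cfsg.Agent.LsF.fd6399c_34.2, Cfsg.Agent.LsF.nmul_pat, Cfsg.Agent.LsF.and_eq]; exact rfl) | exact rfl⟩
set_option maxRecDepth 100000 in
theorem lie0_ok : lie0.all okD = true := by ((try (rewrite [Cfsg.Agent.LsF.fd6399c_35.2, Cfsg.Agent.LsF.all_eq])); decide +kernel)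

/-- groups of Lie type, part 1 -/
def lie1 : List Dat := [
  ⟨.psl 2 32, 2, 5, [(2, 5), (3, 1), (5, 1), (11, 1), (31, 1)], [(3, 5), (4, 3)]⟩,
  ⟨.psl 2 37, 37, 1, [(2, 2), (3, 2), (19, 1), (37, 1)], [(3, 7), (6, 2), (6, 11), (18, 2), (18, 3)]⟩,
  ⟨.psl 2 41, 41, 1, [(2, 3), (3, 1), (5, 1), (7, 1), (41, 1)], [(3, 2), (4, 2), (4, 3), (6, 2), (6, 3), (6, 5), (8, 3), (20, 2)]⟩,
  ⟨.psl 2 43, 43, 1, [(2, 2), (3, 1), (7, 1), (11, 1), (43, 1)], [(3, 2), (6, 2), (6, 3), (6, 5), (6, 7), (10, 2), (14, 2)]⟩,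
  ⟨.psl 2 47, 47, 1, [(2, 4), (3, 1), (23, 1), (47, 1)], [(6, 2)]⟩,
  ⟨.psl 2 49, 7, 2, [(2, 5), (3, 1), (5, 2), (7, 2)], [(3, 2), (4, 2), (4, 3), (6, 2), (6, 3), (6, 5)]⟩,
  ⟨.psl 2 53, 53, 1, [(2, 2), (3, 3), (13, 1), (53, 1)], [(3, 3), (4, 5), (6, 2), (12, 2)]⟩,
  ⟨.psl 2 59, 59, 1, [(2, 2), (3, 1), (5, 1), (29, 1), (59, 1)], [(4, 2), (4, 3), (4, 17), (6, 2)]⟩,
  ⟨.psl 2 61, 61, 1, [(2, 2), (3, 1), (5, 1), (31, 1), (61, 1)], [(3, 5), (3, 13), (4, 2), (4, 3), (4, 11), (5, 2), (6, 2), (10, 3)]⟩,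
  ⟨.psl 2 64, 2, 6, [(2, 7), (3, 3), (5, 1), (7, 1), (13, 1)], [(3, 3), (4, 3), (4, 5), (6, 3), (6, 5), (6, 17)]⟩,
  ⟨.psl 2 67, 67, 1, [(2, 2), (3, 1), (11, 1), (17, 1), (67, 1)], [(6, 2), (8, 2), (10, 2)]⟩,
  ⟨.psl 2 71, 71, 1, [(2, 3), (3, 2), (5, 1), (7, 1), (71, 1)], [(3, 2), (4, 2), (4, 3), (6, 2), (6, 3), (6, 5)]⟩,
  ⟨.psl 2 73, 73, 1, [(2, 3), (3, 2), (37, 1), (73, 1)], [(6, 2), (6, 11), (9, 2), (12, 3)]⟩,
  ⟨.psl 3 2, 2, 1, [(2, 3), (3, 1), (7, 1)], [(6, 3), (6, 5)]⟩,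
  ⟨.psl 3 3, 3, 1, [(2, 4), (3, 3), (13, 1)], [(4, 5), (6, 2), (12, 2)]⟩]

set_option maxRecDepth 100000 in
theorem lie1_ok : lie1.all okD = true := by ((try (rewrite [Cfsg.Agent.LsF.fd6399c_35.2, Cfsg.Agent.LsF.all_eq])); decide +kernel)

/-- groups of Lie type, part 2 -/
def lie2 : List Dat := [
  ⟨.psl 3 4, 2, 2, [(2, 7), (3, 2), (5, 1), (7, 1)], [(4, 3), (6, 3), (6, 5)]⟩,
  ⟨.psl 3 5, 5, 1, [(2, 5), (3, 1), (5, 3), (31, 1)], [(4, 2), (4, 3), (4, 7), (5, 2), (6, 2)]⟩,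
  ⟨.psl 4 2, 2, 1, [(2, 6), (3, 2), (5, 1), (7, 1)], [(4, 3), (6, 3), (6, 5)]⟩,
  ⟨.psl 4 3, 3, 1, [(2, 7), (3, 6), (5, 1), (13, 1)], [(4, 2), (4, 5), (6, 2), (12, 2)]⟩,
  ⟨.psl 5 2, 2, 1, [(2, 10), (3, 2), (5, 1), (7, 1), (31, 1)], [(3, 5), (4, 3), (6, 3), (6, 5)]⟩,
  ⟨.psl 6 2, 2, 1, [(2, 15), (3, 4), (5, 1), (7, 2), (31, 1)], [(3, 5), (3, 67), (4, 3), (6, 3), (6, 5)]⟩,
  ⟨.psp 2 3, 3, 1, [(2, 6), (3, 4), (5, 1)], [(4, 2), (6, 2)]⟩,
  ⟨.psp 2 4, 2, 2, [(2, 9), (3, 2), (5, 2), (17, 1)], [(4, 3), (4, 7), (4, 13)]⟩,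
  ⟨.psp 2 5, 5, 1, [(2, 6), (3, 2), (5, 4), (13, 1)], [(3, 3), (4, 2), (4, 3), (4, 7), (6, 2), (12, 2)]⟩,
  ⟨.psp 2 7, 7, 1, [(2, 8), (3, 2), (5, 2), (7, 4)], [(3, 2), (4, 2), (4, 3), (6, 2), (6, 3), (6, 5), (6, 19)]⟩,
  ⟨.psp 3 2, 2, 1, [(2, 9), (3, 4), (5, 1), (7, 1)], [(4, 3), (6, 3), (6, 5)]⟩,
  ⟨.psp 3 3, 3, 1, [(2, 9), (3, 9), (5, 1), (7, 1), (13, 1)], [(3, 2), (4, 2), (4, 5), (6, 2), (6, 5), (6, 17), (12, 2)]⟩,
  ⟨.psp 4 2, 2, 1, [(2, 16), (3, 5), (5, 2), (7, 1), (17, 1)], [(4, 3), (4, 7), (4, 13), (6, 3), (6, 5)]⟩,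
  ⟨.psp 5 2, 2, 1, [(2, 25), (3, 6), (5, 2), (7, 1), (11, 1), (17, 1), (31, 1)], [(3, 5), (4, 3), (4, 7), (4, 13), (6, 3), (6, 5)]⟩,
  ⟨.psu 3 3, 3, 1, [(2, 5), (3, 3), (7, 1)], [(3, 2), (6, 2), (6, 5)]⟩]

set_option maxRecDepth 100000 in
theorem lie2_ok : lie2.all okD = true := by ((try (rewrite [Cfsg.Agent.LsF.fd6399c_35.2, Cfsg.Agent.LsF.all_eq])); decide +kernel)

/-- groups of Lie type, part 3 -/
def lie3 : List Dat := [
  ⟨.oodd 3 3, 3, 1, [(2, 9), (3, 9), (5, 1), (7, 1), (13, 1)], [(3, 2), (4, 2), (4, 5), (6, 2), (6, 5), (6, 17), (12, 2)]⟩,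
  ⟨.psu 3 4, 2, 2, [(2, 7), (3, 1), (5, 2), (13, 1)], [(3, 3), (4, 3), (4, 5), (4, 7)]⟩,
  ⟨.psu 3 5, 5, 1, [(2, 4), (3, 2), (5, 3), (7, 1)], [(3, 2), (4, 2), (4, 3), (4, 7), (6, 2), (6, 3)]⟩,
  ⟨.psu 4 2, 2, 1, [(2, 6), (3, 4), (5, 1)], [(4, 3)]⟩,
  ⟨.psu 4 3, 3, 1, [(2, 7), (3, 6), (5, 1), (7, 1)], [(3, 2), (4, 2), (6, 2), (6, 5)]⟩,
  ⟨.oodd 4 3, 3, 1, [(2, 14), (3, 16), (5, 2), (7, 1), (13, 1), (41, 1)], [(3, 2), (4, 2), (4, 5), (4, 7), (4, 73), (6, 2), (6, 5), (6, 17), (12, 2), (20, 2)]⟩,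
  ⟨.psu 5 2, 2, 1, [(2, 10), (3, 5), (5, 1), (11, 1)], [(4, 3)]⟩,
  ⟨.psu 6 2, 2, 1, [(2, 15), (3, 6), (5, 1), (7, 1), (11, 1)], [(4, 3), (6, 3), (6, 5)]⟩,
  ⟨.psu 7 2, 2, 1, [(2, 21), (3, 8), (5, 1), (7, 1), (11, 1), (43, 1)], [(4, 3), (6, 3), (6, 5), (6, 7)]⟩,
  ⟨.oplus 4 2, 2, 1, [(2, 12), (3, 5), (5, 2), (7, 1)], [(4, 3), (4, 7), (6, 3), (6, 5)]⟩,
  ⟨.ominus 4 2, 2, 1, [(2, 12), (3, 4), (5, 1), (7, 1), (17, 1)], [(4, 3), (4, 13), (6, 3), (6, 5)]⟩,
  ⟨.oplus 4 3, 3, 1, [(2, 12), (3, 12), (5, 2), (7, 1), (13, 1)], [(3, 2), (4, 2), (4, 5), (4, 7), (6, 2), (6, 5), (6, 17), (12, 2)]⟩,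
  ⟨.ominus 4 3, 3, 1, [(2, 10), (3, 12), (5, 1), (7, 1), (13, 1), (41, 1)], [(3, 2), (4, 2), (4, 5), (4, 73), (6, 2), (6, 5), (6, 17), (12, 2), (20, 2)]⟩,
  ⟨.oplus 5 2, 2, 1, [(2, 20), (3, 5), (5, 2), (7, 1), (17, 1), (31, 1)], [(3, 5), (4, 3), (4, 7), (4, 13), (6, 3), (6, 5)]⟩,
  ⟨.ominus 5 2, 2, 1, [(2, 20), (3, 6), (5, 2), (7, 1), (11, 1), (17, 1)], [(4, 3), (4, 7), (4, 13), (6, 3), (6, 5)]⟩]

set_option maxRecDepth 100000 in
theorem lie3_ok : lie3.all okD = true := by ((try (rewrite [Cfsg.Agent.LsF.fd6399c_35.2, Cfsg.Agent.LsF.all_eq])); decide +kernel)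

/-- groups of Lie type, part 4 -/
def lie4 : List Dat := [
  ⟨.ominus 5 3, 3, 1, [(2, 15), (3, 20), (5, 2), (7, 1), (13, 1), (41, 1), (61, 1)], [(3, 2), (3, 13), (4, 2), (4, 5), (4, 7), (4, 11), (4, 73), (6, 2), (6, 5), (6, 17), (12, 2), (20, 2)]⟩,
  ⟨.oplus 6 2, 2, 1, [(2, 30), (3, 8), (5, 2), (7, 2), (11, 1), (17, 1), (31, 1)], [(3, 5), (3, 67), (4, 3), (4, 7), (4, 13), (6, 3), (6, 5)]⟩,
  ⟨.ominus 6 2, 2, 1, [(2, 30), (3, 6), (5, 3), (7, 1), (11, 1), (13, 1), (17, 1), (31, 1)], [(3, 3), (3, 5), (4, 3), (4, 5), (4, 7), (4, 13), (4, 47), (6, 3), (6, 5), (6, 17)]⟩,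
  ⟨.ominus 7 2, 2, 1, [(2, 42), (3, 9), (5, 3), (7, 2), (11, 1), (13, 1), (17, 1), (31, 1), (43, 1)], [(3, 3), (3, 5), (3, 67), (3, 79), (4, 3), (4, 5), (4, 7), (4, 13), (4, 47), (6, 3), (6, 5), (6, 7), (6, 17), (6, 37)]⟩,
  ⟨.g2 3, 3, 1, [(2, 6), (3, 6), (7, 1), (13, 1)], [(3, 2), (4, 5), (6, 2), (6, 5), (6, 17), (12, 2)]⟩,
  ⟨.g2 4, 2, 2, [(2, 13), (3, 3), (5, 2), (7, 1), (13, 1)], [(3, 3), (4, 3), (4, 5), (4, 7), (6, 3), (6, 5), (6, 17)]⟩,
  ⟨.g2 5, 5, 1, [(2, 6), (3, 3), (5, 6), (7, 1), (31, 1)], [(3, 2), (4, 2), (4, 3), (4, 7), (5, 2), (6, 2), (6, 3)]⟩,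
  ⟨.td4 2, 2, 1, [(2, 12), (3, 4), (7, 2), (13, 1)], [(3, 3), (4, 5), (6, 3), (6, 5), (6, 17)]⟩,
  ⟨.te6 2, 2, 1, [(2, 36), (3, 9), (5, 2), (7, 2), (11, 1), (13, 1), (17, 1), (19, 1)], [(3, 3), (3, 7), (3, 11), (4, 3), (4, 5), (4, 7), (4, 13), (4, 47), (6, 3), (6, 5), (6, 17), (6, 31)]⟩,
  ⟨.f4 2, 2, 1, [(2, 24), (3, 6), (5, 2), (7, 2), (13, 1), (17, 1)], [(3, 3), (4, 3), (4, 5), (4, 7), (4, 13), (4, 47), (6, 3), (6, 5), (6, 17)]⟩,
  ⟨.td4 3, 3, 1, [(2, 6), (3, 12), (7, 2), (13, 2), (73, 1)], [(3, 2), (3, 373), (4, 5), (6, 2), (6, 5), (6, 17), (6, 23), (9, 2), (12, 2)]⟩,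
  ⟨.sz 8, 2, 3, [(2, 6), (3, 1), (5, 1), (7, 1), (13, 1)], [(3, 3), (4, 3), (4, 5), (6, 3), (6, 5), (6, 17)]⟩,
  ⟨.ree 27, 3, 3, [(2, 3), (3, 10), (7, 1), (13, 1), (19, 1), (37, 1)], [(3, 2), (3, 7), (3, 11), (4, 5), (4, 31), (6, 2), (6, 5), (6, 11), (6, 17), (6, 101), (12, 2), (18, 2)]⟩,
  ⟨.sz 32, 2, 5, [(2, 10), (5, 3), (31, 1), (41, 1)], [(3, 5), (4, 3), (4, 7), (8, 3)]⟩]

set_option maxRecDepth 100000 in
theorem lie4_ok : lie4.all okD = true := by ((try (rewrite [Cfsg.Agent.LsF.fd6399c_35.2, Cfsg.Agent.LsF.all_eq])); decide +kernel)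

/-- sporadic groups, part 0 -/
def sp0 : List Dat := [
  ⟨.tits, 0, 2, [(2, 12), (3, 3), (5, 2), (13, 1)], [(3, 3), (4, 2), (4, 3), (4, 5), (4, 7), (6, 2), (12, 2)]⟩,
  ⟨.m11, 0, 2, [(2, 5), (3, 2), (5, 1), (11, 1)], [(4, 2), (4, 3), (6, 2), (10, 2)]⟩,
  ⟨.m12, 0, 2, [(2, 7), (3, 3), (5, 1), (11, 1)], [(4, 2), (4, 3), (6, 2), (10, 2)]⟩,
  ⟨.m22, 0, 2, [(2, 8), (3, 2), (5, 1), (7, 1), (11, 1)], [(3, 2), (4, 2), (4, 3), (6, 2), (6, 3), (6, 5), (10, 2)]⟩,
  ⟨.m23, 0, 2, [(2, 8), (3, 2), (5, 1), (7, 1), (11, 1), (23, 1)], [(3, 2), (4, 2), (4, 3), (6, 2), (6, 3), (6, 5), (10, 2)]⟩,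
  ⟨.m24, 0, 2, [(2, 11), (3, 3), (5, 1), (7, 1), (11, 1), (23, 1)], [(3, 2), (4, 2), (4, 3), (6, 2), (6, 3), (6, 5), (10, 2)]⟩,
  ⟨.j1, 0, 2, [(2, 4), (3, 1), (5, 1), (7, 1), (11, 1), (19, 1)], [(3, 2), (3, 7), (3, 11), (4, 2), (4, 3), (6, 2), (6, 3), (6, 5), (10, 2), (18, 2)]⟩,
  ⟨.j2, 0, 2, [(2, 8), (3, 3), (5, 2), (7, 1)], [(3, 2), (4, 2), (4, 3), (4, 7), (6, 2), (6, 3), (6, 5)]⟩,
  ⟨.j3, 0, 2, [(2, 8), (3, 5), (5, 1), (17, 1), (19, 1)], [(3, 7), (4, 2), (4, 3), (4, 13), (6, 2), (8, 2), (18, 2)]⟩,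
  ⟨.j4, 0, 2, [(2, 22), (3, 3), (5, 1), (7, 1), (11, 3), (23, 1), (29, 1), (31, 1), (37, 1), (43, 1)], [(3, 2), (3, 5), (4, 2), (4, 3), (4, 17), (5, 2), (5, 3), (6, 2), (6, 3), (6, 5), (6, 7), (6, 11), (6, 37), (10, 2), (14, 2)]⟩,
  ⟨.co1, 0, 2, [(2, 22), (3, 9), (5, 4), (7, 2), (11, 1), (13, 1), (23, 1)], [(3, 2), (3, 3), (4, 2), (4, 3), (4, 5), (4, 7), (6, 2), (6, 3), (6, 5), (6, 17), (10, 2), (12, 2)]⟩,
  ⟨.co2, 0, 2, [(2, 19), (3, 6), (5, 3), (7, 1), (11, 1), (23, 1)], [(3, 2), (4, 2), (4, 3), (4, 7), (6, 2), (6, 3), (6, 5), (10, 2)]⟩,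
  ⟨.co3, 0, 2, [(2, 11), (3, 7), (5, 3), (7, 1), (11, 1), (23, 1)], [(3, 2), (4, 2), (4, 3), (4, 7), (6, 2), (6, 3), (6, 5), (10, 2)]⟩,
  ⟨.mcl, 0, 2, [(2, 8), (3, 6), (5, 3), (7, 1), (11, 1)], [(3, 2), (4, 2), (4, 3), (4, 7), (6, 2), (6, 3), (6, 5), (10, 2)]⟩]

set_option maxRecDepth 100000 in
theorem sp0_ok : sp0.all okD = true := by ((try (rewrite [Cfsg.Agent.LsF.fd6399c_35.2, Cfsg.Agent.LsF.all_eq])); decide +kernel)

/-- sporadic groups, part 1 -/
def sp1 : List Dat := [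
  ⟨.hs, 0, 2, [(2, 10), (3, 2), (5, 3), (7, 1), (11, 1)], [(3, 2), (4, 2), (4, 3), (4, 7), (6, 2), (6, 3), (6, 5), (10, 2)]⟩,
  ⟨.suz, 0, 2, [(2, 14), (3, 7), (5, 2), (7, 1), (11, 1), (13, 1)], [(3, 2), (3, 3), (4, 2), (4, 3), (4, 5), (4, 7), (6, 2), (6, 3), (6, 5), (6, 17), (10, 2), (12, 2)]⟩,
  ⟨.he, 0, 2, [(2, 11), (3, 3), (5, 2), (7, 3), (17, 1)], [(3, 2), (4, 2), (4, 3), (4, 7), (4, 13), (6, 2), (6, 3), (6, 5), (6, 19), (8, 2)]⟩,
  ⟨.ru, 0, 2, [(2, 15), (3, 3), (5, 3), (7, 1), (13, 1), (29, 1)], [(3, 2), (3, 3), (4, 2), (4, 3), (4, 5), (4, 7), (4, 17), (4, 307), (6, 2), (6, 3), (6, 5), (6, 17), (12, 2)]⟩,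
  ⟨.on, 0, 2, [(2, 10), (3, 4), (5, 1), (7, 3), (11, 1), (19, 1), (31, 1)], [(3, 2), (3, 5), (3, 7), (3, 11), (3, 67), (4, 2), (4, 3), (5, 2), (6, 2), (6, 3), (6, 5), (6, 19), (6, 31), (10, 2), (18, 2)]⟩,
  ⟨.ly, 0, 2, [(2, 9), (3, 7), (5, 6), (7, 1), (11, 1), (31, 1), (37, 1), (67, 1)], [(3, 2), (3, 5), (3, 37), (4, 2), (4, 3), (4, 7), (4, 43), (5, 2), (6, 2), (6, 3), (6, 5), (6, 11), (10, 2)]⟩,
  ⟨.fi22, 0, 2, [(2, 18), (3, 9), (5, 2), (7, 1), (11, 1), (13, 1)], [(3, 2), (3, 3), (4, 2), (4, 3), (4, 5), (4, 7), (6, 2), (6, 3), (6, 5), (6, 17), (10, 2), (12, 2)]⟩,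
  ⟨.fi23, 0, 2, [(2, 19), (3, 13), (5, 2), (7, 1), (11, 1), (13, 1), (17, 1), (23, 1)], [(3, 2), (3, 3), (4, 2), (4, 3), (4, 5), (4, 7), (4, 13), (4, 47), (6, 2), (6, 3), (6, 5), (6, 17), (8, 2), (10, 2), (12, 2)]⟩,
  ⟨.fi24, 0, 2, [(2, 22), (3, 16), (5, 2), (7, 3), (11, 1), (13, 1), (17, 1), (23, 1), (29, 1)], [(3, 2), (3, 3), (4, 2), (4, 3), (4, 5), (4, 7), (4, 13), (4, 17), (4, 47), (4, 157), (6, 2), (6, 3), (6, 5), (6, 17), (6, 19), (8, 2), (10, 2), (12, 2)]⟩,
  ⟨.hn, 0, 2, [(2, 15), (3, 6), (5, 6), (7, 1), (11, 1), (19, 1)], [(3, 2), (3, 7), (3, 11), (4, 2), (4, 3), (4, 7), (6, 2), (6, 3), (6, 5), (10, 2), (18, 2)]⟩,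
  ⟨.th, 0, 2, [(2, 16), (3, 10), (5, 3), (7, 2), (13, 1), (19, 1), (31, 1)], [(3, 2), (3, 3), (3, 5), (3, 7), (3, 11), (3, 67), (4, 2), (4, 3), (4, 5), (4, 7), (5, 2), (6, 2), (6, 3), (6, 5), (6, 17), (6, 31), (12, 2), (18, 2)]⟩,
  ⟨.b, 0, 2, [(2, 42), (3, 13), (5, 6), (7, 2), (11, 1), (13, 1), (17, 1), (19, 1), (23, 1), (31, 1), (47, 1)], [(3, 2), (3, 3), (3, 5), (3, 7), (3, 11), (3, 67), (4, 2), (4, 3), (4, 5), (4, 7), (4, 13), (4, 47), (5, 2), (6, 2), (6, 3), (6, 5), (6, 17), (6, 31), (8, 2), (10, 2), (12, 2), (18, 2)]⟩]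

set_option maxRecDepth 100000 in
theorem sp1_ok : sp1.all okD = true := by ((try (rewrite [Cfsg.Agent.LsF.fd6399c_35.2, Cfsg.Agent.LsF.all_eq])); decide +kernel)

/-- the Monster -/
def sp2 : List Dat := [
  ⟨.m, 0, 2, [(2, 47), (3, 20), (5, 9), (7, 6), (11, 2), (13, 3), (17, 1), (19, 1), (23, 1), (29, 1), (31, 1), (41, 1), (47, 1), (59, 1), (71, 1)], [(3, 2), (3, 3), (3, 5), (3, 7), (3, 11), (3, 67), (3, 191), (4, 2), (4, 3), (4, 5), (4, 7), (4, 13), (4, 17), (4, 47), (4, 73), (4, 157), (4, 307), (5, 2), (5, 3), (5, 5), (6, 2), (6, 3), (6, 5), (6, 17), (6, 19), (6, 23), (6, 31), (8, 2), (8, 3), (10, 2), (12, 2), (18, 2), (20, 2)]⟩]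

set_option maxRecDepth 100000 in
theorem sp2_ok : sp2.all okD = true := by decide +kernel

/-- alternating groups -/
def al0 : List Dat := [
  ⟨.alt 5, 0, 4, [(2, 4), (3, 1), (5, 1)], [(4, 2), (4, 3), (6, 2)]⟩,
  ⟨.alt 6, 0, 4, [(2, 5), (3, 2), (5, 1)], [(4, 2), (4, 3), (6, 2)]⟩,
  ⟨.alt 7, 0, 4, [(2, 5), (3, 2), (5, 1), (7, 1)], [(3, 2), (4, 2), (4, 3), (6, 2), (6, 3), (6, 5)]⟩,
  ⟨.alt 8, 0, 4, [(2, 8), (3, 2), (5, 1), (7, 1)], [(3, 2), (4, 2), (4, 3), (6, 2), (6, 3), (6, 5)]⟩,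
  ⟨.alt 9, 0, 4, [(2, 8), (3, 4), (5, 1), (7, 1)], [(3, 2), (4, 2), (4, 3), (6, 2), (6, 3), (6, 5)]⟩,
  ⟨.alt 10, 0, 4, [(2, 9), (3, 4), (5, 2), (7, 1)], [(3, 2), (4, 2), (4, 3), (4, 7), (6, 2), (6, 3), (6, 5)]⟩]

set_option maxRecDepth 100000 in
theorem al0_ok : al0.all okD = true := by decide +kernel

end Cfsg.Agent.H884.Ig
end

-- part: H884/IgT
section
/-!
# The finite check for the classical groups (helper884, for S3561 and S3679)

`igNum` : `x` an entry of `IgDat` (a simple group `S`), `T` a classical group of dimension at least `l` over `F_q`,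
`q = p ^ a`, `p ≠ x.s`, `|S| ∣ |T|`, all full parts of the primes `r` with `ord_r(q) = e`, `InE gT e`, `r ∤ a`, and all
primes `≥ 5` which divide `|T|` exactly once, divide `f |S|`: then `(S, T)` is in the list `excI`.
-/

set_option autoImplicit false

namespace Cfsg.Agent.H884.Ig

open Cfsg Cfsg.Agent.OrdDiv Cfsg.Agent.H436 Cfsg.Agent.H899.CG
open Cfsg.Agent.H278.El.SporNum (IsCl)
open Cfsg.Agent.H278.El.AltNum (dimOf)

/-- boolean version of `InE` -/
def inEB : Grp → ℕ → Bool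
  | .psl n _, e => Nat.ble 3 e && (Nat.ble e n && Nat.blt n (2 * e))
  | .psp m _, e => Nat.beq (e % 2) 0 && (Nat.ble 4 e && (Nat.ble e (2 * m) && Nat.blt m e))
  | .psu n _, e => Nat.beq (e % 4) 2 && (Nat.ble 6 e && (Nat.ble e (2 * n) && Nat.blt n e))
  | .oodd m _, e => (Nat.beq (e % 2) 0 && (Nat.ble 4 e && (Nat.ble e (2 * m) && Nat.blt (2 * m + 1) (2 * e)))) ||
      (Nat.beq (e % 2) 1 && (Nat.ble 3 e && (Nat.ble e m && Nat.blt (2 * m + 1) (4 * e))))
  | .oplus m _, e => (Nat.beq (e % 2) 0 && (Nat.ble 4 e && (Nat.ble e (2 * m - 2) && Nat.blt m e))) ||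
      (Nat.beq (e % 2) 1 && (Nat.ble 3 e && (Nat.ble e m && Nat.blt m (2 * e))))
  | .ominus m _, e => (Nat.beq (e % 2) 0 && (Nat.ble 4 e && (Nat.ble e (2 * m) && Nat.blt m e))) ||
      (Nat.beq (e % 2) 1 && (Nat.ble 3 e && (Nat.blt e m && Nat.blt m (2 * e))))
  | _, _ => false

theorem inE_of {g : Grp} {e : ℕ} (h : inEB g e = true) : InE g e := by
  have hble : ∀ {a b : ℕ}, Nat.ble a b = true ↔ a ≤ b := fun {a b} => by rw [Nat.ble_eq]
  cases g <;> simp only [inEB, Bool.and_eq_true, Bool.or_eq_true, Nat.blt_eq, Nat.beq_eq, hble,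
    Bool.false_eq_true] at h <;> simp only [InE] <;> omega

/-- the largest exponent used -/
def topE : Grp → ℕ
  | .psl n _ => n
  | .psp m _ => 2 * m
  | .psu n _ => 2 * (n - (n + 1) % 2)
  | .oodd m _ => 2 * m
  | .oplus m _ => 2 * (m - 1)
  | .ominus m _ => 2 * m
  | _ => 0

theorem topE_in {g : Grp} (hg : Cond g) (hcl : IsCl g) : InE g (topE g) := by
  cases g with
  | psl n q =>
    have h : 3 ≤ n := hcl
    simp only [InE, topE]
    omega
  | psp m q =>
    have h : 2 ≤ m := hg.1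
    simp only [InE, topE]
    omega
  | psu n q =>
    have h : 3 ≤ n := hg.1
    simp only [InE, topE]
    omega
  | oodd m q =>
    have h : 3 ≤ m := hg.1
    simp only [InE, topE]
    omega
  | oplus m q =>
    have h : 4 ≤ m := hg.1
    simp only [InE, topE]
    omega
  | ominus m q =>
    have h : 4 ≤ m := hg.1
    simp only [InE, topE]
    omega
  | _ => exact hcl.elim

/-- the groups with largest exponent `e` -/
def fams (e q : ℕ) : List Grp :=
  .psl e q :: (bif Nat.beq (e % 2) 0 then [.psp (e / 2) q, .oodd (e / 2) q, .ominus (e / 2) q, .oplus (e / 2 + 1) q,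
    .psu (e / 2) q, .psu (e / 2 + 1) q] else [])

theorem mem_fams {g : Grp} (hg : Cond g) (hcl : IsCl g) : g ∈ fams (topE g) (Cx.fq g) := by
  have h2 : ∀ j : ℕ, Nat.beq (2 * j % 2) 0 = true := fun j => by
    rw [Nat.mul_mod_right]
    rfl
  have h3 : ∀ j : ℕ, 2 * j / 2 = j := fun j => by omega
  cases g with
  | psl n q => exact List.mem_cons_self
  | psp m q =>
    simp only [fams, topE, h2, h3, cond_true, Cx.fq, List.mem_cons, true_or, or_true]
  | psu n q =>
    have h : 3 ≤ n := hg.1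
    simp only [fams, topE, h2, h3, cond_true, Cx.fq, List.mem_cons]
    rcases Nat.even_or_odd' n with ⟨k, hk | hk⟩
    · have h4 : n - (n + 1) % 2 + 1 = n := by omega
      rw [h4]
      simp only [true_or, or_true]
    · have h4 : n - (n + 1) % 2 = n := by omega
      rw [h4]
      simp only [true_or, or_true]
  | oodd m q =>
    simp only [fams, topE, h2, h3, cond_true, Cx.fq, List.mem_cons, true_or, or_true]
  | oplus m q =>
    have h : 4 ≤ m := hg.1
    simp only [fams, topE, h2, h3, cond_true, Cx.fq, List.mem_cons]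
    rw [Nat.sub_add_cancel (by omega)]
    simp only [true_or, or_true]
  | ominus m q =>
    simp only [fams, topE, h2, h3, cond_true, Cx.fq, List.mem_cons, true_or, or_true]
  | _ => exact hcl.elim

/-- the surviving pairs `(S, T)` -/
def excI : List (Grp × Grp) := [
  (.sz 8, .oodd 3 3), (.sz 8, .oplus 4 3), (.g2 4, .oplus 4 3), (.psl 2 13, .oplus 4 3), (.psl 2 13, .oplus 4 4),
  (.j2, .oplus 4 2), (.alt 7, .oplus 4 2), (.alt 8, .oplus 4 2), (.alt 9, .oplus 4 2), (.alt 10, .oplus 4 2),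
  (.psl 2 7, .oplus 4 2), (.psu 3 3, .oplus 4 2), (.j1, .psl 3 11), (.psl 2 7, .psl 3 2), (.alt 7, .psl 3 4),
  (.alt 8, .psl 3 4), (.alt 7, .psl 4 2), (.alt 8, .psl 4 2), (.alt 5, .psp 2 3), (.alt 6, .psp 2 3),
  (.psl 2 4, .psp 2 3), (.psl 2 5, .psp 2 3), (.psu 4 2, .psp 2 3), (.alt 7, .psp 3 2), (.alt 8, .psp 3 2),
  (.alt 9, .psp 3 2), (.psl 2 7, .psu 3 3), (.psl 2 8, .psu 3 3), (.psl 3 2, .psu 3 3), (.alt 7, .psu 3 5),
  (.psl 2 7, .psu 3 5), (.psl 2 8, .psu 3 5), (.psl 3 2, .psu 3 5), (.alt 7, .psu 4 3), (.alt 8, .psu 4 3),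
  (.alt 9, .psu 4 3), (.psl 3 4, .psu 4 3), (.psl 4 2, .psu 4 3), (.m11, .psu 5 2), (.m12, .psu 5 2),
  (.psl 2 11, .psu 5 2), (.m22, .psu 6 2), (.psl 2 5, .psu 4 2), (.psl 2 9, .psu 4 2), (.psp 2 3, .psu 4 2),
  (.alt 5, .psu 4 2), (.alt 6, .psu 4 2)]

/-- the names with good parameters, as a boolean (a necessary condition) -/
def condB : Grp → Bool
  | .psl n _ => Nat.ble 3 n
  | .psp m q => Nat.ble 2 m && (Nat.ble 3 m || Nat.ble 3 q)
  | .psu n q => Nat.ble 3 n && (Nat.ble 4 n || Nat.ble 3 q)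
  | .oodd m q => Nat.ble 3 m && Nat.beq (q % 2) 1
  | .oplus m _ => Nat.ble 4 m
  | .ominus m _ => Nat.ble 4 m
  | _ => false

theorem condB_of {g : Grp} (hg : Cond g) (hcl : IsCl g) : condB g = true := by
  have hble : ∀ {a b : ℕ}, Nat.ble a b = true ↔ a ≤ b := fun {a b} => by rw [Nat.ble_eq]
  cases g with
  | psl n q => exact hble.2 hcl
  | psp m q =>
    simp only [condB, Bool.and_eq_true, Bool.or_eq_true, hble]
    have h1 : 2 ≤ m := hg.1
    have h2 := hg.2.1
    refine ⟨h1, ?_⟩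
    by_cases h : m = 2
    · exact Or.inr (h2 h)
    · left; omega
  | psu n q =>
    simp only [condB, Bool.and_eq_true, Bool.or_eq_true, hble]
    have h1 : 3 ≤ n := hg.1
    have h2 := hg.2.1
    have h3 := hg.2.2.two_le
    refine ⟨h1, ?_⟩
    by_cases h : n = 3
    · right
      by_contra hcon
      exact h2 ⟨h, by omega⟩
    · left; omega
  | oodd m q =>
    simp only [condB, Bool.and_eq_true, hble, Nat.beq_eq]
    exact ⟨hg.1, Nat.odd_iff.1 hg.2.1⟩
  | oplus m q => exact hble.2 hg.1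
  | ominus m q => exact hble.2 hg.1
  | _ => exact hcl.elim

/-- the test for one group `T` -/
def tt (x : Dat) (l a : ℕ) (g : Grp) : Bool :=
  !(condB g) || (Nat.blt (dimOf g) l || (!(Nat.beq (ordN g % ordN x.g) 0) || (
    (ps.any fun u => Nat.ble 5 u && (Nat.beq (ordN g % u) 0 && (!(Nat.beq (ordN g % u ^ 2) 0) &&
      !(Nat.beq (val x.fac % u) 0)))) ||
    ((List.range 73).any fun e => inEB g e && killB (val x.fac) e (Cx.fq g) a))))

def survB (l : ℕ) (x : Dat) : Bool := x.L.all fun h => (List.range (h.1 + 1)).all fun e =>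
  Nat.blt e 3 || (!(Nat.beq (h.1 % e) 0) || (fams e (h.2 ^ (h.1 / e))).all fun g =>
    tt x l (h.1 / e) g || decide ((x.g, g) ∈ excI))

section

variable {gT : Grp} {c : ℕ}

/-- **The finite check.** -/
theorem igNum (hg : Cond gT) (hcl : IsCl gT) (hord : c = ordN gT) {p a : ℕ}
    (hp : p.Prime) (ha : 1 ≤ a) (hq : Cx.fq gT = p ^ a) {x : Dat} {l : ℕ} (hx : okD x = true)
    (hE : survB l x = true) (hps : p ≠ x.s) (hl : l ≤ dimOf gT) (hdiv : ordN x.g ∣ c)
    (h1 : ∀ e r k : ℕ, InE gT e → Prim (Cx.fq gT) e r → ¬ r ∣ a → r ^ k ∣ Cx.fq gT ^ e - 1 → r ^ k ∣ val x.fac)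
    (h2 : ∀ u : ℕ, u.Prime → 5 ≤ u → u ∣ c → ¬ u ^ 2 ∣ c → u ∣ val x.fac) : (x.g, gT) ∈ excI := by
  have hin := topE_in hg hcl
  have he3 := hin.three
  have hq2 : 2 ≤ Cx.fq gT := by
    rw [hq]
    exact hp.two_le.trans (Nat.le_self_pow (by omega) p)
  have hmem : (topE gT * a, p) ∈ x.L := by
    unfold okD at hx
    rw [Bool.and_eq_true] at hx
    refine hits_complete hx.2 (by nlinarith only [ha, he3]) hp hps fun r k hr hk => ?_
    have h3 : Prim (Cx.fq gT) (topE gT) r := by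
      rw [hq]
      exact prim_of_pow ha hr
    refine h1 _ r k hin h3 (fun hd => ?_) ?_
    · have h4 := (prim_mod hr (by nlinarith only [ha, he3])).2
      have h5 := Nat.le_of_dvd (by omega) hd
      have h6 : 1 * a ≤ topE gT * a := Nat.mul_le_mul_right a (by omega)
      omega
    · rw [hq, ← pow_mul, mul_comm a]
      exact hk
  unfold survB at hE
  rw [List.all_eq_true] at hE
  have h3 := hE _ hmem
  rw [List.all_eq_true] at h3
  have h4 := h3 (topE gT) (List.mem_range.2 (by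
    show topE gT < topE gT * a + 1
    nlinarith only [ha]))
  have h5 : topE gT * a % topE gT = 0 := Nat.mul_mod_right _ _
  have h6 : topE gT * a / topE gT = a := Nat.mul_div_cancel_left a (by omega)
  simp only [h5, h6] at h4
  rw [Bool.or_eq_true, Bool.or_eq_true, Nat.blt_eq] at h4
  rcases h4 with h4 | h4 | h4
  · omega
  · exact absurd h4 (by decide)
  rw [List.all_eq_true, ← hq] at h4
  have h7 := h4 gT (mem_fams hg hcl)
  rw [Bool.or_eq_true] at h7
  rcases h7 with h7 | h7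
  swap
  · exact of_decide_eq_true h7
  exfalso
  unfold tt at h7
  simp only [Bool.or_eq_true, Bool.not_eq_true', List.any_eq_true, Bool.and_eq_true, Nat.blt_eq] at h7
  rcases h7 with h7 | h7 | h7 | ⟨u, hu, h7, h8, h9, h10⟩ | ⟨e, he, h7, h8⟩
  · rw [condB_of hg hcl] at h7
    exact absurd h7 (by decide)
  · omega
  · rw [hord] at hdiv
    rw [Nat.mod_eq_zero_of_dvd hdiv] at h7
    exact absurd h7 (by decide)
  · have h7 := Nat.le_of_ble_eq_true h7
    have h8 : c % u = 0 := by rw [hord]; exact Nat.eq_of_beq_eq_true h8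
    have h11 := h2 u (prime_of_mem_ps hu) h7 (Nat.dvd_of_mod_eq_zero h8) (fun h => by
      rw [hord] at h
      rw [Nat.mod_eq_zero_of_dvd h] at h9
      exact absurd h9 (by decide))
    rw [Nat.mod_eq_zero_of_dvd h11] at h10
    exact absurd h10 (by decide)
  · have h9 := inE_of h7
    have h10 := h9.three
    exact kill hq2 (by omega) (by have := List.mem_range.1 he; omega) h8 fun r k h11 h12 h13 =>
      h1 e r k h9 h11 h12 h13

end

/-! ### the checks -/

private noncomputable def _root_.Cfsg.Agent.LsF.fd6399c_36 : {f // @Cfsg.Agent.H884.Ig.fams = f} := ⟨_, by first | (delta Cfsg.Agent.H884.Ig.fams; rewrite [Cfsg.Agent.LsF.nadd_pat, Cfsg.Agent.LsF.ndiv_pat, Cfsg.Agent.LsF.nmod_pat, Cfsg.Agent.LsF.cond_eq]; exact rfl) | exact rfl⟩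
private noncomputable def _root_.Cfsg.Agent.LsF.fd6399c_37 : {f // @Cfsg.Agent.H884.Ig.condB = f} := ⟨_, by first | (delta Cfsg.Agent.H884.Ig.condB; rewrite [Cfsg.Agent.LsF.nmod_pat, Cfsg.Agent.LsF.and_eq, Cfsg.Agent.LsF.or_eq]; (try delta Cfsg.Agent.H884.Ig.topE.match_1); (try delta Cfsg.Agent.H884.Ig.inEB._sparseCasesOn_1); exact rfl) | exact rfl⟩
private noncomputable def _root_.Cfsg.Agent.LsF.fd6399c_38 : {f // @Cfsg.Agent.H278.El.AltNum.dimOf = f} := ⟨_, by first | (delta Cfsg.Agent.H278.El.AltNum.dimOf; rewrite [Cfsg.Agent.LsF.nadd_pat, Cfsg.Agent.LsF.nmul_pat]; (try delta Cfsg.Agent.H278.El.Sieve.qOf.match_1); (try delta Cfsg.Agent.H278.El.Sieve.qOf._sparseCasesOn_1); exact rfl) | exact rfl⟩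
private noncomputable def _root_.Cfsg.Agent.LsF.fd6399c_39 : {f // @Cfsg.Agent.H884.Ig.inEB = f} := ⟨_, by first | (delta Cfsg.Agent.H884.Ig.inEB; rewrite [Cfsg.Agent.LsF.nadd_pat, Cfsg.Agent.LsF.nmul_pat, Cfsg.Agent.LsF.nsub_pat, Cfsg.Agent.LsF.nmod_pat, Cfsg.Agent.LsF.and_eq, Cfsg.Agent.LsF.or_eq]; (try delta Cfsg.Agent.H884.Ig.inEB.match_1); (try delta Cfsg.Agent.H884.Ig.inEB._sparseCasesOn_1); exact rfl) | exact rfl⟩
private noncomputable def _root_.Cfsg.Agent.LsF.fd6399c_28 : {f // @Cfsg.Agent.H884.Ig.bb = f} := ⟨_, by first | (delta Cfsg.Agent.H884.Ig.bb; rewrite [Cfsg.Agent.LsF.nsub_pat, Cfsg.Agent.LsF.ndiv_pat, Cfsg.Agent.LsF.nmod_pat, Cfsg.Agent.LsF.npow_pat, Cfsg.Agent.LsF.cond_eq, Cfsg.Agent.LsF.map_eq, Cfsg.Agent.LsF.prod_eq]; exact rfl) | exact rfl⟩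
private noncomputable def _root_.Cfsg.Agent.LsF.fd6399c_29 : {f // @Cfsg.Agent.H884.Ig.rem = f} := ⟨_, by first | (delta Cfsg.Agent.H884.Ig.rem Nat.brecOn.go Nat.brecOn Cfsg.Agent.H884.Ig.rem._f; rewrite [Cfsg.Agent.LsF.ndiv_pat, Cfsg.Agent.LsF.cond_eq]; (try delta Cfsg.Agent.H884.Ig.rem.match_1); (try delta Nat.casesOn); first | dsimp -zeta only | exact rfl) | exact rfl⟩
private noncomputable def _root_.Cfsg.Agent.LsF.fd6399c_30 : {f // @Cfsg.Agent.H884.Ig.killB = f} := ⟨_, by first | (delta Cfsg.Agent.H884.Ig.killB; rewrite [Cfsg.Agent.LsF.fd6399c_28.2, Cfsg.Agent.LsF.fd6399c_29.2, Cfsg.Agent.LsF.nmul_pat, Cfsg.Agent.LsF.nsub_pat, Cfsg.Agent.LsF.nmod_pat, Cfsg.Agent.LsF.npow_pat, Cfsg.Agent.LsF.and_eq, Cfsg.Agent.LsF.not_eq]; exact rfl) | exact rfl⟩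
private noncomputable def _root_.Cfsg.Agent.LsF.fd6399c_40 : {f // @Cfsg.Agent.H884.Cx.fq = f} := ⟨_, by first | (delta Cfsg.Agent.H884.Cx.fq; (try delta Cfsg.Agent.H884.Cx.dimN.match_1); (try delta Cfsg.Agent.H884.Cx.dimN._sparseCasesOn_1); exact rfl) | exact rfl⟩
private noncomputable def _root_.Cfsg.Agent.LsF.fd6399c_41 : {f // @Cfsg.Agent.H884.Ig.tt = f} := ⟨_, by first | (delta Cfsg.Agent.H884.Ig.tt; rewrite [Cfsg.Agent.LsF.fd6399c_37.2, Cfsg.Agent.LsF.fd6399c_38.2, Cfsg.Agent.LsF.fd6399c_24.2, Cfsg.Agent.LsF.fd6399c_0.2, Cfsg.Agent.LsF.fd6399c_39.2, Cfsg.Agent.LsF.fd6399c_30.2, Cfsg.Agent.LsF.fd6399c_40.2, Cfsg.Agent.LsF.nmod_pat, Cfsg.Agent.LsF.npow_pat, Cfsg.Agent.LsF.and_eq, Cfsg.Agent.LsF.or_eq, Cfsg.Agent.LsF.not_eq, Cfsg.Agent.LsF.any_eq, Cfsg.Agent.LsF.range_eq]; exact rfl) | exact rfl⟩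
private noncomputable def _root_.Cfsg.Agent.LsF.fd6399c_42 : {f // @Cfsg.Agent.H884.Ig.survB = f} := ⟨_, by first | (delta Cfsg.Agent.H884.Ig.survB; rewrite [Cfsg.Agent.LsF.dMemP_pat, Cfsg.Agent.LsF.fd6399c_36.2, Cfsg.Agent.LsF.fd6399c_41.2, Cfsg.Agent.LsF.fd6399c_23.2, Cfsg.Agent.LsF.nadd_pat, Cfsg.Agent.LsF.ndiv_pat, Cfsg.Agent.LsF.nmod_pat, Cfsg.Agent.LsF.npow_pat, Cfsg.Agent.LsF.dProdEq_eq, Cfsg.Agent.LsF.or_eq, Cfsg.Agent.LsF.not_eq, Cfsg.Agent.LsF.all_eq, Cfsg.Agent.LsF.range_eq, Cfsg.Agent.LsF.decide_eq]; exact rfl) | exact rfl⟩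
private noncomputable def _root_.Cfsg.Agent.LsF.fd6399c_43 : {f // @Cfsg.Agent.H927.SgX.lsb = f} := ⟨_, by first | (delta Cfsg.Agent.H927.SgX.lsb; rewrite [Cfsg.Agent.LsF.nmul_pat, Cfsg.Agent.LsF.nsub_pat, Cfsg.Agent.LsF.ndiv_pat, Cfsg.Agent.LsF.nmod_pat, Cfsg.Agent.LsF.npow_pat, Cfsg.Agent.LsF.nmax_pat, Cfsg.Agent.LsF.instDecEq_eq, Cfsg.Agent.LsF.decLe_eq, Cfsg.Agent.LsF.ite_eq]; (try delta Cfsg.Agent.H927.SgX.lsb.match_1); (try delta Cfsg.Agent.H927.SgX.lsb._sparseCasesOn_1); exact rfl) | exact rfl⟩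
private noncomputable def _root_.Cfsg.Agent.LsF.fd6399c_44 : {f // @Cfsg.Agent.H884.Cx.lb = f} := ⟨_, by first | (delta Cfsg.Agent.H884.Cx.lb; rewrite [Cfsg.Agent.LsF.dMemE_pat, Cfsg.Agent.LsF.fd6399c_23.2, Cfsg.Agent.LsF.fd6399c_43.2, Cfsg.Agent.LsF.ite_eq]; exact rfl) | exact rfl⟩
set_option maxRecDepth 100000 in
theorem s_lie0 : (lie0.all fun x => survB (Cx.lb x.g) x) = true := by ((try (rewrite [Cfsg.Agent.LsF.fd6399c_42.2, Cfsg.Agent.LsF.fd6399c_44.2, Cfsg.Agent.LsF.all_eq])); decide +kernel)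
set_option maxRecDepth 100000 in
theorem s_lie1 : (lie1.all fun x => survB (Cx.lb x.g) x) = true := by decide +kernel
set_option maxRecDepth 100000 in
theorem s_lie2 : (lie2.all fun x => survB (Cx.lb x.g) x) = true := by decide +kernel
set_option maxRecDepth 100000 in
theorem s_lie3 : (lie3.all fun x => survB (Cx.lb x.g) x) = true := by decide +kernel
set_option maxRecDepth 100000 in
theorem s_lie4 : (lie4.all fun x => survB (Cx.lb x.g) x) = true := by decide +kernel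
set_option maxRecDepth 100000 in
theorem s_sp0 : (sp0.all fun x => survB 0 x) = true := by ((try (rewrite [Cfsg.Agent.LsF.fd6399c_42.2, Cfsg.Agent.LsF.all_eq])); decide +kernel)
set_option maxRecDepth 100000 in
theorem s_sp1 : (sp1.all fun x => survB 0 x) = true := by ((try (rewrite [Cfsg.Agent.LsF.fd6399c_42.2, Cfsg.Agent.LsF.all_eq])); decide +kernel)
set_option maxRecDepth 100000 in
theorem s_sp2 : (sp2.all fun x => survB 0 x) = true := by decide +kernel
set_option maxRecDepth 100000 in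
theorem s_al0 : (al0.all fun x => survB 0 x) = true := by decide +kernel

end Cfsg.Agent.H884.Ig
end

-- part: H884/IgRow
section
/-!
# Index gaps of classical groups: almost simple subgroups (helper884, for S3561 and S3679)

`T` a classical simple group (not `PSL_2`) in characteristic `p`, `M ≤ T` almost simple with socle `S`:
* `igap_cross` : `S` of Lie type in characteristic `≠ p`, quotient of a perfect subgroup of `GL_N(q)`;
* `igap_alt`   : `S ≅ A_m`;
* `igap_spor`  : `S` sporadic or the Tits group: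

`IGap T M` (a cyclic prime of `T` divides `|T : M|`), or `(S, T)` is in the list `excI`.
-/

set_option autoImplicit false

namespace Cfsg.Agent.H884.Ig

open Cfsg Cfsg.Agent.OrdDiv Cfsg.Agent.H436 Cfsg.Agent.H264.FKS Cfsg.Agent.H915.GN Cfsg.Agent.H899.CG
open Cfsg.Agent.H278.El.SporNum (IsCl)
open Cfsg.Agent.H278.El.AltNum (dimOf)
open Cfsg.Agent.H278.El.CrossNum (Six Few not_few cross_mem crossList)
open Cfsg.Agent.H927.SgX (lsb IsLieN)
open Cfsg.Agent.H884.Cx (fs lb fq)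
open Cfsg.Agent Cfsg.Agent.H902

universe u

/-! ### the side of `T` -/

section T

variable {T : Type} [Group T] [Finite T] [IsSimpleGroup T] {gT : Grp} {M : Subgroup T} {p a : ℕ}

theorem ndf_of {q r : ℕ} (hp : p.Prime) (ha : 1 ≤ a) (hq : q = p ^ a) (hr : ¬ r ∣ a) : NDF q r := by
  rw [hq]
  exact (ndf_iff hp ha).2 hr

/-- the full parts of the cyclic primes divide `|M|` -/
theorem pow_dvd_M (hna : ¬ ∀ x y : T, x * y = y * x) (hp : p.Prime) (ha : 1 ≤ a) (hT : IsNamed gT T)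
    (hch : HasChar p gT) (hq : fq gT = p ^ a) (h : ¬ Cfsg.Agent.H899.CG.IGap T M) {e r k : ℕ} (he : InE gT e)
    (hr : Prim (fq gT) e r) (hra : ¬ r ∣ a) (hk : r ^ k ∣ fq gT ^ e - 1) : r ^ k ∣ Nat.card M :=
  pow_dvd_of_not_iGap h (cyc_named hna hp hT hch he hr (ndf_of hp ha hq hra))
    (pow_dvd_named hT.cond hT.eq he hr hk)

omit [IsSimpleGroup T] in
theorem once_dvd_M (h : ¬ Cfsg.Agent.H899.CG.IGap T M) {u : ℕ} (hu : u.Prime) (h1 : u ∣ Nat.card T)
    (h2 : ¬ u ^ 2 ∣ Nat.card T) : u ∣ Nat.card M := dvd_of_not_iGap h (cyc_of_sq hu h1 h2)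

/-- **The finite check, group form.** -/
theorem igap_dat (hna : ¬ ∀ x y : T, x * y = y * x) (hp : p.Prime) (hT : IsNamed gT T) (hcl : IsCl gT)
    (hch : HasChar p gT) {x : Dat} {l : ℕ} (hx : okD x = true) (hE : survB l x = true) (hps : p ≠ x.s)
    (hl : l ≤ dimOf gT) (hdiv : ordN x.g ∣ Nat.card T)
    (hM : ∀ r k : ℕ, r.Prime → 5 ≤ r → r ^ k ∣ Nat.card M → r ^ k ∣ val x.fac) :
    Cfsg.Agent.H899.CG.IGap T M ∨ (x.g, gT) ∈ excI := by
  by_cases h : Cfsg.Agent.H899.CG.IGap T M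
  · exact Or.inl h
  right
  obtain ⟨a, ha⟩ := Cx.fq_char hcl hch
  have hin := topE_in hT.cond hcl
  have ha1 : 1 ≤ a := by
    by_contra h0
    have h1 : a = 0 := by omega
    rw [h1, pow_zero] at ha
    have h2 : IsPrimePow (fq gT) := by
      obtain ⟨-, hc, -, -⟩ := hT
      cases gT with
      | psl m q => exact hc.2.2
      | psp m q => exact hc.2.2
      | psu m q => exact hc.2.2
      | oodd m q => exact hc.2.2
      | oplus m q => exact hc.2
      | ominus m q => exact hc.2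
      | _ => exact hcl.elim
    rw [ha] at h2
    exact h2.one_lt.ne rfl
  refine igNum (c := Nat.card T) hT.cond hcl hT.ord hp ha1 ha hx hE hps hl hdiv ?_ ?_
  · intro e r k he hr hra hk
    exact hM r k hr.prime (five_le' hr he.three) (pow_dvd_M hna hp ha1 hT hch ha h he hr hra hk)
  · intro u hu h5 h1 h2
    have := hM u 1 hu h5 (by rw [pow_one]; exact once_dvd_M h hu h1 h2)
    rwa [pow_one] at this

/-! ### six cyclic primes -/

theorem six_exp {g : Grp} (hg : Cond g) (hcl : IsCl g) (hN : 37 ≤ dimOf g) : ∃ e : ℕ → ℕ,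
    (∀ i < 6, ∀ j < 6, e i = e j → i = j) ∧ (∀ i < 6, 7 ≤ e i ∧ dimOf g ≤ e i + 12 ∧ InE g (e i)) ∧
      ∀ i < 5, dimOf g ≤ e i + 10 := by
  cases g with
  | psl n q =>
    have hN : 37 ≤ n := hN
    refine ⟨fun i => n - i, fun i hi j hj h => by dsimp only at h; omega, fun i hi => ?_, fun i hi => ?_⟩
    · simp only [InE, dimOf]; omega
    · simp only [dimOf]; omega
  | psp m q =>
    have hN : 37 ≤ 2 * m := hN
    refine ⟨fun i => 2 * (m - i), fun i hi j hj h => by dsimp only at h; omega, fun i hi => ?_, fun i hi => ?_⟩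
    · simp only [InE, dimOf]; omega
    · simp only [dimOf]; omega
  | oodd m q =>
    have hN : 37 ≤ 2 * m + 1 := hN
    refine ⟨fun i => 2 * (m - i), fun i hi j hj h => by dsimp only at h; omega, fun i hi => ?_, fun i hi => ?_⟩
    · simp only [InE, dimOf]; omega
    · simp only [dimOf]; omega
  | oplus m q =>
    have hN : 37 ≤ 2 * m := hN
    refine ⟨fun i => 2 * (m - 1 - i), fun i hi j hj h => by dsimp only at h; (clear * - hN hj h; omega), fun i hi => ?_, fun i hi => ?_⟩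
    · simp only [InE, dimOf]; omega
    · simp only [dimOf]; omega
  | ominus m q =>
    have hN : 37 ≤ 2 * m := hN
    refine ⟨fun i => 2 * (m - i), fun i hi j hj h => by dsimp only at h; omega, fun i hi => ?_, fun i hi => ?_⟩
    · simp only [InE, dimOf]; omega
    · simp only [dimOf]; omega
  | psu n q =>
    have hN : 37 ≤ n := hN
    obtain ⟨k, hk1, hk2, hk3⟩ : ∃ k, k % 2 = 1 ∧ k ≤ n ∧ n ≤ k + 1 := by
      rcases Nat.even_or_odd' n with ⟨j, hj | hj⟩
      · exact ⟨n - 1, by omega, by omega, by omega⟩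
      · exact ⟨n, by omega, le_rfl, by omega⟩
    refine ⟨fun i => 2 * (k - 2 * i), fun i hi j hj h => by dsimp only at h; (clear * - hN hk2 hk3 hj h; omega), fun i hi => ?_, fun i hi => ?_⟩
    · simp only [InE, dimOf]; omega
    · simp only [dimOf]; omega
  | _ => exact hcl.elim

/-- **Six large cyclic primes.** -/
theorem six_cyc (hna : ¬ ∀ x y : T, x * y = y * x) (hp : p.Prime) (hT : IsNamed gT T) (hcl : IsCl gT)
    (hch : HasChar p gT) (hN : 37 ≤ dimOf gT) : ∃ c, Six (dimOf gT) c ∧ ∀ u : ℕ, u.Prime → u ∣ c → Cyc T u := by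
  obtain ⟨e, h1, h2, h3⟩ := six_exp hT.cond hcl hN
  obtain ⟨a, ha⟩ := Cx.fq_char hcl hch
  have hpp : IsPrimePow (fq gT) := by
    obtain ⟨-, hc, -, -⟩ := hT
    cases gT with
    | psl m q => exact hc.2.2
    | psp m q => exact hc.2.2
    | psu m q => exact hc.2.2
    | oodd m q => exact hc.2.2
    | oplus m q => exact hc.2
    | ominus m q => exact hc.2
    | _ => exact hcl.elim
  have h4 : ∀ i, ∃ t, i < 6 → Prim (fq gT) (e i) t ∧ NDF (fq gT) t := by
    intro i
    by_cases hi : i < 6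
    · obtain ⟨t, ht⟩ := exists_prim_ndf hpp (e := e i) (by have := (h2 i hi).1; omega)
        (fun h => by have := (h2 i hi).1; omega)
      exact ⟨t, fun _ => ht⟩
    · exact ⟨0, fun h => absurd h hi⟩
  choose t ht using h4
  refine ⟨∏ i ∈ Finset.range 6, t i, ⟨t, fun i hi j hj hij => h1 i hi j hj ?_, fun i hi =>
    ⟨(ht i hi).1.prime, Finset.dvd_prod_of_mem t (Finset.mem_range.2 hi), ?_⟩, fun i hi => ?_⟩, fun u hu hd => ?_⟩
  · have h5 := (ht i hi).1
    rw [hij] at h5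
    exact h5.unique (ht j hj).1
  · have h5 := (prim_mod (ht i hi).1 (by have := (h2 i hi).1; omega)).2
    have := (h2 i hi).2.1
    omega
  · have hi6 : i < 6 := by omega
    have h5 := (prim_mod (ht i hi6).1 (by have := (h2 i hi6).1; omega)).2
    have := h3 i hi
    omega
  · obtain ⟨i, hi, hd⟩ := (hu.prime.dvd_finsetProd_iff _).1 hd
    have hi := Finset.mem_range.1 hi
    have h5 : u = t i := (Nat.prime_dvd_prime_iff_eq hu (ht i hi).1.prime).1 hd
    rw [h5]
    exact cyc_named hna hp hT hch (h2 i hi).2.2 (ht i hi).1 (ht i hi).2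

end T

/-! ### the side of `S` -/

section S

variable {R : Type u} [Group R] [Finite R]

/-- the diagonal part of the outer automorphism group has order dividing 12 -/
def okdd : Grp → Bool
  | .psl n q => Nat.beq (12 % Nat.gcd n (q - 1)) 0
  | .psu n q => Nat.beq (12 % Nat.gcd n (q + 1)) 0
  | _ => true

theorem dd_dvd {g : Grp} {X : Art.Sh} {s f : ℕ} (hg : Cfsg.Agent.H902.Names.IsLie g X s f) (h : okdd g = true) :
    Art.dd X (s ^ f) ∣ 12 := by
  have h4 : ∀ {a b : ℕ}, a ∣ 12 → Nat.gcd a b ∣ 12 := fun h1 => (Nat.gcd_dvd_left _ _).trans h1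
  cases hg with
  | psl n p f =>
    unfold okdd at h
    exact Nat.dvd_of_mod_eq_zero (Nat.eq_of_beq_eq_true h)
  | psu n p f =>
    unfold okdd at h
    exact Nat.dvd_of_mod_eq_zero (Nat.eq_of_beq_eq_true h)
  | _ => first | exact one_dvd 12 | exact h4 (by norm_num)

/-- **Lie type.** -/
theorem pow_dvd_lie (S : Subgroup R) [S.Normal] [IsSimpleGroup S] (hna : ¬ IsMulCommutative S)
    (hC : Subgroup.centralizer (S : Set R) = ⊥) {s : ℕ} {g : Grp} (hs : s.Prime) (hS : IsNamed g S)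
    (hch : HasChar s g) (hdd : okdd g = true) {f : ℕ} (hf : fs g = s ^ f) {r k : ℕ} (hr : r.Prime) (h5 : 5 ≤ r)
    (h : r ^ k ∣ Nat.card R) : r ^ k ∣ f * ordN g := by
  have h1 := h.trans (dvd_aut S hC)
  rw [← H934.OutB.card_out_mul S hna] at h1
  obtain ⟨X, f₁, h2, h3, h4⟩ := exists_lie hs hS hch
  have hff : f = f₁ := by
    rw [Cx.fs_eq, h4] at hf
    exact (Nat.pow_right_injective hs.two_le hf).symm
  obtain ⟨j, h6, h7, -⟩ := H364.OutLie.card_out (not_comm hna) h2 hS.real h3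
  rw [h6, hS.ord, mul_assoc] at h1
  have h8 : ¬ r ∣ j := by
    intro h9
    rcases hr.dvd_mul.1 (h9.trans h7) with h10 | h10
    · have h11 : r ∣ 24 := h10
      have h12 : r ∣ 2 ^ 3 * 3 := h11
      rcases hr.dvd_mul.1 h12 with h13 | h13
      · have := Nat.le_of_dvd (by norm_num) (hr.dvd_of_dvd_pow h13)
        omega
      · have := Nat.le_of_dvd (by norm_num) h13
        omega
    · have h11 : r ∣ 2 ^ 2 * 3 := h10.trans (dd_dvd h2 hdd)
      rcases hr.dvd_mul.1 h11 with h13 | h13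
      · have := Nat.le_of_dvd (by norm_num) (hr.dvd_of_dvd_pow h13)
        omega
      · have := Nat.le_of_dvd (by norm_num) h13
        omega
  rw [hff]
  exact (Nat.Coprime.pow_left k ((Nat.Prime.coprime_iff_not_dvd hr).2 h8)).dvd_of_dvd_mul_left h1

/-- the list of all the groups of Lie type -/
def lieA : List Dat := lie0 ++ lie1 ++ lie2 ++ lie3 ++ lie4

/-- checks on the list -/
def okL (x : Dat) : Bool := okD x && (survB (lb x.g) x && (Nat.beq (fs x.g) (x.s ^ x.f) && (decide (x.s ∈ ps) &&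
  okdd x.g)))

set_option maxRecDepth 100000 in
theorem aux0 : (lieA.all fun x => Nat.beq (fs x.g) (x.s ^ x.f) && (decide (x.s ∈ ps) && okdd x.g)) = true := by
  decide +kernel

theorem okL_all {x : Dat} (hx : x ∈ lieA) : okL x = true := by
  have h1 := aux0
  rw [List.all_eq_true] at h1
  have h2 := h1 x hx
  have h3 : okD x = true ∧ survB (lb x.g) x = true := by
    have k0 := lie0_ok
    have k1 := lie1_ok
    have k2 := lie2_ok
    have k3 := lie3_ok
    have k4 := lie4_ok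
    have j0 := s_lie0
    have j1 := s_lie1
    have j2 := s_lie2
    have j3 := s_lie3
    have j4 := s_lie4
    rw [List.all_eq_true] at k0 k1 k2 k3 k4 j0 j1 j2 j3 j4
    unfold lieA at hx
    simp only [List.mem_append] at hx
    rcases hx with (((hx | hx) | hx) | hx) | hx
    · exact ⟨k0 x hx, j0 x hx⟩
    · exact ⟨k1 x hx, j1 x hx⟩
    · exact ⟨k2 x hx, j2 x hx⟩
    · exact ⟨k3 x hx, j3 x hx⟩
    · exact ⟨k4 x hx, j4 x hx⟩
  unfold okL
  rw [h3.1, h3.2, h2]
  rfl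

set_option maxRecDepth 100000 in
theorem aux1 : (crossList.all fun y => lieA.any fun x => decide (x.g = y.g)) = true := by decide +kernel

theorem mem_lieA {g : Grp} (hg : Cond g) (hlie : IsLieN g) (hl : lsb g ≤ 36) : ∃ x ∈ lieA, x.g = g := by
  obtain ⟨y, hy, rfl⟩ := cross_mem hg hlie hl
  have h1 := aux1
  rw [List.all_eq_true] at h1
  have h2 := h1 y hy
  rw [List.any_eq_true] at h2
  obtain ⟨x, hx, h3⟩ := h2
  exact ⟨x, hx, of_decide_eq_true h3⟩

set_option maxRecDepth 100000 in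
theorem excM_small : ∀ g ∈ Cx.excM, lsb g ≤ 36 := by decide +kernel

end S

section main

variable {T : Type} [Group T] [Finite T] [IsSimpleGroup T] {gT : Grp} {R : Subgroup T} {p : ℕ}

/-- **The cross characteristic row.** -/
theorem igap_cross (hnaT : ¬ ∀ x y : T, x * y = y * x) (hp : p.Prime) (hT : IsNamed gT T) (hcl : IsCl gT)
    (hchT : HasChar p gT) {ι : Type} [Fintype ι] [DecidableEq ι] {F : Type} [Field F] [Finite F] [CharP F p]
    (hcard : Fintype.card ι = dimOf gT) (S : Subgroup R) [S.Normal] [IsSimpleGroup S]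
    (hna : ¬ IsMulCommutative S) (hC : Subgroup.centralizer (S : Set R) = ⊥) {P : Subgroup (GL ι F)}
    (hP : ⁅P, P⁆ = P) (e : S ≃* P ⧸ (Geo.scalars ι F).subgroupOf P) {s : ℕ} {g : Grp} (hs : s.Prime)
    (hsp : s ≠ p) (hS : IsNamed g S) (hch : HasChar s g) :
    Cfsg.Agent.H899.CG.IGap T R ∨ (g, gT) ∈ excI := by
  have hlie := H927.SgX.isLieN_of_hasChar hch
  have hna' := not_comm hna
  obtain ⟨f, hf⟩ := Cx.fs_char hch
  have hdiv : ordN g ∣ Nat.card T := by
    rw [← hS.ord]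
    exact (Subgroup.card_subgroup_dvd_card S).trans (Subgroup.card_subgroup_dvd_card R)
  have hlb : lb g ≤ dimOf gT := by
    rw [← hcard]
    obtain ⟨e2⟩ := Cx.exists_quot (P := P)
    have hex : ∃ x y : S, x * y ≠ y * x := by
      by_contra h
      push Not at h
      exact hna' h
    refine Cx.lb_le hS.cond hs hch hex hS.real ?_ (P.map (Cx.toFin ι F).toMonoidHom) (Cx.perfect_map hP)
      (e2.trans e.symm)
    intro h0
    have h1 : p ∣ s := (CharP.cast_eq_zero_iff F p s).1 h0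
    exact hsp ((Nat.prime_dvd_prime_iff_eq hp hs).1 h1).symm
  rcases Nat.lt_or_ge (lsb g) 37 with h37 | h37
  · obtain ⟨x, hx, rfl⟩ := mem_lieA hS.cond hlie (by omega)
    have hok := okL_all hx
    unfold okL at hok
    simp only [Bool.and_eq_true] at hok
    obtain ⟨h1, h2, h3, h4, h5⟩ := hok
    have h3 := Nat.eq_of_beq_eq_true h3
    have hxs := prime_of_mem_ps (of_decide_eq_true h4)
    have hf0 : f ≠ 0 := by
      rintro rfl
      have := (Cx.fs_pp hS.cond hlie).one_lt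
      rw [hf, pow_zero] at this
      exact this.ne rfl
    have hsx : s = x.s := by
      have h6 : s ∣ x.s ^ x.f := by rw [← h3, hf]; exact dvd_pow_self s hf0
      exact (Nat.prime_dvd_prime_iff_eq hs hxs).1 (hs.dvd_of_dvd_pow h6)
    refine igap_dat hnaT hp hT hcl hchT h1 h2 (fun h => hsp (by rw [hsx, h])) hlb hdiv fun r k hr hr5 hk => ?_
    have h6 : val x.fac = x.f * ordN x.g := by
      unfold okD at h1
      rw [Bool.and_eq_true] at h1
      exact Nat.eq_of_beq_eq_true h1.1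
    rw [h6]
    refine pow_dvd_lie S hna hC hs hS hch h5 ?_ hr hr5 hk
    rw [h3, hsx]
  · left
    by_contra hcon
    have hM : g ∉ Cx.excM := fun h => by have := excM_small g h; omega
    have hlb' : lsb g ≤ dimOf gT := by
      unfold lb at hlb
      rwa [if_neg hM] at hlb
    obtain ⟨c, h6, h7⟩ := six_cyc hnaT hp hT hcl hchT (h37.trans hlb')
    have hF := Cfsg.Agent.H262.Few.few hS.cond hlie hS.eq hs (by rw [← Cx.fs_eq]; exact hf) h37
    have h8 : ∀ u, u.Prime → u ∣ c → Cyc T u := h7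
    obtain ⟨t, ht1, ht2, ht3⟩ := h6
    refine not_few (N := dimOf gT) (c := ∏ i ∈ Finset.range 6, t i) ⟨t, ht1, fun i hi => ⟨(ht2 i hi).1,
      Finset.dvd_prod_of_mem t (Finset.mem_range.2 hi), (ht2 i hi).2.2⟩, ht3⟩ hlb' (fun u hu hd => ?_) hF
    obtain ⟨i, hi, hd⟩ := (hu.prime.dvd_finsetProd_iff _).1 hd
    have hi := Finset.mem_range.1 hi
    have h9 : u = t i := (Nat.prime_dvd_prime_iff_eq hu (ht2 i hi).1).1 hd
    have h10 : u ∣ Nat.card R := dvd_of_not_iGap hcon (h8 u hu (by rw [h9]; exact (ht2 i hi).2.1))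
    have hu5 : 5 ≤ u := by
      have := (ht2 i hi).2.2
      omega
    have h11 := h10.trans (dvd_aut S hC)
    rw [← H934.OutB.card_out_mul S hna] at h11
    rcases hu.dvd_mul.1 h11 with h12 | h12
    · rcases Cx.dvd_of_out' hna' hs hS hch hu hu5 h12 with h13 | h13
      · exact h13.mul_left _
      · exact ((h13 f hf).mul_left 6).mul_right _
    · exact h12.mul_left _

/-! ### alternating socle -/

theorem card_alt_dvd {m : ℕ} (hm : 5 ≤ m) {A : Type} [Group A] [Finite A] (S : Subgroup A) [S.Normal]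
    (hC : Subgroup.centralizer (S : Set A) = ⊥) (e : S ≃* alternatingGroup (Fin m)) {r k : ℕ}
    (hr : r.Prime) (h5 : 5 ≤ r) (h : r ^ k ∣ Nat.card A) : r ^ k ∣ 4 * (m.factorial / 2) := by
  by_cases h6 : m = 6
  · subst h6
    have := Fact.mk Nat.prime_three
    let : Fintype (GaloisField 3 2) := Fintype.ofFinite _
    have h9 : Fintype.card (GaloisField 3 2) = 9 := by
      rw [← Nat.card_eq_fintype_card, GaloisField.card 3 2 (by norm_num)]
      norm_num
    obtain ⟨e2⟩ := Cfsg.Agent.S0254.result h9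
    have hs6 : IsSimpleGroup (alternatingGroup (Fin 6)) :=
      alternatingGroup.isSimpleGroup (by rw [Nat.card_eq_fintype_card, Fintype.card_fin]; norm_num)
    have hsS : IsSimpleGroup S := e.isSimpleGroup
    have hNS : IsNamed (.psl 2 9) S := by
      have h1 := psl_eq (F := GaloisField 3 2) (n := 2) le_rfl
      have hc : Nat.card S = Nat.card (Matrix.ProjectiveSpecialLinearGroup (Fin 2) (GaloisField 3 2)) :=
        Nat.card_congr (e.trans e2.symm).toEquiv
      refine .mk' ⟨GaloisField 3 2, inferInstance, inferInstance, h9, ⟨e.trans e2.symm⟩⟩ ⟨le_rfl, fun _ => by norm_num,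
        ?_⟩ ?_
      · exact (isPrimePow_nat_iff _).2 ⟨3, 2, by norm_num, by norm_num, by norm_num⟩
      · rw [hc]
        rw [h9] at h1
        exact h1
    have hna : ¬ IsMulCommutative S := by
      intro hc
      have h1 : Nat.card S = 360 := by
        rw [hNS.ord]
        decide +kernel
      let : CommGroup S := { mul_comm := hc.is_comm.comm }
      have h2 := IsSimpleGroup.prime_card (α := S)
      rw [h1] at h2
      exact absurd h2 (by norm_num)
    have h7 := pow_dvd_lie S hna hC Nat.prime_three hNS ⟨2, by norm_num⟩ (by decide +kernel) (f := 2)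
      (by norm_num [fs]) hr h5 h
    refine h7.trans ?_
    decide +kernel
  · have h1 := h.trans (dvd_aut S hC)
    rw [Nat.card_congr (MulAut.congr e).toEquiv] at h1
    have h2 : Nat.card (MulAut (alternatingGroup (Fin m))) = Nat.card (Equiv.Perm (Fin m)) :=
      (Nat.card_congr (Equiv.ofBijective _ (S2119.result m (by omega) h6))).symm
    rw [h2, Nat.card_perm, Nat.card_eq_fintype_card, Fintype.card_fin] at h1
    refine h1.trans ?_
    obtain ⟨t, ht⟩ : 2 ∣ m.factorial := (Nat.factorial_dvd_factorial (show 2 ≤ m by omega))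
    rw [ht, Nat.mul_div_cancel_left t (by norm_num)]
    exact ⟨2, by ring⟩

theorem card_alternating {m : ℕ} (hm : 5 ≤ m) : Nat.card (alternatingGroup (Fin m)) = m.factorial / 2 := by
  have : Nontrivial (Fin m) := Fin.nontrivial_iff_two_le.2 (by omega)
  rw [nat_card_alternatingGroup, Nat.card_eq_fintype_card, Fintype.card_fin]

theorem prim_big {q e r : ℕ} (h : Prim q e r) (he : 3 ≤ e) (h3 : e % 2 = 1 ∨ e % 3 = 2) : 2 * e + 1 ≤ r := by
  obtain ⟨h1, h2⟩ := prim_mod h (by omega)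
  have h5 := five_le' h he
  by_contra hcon
  push Not at hcon
  have h4 : r = e + 1 := by
    have h6 := Nat.div_add_mod r e
    rw [h1] at h6
    have h7 : r / e = 1 := by
      have h8 : r / e < 2 := by
        rw [Nat.div_lt_iff_lt_mul (by omega)]
        rcases Nat.lt_or_ge r (2 * e) with h9 | h9
        · omega
        · exfalso
          have h10 : r = 2 * e := by omega
          rw [h10, Nat.mul_mod_left] at h1
          omega
      have h9 : 0 < r / e := Nat.div_pos (by omega) (by omega)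
      omega
    rw [h7, mul_one] at h6
    omega
  rcases h3 with h3 | h3
  · have h6 : 2 ∣ r := by omega
    have := (Nat.prime_dvd_prime_iff_eq Nat.prime_two h.prime).1 h6
    omega
  · have h6 : 3 ∣ r := by omega
    have := (Nat.prime_dvd_prime_iff_eq Nat.prime_three h.prime).1 h6
    omega

/-- an exponent all of whose primitive primes are larger than `m` -/
theorem exists_big {m : ℕ} {g : Grp} (hg : Cond g) (hcl : IsCl g) (hm : 11 ≤ m) (hN : m ≤ dimOf g + 2) :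
    ∃ e, InE g e ∧ 7 ≤ e ∧ ∀ q r, Prim q e r → m < r := by
  have key : ∀ e, InE g e → 7 ≤ e → (e % 2 = 1 ∨ e % 3 = 2) → m ≤ 2 * e →
      ∃ e, InE g e ∧ 7 ≤ e ∧ ∀ q r, Prim q e r → m < r := fun e h1 h2 h3 h4 =>
    ⟨e, h1, h2, fun q r h => by have := prim_big h (by omega) h3; omega⟩
  cases g with
  | psl n q =>
    have hN : m ≤ n + 2 := hN
    rcases Nat.even_or_odd' n with ⟨k, hk | hk⟩
    · exact key (n - 1) (by simp only [InE]; omega) (by omega) (by omega) (by omega)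
    · exact key n (by simp only [InE]; omega) (by omega) (by omega) (by omega)
  | psp k q =>
    have hN : m ≤ 2 * k + 2 := hN
    have h3 : k % 3 = 1 ∨ k % 3 = 2 ∨ k % 3 = 0 := by omega
    rcases h3 with h3 | h3 | h3
    · exact key (2 * k) (by simp only [InE]; omega) (by omega) (by omega) (by omega)
    · exact key (2 * k - 2) (by simp only [InE]; (clear * - hm hN; omega)) (by omega) (by omega) (by omega)
    · exact key (2 * k - 4) (by simp only [InE]; (clear * - hm hN; omega)) (by omega) (by omega) (by omega)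
  | oodd k q =>
    have hN : m ≤ 2 * k + 1 + 2 := hN
    have h3 : k % 3 = 1 ∨ k % 3 = 2 ∨ k % 3 = 0 := by omega
    rcases h3 with h3 | h3 | h3
    · exact key (2 * k) (by simp only [InE]; (clear * - hm hN; omega)) (by omega) (by omega) (by omega)
    · exact key (2 * k - 2) (by simp only [InE]; (clear * - hm hN; omega)) (by omega) (by omega) (by omega)
    · exact key (2 * k - 4) (by simp only [InE]; omega) (by omega) (by omega) (by omega)
  | oplus k q =>
    have hN : m ≤ 2 * k + 2 := hN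
    have h3 : k % 3 = 1 ∨ k % 3 = 2 ∨ k % 3 = 0 := by omega
    rcases h3 with h3 | h3 | h3
    · exact key (2 * k - 6) (by simp only [InE]; omega) (by omega) (by omega) (by omega)
    · exact key (2 * k - 2) (by simp only [InE]; (clear * - hm hN; omega)) (by omega) (by omega) (by omega)
    · exact key (2 * k - 4) (by simp only [InE]; omega) (by omega) (by omega) (by omega)
  | ominus k q =>
    have hN : m ≤ 2 * k + 2 := hN
    have h3 : k % 3 = 1 ∨ k % 3 = 2 ∨ k % 3 = 0 := by omega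
    rcases h3 with h3 | h3 | h3
    · exact key (2 * k) (by simp only [InE]; omega) (by omega) (by omega) (by omega)
    · exact key (2 * k - 2) (by simp only [InE]; omega) (by omega) (by omega) (by omega)
    · exact key (2 * k - 4) (by simp only [InE]; omega) (by omega) (by omega) (by omega)
  | psu n q =>
    have hN : m ≤ n + 2 := hN
    have key2 : ∀ e, InE (.psu n q) e → 7 ≤ e → m ≤ e →
        ∃ e, InE (.psu n q) e ∧ 7 ≤ e ∧ ∀ q r, Prim q e r → m < r := fun e h1 h2 h4 =>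
      ⟨e, h1, h2, fun q r h => by have := (prim_mod h (by omega)).2; omega⟩
    rcases Nat.even_or_odd' n with ⟨k, hk | hk⟩
    · exact key2 (2 * (n - 1)) (by simp only [InE]; omega) (by omega) (by omega)
    · exact key2 (2 * n) (by simp only [InE]; omega) (by omega) (by omega)
  | _ => exact hcl.elim

set_option maxRecDepth 100000 in
theorem aux2 : ∀ m < 11, 5 ≤ m → ∃ x ∈ al0, x.g = .alt m ∧ x.f = 4 ∧ x.s = 0 := by decide +kernel

/-- **Alternating socle.** -/
theorem igap_alt (hnaT : ¬ ∀ x y : T, x * y = y * x) (hp : p.Prime) (hT : IsNamed gT T) (hcl : IsCl gT)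
    (hchT : HasChar p gT) (S : Subgroup R) [S.Normal] (hC : Subgroup.centralizer (S : Set R) = ⊥) {m : ℕ}
    (hm : 5 ≤ m) (e : S ≃* alternatingGroup (Fin m)) (hN : 9 ≤ m → m ≤ dimOf gT + 2) :
    Cfsg.Agent.H899.CG.IGap T R ∨ (.alt m, gT) ∈ excI := by
  have hcard : Nat.card S = m.factorial / 2 := by rw [Nat.card_congr e.toEquiv, card_alternating hm]
  rcases Nat.lt_or_ge m 11 with h11 | h11
  · obtain ⟨x, hx, h1, h2, h3⟩ := aux2 m h11 hm
    rw [← h1]
    have k1 := al0_ok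
    have k2 := s_al0
    rw [List.all_eq_true] at k1 k2
    have h4 := k1 x hx
    refine igap_dat hnaT hp hT hcl hchT h4 (k2 x hx) (by rw [h3]; exact hp.ne_zero) (Nat.zero_le _) ?_ ?_
    · rw [h1]
      change m.factorial / 2 ∣ _
      rw [← hcard]
      exact (Subgroup.card_subgroup_dvd_card S).trans (Subgroup.card_subgroup_dvd_card R)
    · intro r k hr h5 h
      have h6 : val x.fac = x.f * ordN x.g := by
        unfold okD at h4
        rw [Bool.and_eq_true] at h4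
        exact Nat.eq_of_beq_eq_true h4.1
      rw [h6, h2, h1]
      exact card_alt_dvd hm S hC e hr h5 h
  · left
    by_contra hcon
    obtain ⟨e₀, h1, h2, h3⟩ := exists_big hT.cond hcl h11 (hN (by omega))
    have hpp : IsPrimePow (fq gT) := by
      obtain ⟨-, hc, -, -⟩ := hT
      cases gT with
      | psl m q => exact hc.2.2
      | psp m q => exact hc.2.2
      | psu m q => exact hc.2.2
      | oodd m q => exact hc.2.2
      | oplus m q => exact hc.2
      | ominus m q => exact hc.2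
      | _ => exact hcl.elim
    obtain ⟨r, hr, hnd⟩ := exists_prim_ndf hpp (e := e₀) (by omega) (fun h => by omega)
    have h4 := h3 _ r hr
    have h5 : r ∣ Nat.card R := dvd_of_not_iGap hcon (cyc_named hnaT hp hT hchT h1 hr hnd)
    have h6 := card_alt_dvd hm S hC e (k := 1) hr.prime (by omega) (by rw [pow_one]; exact h5)
    rw [pow_one] at h6
    obtain ⟨t, ht⟩ : 2 ∣ m.factorial := (Nat.factorial_dvd_factorial (show 2 ≤ m by omega))
    have h7 : r ∣ 2 * m.factorial := by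
      rw [ht, Nat.mul_div_cancel_left t (by norm_num)] at h6
      rw [ht]
      refine h6.trans ⟨1, by ring⟩
    rcases hr.prime.dvd_mul.1 h7 with h8 | h8
    · have := Nat.le_of_dvd (by norm_num) h8
      omega
    · have := (hr.prime.dvd_factorial).1 h8
      omega

/-! ### sporadic socle -/

/-- the sporadic groups -/
def spA : List Dat := sp0 ++ sp1 ++ sp2

set_option maxRecDepth 100000 in
theorem aux3 : ∀ y ∈ spor, ∃ x ∈ spA, x.g = y.1 ∧ x.f = 2 ∧ x.s = 0 := by decide +kernel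

theorem okS_all {x : Dat} (hx : x ∈ spA) : okD x = true ∧ survB 0 x = true := by
  have k0 := sp0_ok
  have k1 := sp1_ok
  have k2 := sp2_ok
  have j0 := s_sp0
  have j1 := s_sp1
  have j2 := s_sp2
  rw [List.all_eq_true] at k0 k1 k2 j0 j1 j2
  unfold spA at hx
  simp only [List.mem_append] at hx
  rcases hx with (hx | hx) | hx
  · exact ⟨k0 x hx, j0 x hx⟩
  · exact ⟨k1 x hx, j1 x hx⟩
  · exact ⟨k2 x hx, j2 x hx⟩

/-- **Sporadic socle.** -/
theorem igap_spor (hnaT : ¬ ∀ x y : T, x * y = y * x) (hp : p.Prime) (hT : IsNamed gT T) (hcl : IsCl gT)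
    (hchT : HasChar p gT) (S : Subgroup R) [S.Normal] [IsSimpleGroup S] (hna : ¬ IsMulCommutative S)
    (hC : Subgroup.centralizer (S : Set R) = ⊥) {y : Grp × ℕ} (hy : y ∈ spor) (hS : IsNamed y.1 S)
    (hout : ∀ r : ℕ, r.Prime → 5 ≤ r → ¬ r ∣ Nat.card (Cfsg.Out S)) :
    Cfsg.Agent.H899.CG.IGap T R ∨ (y.1, gT) ∈ excI := by
  obtain ⟨x, hx, h1, h2, h3⟩ := aux3 y hy
  obtain ⟨h4, h5⟩ := okS_all hx
  rw [← h1]
  refine igap_dat hnaT hp hT hcl hchT h4 h5 (by rw [h3]; exact hp.ne_zero) (Nat.zero_le _) ?_ ?_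
  · rw [h1, ← hS.ord]
    exact (Subgroup.card_subgroup_dvd_card S).trans (Subgroup.card_subgroup_dvd_card R)
  · intro r k hr hr5 h
    have h6 : val x.fac = x.f * ordN x.g := by
      unfold okD at h4
      rw [Bool.and_eq_true] at h4
      exact Nat.eq_of_beq_eq_true h4.1
    have h7 := h.trans (dvd_aut S hC)
    rw [← H934.OutB.card_out_mul S hna] at h7
    rw [h6, h1, ← hS.ord]
    exact ((Nat.Coprime.pow_left k ((Nat.Prime.coprime_iff_not_dvd hr).2 (hout r hr hr5))).dvd_of_dvd_mul_left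
      h7).mul_left _

end main

end Cfsg.Agent.H884.Ig
end

-- part: H884/RowAllA
section
/-!
# Rows of the classical groups for S3561 and S3679: the residual class, any classical group (helper884)

* `AS g M`  : `M` is almost simple, with socle named `g`;
* `OutSpor` : no prime `≥ 5` divides `|Out S|`, `S` sporadic;
* `res_ig`  : `T` a classical simple group in characteristic `p`, `R ≤ T` almost simple with socle `S` named `g`,
  quotient of a perfect `P ≤ GL(ι, F)` by its scalars, `|ι|` the dimension of `T`: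
  `IGap T R`, or `(g, T)` is in the list `excI`, or `S` is of Lie type in characteristic `p`.
-/

set_option autoImplicit false

namespace Cfsg.Agent.H884.Row

open Cfsg Cfsg.Agent.OrdDiv Cfsg.Agent.H436 Cfsg.Agent.H264.FKS Cfsg.Agent.H915.GN
open Cfsg.Agent.H278.El.SporNum (IsCl)
open Cfsg.Agent.H278.El.AltNum (dimOf)
open Cfsg.Agent.H927.SgX (IsLieN)
open Cfsg.Agent.H884.Ig

universe u

/-- `M` is almost simple with socle named `g` -/
def AS (g : Grp) {T : Type u} [Group T] (M : Subgroup T) : Prop :=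
  ∃ S : Subgroup M, S.Normal ∧ IsSimpleGroup S ∧ ¬ IsMulCommutative S ∧ Subgroup.centralizer (S : Set M) = ⊥ ∧
    IsNamed g S

/-- no prime `≥ 5` divides `|Out S|`, `S` sporadic -/
def OutSpor : Prop := ∀ (S : Type) [Group S], ∀ y ∈ spor, IsNamed y.1 S →
  ∀ r : ℕ, r.Prime → 5 ≤ r → ¬ r ∣ Nat.card (Cfsg.Out S)

/-- all simple groups are known -/
def KnownS : Prop := ∀ (X : Type) [Group X] [Finite X] [IsSimpleGroup X], Cfsg.IsKnownSimple' X

theorem exists_char_of {q : ℕ} (h : IsPrimePow q) : ∃ s, s.Prime ∧ ∃ f, q = s ^ f := by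
  obtain ⟨s, f, hs, -, h⟩ := (isPrimePow_nat_iff q).1 h
  exact ⟨s, hs, f, h.symm⟩

theorem exists_charN {g : Grp} (hg : Cond g) (hlie : IsLieN g) : ∃ s, s.Prime ∧ HasChar s g := by
  cases g with
  | psl n q => exact exists_char_of hg.2.2
  | psp n q => exact exists_char_of hg.2.2
  | psu n q => exact exists_char_of hg.2.2
  | oodd n q => exact exists_char_of hg.2.2
  | oplus n q => exact exists_char_of hg.2
  | ominus n q => exact exists_char_of hg.2
  | g2 q => exact exists_char_of hg.2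
  | f4 q => exact exists_char_of hg
  | e6 q => exact exists_char_of hg
  | e7 q => exact exists_char_of hg
  | e8 q => exact exists_char_of hg
  | te6 q => exact exists_char_of hg
  | td4 q => exact exists_char_of hg
  | sz q => obtain ⟨m, -, h⟩ := hg; exact ⟨2, Nat.prime_two, _, h⟩
  | ree q => obtain ⟨m, -, h⟩ := hg; exact ⟨3, Nat.prime_three, _, h⟩
  | tf4 q => obtain ⟨m, -, h⟩ := hg; exact ⟨2, Nat.prime_two, _, h⟩
  | _ => exact hlie.elim

/-- the three kinds of names -/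
theorem name_cases (g : Grp) : (∃ m, g = .alt m) ∨ (∃ x ∈ spor, x.1 = g) ∨ IsLieN g := by
  cases g with
  | alt m => exact .inl ⟨m, rfl⟩
  | psl n q => exact .inr (.inr trivial)
  | psp n q => exact .inr (.inr trivial)
  | psu n q => exact .inr (.inr trivial)
  | oodd n q => exact .inr (.inr trivial)
  | oplus n q => exact .inr (.inr trivial)
  | ominus n q => exact .inr (.inr trivial)
  | g2 q => exact .inr (.inr trivial)
  | f4 q => exact .inr (.inr trivial)
  | e6 q => exact .inr (.inr trivial)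
  | e7 q => exact .inr (.inr trivial)
  | e8 q => exact .inr (.inr trivial)
  | te6 q => exact .inr (.inr trivial)
  | td4 q => exact .inr (.inr trivial)
  | sz q => exact .inr (.inr trivial)
  | ree q => exact .inr (.inr trivial)
  | tf4 q => exact .inr (.inr trivial)
  | _ => exact .inr (.inl (by simp only [spor, List.mem_cons, exists_eq_or_imp, true_or, or_true, reduceCtorEq,
      false_or]))

/-- the degree of an alternating section of a linear group -/
theorem alt_bound {ι : Type} [Fintype ι] [DecidableEq ι] {F : Type} [Field F] [Finite F] (P : Subgroup (GL ι F))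
    (K : Subgroup P) [K.Normal] {m : ℕ} (hm : 9 ≤ m) (e : P ⧸ K ≃* alternatingGroup (Fin m)) :
    m ≤ Fintype.card ι + 2 := by
  obtain ⟨p, hp⟩ := CharP.exists F
  have h1 := Cfsg.Agent.H189.FeitTits.feit_tits p (V := ι → F) hm (e.toMonoidHom.comp (QuotientGroup.mk' K))
    (e.surjective.comp (QuotientGroup.mk'_surjective K))
    (((Matrix.toLinAlgEquiv' : Matrix ι ι F ≃ₐ[F] _).toAlgHom.toRingHom.toMonoidHom.comp
      (Units.coeHom (Matrix ι ι F))).comp P.subtype) ?_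
  · rw [Module.finrank_fintype_fun_eq_card] at h1
    split_ifs at h1 <;> omega
  · intro g hg
    have h2 : g = 1 := Subtype.ext (((Matrix.toLinAlgEquiv' : Matrix ι ι F ≃ₐ[F] _).injective.comp
      Units.val_injective) (by rw [← map_one ((Matrix.toLinAlgEquiv' : Matrix ι ι F ≃ₐ[F] _))] at hg; exact hg))
    rw [h2, map_one]

theorem named_of_simple (tab : OrderTable.{0}) (hK : KnownS) {S : Type} [Group S] [Finite S] [IsSimpleGroup S]
    (hna : ¬ IsMulCommutative S) : ∃ g, IsNamed g S :=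
  exists_named tab (hK S) fun h => hna ⟨⟨h⟩⟩

/-- **The residual class.** -/
theorem res_ig {T : Type} [Group T] [Finite T] [IsSimpleGroup T] {gT : Grp} {R : Subgroup T} {p : ℕ}
    (hO : OutSpor) (hp : p.Prime) (hT : IsNamed gT T) (hcl : IsCl gT) (hchT : HasChar p gT)
    {ι : Type} [Fintype ι] [DecidableEq ι] {F : Type} [Field F] [Finite F] [CharP F p]
    (hcard : Fintype.card ι = dimOf gT) (S : Subgroup R) [S.Normal] [IsSimpleGroup S]
    (hna : ¬ IsMulCommutative S) (hC : Subgroup.centralizer (S : Set R) = ⊥) {P : Subgroup (GL ι F)}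
    (hP : ⁅P, P⁆ = P) (e : S ≃* P ⧸ (Geo.scalars ι F).subgroupOf P) {g : Grp} (hS : IsNamed g S) :
    Cfsg.Agent.H899.CG.IGap T R ∨ (g, gT) ∈ excI ∨ HasChar p g := by
  have hnaT : ¬ ∀ x y : T, x * y = y * x := fun h => hna ⟨⟨fun a b => Subtype.ext (Subtype.ext (h _ _))⟩⟩
  rcases name_cases g with ⟨m, rfl⟩ | ⟨x, hx, rfl⟩ | hlie
  · obtain ⟨e1⟩ := hS.real
    have hm : 5 ≤ m := hS.cond
    rcases igap_alt hnaT hp hT hcl hchT S hC hm e1 (fun h9 => by
      rw [← hcard]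
      exact alt_bound P _ h9 (e.symm.trans e1)) with h | h
    · exact .inl h
    · exact .inr (.inl h)
  · rcases igap_spor hnaT hp hT hcl hchT S hna hC hx hS (hO S x hx hS) with h | h
    · exact .inl h
    · exact .inr (.inl h)
  · obtain ⟨s, hs, hch⟩ := exists_charN hS.cond hlie
    by_cases hsp : s = p
    · subst hsp
      exact .inr (.inr hch)
    · rcases igap_cross hnaT hp hT hcl hchT hcard S hna hC hP e hs hsp hS hch with h | h
      · exact .inl h
      · exact .inr (.inl h)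

end Cfsg.Agent.H884.Row
end

private theorem dce_f05dba671ac5 : _root_.True := by
  try have : _root_.True := by simp only [_root_.Cfsg.Agent.H884.Cx.fs.eq_15]
  try have : _root_.True := by simp only [_root_.Cfsg.Agent.H884.Cx.fq.eq_5]
  try have : _root_.True := by simp only [_root_.Cfsg.Agent.H884.Cx.fs.eq_7]
  try have : _root_.True := by simp only [_root_.Cfsg.Agent.H884.Cx.fq.eq_1]
  try have : _root_.True := by simp only [_root_.Cfsg.Agent.H884.Cx.fs.eq_9]
  try have : _root_.True := by simp only [_root_.Cfsg.Agent.H884.Ig.condB.eq_4]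
  try have : _root_.True := by simp only [_root_.Cfsg.Agent.H884.Cx.fs.eq_16]
  try have : _root_.True := by simp only [_root_.Cfsg.Agent.H278.El.AltNum.dimOf.eq_1]
  try have : _root_.True := by simp only [_root_.Cfsg.Agent.H884.Ig.condB.eq_2]
  try have : _root_.True := by simp only [_root_.Cfsg.Agent.H278.El.Sieve.qOf._sparseCasesOn_1.else_eq]
  try have : _root_.True := by simp only [_root_.Cfsg.Agent.H884.Cx.fs.eq_3]
  try have : _root_.True := by simp only [_root_.Cfsg.Agent.H884.Cx.fs.eq_17]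
  try have : _root_.True := by simp only [_root_.Cfsg.Agent.H884.Ig.topE.eq_1]
  try have : _root_.True := by simp only [_root_.Cfsg.Agent.H884.Cx.dimN._sparseCasesOn_1.else_eq]
  try have : _root_.True := by simp only [_root_.Cfsg.Agent.H884.Ig.topE.eq_5]
  try have : _root_.True := by simp only [_root_.Cfsg.Agent.H884.Ig.inEB.eq_6]
  try have : _root_.True := by simp only [_root_.Cfsg.Agent.H278.El.AltNum.dimOf.eq_3]
  try have : _root_.True := by simp only [_root_.Cfsg.Agent.H884.Ig.condB.eq_6]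
  try have : _root_.True := by simp only [_root_.Cfsg.Agent.H884.Cx.fs.eq_5]
  try have : _root_.True := by simp only [_root_.Cfsg.Agent.H884.Cx.fs.eq_12]
  try have : _root_.True := by simp only [_root_.Cfsg.Agent.H884.Ig.inEB.eq_1]
  try have : _root_.True := by simp only [_root_.Cfsg.Agent.H278.El.AltNum.dimOf.eq_5]
  try have : _root_.True := by simp only [_root_.Cfsg.Agent.H884.Ig.inEB.eq_2]
  try have : _root_.True := by simp only [_root_.Cfsg.Agent.H884.Ig.topE.eq_3]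
  try have : _root_.True := by simp only [_root_.Cfsg.Agent.H278.El.AltNum.dimOf.eq_7]
  try have : _root_.True := by simp only [_root_.Cfsg.Agent.H884.Cx.fs.eq_13]
  try have : _root_.True := by simp only [_root_.Cfsg.Agent.H884.Cx.fq.eq_2]
  try have : _root_.True := by simp only [_root_.Cfsg.Agent.H278.El.AltNum.dimOf.eq_4]
  try have : _root_.True := by simp only [_root_.Cfsg.Agent.H884.Ig.topE.eq_7]
  try have : _root_.True := by simp only [_root_.Cfsg.Agent.H884.Cx.fs._sparseCasesOn_1.else_eq]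
  try have : _root_.True := by simp only [_root_.Cfsg.Agent.H884.Ig.inEB.eq_4]
  try have : _root_.True := by simp only [_root_.Cfsg.Agent.H884.Cx.fq.eq_6]
  try have : _root_.True := by simp only [_root_.Cfsg.Agent.H884.Cx.fs.eq_10]
  try have : _root_.True := by simp only [_root_.Cfsg.Agent.H884.Cx.fs.eq_14]
  try have : _root_.True := by simp only [_root_.Cfsg.Agent.H884.Ig.condB.eq_1]
  try have : _root_.True := by simp only [_root_.Cfsg.Agent.H884.Cx.fq.eq_4]
  try have : _root_.True := by simp only [_root_.Cfsg.Agent.H884.Ig.inEB.eq_7]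
  try have : _root_.True := by simp only [_root_.Cfsg.Agent.H884.Ig.topE.eq_4]
  try have : _root_.True := by simp only [_root_.Cfsg.Agent.H884.Ig.inEB.eq_5]
  try have : _root_.True := by simp only [_root_.Cfsg.Agent.H884.Ig.topE.eq_6]
  try have : _root_.True := by simp only [_root_.Cfsg.Agent.H278.El.AltNum.dimOf.eq_2]
  try have : _root_.True := by simp only [_root_.Cfsg.Agent.H884.Ig.inEB._sparseCasesOn_1.else_eq]
  try have : _root_.True := by simp only [_root_.Cfsg.Agent.H884.Cx.fq.eq_7]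
  try have : _root_.True := by simp only [_root_.Cfsg.Agent.H884.Cx.fs.eq_1]
  try have : _root_.True := by simp only [_root_.Cfsg.Agent.H884.Cx.fs.eq_2]
  try have : _root_.True := by simp only [_root_.Cfsg.Agent.H884.Ig.condB.eq_3]
  try have : _root_.True := by simp only [_root_.Cfsg.Agent.H884.Ig.topE.eq_2]
  try have : _root_.True := by simp only [_root_.Cfsg.Agent.H884.Ig.inEB.eq_3]
  try have : _root_.True := by simp only [_root_.Cfsg.Agent.H278.El.AltNum.dimOf.eq_6]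
  try have : _root_.True := by simp only [_root_.Cfsg.Agent.H884.Cx.fs.eq_11]
  try have : _root_.True := by simp only [_root_.Cfsg.Agent.H884.Ig.fams.eq_1]
  try have : _root_.True := by simp only [_root_.Cfsg.Agent.H884.Cx.fq.eq_3]
  try have : _root_.True := by simp only [_root_.Cfsg.Agent.H884.Cx.fs.eq_6]
  try have : _root_.True := by simp only [_root_.Cfsg.Agent.H884.Ig.condB.eq_5]
  try have : _root_.True := by simp only [_root_.Cfsg.Agent.H884.Cx.fs.eq_8]
  try have : _root_.True := by simp only [_root_.Cfsg.Agent.H884.Cx.fs.eq_4]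
  try have : _root_.True := by simp only [_root_.Cfsg.Agent.H884.Ig.condB.eq_7]
  exact _root_.True.intro
end

-- part: H884/RowAllB_mg
section
prune_inst 0x1000010044001000000000020000200070000000000000000800004009088120800021000000000c0240208000000000000000000000000000000000000000000000020001500c00000000000000000000000000000000000000000000000000000000000
set_option linter.all false
open scoped Cfsg.Agent.FastGrp

-- part: H884/RowAllB
section
/-!
# Rows of the classical groups for S3561 and S3679: the residual classes (helper884)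

`T` a concrete classical group over `F`, `M ≤ T` in the residual class: `IGap T M`, or the socle of `M` and `T` are in
the list `excI`, or the socle of `M` is of Lie type in the characteristic of `F`.
-/

set_option autoImplicit false

namespace Cfsg.Agent.H884.Row

open Cfsg Cfsg.Geo Cfsg.Agent.OrdDiv Cfsg.Agent.H436 Cfsg.Agent.H264.FKS Cfsg.Agent.H915.GN
open Cfsg.Agent.H278.El.SporNum (IsCl)
open Cfsg.Agent.H278.El.AltNum (dimOf)
open Cfsg.Agent.H884.Ig Cfsg.Agent.H899.CG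
open scoped MatrixGroups

universe u

/-- `M` is almost simple with socle named `g`, which is the residual core of `H ≤ GL(ι, F)` modulo scalars -/
def ASR (g : Grp) {T : Type u} [Group T] (M : Subgroup T) {ι : Type} [Fintype ι] [DecidableEq ι] {F : Type} [Field F]
    (H : Subgroup (GL ι F)) : Prop :=
  ∃ S : Subgroup M, S.Normal ∧ IsSimpleGroup S ∧ ¬ IsMulCommutative S ∧ Subgroup.centralizer (S : Set M) = ⊥ ∧
    IsNamed g S ∧ ∃ P : Subgroup (GL ι F), IsResidualCore H P ∧ Nonempty (S ≃* P ⧸ (scalars ι F).subgroupOf P)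

theorem ASR.as {g : Grp} {T : Type u} [Group T] {M : Subgroup T} {ι : Type} [Fintype ι] [DecidableEq ι] {F : Type}
    [Field F] {H : Subgroup (GL ι F)} (h : ASR g M H) : AS g M := by
  obtain ⟨S, h1, h2, h3, h4, h5, -⟩ := h
  exact ⟨S, h1, h2, h3, h4, h5⟩

theorem charP_of {F : Type} [Field F] [Fintype F] {p : ℕ} (hp : p.Prime) (h : p ∣ Fintype.card F) : CharP F p := by
  obtain ⟨r, hr⟩ := CharP.exists F
  obtain ⟨n, hrp, hn⟩ := FiniteField.card F r
  rw [hn] at h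
  have h1 : p = r := (Nat.prime_dvd_prime_iff_eq hp hrp).1 (hp.dvd_of_dvd_pow h)
  rw [h1]
  exact hr

theorem card_char {F : Type} [Field F] [Fintype F] {p : ℕ} (hp : p.Prime) (h : p ∣ Fintype.card F) :
    ∃ f, Fintype.card F = p ^ f := by
  have := charP_of hp h
  obtain ⟨n, -, hn⟩ := FiniteField.card F p
  exact ⟨n, hn⟩

/-! ### Names of the classical groups -/

section names

variable (F : Type) [Field F] [Fintype F]

theorem nm_psl {n : ℕ} (hn : 2 ≤ n) (h2 : n = 2 → 4 ≤ Fintype.card F) :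
    IsNamed (.psl n (Fintype.card F)) (Matrix.ProjectiveSpecialLinearGroup (Fin n) F) :=
  .mk' ⟨F, inferInstance, inferInstance, rfl, ⟨MulEquiv.refl _⟩⟩ ⟨hn, h2, Fintype.isPrimePow_card_of_field⟩ (psl_eq hn)

theorem nm_psp {n : ℕ} (hn : 2 ≤ n) (h2 : n = 2 → 3 ≤ Fintype.card F) :
    IsNamed (.psp n (Fintype.card F)) (PSp n F) :=
  .mk' ⟨F, inferInstance, inferInstance, rfl, ⟨MulEquiv.refl _⟩⟩ ⟨hn, h2, Fintype.isPrimePow_card_of_field⟩ (psp_eq hn)

theorem nm_psu {n q : ℕ} (hF : Fintype.card F = q ^ 2) (hn : 3 ≤ n) (h2 : ¬ (n = 3 ∧ q = 2)) :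
    IsNamed (.psu n q) (PSU n F q) := by
  have hq2 : IsPrimePow (q ^ 2) := hF ▸ Fintype.isPrimePow_card_of_field
  have hqp : IsPrimePow q := (isPrimePow_pow_iff (by norm_num)).1 hq2
  exact .mk' ⟨F, inferInstance, inferInstance, hF, ⟨MulEquiv.refl _⟩⟩ ⟨hn, h2, hqp⟩ (psu_eq hF hn)

theorem nm_oodd {n : ℕ} (hn : 3 ≤ n) (ho : Odd (Fintype.card F)) :
    IsNamed (.oodd n (Fintype.card F)) (POmega F (quadFormOdd n F)) :=
  .mk' ⟨F, inferInstance, inferInstance, rfl, ⟨MulEquiv.refl _⟩⟩ ⟨hn, ho, Fintype.isPrimePow_card_of_field⟩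
    (oodd_eq hn ho)

theorem nm_oplus {n : ℕ} (hn : 4 ≤ n) : IsNamed (.oplus n (Fintype.card F)) (POmega F (quadFormPlus n F)) :=
  .mk' ⟨F, inferInstance, inferInstance, rfl, ⟨MulEquiv.refl _⟩⟩ ⟨hn, Fintype.isPrimePow_card_of_field⟩
    (oplus_eq hn)

theorem nm_ominus {n : ℕ} (hn : 4 ≤ n) {a b : F}
    (hab : ∀ z₁ z₂ : F, z₁ ^ 2 + a * z₁ * z₂ + b * z₂ ^ 2 = 0 → z₁ = 0 ∧ z₂ = 0) :
    IsNamed (.ominus n (Fintype.card F)) (POmega F (quadFormMinus (n - 1) F a b)) :=
  .mk' ⟨F, inferInstance, inferInstance, a, b, rfl, hab, ⟨MulEquiv.refl _⟩⟩ ⟨hn, Fintype.isPrimePow_card_of_field⟩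
    (ominus_eq hn hab)

end names

/-- **The residual class, from the socle.** -/
theorem res_gen (tab : OrderTable.{0}) (hK : KnownS) (hO : OutSpor) {T : Type} [Group T] [Finite T] [IsSimpleGroup T]
    {gT : Grp} {R : Subgroup T} {p : ℕ} (hp : p.Prime) (hT : IsNamed gT T) (hcl : IsCl gT) (hchT : HasChar p gT)
    {ι : Type} [Fintype ι] [DecidableEq ι] {F : Type} [Field F] [Fintype F] (hpF : p ∣ Fintype.card F)
    (hcard : Fintype.card ι = dimOf gT) {H P : Subgroup (GL ι F)} (hP : IsResidualCore H P) (hS : SocleOf R P) :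
    Cfsg.Agent.H899.CG.IGap T R ∨ (∃ g, ASR g R H ∧ (g, gT) ∈ excI) ∨ ∃ g, ASR g R H ∧ HasChar p g := by
  obtain ⟨S, hSn, hSs, hna, hC, ⟨e⟩⟩ := hS
  obtain ⟨g, hg⟩ := named_of_simple tab hK hna
  have := charP_of hp hpF
  have hA : ASR g R H := ⟨S, hSn, hSs, hna, hC, hg, P, hP, ⟨e⟩⟩
  rcases res_ig hO hp hT hcl hchT hcard S hna hC hP.perfect e hg with h | h | h
  · exact .inl h
  · exact .inr (.inl ⟨g, hA, h⟩)
  · exact .inr (.inr ⟨g, hA, h⟩)

section rows

variable {F : Type} [Field F] [Fintype F]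

/-- **`PSL_n(q)`, `n ≥ 3`.** -/
theorem res_psl (tab : OrderTable.{0}) (hK : KnownS) (hO : OutSpor) {n p : ℕ} (hn : 3 ≤ n) (hp : p.Prime)
    (hpF : p ∣ Fintype.card F) {M : Subgroup (Matrix.ProjectiveSpecialLinearGroup (Fin n) F)}
    (hM : InLinearResidualClass (H304.PslT.pre M)) :
    IGap _ M ∨ (∃ g, ASR g M (H304.PslT.pre M) ∧ (g, Grp.psl n (Fintype.card F)) ∈ excI) ∨
      ∃ g, ASR g M (H304.PslT.pre M) ∧ HasChar p g := by
  obtain ⟨P, hP, -⟩ := hM
  have hs : IsSimpleGroup (Matrix.ProjectiveSpecialLinearGroup (Fin n) F) :=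
    LieClassical.SLGen.psl_isSimpleGroup (by rw [Fintype.card_fin]; exact hn)
  have hfin : Finite (Matrix.ProjectiveSpecialLinearGroup (Fin n) F) := Quotient.finite _
  exact res_gen tab hK hO hp (nm_psl F (by omega) (by omega)) hn (card_char hp hpF) hpF (Fintype.card_fin n) hP
    (exists_socle (Matrix.SpecialLinearGroup.toGL (n := Fin n) (R := F)) H304.PslT.toGL_injective
      (H304.PslT.pr n F) (QuotientGroup.mk'_surjective _)
      (fun x => (QuotientGroup.eq_one_iff x).trans (H304.PslT.center_iff (by omega))) hP)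

/-- **`PSU_n(q)`, `n ≥ 3`.** -/
theorem res_psu (tab : OrderTable.{0}) (hK : KnownS) (hO : OutSpor) {n q p : ℕ} (hF : Fintype.card F = q ^ 2)
    (hn : 3 ≤ n) (h32 : ¬ (n = 3 ∧ q = 2)) (hp : p.Prime) (hpq : p ∣ q) {M : Subgroup (PSU n F q)}
    (hM : InUnitaryResidualClass (H251.GeoU.pre M)) :
    IGap _ M ∨ (∃ g, ASR g M (H251.GeoU.pre M) ∧ (g, Grp.psu n q) ∈ excI) ∨
      ∃ g, ASR g M (H251.GeoU.pre M) ∧ HasChar p g := by
  obtain ⟨P, hP, -⟩ := hM
  have hs : IsSimpleGroup (PSU n F q) := S0283.result hF n hn h32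
  have : Finite (SU n F q) := Finite.of_injective _ H918.suHom_injective
  have hfin : Finite (PSU n F q) := Quotient.finite _
  have hT := nm_psu F hF hn h32
  obtain ⟨p', f, hp', hf, hpf⟩ := (isPrimePow_nat_iff _).1 hT.cond.2.2
  have hpp : p = p' := by
    rw [← hpf] at hpq
    exact (Nat.prime_dvd_prime_iff_eq hp hp').1 (hp.dvd_of_dvd_pow hpq)
  exact res_gen tab hK hO hp hT trivial ⟨f, by rw [hpp, hpf]⟩ (hF ▸ (hpq.trans (dvd_pow_self q (by norm_num))))
    (Fintype.card_fin n) hP (exists_res_psu hF hn hP)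

omit [Fintype F] in
theorem hker_sp' {m : ℕ} (x : Matrix.symplecticGroup (Fin m) F) :
    QuotientGroup.mk' (Subgroup.center (Matrix.symplecticGroup (Fin m) F)) x = 1 ↔
      H876.spToGL m F x ∈ scalars (Fin m ⊕ Fin m) F := by
  rw [show QuotientGroup.mk' (Subgroup.center (Matrix.symplecticGroup (Fin m) F)) x = 1 ↔
    x ∈ Subgroup.center (Matrix.symplecticGroup (Fin m) F) from QuotientGroup.eq_one_iff x]
  constructor
  · intro h
    obtain ⟨a, ha⟩ := (LieClassical.SympCenter.mem_center_iff m x).1 h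
    rcases isEmpty_or_nonempty (Fin m ⊕ Fin m) with hι | ⟨⟨i⟩⟩
    · have : H876.spToGL m F x = 1 := Units.ext (by ext i; exact (hι.false i).elim)
      rw [this]
      exact Subgroup.one_mem _
    · have ha0 : a ≠ 0 := by
        rintro rfl
        rw [zero_smul] at ha
        have h3 : (0 : Matrix (Fin m ⊕ Fin m) (Fin m ⊕ Fin m) F) = 1 := by
          have h1 : x.1 * (x⁻¹).1 = 1 := congrArg Subtype.val (mul_inv_cancel x)
          rw [ha, zero_mul] at h1
          exact h1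
        have h4 := congrFun (congrFun h3 i) i
        rw [Matrix.zero_apply, Matrix.one_apply_eq] at h4
        exact zero_ne_one h4
      refine ⟨Units.mk0 a ha0, Units.ext ?_⟩
      ext i j
      have h5 := congrFun (congrFun ha i) j
      change (Matrix.scalar (Fin m ⊕ Fin m) a) i j = x.1 i j
      rw [h5, Matrix.scalar_apply, Matrix.smul_apply, Matrix.diagonal_apply, Matrix.one_apply]
      split_ifs <;> simp
  · rintro ⟨u, hu⟩
    refine (LieClassical.SympCenter.mem_center_iff m x).2 ⟨(u : F), ?_⟩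
    have h1 := congrArg Units.val hu
    ext i j
    have h5 := congrFun (congrFun h1 i) j
    change (Matrix.scalar (Fin m ⊕ Fin m) (u : F)) i j = x.1 i j at h5
    rw [← h5, Matrix.scalar_apply, Matrix.smul_apply, Matrix.diagonal_apply, Matrix.one_apply]
    split_ifs <;> simp

/-- **`PSp_2m(q)`, `m ≥ 2`.** -/
theorem res_psp (tab : OrderTable.{0}) (hK : KnownS) (hO : OutSpor) {m p : ℕ} (hm : 2 ≤ m)
    (h2 : m = 2 → 3 ≤ Fintype.card F) (hp : p.Prime) (hpF : p ∣ Fintype.card F) {M : Subgroup (PSp m F)}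
    (hM : InSymplecticResidualClass (H262.El.pre M)) :
    IGap _ M ∨ (∃ g, ASR g M (H262.El.pre M) ∧ (g, Grp.psp m (Fintype.card F)) ∈ excI) ∨
      ∃ g, ASR g M (H262.El.pre M) ∧ HasChar p g := by
  obtain ⟨P, hP, -⟩ := hM
  have hs : IsSimpleGroup (PSp m F) := S0270.result m hm h2
  have hfin : Finite (PSp m F) := Quotient.finite _
  exact res_gen tab hK hO hp (nm_psp F hm h2) trivial (card_char hp hpF) hpF
    (by rw [Fintype.card_sum, Fintype.card_fin]; exact (two_mul m).symm) hP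
    (exists_socle (H876.spToGL m F) H262.El.spToGL_injective _ (QuotientGroup.mk'_surjective _) hker_sp' hP)

/-- **`Ω_{2m+1}(q)`, `m ≥ 3`.** -/
theorem res_oodd (tab : OrderTable.{0}) (hK : KnownS) (hO : OutSpor) {m p : ℕ} (hm : 3 ≤ m)
    (hodd : Odd (Fintype.card F)) (hp : p.Prime) (hpF : p ∣ Fintype.card F) {M : Subgroup (POmega F (quadFormOdd m F))}
    (hM : InOrthogonalResidualClass (H884.El.pre (quadFormOdd m F) M)) :
    IGap _ M ∨ (∃ g, ASR g M (H884.El.pre (quadFormOdd m F) M) ∧ (g, Grp.oodd m (Fintype.card F)) ∈ excI) ∨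
      ∃ g, ASR g M (H884.El.pre (quadFormOdd m F) M) ∧ HasChar p g := by
  obtain ⟨P, hP, -⟩ := hM
  have hs : IsSimpleGroup (POmega F (quadFormOdd m F)) := S0295.result hodd m hm
  have hfin : Finite (POmega F (quadFormOdd m F)) := Quotient.finite _
  refine res_gen tab hK hO hp (nm_oodd F hm hodd) trivial (card_char hp hpF) hpF ?_ hP
    (exists_res_odd hm hodd (M := M) hP)
  rw [Fintype.card_sum, Fintype.card_sum, Fintype.card_fin, Fintype.card_unit]
  change 1 + (m + m) = 2 * m + 1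
  omega

/-- **`PΩ⁺_{2m}(q)`, `m ≥ 4`.** -/
theorem res_oplus (tab : OrderTable.{0}) (hK : KnownS) (hO : OutSpor) {m p : ℕ} (hm : 4 ≤ m) (hp : p.Prime)
    (hpF : p ∣ Fintype.card F) {M : Subgroup (POmega F (quadFormPlus m F))}
    (hM : InOrthogonalResidualClass (H884.El.pre (quadFormPlus m F) M)) :
    IGap _ M ∨ (∃ g, ASR g M (H884.El.pre (quadFormPlus m F) M) ∧ (g, Grp.oplus m (Fintype.card F)) ∈ excI) ∨
      ∃ g, ASR g M (H884.El.pre (quadFormPlus m F) M) ∧ HasChar p g := by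
  obtain ⟨P, hP, -⟩ := hM
  have hs : IsSimpleGroup (POmega F (quadFormPlus m F)) := S0296.result m hm
  have hfin : Finite (POmega F (quadFormPlus m F)) := Quotient.finite _
  refine res_gen tab hK hO hp (nm_oplus F hm) trivial (card_char hp hpF) hpF ?_ hP (exists_res_plus hm (M := M) hP)
  rw [Fintype.card_sum, Fintype.card_fin]
  exact (two_mul m).symm

/-- **`PΩ⁻_{2m}(q)`, `m ≥ 4`.** -/
theorem res_ominus (tab : OrderTable.{0}) (hK : KnownS) (hO : OutSpor) {m p : ℕ} (hm : 4 ≤ m) {a b : F}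
    (hab : ∀ z₁ z₂ : F, z₁ ^ 2 + a * z₁ * z₂ + b * z₂ ^ 2 = 0 → z₁ = 0 ∧ z₂ = 0) (hp : p.Prime)
    (hpF : p ∣ Fintype.card F) {M : Subgroup (POmega F (quadFormMinus (m - 1) F a b))}
    (hM : InOrthogonalResidualClass (H884.El.pre (quadFormMinus (m - 1) F a b) M)) :
    IGap _ M ∨ (∃ g, ASR g M (H884.El.pre (quadFormMinus (m - 1) F a b) M) ∧
      (g, Grp.ominus m (Fintype.card F)) ∈ excI) ∨
      ∃ g, ASR g M (H884.El.pre (quadFormMinus (m - 1) F a b) M) ∧ HasChar p g := by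
  obtain ⟨P, hP, -⟩ := hM
  have hs : IsSimpleGroup (POmega F (quadFormMinus (m - 1) F a b)) := S0297.result m hm a b hab
  have hfin : Finite (POmega F (quadFormMinus (m - 1) F a b)) := Quotient.finite _
  refine res_gen tab hK hO hp (nm_ominus F hm hab) trivial (card_char hp hpF) hpF ?_ hP
    (exists_res_minus hm a b hab (M := M) hP)
  rw [Fintype.card_sum, Fintype.card_sum, Fintype.card_fin, Fintype.card_fin]
  change m - 1 + (m - 1) + 2 = 2 * m
  omega

end rows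

end Cfsg.Agent.H884.Row
end

-- part: H597/CycLa
section
/-!
# Cyclic primes of `PSL_n(q)` (helper597, for helper899: S3679 and S3561)

* `cycW_psl` : a prime `u` primitive for `q ^ e - 1`, `2 ≤ e ≤ n < 2 e`, is weakly cyclic for `PSL_n(q)`;
* `cyc_psl'` : `Cyc` if moreover `u ≥ 5` and `NDF q u`; `cyc_psl` : the case `3 ≤ e`.
-/

set_option autoImplicit false
set_option linter.style.haveILetI false

namespace Cfsg.Agent.H597.CycL

open Matrix Cfsg Cfsg.Geo Module Cfsg.Agent.H728.DghpNum Cfsg.Agent.H304.Ppd Cfsg.Agent.H304.PslT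
open Cfsg.Agent.H899.CG Cfsg.Agent.H884.Cg Cfsg.Agent.H951 Cfsg.Agent.H436 Cfsg.Agent.OrdDiv Cfsg.Agent.H915.GN

theorem ppd_of_prim {q e u : ℕ} (hq : 1 ≤ q) (h : Prim q e u) : Ppd q e u := by
  refine ⟨h.prime, ?_, h.not_dvd⟩
  apply Nat.dvd_antisymm
  · rw [← Lib.Zsigmondy.dvd_pow_sub_one_iff hq]
    exact (h.dvd_iff e).2 dvd_rfl
  · rw [← h.dvd_iff, Lib.Zsigmondy.dvd_pow_sub_one_iff hq]

/-- **Primitive primes not dividing the field exponent.** -/
theorem exists_ppd_ndf {F : Type*} [Field F] [Fintype F] {e : ℕ} (he : 3 ≤ e) (h6 : ¬ (Fintype.card F = 2 ∧ e = 6)) :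
    ∃ u, Ppd (Fintype.card F) e u ∧ NDF (Fintype.card F) u := by
  obtain ⟨u, h1, h2⟩ := exists_prim_ndf (q := Fintype.card F) Fintype.isPrimePow_card_of_field he h6
  exact ⟨u, ppd_of_prim Fintype.card_pos h1, h2⟩

/-- `NDF` for powers -/
theorem ndf_pow {q r u : ℕ} (hq : IsPrimePow q) (hr : 1 ≤ r) (hu : u.Prime) (hur : ¬ u ∣ r) (h : NDF q u) :
    NDF (q ^ r) u := by
  obtain ⟨p, f, hp, hf, rfl⟩ := (isPrimePow_nat_iff q).1 hq
  rw [← pow_mul, ndf_iff hp (Nat.mul_pos hf hr)]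
  intro hd
  rcases hu.dvd_mul.1 hd with h1 | h1
  · exact h p f hp rfl h1
  · exact hur h1

/-- two primes -/
theorem not_comm_of_primes {T : Type*} [Group T] [Finite T] [IsSimpleGroup T] {r s : ℕ} (hr : r.Prime) (hs : s.Prime)
    (hrs : r ≠ s) (h1 : r ∣ Nat.card T) (h2 : s ∣ Nat.card T) : ¬ ∀ a b : T, a * b = b * a := by
  intro hc
  have := Fact.mk hr
  obtain ⟨x, hx⟩ := exists_prime_orderOf_dvd_card' r h1
  have hn : (Subgroup.zpowers x).Normal := ⟨fun n hn g => by rw [hc g n, mul_inv_cancel_right]; exact hn⟩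
  rcases hn.eq_bot_or_eq_top with h | h
  · rw [Subgroup.zpowers_eq_bot] at h
    rw [h, orderOf_one] at hx
    exact hr.one_lt.ne hx
  · have h3 : Nat.card T = r := by
      rw [← hx, ← Nat.card_zpowers, h, Subgroup.card_top]
    rw [h3] at h2
    exact hrs ((Nat.prime_dvd_prime_iff_eq hs hr).1 h2).symm

section rep

variable {F : Type*} [Field F] {n : ℕ}

/-- the natural representation -/
noncomputable def rep (n : ℕ) (F : Type*) [Field F] : Matrix.SpecialLinearGroup (Fin n) F →* Module.End F (Fin n → F) where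
  toFun x := Matrix.toLin' (x : Matrix (Fin n) (Fin n) F)
  map_one' := by
    rw [Matrix.SpecialLinearGroup.coe_one, Matrix.toLin'_one]
    rfl
  map_mul' x y := by
    rw [Matrix.SpecialLinearGroup.coe_mul, Matrix.toLin'_mul]
    rfl

theorem rep_injective : Function.Injective (rep n F) := fun _ _ h =>
  Subtype.ext (Matrix.toLin'.injective h)

variable [Fintype F]

/-- the centre of `SL_n(q)` -/
theorem not_dvd_center {e u : ℕ} (hu : Ppd (Fintype.card F) e u) (he : 2 ≤ e) :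
    ¬ u ∣ Nat.card (Subgroup.center (Matrix.SpecialLinearGroup (Fin n) F)) := by
  intro h
  rw [Nat.card_congr (Matrix.SpecialLinearGroup.center_equiv_rootsOfUnity (n := Fin n) (R := F)).toEquiv] at h
  have h1 := h.trans (Subgroup.card_subgroup_dvd_card (rootsOfUnity (max (Fintype.card (Fin n)) 1) F))
  rw [Nat.card_units, Nat.card_eq_fintype_card] at h1
  have h2 := (hu.dvd_iff 1).1 (by rwa [pow_one])
  have := Nat.le_of_dvd one_pos h2
  omega

/-- **Weakly cyclic primes of `PSL_n(q)`.** -/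
theorem cycW_psl {e u : ℕ} (he : 2 ≤ e) (hen : e ≤ n) (hn : n < 2 * e) (hu : Ppd (Fintype.card F) e u) :
    CycW (Matrix.ProjectiveSpecialLinearGroup (Fin n) F) u := by
  have hlt := hu.lt
  have := Fact.mk hu.prime
  have h0 : (u : F) ≠ 0 := hu.natCast_ne (k := 1) (by rw [pow_one])
  refine cycW_of (pr n F) (QuotientGroup.mk'_surjective _) ?_ hu.prime (by omega) h0 ?_ (dvd_card he hen hu)
    (rep n F) rep_injective (show 0 < e by omega) (show e ≤ 2 * e by omega) ?_ ?_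
  · rw [QuotientGroup.ker_mk']
  · rw [QuotientGroup.ker_mk']
    exact not_dvd_center hu he
  · intro g hg hg1
    have hx : rep n F g ^ u = 1 := by rw [← map_pow, hg, map_one]
    have h1 := ord_dvd_finrank hx inv_cm (inf_fx_of_le_cm h0 hx le_rfl)
    rw [hu.ord] at h1
    have h2 : finrank F ↥(cm (rep n F g)) ≤ n := by
      have := Submodule.finrank_le (cm (rep n F g))
      rwa [finrank_fintype_fun_eq_card, Fintype.card_fin] at this
    have h3 : finrank F ↥(cm (rep n F g)) ≠ 0 := by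
      intro h4
      have h5 := Submodule.finrank_eq_zero.1 h4
      apply hg1
      apply rep_injective
      rw [map_one]
      exact sub_eq_zero.1 (LinearMap.range_eq_bot.1 h5)
    obtain ⟨c, hc⟩ := h1
    rcases c with _ | _ | c
    · rw [mul_zero] at hc
      exact absurd hc h3
    · rw [hc, zero_add, mul_one]
    · exfalso
      rw [hc] at h2
      have : e * 2 ≤ e * (c + 1 + 1) := Nat.mul_le_mul_left e (by omega)
      omega
  · intro g hg U hU hUf hU0
    have hx : rep n F g ^ u = 1 := by rw [← map_pow, hg, map_one]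
    have h1 := ord_dvd_finrank hx hU hUf
    rw [hu.ord] at h1
    exact Nat.le_of_dvd (Nat.pos_of_ne_zero fun h => hU0 (Submodule.finrank_eq_zero.1 h)) h1

end rep

section cyc

variable {F : Type} [Field F] [Fintype F] {n : ℕ}

theorem not_comm_psl (hn : 3 ≤ n) :
    ¬ ∀ a b : Matrix.ProjectiveSpecialLinearGroup (Fin n) F, a * b = b * a := by
  haveI : IsSimpleGroup (Matrix.ProjectiveSpecialLinearGroup (Fin n) F) :=
    LieClassical.SLGen.psl_isSimpleGroup (by rw [Fintype.card_fin]; exact hn)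
  haveI : Finite (Matrix.ProjectiveSpecialLinearGroup (Fin n) F) := Quotient.finite _
  obtain ⟨u, hu⟩ := exists_ppd (q := Fintype.card F) (e := 3) Fintype.one_lt_card le_rfl (by omega)
  have := hu.lt
  exact not_comm_of_primes Nat.prime_two hu.prime (by omega) (even_card hn) (dvd_card (by norm_num) hn hu)

/-- **Cyclic primes of `PSL_n(q)`.** -/
theorem cyc_psl' {e u : ℕ} (hn3 : 3 ≤ n) (he : 2 ≤ e) (hen : e ≤ n) (hn : n < 2 * e) (hu : Ppd (Fintype.card F) e u)
    (h5 : 5 ≤ u) (hndf : NDF (Fintype.card F) u) : Cyc (Matrix.ProjectiveSpecialLinearGroup (Fin n) F) u := by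
  haveI : IsSimpleGroup (Matrix.ProjectiveSpecialLinearGroup (Fin n) F) :=
    LieClassical.SLGen.psl_isSimpleGroup (by rw [Fintype.card_fin]; exact hn3)
  haveI : Finite (Matrix.ProjectiveSpecialLinearGroup (Fin n) F) := Quotient.finite _
  obtain ⟨p, a, hp, ha, hpa⟩ := (isPrimePow_nat_iff _).1 (Fintype.isPrimePow_card_of_field (α := F))
  have hT : IsNamed (.psl n (Fintype.card F)) (Matrix.ProjectiveSpecialLinearGroup (Fin n) F) :=
    .mk' ⟨F, inferInstance, inferInstance, rfl, ⟨MulEquiv.refl _⟩⟩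
      ⟨by omega, by omega, Fintype.isPrimePow_card_of_field⟩ (psl_eq (by omega))
  refine cyc_of_weak (g := .psl n (Fintype.card F)) (not_comm_psl hn3) hp hT ⟨a, hpa.symm⟩ h5 hndf ?_
    (cycW_psl he hen hn hu)
  show ¬ u ∣ Fintype.card F - 1
  intro h
  have h2 := (hu.dvd_iff 1).1 (by rwa [pow_one])
  have := Nat.le_of_dvd one_pos h2
  omega

/-- **Cyclic primes of `PSL_n(q)`.** -/
theorem cyc_psl {e u : ℕ} (he3 : 3 ≤ e) (he : e ≤ n) (hn : n < 2 * e) (hu : Prim (Fintype.card F) e u)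
    (hndf : NDF (Fintype.card F) u) : Cyc (Matrix.ProjectiveSpecialLinearGroup (Fin n) F) u := by
  have hP := ppd_of_prim Fintype.card_pos hu
  refine cyc_psl' (he3.trans he) (by omega) he hn hP ?_ hndf
  have h1 := hP.lt
  by_contra hcon
  have h4 : u = 4 := by omega
  have := hu.prime
  rw [h4] at this
  exact absurd this (by norm_num)

end cyc

end Cfsg.Agent.H597.CycL
end

-- part: H597/CycLb
section
/-!
# The geometric maximal subgroups of `PSL_n(q)`, `n ≥ 3`: cyclic gaps (helper597, for helper899: S3679 and S3561)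

Every geometric maximal subgroup `M` has a `Cyc` prime `u ∣ |T|`, `u ∤ |M|`, except the stabilisers of points and
hyperplanes in `PSL_6(2)` and the normaliser of a Singer cycle in `PSL_3(q)`. Modelled on `H304.GeoL`.
-/

set_option autoImplicit false
set_option linter.style.haveILetI false

namespace Cfsg.Agent.H597.CycL

open Matrix Cfsg Cfsg.Geo Cfsg.Agent.H728.DghpNum Cfsg.Agent.H304.Ppd Cfsg.Agent.H304.PslT
  Cfsg.Agent.H251.GeoCard Cfsg.Agent.H899.CG

variable {F : Type} [Field F] [Fintype F] {n : ℕ}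

omit [Field F] in
theorem five_le {e u : ℕ} (hP : Ppd (Fintype.card F) e u) (he : 3 ≤ e) : 5 ≤ u := by
  have h1 := hP.lt
  by_contra hcon
  have h4 : u = 4 := by omega
  have := hP.prime
  rw [h4] at this
  exact absurd this (by norm_num)

theorem gap_of_elt {M : Subgroup (Matrix.ProjectiveSpecialLinearGroup (Fin n) F)} {e u : ℕ}
    (hn3 : 3 ≤ n) (hP : Ppd (Fintype.card F) e u) (hndf : NDF (Fintype.card F) u) (h5 : 5 ≤ u) (he : 2 ≤ e)
    (hen : e ≤ n) (hne : n < 2 * e) (h : ∀ x ∈ pre M, orderOf x = u → False) : CGap _ M := by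
  refine ⟨u, cyc_psl' hn3 he hen hne hP h5 hndf, fun hd => ?_⟩
  obtain ⟨x, hx, hxM⟩ := exists_of_dvd hP.prime hd
  exact h x hxM hx

theorem gap_of_card {M : Subgroup (Matrix.ProjectiveSpecialLinearGroup (Fin n) F)} {e u : ℕ}
    (hn3 : 3 ≤ n) (hP : Ppd (Fintype.card F) e u) (hndf : NDF (Fintype.card F) u) (h5 : 5 ≤ u) (he : 2 ≤ e)
    (hen : e ≤ n) (hne : n < 2 * e) {X : Subgroup (GL (Fin n) F)}
    (hX : pre M ≤ X) (h : ¬ u ∣ Nat.card X) : CGap _ M := by
  refine gap_of_elt hn3 hP hndf h5 he hen hne fun x hx hxu => h ?_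
  rw [← hxu, ← Subgroup.orderOf_mk x (hX hx)]
  exact _root_.orderOf_dvd_natCard _

theorem dvd_iff' {q e u : ℕ} (hP : Ppd q e u) {m : ℕ} (h : _root_.Cfsg.Agent.H251.GeoCard.Div u q m) : e ≤ m := by
  obtain ⟨i, h1, h2, h3⟩ := h
  have := Nat.le_of_dvd h1 ((hP.dvd_iff i).mp h3)
  omega

/-- a good prime for the classes 2, 4, 7 -/
theorem exists_good (hn : 3 ≤ n) : ∃ e u : ℕ, Ppd (Fintype.card F) e u ∧ n < u ∧ n < 2 * e ∧ e ≤ n ∧ 3 ≤ e ∧
    NDF (Fintype.card F) u := by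
  by_cases h : Fintype.card F = 2 ∧ n = 6
  · obtain ⟨hF, rfl⟩ := h
    obtain ⟨u, hu, hndf⟩ := exists_ppd_ndf (F := F) (e := 5) (by norm_num) (by norm_num)
    refine ⟨5, u, hu, ?_, by norm_num, by norm_num, by norm_num, hndf⟩
    have h1 := (hu.dvd_iff 5).mpr dvd_rfl
    rw [hF] at h1
    norm_num at h1
    have h2 : u = 31 := by
      rcases (Nat.dvd_prime (by norm_num)).mp h1 with h3 | h3
      · exact absurd h3 hu.prime.one_lt.ne'
      · exact h3
    omega
  · obtain ⟨u, hu, hndf⟩ := exists_ppd_ndf (F := F) hn (by tauto)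
    exact ⟨n, u, hu, hu.lt, by omega, le_rfl, by omega, hndf⟩

theorem class2 (hn : 3 ≤ n) {M : Subgroup (Matrix.ProjectiveSpecialLinearGroup (Fin n) F)}
    {t m : ℕ} {D : Fin t → Submodule F (Fin n → F)} (htm : t * m = n) (hD : IsMDecomposition m D)
    (hM : pre M ≤ decompositionStabilizer D) : CGap _ M := by
  obtain ⟨e, u, hP, h1, h2, h3, h4, hndf⟩ := exists_good (F := F) hn
  refine gap_of_card hn hP hndf (five_le hP h4) (by omega) h3 h2 hM fun hd => ?_
  have ht := hD.two_le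
  have hm := hD.pos
  have hF : ¬ u ∣ Nat.card F := by rw [Nat.card_eq_fintype_card]; exact hP.ndvd
  rcases decomp hD hP.prime hF hd with h5 | h5
  · have : t ≤ n := by rw [← htm]; exact Nat.le_mul_of_pos_right t hm
    omega
  · rw [Nat.card_eq_fintype_card] at h5
    have h6 := dvd_iff' hP h5
    have : 2 * m ≤ n := by rw [← htm]; exact Nat.mul_le_mul_right m ht
    omega

theorem class4 (hn : 3 ≤ n) {M : Subgroup (Matrix.ProjectiveSpecialLinearGroup (Fin n) F)}
    {n₁ n₂ : ℕ} {e : Fin n ≃ Fin n₁ × Fin n₂} {P : GL (Fin n) F} (h1 : 2 ≤ n₁) (h12 : n₁ < n₂) (hnn : n₁ * n₂ = n)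
    (hM : pre M ≤ tensorProductSubgroup n₁ n₂ e P) : CGap _ M := by
  obtain ⟨e, u, hP, h2, h3, h4, h5, hndf⟩ := exists_good (F := F) hn
  refine gap_of_card hn hP hndf (five_le hP h5) (by omega) h4 h3 hM fun hd => ?_
  have hF : ¬ u ∣ Nat.card F := by rw [Nat.card_eq_fintype_card]; exact hP.ndvd
  have h6 := tensor _ _ hP.prime hF hd
  rw [Nat.card_eq_fintype_card] at h6
  have h7 := dvd_iff' hP h6
  rw [max_eq_right h12.le] at h7
  have : 2 * n₂ ≤ n := by rw [← hnn]; exact Nat.mul_le_mul_right n₂ h1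
  omega

theorem class7 (hn : 3 ≤ n) {M : Subgroup (Matrix.ProjectiveSpecialLinearGroup (Fin n) F)}
    {m t : ℕ} {e : Fin n ≃ (Fin t → Fin m)} {P : GL (Fin n) F} (hm : 3 ≤ m) (ht : 2 ≤ t) (hmt : m ^ t = n)
    (hM : pre M ≤ tensorWreathSubgroup m t e P) : CGap _ M := by
  obtain ⟨e, u, hP, h2, h3, h4, h5, hndf⟩ := exists_good (F := F) hn
  refine gap_of_card hn hP hndf (five_le hP h5) (by omega) h4 h3 hM fun hd => ?_
  have hF : ¬ u ∣ Nat.card F := by rw [Nat.card_eq_fintype_card]; exact hP.ndvd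
  rcases wreath _ _ hP.prime hF hd with h6 | h6
  · have : t < m ^ t := Nat.lt_pow_self (by omega)
    omega
  · rw [Nat.card_eq_fintype_card] at h6
    have h7 := dvd_iff' hP h6
    have h8 : m ^ 2 ≤ m ^ t := Nat.pow_le_pow_right (by omega) ht
    have h9 : 2 * m ≤ m ^ 2 := by rw [pow_two]; exact Nat.mul_le_mul_right m (by omega)
    omega

theorem class3 (hn : 3 ≤ n) {M : Subgroup (Matrix.ProjectiveSpecialLinearGroup (Fin n) F)}
    {r : ℕ} {K : Subalgebra F (Matrix (Fin n) (Fin n) F)} (hr : r.Prime) (hrn : r ∣ n) (hK : IsFieldSubalgebra r K)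
    (hM : pre M ≤ subalgebraNormalizer K) : CGap _ M ∨ (n = 3 ∧ r = 3) := by
  haveI : Nonempty (Fin n) := ⟨⟨0, by omega⟩⟩
  by_cases hrn' : r = n
  · subst hrn'
    by_cases h3 : r = 3
    · exact Or.inr ⟨h3, h3⟩
    left
    have hro := hr.odd_of_ne_two (by omega)
    obtain ⟨c, hc⟩ := hro
    obtain ⟨u, hP, hndf⟩ := exists_ppd_ndf (F := F) (e := r - 2) (by omega) (by omega)
    refine gap_of_card hn hP hndf (five_le hP (by omega)) (by omega) (by omega) (by omega) hM fun hd => ?_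
    have hF : ¬ u ∣ Nat.card F := by rw [Nat.card_eq_fintype_card]; exact hP.ndvd
    have hlt := hP.lt
    rcases extension hr hK hP.prime hF hd with h5 | ⟨i, h5, h6, h8⟩
    · -- `u = r`, but `u = 1` modulo `2 (r - 2)`
      subst h5
      obtain ⟨j, hj⟩ := hP.dvd_pred
      rcases j with _ | _ | j
      · omega
      · omega
      · have : (u - 2) * 2 ≤ (u - 2) * (j + 1 + 1) := Nat.mul_le_mul_left _ (by omega)
        omega
    · rw [Fintype.card_fin, Nat.div_self hr.pos] at h6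
      have hi : i = 1 := by omega
      subst hi
      rw [Nat.card_eq_fintype_card, pow_one, hP.dvd_iff] at h8
      have h9 : r - 2 ∣ 2 := by
        have := Nat.dvd_sub h8 (dvd_refl (r - 2))
        rwa [show r - (r - 2) = 2 by omega] at this
      have := Nat.le_of_dvd two_pos h9
      omega
  · have hlt : r < n := lt_of_le_of_ne (Nat.le_of_dvd (by omega) hrn) hrn'
    obtain ⟨c, hc⟩ := hrn
    have hc2 : 2 ≤ c := by
      rcases c with _ | _ | c
      · omega
      · omega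
      · omega
    have hr2 := hr.two_le
    have h4 : 4 ≤ n := by rw [hc]; exact Nat.mul_le_mul hr2 hc2
    have h7 : n ≠ 7 := by
      rintro rfl
      have h8 : Nat.Prime 7 := by norm_num
      rcases (Nat.dvd_prime h8).mp ⟨c, hc⟩ with h9 | h9
      · exact hr.one_lt.ne' h9
      · exact hrn' h9
    left
    obtain ⟨u, hP, hndf⟩ := exists_ppd_ndf (F := F) (e := n - 1) (by omega) (by omega)
    refine gap_of_card hn hP hndf (five_le hP (by omega)) (by omega) (by omega) (by omega) hM fun hd => ?_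
    have hF : ¬ u ∣ Nat.card F := by rw [Nat.card_eq_fintype_card]; exact hP.ndvd
    rcases extension hr hK hP.prime hF hd with h5 | ⟨i, h5, h6, h8⟩
    · have := hP.lt
      have h9 : 2 * r ≤ n := by rw [hc, mul_comm]; exact Nat.mul_le_mul_left r hc2
      omega
    · rw [Nat.card_eq_fintype_card, ← pow_mul, hP.dvd_iff] at h8
      rw [Fintype.card_fin] at h6
      have h9 : r * i ≤ n := (Nat.mul_le_mul_left r h6).trans (Nat.mul_div_le n r)
      have h10 : 0 < r * i := Nat.mul_pos hr.pos (by omega)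
      obtain ⟨j, hj⟩ := h8
      have hj1 : j = 1 := by
        have hj0 : 0 < j := by
          rcases Nat.eq_zero_or_pos j with h | h
          · rw [h, mul_zero] at hj; omega
          · exact h
        by_contra hj1
        have : (n - 1) * 2 ≤ (n - 1) * j := Nat.mul_le_mul_left _ (by omega)
        omega
      rw [hj1, mul_one] at hj
      have h11 : r ∣ n - 1 := ⟨i, hj.symm⟩
      have h12 : r ∣ n := ⟨c, hc⟩
      have h13 : r ∣ 1 := by
        have := Nat.dvd_sub h12 h11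
        rwa [show n - (n - 1) = 1 by omega] at this
      exact hr.one_lt.ne' (Nat.dvd_one.mp h13)

theorem class5 (hn : 3 ≤ n) {M : Subgroup (Matrix.ProjectiveSpecialLinearGroup (Fin n) F)}
    {F₀ : Subfield F} {r : ℕ} {P : GL (Fin n) F} (hr : r.Prime) (hF₀ : Fintype.card F = Nat.card F₀ ^ r)
    (hM : pre M ≤ subfieldSubgroup F₀ P) : CGap _ M := by
  have hq0 : 2 ≤ Nat.card F₀ := Finite.one_lt_card
  have hr2 := hr.two_le
  have hpp : IsPrimePow (Nat.card F₀) := by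
    haveI : Fintype F₀ := Fintype.ofFinite _
    rw [Nat.card_eq_fintype_card]
    exact Fintype.isPrimePow_card_of_field
  have key : ∀ e u : ℕ, Ppd (Nat.card F₀) (r * e) u → NDF (Nat.card F₀) u → 2 ≤ e → e ≤ n → n < r * e → n < 2 * e →
      CGap _ M := by
    intro e u hu hndf₀ he hen hne hn2e
    have hlt := hu.lt
    have h1 : r * 2 ≤ r * e := Nat.mul_le_mul_left r he
    have hndf : NDF (Fintype.card F) u := by
      rw [hF₀]
      refine ndf_pow hpp hr.one_le hu.prime (fun hd => ?_) hndf₀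
      have := Nat.le_of_dvd hr.pos hd
      omega
    have hP : Ppd (Fintype.card F) e u := by
      have := hu.pow r hr.ne_zero
      rw [← hF₀, Nat.gcd_comm, Nat.gcd_mul_right_right, Nat.mul_div_cancel_left _ hr.pos] at this
      exact this
    refine gap_of_card hn hP hndf (by omega) he hen hn2e hM fun hd => ?_
    have hF : ¬ u ∣ Nat.card F := by rw [Nat.card_eq_fintype_card]; exact hP.ndvd
    rcases subfield hP.prime hF hd with h1 | h1
    · rw [Nat.card_eq_fintype_card] at h1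
      have := (hP.dvd_iff 1).mp (by rwa [pow_one])
      exact absurd (Nat.le_of_dvd one_pos this) (by omega)
    · have h2 := dvd_iff' hu h1
      rw [Fintype.card_fin] at h2
      omega
  have h6 : 6 ≤ r * n := Nat.mul_le_mul hr2 hn
  by_cases hex : Nat.card F₀ = 2 ∧ r * n = 6
  · obtain ⟨h1, h2⟩ := hex
    have hn3 : n = 3 := by
      by_contra h
      have : 2 * 4 ≤ r * n := Nat.mul_le_mul hr2 (by omega)
      omega
    subst hn3
    have hr' : r = 2 := by omega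
    subst hr'
    obtain ⟨u, hu, hndf⟩ := exists_prim_ndf (q := Nat.card F₀) (e := 2 * 2) hpp (by norm_num) (by omega)
    exact key 2 u (ppd_of_prim (by omega) hu) hndf le_rfl (by norm_num) (by norm_num) (by norm_num)
  · obtain ⟨u, hu, hndf⟩ := exists_prim_ndf (q := Nat.card F₀) (e := r * n) hpp (by omega) hex
    have : 2 * n ≤ r * n := Nat.mul_le_mul_right n hr2
    exact key n u (ppd_of_prim (by omega) hu) hndf (by omega) le_rfl (by omega) (by omega)

theorem class6 (hn : 3 ≤ n) {M : Subgroup (Matrix.ProjectiveSpecialLinearGroup (Fin n) F)}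
    {r k : ℕ} {R : Subgroup (GL (Fin n) F)} (hR : IsLinearSymplecticTypeData r R) (hro : Odd r)
    (hk : 1 ≤ k) (hnk : n = r ^ k) (hZ : Nat.card (Subgroup.center R) = r) (hc : Nat.card R = r ^ (1 + 2 * k))
    (hM : pre M ≤ subgroupNormalizer R) : CGap _ M := by
  haveI : Nonempty (Fin n) := ⟨⟨0, by omega⟩⟩
  have hno : Odd n := by rw [hnk]; exact hro.pow
  obtain ⟨u, hP, hndf⟩ := exists_ppd_ndf (F := F) (e := n) hn (by
    rintro ⟨-, h6⟩
    rw [h6] at hno
    exact absurd hno (by decide))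
  refine gap_of_card hn hP hndf (five_le hP hn) (by omega) le_rfl (by omega) hM fun hd => ?_
  have hlt := hP.lt
  rcases symplecticType hR.symplecticType hR.absIrred (Or.inl ⟨hro, hZ, hc⟩) hk hP.prime hd with h1 | h1 | h1
  · have : r ≤ r ^ k := Nat.le_self_pow (by omega) r
    omega
  · rw [Nat.card_eq_fintype_card] at h1
    have := (hP.dvd_iff 1).mp (by rwa [pow_one])
    exact absurd (Nat.le_of_dvd one_pos this) (by omega)
  · rw [← hnk] at h1
    have h2 : u = n + 1 := by omega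
    have h3 : Even u := by rw [h2]; exact hno.add_one
    have h4 := (hP.prime.even_iff).mp h3
    omega

theorem class6' (hn : 3 ≤ n) {M : Subgroup (Matrix.ProjectiveSpecialLinearGroup (Fin n) F)}
    {k : ℕ} {R : Subgroup (GL (Fin n) F)} (hR : IsLinearSymplecticTypeData 2 R)
    (hnk : n = 2 ^ k) (hZ : Nat.card (Subgroup.center R) = 4) (hc : Nat.card R = 2 ^ (2 + 2 * k))
    (hM : pre M ≤ subgroupNormalizer R) : CGap _ M := by
  haveI : Nonempty (Fin n) := ⟨⟨0, by omega⟩⟩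
  have hk2 : 2 ≤ k := by
    rcases k with _ | _ | k
    · rw [hnk] at hn; norm_num at hn
    · rw [hnk] at hn; norm_num at hn
    · omega
  have h4 : 4 ≤ n := by
    rw [hnk]
    calc 4 = 2 ^ 2 := by norm_num
      _ ≤ 2 ^ k := Nat.pow_le_pow_right (by norm_num) hk2
  have hne : Even n := by rw [hnk]; exact (Nat.even_pow.mpr ⟨even_two, by omega⟩)
  obtain ⟨u, hP, hndf⟩ := exists_ppd_ndf (F := F) (e := n - 1) (by omega) (by
    rintro ⟨-, h6⟩
    obtain ⟨c, hc⟩ := hne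
    omega)
  refine gap_of_card hn hP hndf (five_le hP (by omega)) (by omega) (by omega) (by omega) hM fun hd => ?_
  have hlt := hP.lt
  rcases symplecticType hR.symplecticType hR.absIrred (Or.inr ⟨rfl, hZ, hc⟩) (by omega) hP.prime hd with h1 | h1 | h1
  · omega
  · rw [Nat.card_eq_fintype_card] at h1
    have := (hP.dvd_iff 1).mp (by rwa [pow_one])
    exact absurd (Nat.le_of_dvd one_pos this) (by omega)
  · rw [← hnk] at h1
    obtain ⟨j, hj⟩ := hP.dvd_pred
    have hu1 : 0 < u - 1 := by have := hP.prime.one_lt; omega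
    have hj1 : j = 1 := by
      have hj0 : 0 < j := by
        rcases Nat.eq_zero_or_pos j with h | h
        · rw [h, mul_zero] at hj; omega
        · exact h
      by_contra hj1
      have : (n - 1) * 2 ≤ (n - 1) * j := Nat.mul_le_mul_left _ (by omega)
      omega
    rw [hj1, mul_one] at hj
    have h2 : u = n := by omega
    have h3 := (hP.prime.even_iff).mp (h2 ▸ hne)
    omega

theorem class8_symp {M : Subgroup (Matrix.ProjectiveSpecialLinearGroup (Fin n) F)}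
    {f : (Fin n → F) → (Fin n → F) → F} (hf : IsSymplecticForm f) (hne : Even n) (h4 : 4 ≤ n)
    (hM : pre M ≤ similarityGroup f) : CGap _ M := by
  haveI : Nonempty (Fin n) := ⟨⟨0, by omega⟩⟩
  obtain ⟨c, hc⟩ := hne
  obtain ⟨u, hP, hndf⟩ := exists_ppd_ndf (F := F) (e := n - 1) (by omega) (by omega)
  refine gap_of_elt (by omega) hP hndf (five_le hP (by omega)) (by omega) (by omega) (by omega) fun x hx hxu => ?_
  have h1 := even_of_bilinear hP (by omega) (by rw [Fintype.card_fin]; omega) hxu hf.bilinear hf.nondegenerate (hM hx)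
  obtain ⟨d, hd⟩ := h1
  omega

theorem class8_quad (hn : 3 ≤ n) {M : Subgroup (Matrix.ProjectiveSpecialLinearGroup (Fin n) F)}
    {Q : (Fin n → F) → F} (hQ : IsNondegenerateQuadraticForm Q)
    (hM : pre M ≤ quadSimilarityGroup Q) : CGap _ M := by
  haveI : Nonempty (Fin n) := ⟨⟨0, by omega⟩⟩
  obtain ⟨e, heo, he3, hen, hne⟩ : ∃ e, Odd e ∧ 3 ≤ e ∧ e ≤ n ∧ n < 2 * e := by
    rcases Nat.even_or_odd n with h | h
    · obtain ⟨c, hc⟩ := h
      exact ⟨n - 1, ⟨c - 1, by omega⟩, by omega, by omega, by omega⟩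
    · exact ⟨n, h, hn, le_rfl, by omega⟩
  obtain ⟨u, hP, hndf⟩ := exists_ppd_ndf (F := F) (e := e) he3 (by
    rintro ⟨-, h6⟩
    rw [h6] at heo
    exact absurd heo (by decide))
  refine gap_of_elt hn hP hndf (five_le hP he3) (by omega) hen hne fun x hx hxu => ?_
  have h1 := even_of_quadratic hP (by omega) (by rw [Fintype.card_fin]; omega) hxu hQ (hM hx)
  exact (Nat.not_even_iff_odd.mpr heo) h1

theorem class8_unit (hn : 3 ≤ n) {M : Subgroup (Matrix.ProjectiveSpecialLinearGroup (Fin n) F)}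
    {σ : F ≃+* F} {f : (Fin n → F) → (Fin n → F) → F} (hf : IsUnitaryForm σ f)
    (hM : pre M ≤ similarityGroup f) : CGap _ M := by
  haveI : Nonempty (Fin n) := ⟨⟨0, by omega⟩⟩
  obtain ⟨p, k, hp, hpF, hF, hσ⟩ := exists_frobenius hf.ne_refl hf.involutive
  haveI : Fact p.Prime := ⟨hp⟩
  obtain ⟨e, heo, he2, hen, hne⟩ : ∃ e, Even e ∧ 2 ≤ e ∧ e ≤ n ∧ n < 2 * e := by
    rcases Nat.even_or_odd n with h | h
    · exact ⟨n, h, by omega, le_rfl, by omega⟩
    · obtain ⟨c, hc⟩ := h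
      exact ⟨n - 1, ⟨c, by omega⟩, by omega, by omega, by omega⟩
  have hk : k ≠ 0 := by
    rintro rfl
    have h1 : 1 < Fintype.card F := Fintype.one_lt_card
    rw [hF] at h1
    norm_num at h1
  have hq0 : 2 ≤ p ^ k := hp.two_le.trans (Nat.le_self_pow hk p)
  have hpp : IsPrimePow (p ^ k) := hp.isPrimePow.pow hk
  obtain ⟨u, hP', hndf₀⟩ := exists_prim_ndf (q := p ^ k) (e := 2 * e) hpp (by omega) (by
    rintro ⟨-, h6⟩
    obtain ⟨c, hc⟩ := heo
    omega)
  have hP := ppd_of_prim (by omega) hP'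
  have hlt := hP.lt
  have hndf : NDF (Fintype.card F) u := by
    rw [hF]
    refine ndf_pow hpp (by norm_num) hP.prime (fun hd => ?_) hndf₀
    have := Nat.le_of_dvd two_pos hd
    omega
  have hPq : Ppd (Fintype.card F) e u := by
    rw [hF]
    have := hP.pow 2 two_ne_zero
    rwa [Nat.gcd_comm, Nat.gcd_mul_right_right, Nat.mul_div_cancel_left _ (by norm_num)] at this
  refine gap_of_elt hn hPq hndf (by omega) he2 hen hne fun x hx hxu => ?_
  have h1 := odd_of_unitary hF hP he2 (by rw [Fintype.card_fin]; omega) hxu hσ hf (hM hx)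
  exact (Nat.not_even_iff_odd.mpr h1) heo

theorem class1 (hn : 3 ≤ n) {M : Subgroup (Matrix.ProjectiveSpecialLinearGroup (Fin n) F)}
    {W : Submodule F (Fin n → F)} (hW0 : W ≠ ⊥) (hW1 : W ≠ ⊤) (hM : pre M ≤ subspaceStabilizer W) :
    CGap _ M ∨ (Fintype.card F = 2 ∧ n = 6 ∧ (Module.finrank F W = 1 ∨ Module.finrank F W = 5)) := by
  have h1 : 0 < Module.finrank F W := Nat.pos_of_ne_zero fun h => hW0 (Submodule.finrank_eq_zero.mp h)
  have h2 : Module.finrank F W < n := by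
    have := Submodule.finrank_lt hW1
    rwa [Module.finrank_fintype_fun_eq_card, Fintype.card_fin] at this
  by_cases hex : Fintype.card F = 2 ∧ n = 6
  · obtain ⟨hF, rfl⟩ := hex
    by_cases h3 : Module.finrank F W = 1 ∨ Module.finrank F W = 5
    · exact Or.inr ⟨hF, rfl, h3⟩
    · left
      obtain ⟨u, hP, hndf⟩ := exists_ppd_ndf (F := F) (e := 5) (by norm_num) (by norm_num)
      refine gap_of_elt hn hP hndf (five_le hP (by norm_num)) (by norm_num) (by norm_num) (by norm_num)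
        fun x hx hxu => ?_
      rcases le_finrank_of_mem_stabilizer hP hxu (mem_of_subspaceStabilizer (hM hx)) with h4 | h4
      · omega
      · rw [Fintype.card_fin] at h4; omega
  · left
    obtain ⟨u, hP, hndf⟩ := exists_ppd_ndf (F := F) hn hex
    refine gap_of_elt hn hP hndf (five_le hP hn) (by omega) le_rfl (by omega) fun x hx hxu => ?_
    rcases le_finrank_of_mem_stabilizer hP hxu (mem_of_subspaceStabilizer (hM hx)) with h4 | h4
    · omega
    · rw [Fintype.card_fin] at h4; omega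

/-- **The geometric maximal subgroups, `n ≥ 3`.** -/
theorem geo (hn : 3 ≤ n) {M : Subgroup (Matrix.ProjectiveSpecialLinearGroup (Fin n) F)} (hM : IsCoatom M) :
    CGap _ M ∨
    (Fintype.card F = 2 ∧ n = 6 ∧ ∃ W : Submodule F (Fin n → F),
      (Module.finrank F W = 1 ∨ Module.finrank F W = 5) ∧ pre M = subspaceStabilizer W ⊓ specialLinear (Fin n) F) ∨
    (n = 3 ∧ ∃ K : Subalgebra F (Matrix (Fin n) (Fin n) F), IsFieldSubalgebra 3 K ∧
      pre M = subalgebraNormalizer K ⊓ specialLinear (Fin n) F) ∨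
    InLinearResidualClass (pre M) := by
  rcases H915.sl_cases hn (isMaximalIn_pre hM) with ⟨W, h0, h1, h⟩ | ⟨t, m, D, htm, hD, -, -, h⟩ |
    ⟨r, K, hr, hrn, hK, h⟩ | ⟨n₁, n₂, e, P, h1, h2, h3, -, h⟩ | ⟨F₀, r, P, hr, hF, h⟩ |
    ⟨r, k, p, e, R, hR, -, hro, -, hk, hnk, -, -, hZ, hc, h⟩ | ⟨k, R, hR, hnk, -, -, hZ, hc, h⟩ |
    ⟨m, t, e, P, hm, ht, hmt, h⟩ | ⟨f, hf, hne, h4, h⟩ | ⟨σ, f, hf, h⟩ | ⟨-, Q, hQ, h⟩ | h
  · rcases class1 hn h0 h1 (h.le.trans inf_le_left) with h2 | ⟨h2, h3, h4⟩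
    · exact Or.inl h2
    · exact Or.inr (Or.inl ⟨h2, h3, W, h4, h⟩)
  · exact Or.inl (class2 hn htm hD (h.le.trans inf_le_left))
  · rcases class3 hn hr hrn hK (h.le.trans inf_le_left) with h2 | ⟨h2, rfl⟩
    · exact Or.inl h2
    · exact Or.inr (Or.inr (Or.inl ⟨h2, K, hK, h⟩))
  · exact Or.inl (class4 hn h1 h2 h3 (h.le.trans inf_le_left))
  · exact Or.inl (class5 hn hr hF (h.le.trans inf_le_left))
  · exact Or.inl (class6 hn hR hro hk hnk hZ hc (h.le.trans inf_le_left))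
  · exact Or.inl (class6' hn hR hnk hZ hc (h.le.trans inf_le_left))
  · exact Or.inl (class7 hn hm ht hmt (h.le.trans inf_le_left))
  · exact Or.inl (class8_symp hf hne h4 (h.le.trans inf_le_left))
  · exact Or.inl (class8_unit hn hf (h.le.trans inf_le_left))
  · exact Or.inl (class8_quad hn hQ (h.le.trans inf_le_left))
  · exact Or.inr (Or.inr (Or.inr h))

/-- **CYC-GEO-L.** (The hypothesis `h4` is not needed.) -/
theorem geo_cyc (hn : 4 ≤ n) (h2 : ¬ (Fintype.card F = 2 ∧ n = 6))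
    {M : Subgroup (Matrix.ProjectiveSpecialLinearGroup (Fin n) F)} (hM : IsCoatom M) :
    IGap _ M ∨ InLinearResidualClass (pre M) := by
  rcases geo (by omega) hM with h | ⟨h3, h4, -⟩ | ⟨h3, -⟩ | h
  · exact Or.inl h.iGap
  · exact absurd ⟨h3, h4⟩ h2
  · omega
  · exact Or.inr h

/-- `n = 3` -/
theorem geo_cyc_three {M : Subgroup (Matrix.ProjectiveSpecialLinearGroup (Fin 3) F)} (hM : IsCoatom M) :
    IGap _ M ∨ (∃ K : Subalgebra F (Matrix (Fin 3) (Fin 3) F), IsFieldSubalgebra 3 K ∧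
      pre M = subalgebraNormalizer K ⊓ specialLinear (Fin 3) F) ∨ InLinearResidualClass (pre M) := by
  rcases geo le_rfl hM with h | ⟨-, h4, -⟩ | ⟨-, h⟩ | h
  · exact Or.inl h.iGap
  · omega
  · exact Or.inr (Or.inl h)
  · exact Or.inr (Or.inr h)

end Cfsg.Agent.H597.CycL
end

-- part: H358/Cyc/Hsn
section
/-!
# Cyclic primes, same characteristic (helper358, for S3679 and S3561): the hypothesis `HSN`

`HSN p f e g c`: all primes `s ∤ f` with `q = p^f` of order `e` modulo `s`, not dividing the exponent of the field of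
`g`, divide `c`.
-/

set_option autoImplicit false

namespace Cfsg.Agent.H358.Cyc

open Cfsg Cfsg.Agent.OrdDiv Cfsg.Agent.H436 Cfsg.Agent.H915.GN Cfsg.Agent.H264.GN Cfsg.Agent.H264.FKS

universe u

variable {p f c : ℕ} {g : Grp}

/-- all primes `s ∤ f` with `q = p^f` of order `e` modulo `s`, which do not divide the exponent of the field of the
group `g`, divide `c` -/
def HSN (p f e : ℕ) (g : Grp) (c : ℕ) : Prop :=
  ∀ s, Prim (p ^ f) e s → ¬ s ∣ f → (∀ f₁, fld g = p ^ f₁ → ¬ s ∣ f₁) → s ∣ c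

/-- Fermat -/
theorem prim_dvd_sub {q e s : ℕ} (h : Prim q e s) : e ∣ s - 1 := by
  have hc : Nat.Coprime q s := ((Nat.Prime.coprime_iff_not_dvd h.prime).2 h.not_dvd).symm
  have h5 := Nat.ModEq.pow_totient hc
  rw [Nat.totient_prime h.prime] at h5
  have hq : 1 ≤ q := by
    rcases Nat.eq_zero_or_pos q with rfl | h6
    · exact absurd (dvd_zero s) h.not_dvd
    · exact h6
  exact (h.dvd_iff _).1 ((Nat.modEq_iff_dvd' (Nat.one_le_pow _ _ hq)).1 h5.symm)

theorem prim_pos {q e s : ℕ} (h : Prim q e s) : 0 < e := by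
  rcases Nat.eq_zero_or_pos e with rfl | h0
  · have h1 := Nat.eq_zero_of_zero_dvd (prim_dvd_sub h)
    have := h.prime.two_le
    omega
  · exact h0

theorem HSN.mem' {e f₁ s : ℕ} (h : HSN p f e g c) (hp : p.Prime) (hfl : fld g = p ^ f₁)
    (hs : Prim (p ^ f) e s) (hlt' : ¬ s ∣ f) (hlt : ¬ s ∣ f₁) : s ∣ c :=
  h s hs hlt' fun f₂ h2 => by
    rw [hfl] at h2
    rwa [← Nat.pow_right_injective hp.two_le h2]

theorem HSN.mem {e f₁ s : ℕ} (h : HSN p f e g c) (hp : p.Prime) (hf : 1 ≤ f) (hf₁ : 1 ≤ f₁) (hfl : fld g = p ^ f₁)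
    (hs : Prim (p ^ f) e s) (hlt : f₁ < s) (hlt' : f < s) : s ∣ c :=
  h.mem' hp hfl hs (fun hd => by
    have := Nat.le_of_dvd (by omega) hd
    omega) fun hd => by
    have := Nat.le_of_dvd (by omega) hd
    omega

theorem HSN.big {e f₁ s : ℕ} (h : HSN p f e g c) (hp : p.Prime) (hf : 1 ≤ f) (hf₁ : 1 ≤ f₁) (hfl : fld g = p ^ f₁)
    (hle : f₁ ≤ f * e) (hs : Prim p (f * e) s) : s ∣ c := by
  have h1 := lt_of_prim hs
  refine h.mem hp hf hf₁ hfl (prim_pow hf hs) (lt_of_le_of_lt hle h1) (lt_of_le_of_lt ?_ h1)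
  exact Nat.le_mul_of_pos_right _ (prim_pos (prim_pow hf hs))

/-- A Zsigmondy prime of odd order divides the order of the group. -/
theorem ex_primN {e f₁ : ℕ} (hp : p.Prime) (hf : 1 ≤ f) (hf₁ : 1 ≤ f₁) (he : 3 ≤ e) (he2 : e % 2 = 1)
    (hc : den g * c = num g) (hfl : fld g = p ^ f₁) (hff : f₁ ≤ 2 * f) (hs : HSN p f e g c) :
    ∃ s, Prim (p ^ f) e s ∧ s ∣ num g := by
  have h3 : f * 3 ≤ f * e := Nat.mul_le_mul_left _ he
  by_cases h6 : p = 2 ∧ f * e = 6
  · obtain ⟨rfl, h6⟩ := h6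
    have h7 : f = 2 := by
      have : f ≤ 2 := by omega
      interval_cases f <;> omega
    subst h7
    obtain rfl : e = 3 := by omega
    have h8 : Prim (2 ^ 2) 3 7 := by norm_num; exact prim_four_three
    refine ⟨7, h8, ?_⟩
    rw [← hc]
    exact (hs.mem hp hf hf₁ hfl h8 (by omega) (by omega)).mul_left _
  · obtain ⟨s, hs'⟩ := exists_prim hp.two_le (e := f * e) (by omega) h6
    refine ⟨s, prim_pow hf hs', ?_⟩
    rw [← hc]
    have := lt_of_prim hs'
    exact (hs.mem hp hf hf₁ hfl (prim_pow hf hs') (by omega) (by omega)).mul_left _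

theorem dvd_of_outN {S : Type u} [Group S] [Finite S] [IsSimpleGroup S] (hna : ¬ ∀ a b : S, a * b = b * a)
    (hp : p.Prime) (hn : IsNamed g S) (hch : HasChar p g) {s : ℕ} (hs : s.Prime) (h5 : 5 ≤ s)
    (hlt : ∀ f₁, fld g = p ^ f₁ → ¬ s ∣ f₁) (h : s ∣ Nat.card (Cfsg.Out S)) : s ∣ Nat.card S := by
  obtain ⟨X, f₁, h1, h2, h3⟩ := exists_lie hp hn hch
  obtain ⟨k, h4, h6, -⟩ := H364.OutLie.card_out hna h1 hn.real h2
  rw [h4] at h
  rcases hs.dvd_mul.1 h with h7 | h7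
  · rcases hs.dvd_mul.1 (h7.trans h6) with h8 | h8
    · exfalso
      have h9 : s ∣ 2 ^ 3 * 3 := h8
      rcases hs.dvd_mul.1 h9 with h10 | h10
      · have := Nat.le_of_dvd (by norm_num) (hs.dvd_of_dvd_pow h10)
        omega
      · have := Nat.le_of_dvd (by norm_num) h10
        omega
    · exact dvd_of_dd hs h5 h2 h8
  · exact absurd h7 (hlt f₁ h3)

/-- **A prime of `R`, not dividing the exponent of the field, is a prime of the socle.** -/
theorem dvd_socleN {R : Type*} [Group R] [Finite R] (S : Subgroup R) [S.Normal] [IsSimpleGroup S]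
    (hna : ¬ IsMulCommutative S) (hC : Subgroup.centralizer (S : Set R) = ⊥) (hp : p.Prime) (hn : IsNamed g S)
    (hch : HasChar p g) {s : ℕ} (hs : s.Prime) (h5 : 5 ≤ s) (hlt : ∀ f₁, fld g = p ^ f₁ → ¬ s ∣ f₁)
    (h : s ∣ Nat.card R) : s ∣ Nat.card S := by
  have h1 := h.trans (dvd_aut S hC)
  rw [← H934.OutB.card_out_mul S hna] at h1
  rcases hs.dvd_mul.1 h1 with h2 | h2
  · exact dvd_of_outN (not_comm hna) hp hn hch hs h5 hlt h2
  · exact h2

/-- the hypothesis of the theorems `cp_*` -/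
theorem HSN.of {R : Type*} [Group R] [Finite R] (S : Subgroup R) [S.Normal] [IsSimpleGroup S]
    (hna : ¬ IsMulCommutative S) (hC : Subgroup.centralizer (S : Set R) = ⊥) (hp : p.Prime) (hn : IsNamed g S)
    (hch : HasChar p g) {e : ℕ} (he : 3 ≤ e) (h : ∀ s, Prim (p ^ f) e s → ¬ s ∣ f → s ∣ Nat.card R) :
    HSN p f e g (Nat.card S) := fun s hs hsf hlt =>
  dvd_socleN S hna hC hp hn hch hs.prime (five_le_of_prim he hs) hlt (h s hs hsf)

end Cfsg.Agent.H358.Cyc
end

-- part: H358/Cyc/CharP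
section
/-!
# Cyclic primes, same characteristic (helper358, for S3679 and S3561): the rows of `H264.FKS.CharP` with `HSN`
-/

set_option autoImplicit false

namespace Cfsg.Agent.H358.Cyc

open Cfsg.Agent.OrdDiv Cfsg.Agent.H436 Cfsg.Agent.H915.GN Cfsg.Agent.H264.GN Cfsg.Agent.H264.FKS

variable {p f c : ℕ} {g : Grp}

/-- **`T = PSL_n(q)`, `n ≥ 4`.** -/
theorem cp_psl (hp : p.Prime) (hf : 1 ≤ f) {n : ℕ} (hn : 4 ≤ n) (h42 : ¬ (n = 4 ∧ p ^ f = 2))
    (hex1 : ¬ (p = 2 ∧ f * n = 6)) (hex2 : ¬ (p = 2 ∧ f * (n - 1) = 6)) (hg : Cond g) (hch : HasChar p g)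
    (hc : den g * c = num g) (hdvd : c ∣ glN n (p ^ f)) (hs1 : HSN p f n g c) (hs2 : HSN p f (n - 1) g c) :
    g = .psl n (p ^ f) ∨ ∃ f₁, 2 * f₁ = f ∧ n % 2 = 0 ∧ g = .ominus n (p ^ f₁) := by
  obtain ⟨f₁, hf₁, hfl, hK, hY⟩ := kd_all hp hg hch hc
  have hT := td_psl hp hf hdvd
  have hfn : 1 * n ≤ f * n := Nat.mul_le_mul_right _ hf
  have hfn' : 1 * (n - 1) ≤ f * (n - 1) := Nat.mul_le_mul_right _ hf
  have hM2 := two_le_Mg hg hch
  have hb := f1_le hp hf₁ hT hK hY hM2 (by omega)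
  obtain ⟨h1, h2, h3, h4⟩ := comp hp hf hf₁ hT hK (by omega) hex1 (fun s hs => hs1.big hp hf hf₁ hfl hb hs) hY (by
    intro hp2 h6 h5
    have hf1 : f = 1 := by nlinarith only [hf, hn, h5]
    subst hf1
    have hn5 : n = 5 := by
      rcases Nat.lt_or_ge n 5 with h | h
      · exact absurd ⟨by omega, by rw [hp2, pow_one]⟩ h42
      · omega
    subst hn5
    obtain ⟨s, hs⟩ := exists_prim hp.two_le (e := 5) (by norm_num) (by omega)
    obtain ⟨x, hx, hx2⟩ := hK.exp hs (hs1.big hp hf hf₁ hfl hb (by rwa [one_mul]))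
    have hx3 := hK.le hx
    have h7 : f₁ * x ≤ 6 := h6 ▸ Nat.mul_le_mul_left _ hx3.2
    have h8 : 0 < f₁ * x := Nat.mul_pos (by omega) (by omega)
    have h9 : f₁ * x = 5 := by omega
    have h10 : f₁ = 1 := by
      have h11 : f₁ ∣ 5 := ⟨x, h9.symm⟩
      have h12 : f₁ ∣ 6 := ⟨Mg g, h6.symm⟩
      exact Nat.dvd_one.1 (Nat.dvd_sub h12 h11)
    subst h10
    rw [one_mul] at h9 h6
    subst h9
    have h13 := hT.pp hK.pp
    exact hex5 hg hch h6 hx (by norm_num at h13; omega))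
  have hh := half n
  have hA : 2 * ag g ≤ (n - 1) * Mg g := by
    have h5 : n * (2 * ag g) ≤ n * ((n - 1) * Mg g) := by
      calc n * (2 * ag g) = 2 * (ag g * n) := by ring
        _ ≤ 2 * (n * (n - 1) / 2 * Mg g) := Nat.mul_le_mul_left _ h2
        _ = (2 * (n * (n - 1) / 2)) * Mg g := by ring
        _ = n * (n - 1) * Mg g := by rw [← hh]
        _ = n * ((n - 1) * Mg g) := by ring
    exact Nat.le_of_mul_le_mul_left h5 (by omega)
  have hO := caseA (N := n) (ρ := n - 1) (by omega) (by omega) hg hch hA (fun x hx => hK.le hx)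
    (h3 (n - 1) (by omega) hex2 fun s hs => hs2.big hp hf hf₁ hfl (f1_le' hM2 h1 (by omega)) hs)
  cases g
  case psl m q =>
    left
    obtain rfl : m = n := hO
    have hq : q = p ^ f₁ := hfl
    have h5 : f₁ * m = f * m := h1
    rw [hq, Nat.eq_of_mul_eq_mul_right (by omega) h5]
  case psp m q =>
    exfalso
    obtain ⟨h5, h6⟩ : m = n ∧ n ≤ n - 1 := hO
    omega
  case oodd m q =>
    exfalso
    obtain ⟨h5, h6⟩ : m = n ∧ n ≤ n - 1 := hO
    omega
  case psu m q =>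
    exfalso
    obtain ⟨h5, h6⟩ : m = 4 ∧ n = 3 := hO
    omega
  case oplus m q =>
    exfalso
    obtain ⟨h5, h6⟩ : m = n + 1 ∧ n - 1 = n + 1 := hO
    omega
  case ominus m q =>
    obtain ⟨rfl, -⟩ : m = n ∧ n - 1 ≤ n - 1 := hO
    have hq : q = p ^ f₁ := hfl
    have h5 : f₁ * (2 * m) = f * m := h1
    have h6 : 2 * f₁ = f := Nat.eq_of_mul_eq_mul_right (show 0 < m by omega) (by rw [← h5]; ring)
    right
    refine ⟨f₁, h6, ?_, by rw [hq]⟩
    by_contra hne
    have ho : m % 2 = 1 := by omega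
    have hfm : 1 * m ≤ f₁ * m := Nat.mul_le_mul_right _ hf₁
    obtain ⟨s, hs0⟩ := exists_prim (q := p) (e := f₁ * m) hp.two_le (by omega) (by
      rintro ⟨-, h7⟩
      have h8 : f₁ ≤ 1 := by
        by_contra h9
        have : 2 * m ≤ f₁ * m := Nat.mul_le_mul_right _ (by omega)
        omega
      obtain rfl : f₁ = 1 := by omega
      omega)
    have hs := prim_pow hf₁ hs0
    have hlt : f₁ < s := by
      have h8 := lt_of_prim hs0
      have h9 : f₁ * 1 ≤ f₁ * m := Nat.mul_le_mul_left _ (by omega)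
      omega
    have hs' : Prim (p ^ f) m s := by
      refine ⟨hs.prime, fun k => ?_, fun h => ?_⟩
      · rw [← h6, mul_comm 2 f₁, pow_mul, ← pow_mul, hs.dvd_iff]
        exact ⟨fun h => dvd_of_two ho h, fun h => h.mul_left _⟩
      · rw [← h6, mul_comm 2 f₁, pow_mul] at h
        exact hs.not_dvd_pow _ h
    have hlt' : f < s := by
      have h8 := lt_of_prim hs0
      have h9 : f₁ * 2 ≤ f₁ * m := Nat.mul_le_mul_left _ (by omega)
      omega
    have h7 : s ∣ den (.ominus m q) * c := (hs1.mem hp hf hf₁ hfl hs' hlt hlt').mul_left _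
    rw [hc, hq] at h7
    exact not_dvd_ominus_odd hs ho (by omega) h7
  case f4 q =>
    exfalso
    obtain ⟨h5, h6⟩ : n = 3 ∧ n - 1 = 4 := hO
    omega
  case te6 q =>
    exfalso
    obtain ⟨h5, h6⟩ : n = 3 ∧ n - 1 = 4 := hO
    omega
  all_goals exact absurd hO not_false

/-- **`T = PSp_2n(q)` or `Ω_{2n+1}(q)`, `n ≥ 3`.** -/
theorem cp_psp (hp : p.Prime) (hf : 1 ≤ f) {n : ℕ} (hn : 3 ≤ n)
    (hex1 : ¬ (p = 2 ∧ f * (2 * n) = 6)) (hex2 : ¬ (p = 2 ∧ f * (2 * (n - 1)) = 6)) (hg : Cond g) (hch : HasChar p g)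
    (hc : den g * c = num g) (hdvd : c ∣ (p ^ f) ^ (n ^ 2) * prB (p ^ f) n)
    (hs1 : HSN p f (2 * n) g c) (hs2 : HSN p f (2 * (n - 1)) g c) :
    g = .psp n (p ^ f) ∨ g = .oodd n (p ^ f) ∨ g = .psl n (p ^ (2 * f)) ∨ g = .ominus n (p ^ f) ∨
      (n = 3 ∧ g = .psu 4 (p ^ f)) := by
  obtain ⟨f₁, hf₁, hfl, hK, hY⟩ := kd_all hp hg hch hc
  have hT := td_psp hp hf hdvd
  have hfn : 1 * (2 * n) ≤ f * (2 * n) := Nat.mul_le_mul_right _ hf
  have hfn' : 1 * (2 * (n - 1)) ≤ f * (2 * (n - 1)) := Nat.mul_le_mul_right _ hf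
  have hM2 := two_le_Mg hg hch
  have hb := f1_le hp hf₁ hT hK hY hM2 (by omega)
  obtain ⟨h1, h2, h3, h4⟩ := comp hp hf hf₁ hT hK (by omega) hex1 (fun s hs => hs1.big hp hf hf₁ hfl hb hs) hY (by
    intro hp2 h6 h5
    omega)
  have hA : 2 * ag g ≤ n * Mg g := by
    have h5 : n * (2 * ag g) ≤ n * (n * Mg g) := by
      calc n * (2 * ag g) = ag g * (2 * n) := by ring
        _ ≤ n ^ 2 * Mg g := h2
        _ = n * (n * Mg g) := by ring
    exact Nat.le_of_mul_le_mul_left h5 (by omega)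
  have hO := caseA (N := n) (ρ := n) (by omega) (by omega) hg hch hA (fun x hx => hK.le hx) (by
    obtain ⟨x, hx, hx2⟩ := h3 (2 * (n - 1)) (by omega) hex2 fun s hs => hs2.big hp hf hf₁ hfl (f1_le' hM2 h1 (by omega)) hs
    refine ⟨x, hx, ?_⟩
    rw [mul_assoc, mul_assoc] at hx2
    exact Nat.dvd_of_mul_dvd_mul_left (by norm_num) hx2)
  cases g
  case psl m q =>
    obtain rfl : m = n := hO
    have hq : q = p ^ f₁ := hfl
    have h5 : f₁ * m = f * (2 * m) := h1
    have h6 : f₁ = 2 * f := Nat.eq_of_mul_eq_mul_right (show 0 < m by omega) (by rw [h5]; ring)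
    exact Or.inr (Or.inr (Or.inl (by rw [hq, h6])))
  case psp m q =>
    obtain ⟨rfl, -⟩ : m = n ∧ n ≤ n := hO
    have hq : q = p ^ f₁ := hfl
    have h5 : f₁ * (2 * m) = f * (2 * m) := h1
    exact Or.inl (by rw [hq, Nat.eq_of_mul_eq_mul_right (by omega) h5])
  case oodd m q =>
    obtain ⟨rfl, -⟩ : m = n ∧ n ≤ n := hO
    have hq : q = p ^ f₁ := hfl
    have h5 : f₁ * (2 * m) = f * (2 * m) := h1
    exact Or.inr (Or.inl (by rw [hq, Nat.eq_of_mul_eq_mul_right (by omega) h5]))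
  case psu m q =>
    obtain ⟨rfl, h6⟩ : m = 4 ∧ n = 3 := hO
    have hq : q = p ^ f₁ := hfl
    have h5 : f₁ * 6 = f * (2 * n) := h1
    exact Or.inr (Or.inr (Or.inr (Or.inr ⟨h6, by rw [hq, show f₁ = f by rw [h6] at h5; omega]⟩)))
  case oplus m q =>
    exfalso
    obtain ⟨h5, h6⟩ : m = n + 1 ∧ n = n + 1 := hO
    omega
  case ominus m q =>
    obtain ⟨rfl, -⟩ : m = n ∧ n - 1 ≤ n := hO
    have hq : q = p ^ f₁ := hfl
    have h5 : f₁ * (2 * m) = f * (2 * m) := h1
    exact Or.inr (Or.inr (Or.inr (Or.inl (by rw [hq, Nat.eq_of_mul_eq_mul_right (by omega) h5]))))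
  case f4 q =>
    exfalso
    obtain ⟨h5, h6⟩ : n = 3 ∧ n = 4 := hO
    omega
  case te6 q =>
    exfalso
    obtain ⟨h5, h6⟩ : n = 3 ∧ n = 4 := hO
    omega
  all_goals exact absurd hO not_false

/-- **`T = Ω^-_{2n}(q)`, `n ≥ 4`.** -/
theorem cp_ominus (hp : p.Prime) (hf : 1 ≤ f) {n : ℕ} (hn : 4 ≤ n)
    (hex2 : ¬ (p = 2 ∧ f * (2 * (n - 1)) = 6)) (hg : Cond g) (hch : HasChar p g)
    (hc : den g * c = num g)
    (hdvd : c ∣ (p ^ f) ^ (n * (n - 1)) * (((p ^ f) ^ n + 1) * prB (p ^ f) (n - 1)))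
    (hs1 : HSN p f (2 * n) g c) (hs2 : HSN p f (2 * (n - 1)) g c) :
    g = .ominus n (p ^ f) := by
  obtain ⟨f₁, hf₁, hfl, hK, hY⟩ := kd_all hp hg hch hc
  have hT := td_ominus hp hf (by omega) hdvd
  have hfn : 1 * (2 * n) ≤ f * (2 * n) := Nat.mul_le_mul_right _ hf
  have hfn' : 1 * (2 * (n - 1)) ≤ f * (2 * (n - 1)) := Nat.mul_le_mul_right _ hf
  have hM2 := two_le_Mg hg hch
  have hb := f1_le hp hf₁ hT hK hY hM2 (by omega)
  obtain ⟨h1, h2, h3, h4⟩ := comp hp hf hf₁ hT hK (by omega) (by omega) (fun s hs => hs1.big hp hf hf₁ hfl hb hs) hY (by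
    intro hp2 h6 h5
    omega)
  have hA : 2 * ag g ≤ (n - 1) * Mg g := by
    have h5 : n * (2 * ag g) ≤ n * ((n - 1) * Mg g) := by
      calc n * (2 * ag g) = ag g * (2 * n) := by ring
        _ ≤ n * (n - 1) * Mg g := h2
        _ = n * ((n - 1) * Mg g) := by ring
    exact Nat.le_of_mul_le_mul_left h5 (by omega)
  have hO := caseA (N := n) (ρ := n - 1) (by omega) (by omega) hg hch hA (fun x hx => hK.le hx) (by
    obtain ⟨x, hx, hx2⟩ := h3 (2 * (n - 1)) (by omega) hex2 fun s hs => hs2.big hp hf hf₁ hfl (f1_le' hM2 h1 (by omega)) hs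
    refine ⟨x, hx, ?_⟩
    rw [mul_assoc, mul_assoc] at hx2
    exact Nat.dvd_of_mul_dvd_mul_left (by norm_num) hx2)
  cases g
  case psl m q =>
    exfalso
    obtain rfl : m = n := hO
    have hq : q = p ^ f₁ := hfl
    have h5 : f₁ * m = f * (2 * m) := h1
    have h6 : f₁ = 2 * f := Nat.eq_of_mul_eq_mul_right (show 0 < m by omega) (by rw [h5]; ring)
    -- comparison of the sizes
    have hc' : Nat.gcd m (q - 1) * (q - 1) * c = glN m q := hc
    rw [hq, h6, glN_eq] at hc'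
    obtain ⟨Q, hQ⟩ : ∃ Q, Q = p ^ f := ⟨_, rfl⟩
    have hQ2 : 2 ≤ Q := hQ ▸ (hp.two_le).trans (Nat.le_self_pow (by omega) _)
    have hQQ : p ^ (2 * f) = Q ^ 2 := by rw [mul_comm, pow_mul, hQ]
    rw [hQQ] at hc'
    rw [← hQ] at hdvd
    have h7 : (Q ^ 2) ^ (m * (m - 1) / 2) = Q ^ (m * (m - 1)) := by
      rw [← pow_mul, ← half m]
    have h8 : ∏ j ∈ Finset.range m, ((Q ^ 2) ^ (j + 1) - 1) = prB Q (m - 1) * ((Q ^ m + 1) * (Q ^ m - 1)) := by
      obtain ⟨k, rfl⟩ : ∃ k, m = k + 1 := ⟨m - 1, by omega⟩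
      rw [Finset.prod_range_succ, Nat.add_sub_cancel, prB_eq]
      congr 1
      · refine Finset.prod_congr rfl fun i _ => ?_
        rw [← pow_mul]
      · have := Nat.sq_sub_sq (Q ^ (k + 1)) 1
        rw [one_pow] at this
        rw [← this, ← pow_mul, ← pow_mul, mul_comm]
    rw [h7, h8] at hc'
    obtain ⟨k, hk⟩ := hdvd
    have hc0 : 0 < c := by
      rcases Nat.eq_zero_or_pos c with rfl | h
      · exfalso
        rw [zero_mul] at hk
        have : 0 < Q ^ (m * (m - 1)) * ((Q ^ m + 1) * prB Q (m - 1)) := by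
          refine Nat.mul_pos (pow_pos (by omega) _) (Nat.mul_pos (by omega) ?_)
          rw [prB_eq]
          refine Finset.prod_pos fun i _ => ?_
          have : 1 < Q ^ (2 * (i + 1)) := Nat.one_lt_pow (by omega) (by omega)
          omega
        omega
      · exact h
    have h9 : c * (Nat.gcd m (Q ^ 2 - 1) * (Q ^ 2 - 1)) = c * (k * (Q ^ m - 1)) := by
      calc c * (Nat.gcd m (Q ^ 2 - 1) * (Q ^ 2 - 1)) = Nat.gcd m (Q ^ 2 - 1) * (Q ^ 2 - 1) * c := by ring
        _ = _ := hc'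
        _ = Q ^ (m * (m - 1)) * ((Q ^ m + 1) * prB Q (m - 1)) * (Q ^ m - 1) := by ring
        _ = c * k * (Q ^ m - 1) := by rw [hk]
        _ = c * (k * (Q ^ m - 1)) := by ring
    have h10 := Nat.eq_of_mul_eq_mul_left hc0 h9
    have hQ21 : 3 ≤ Q ^ 2 - 1 := by
      have : 2 ^ 2 ≤ Q ^ 2 := Nat.pow_le_pow_left hQ2 2
      omega
    have hg0 : 0 < Nat.gcd m (Q ^ 2 - 1) := Nat.gcd_pos_of_pos_left _ (by omega)
    have hk0 : 0 < k := by
      rcases Nat.eq_zero_or_pos k with rfl | h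
      · rw [zero_mul] at h10
        have : 0 < Nat.gcd m (Q ^ 2 - 1) * (Q ^ 2 - 1) := Nat.mul_pos hg0 (by omega)
        omega
      · exact h
    have h11 : Q ^ m - 1 ≤ m * (Q ^ 2 - 1) := by
      calc Q ^ m - 1 ≤ k * (Q ^ m - 1) := Nat.le_mul_of_pos_left _ hk0
        _ = _ := h10.symm
        _ ≤ m * (Q ^ 2 - 1) := Nat.mul_le_mul_right _ (Nat.gcd_le_left _ (by omega))
    -- `Q ^ m - 1 ≥ (Q ^ (m-2) + 1) (Q^2 - 1)`
    obtain ⟨j, rfl⟩ : ∃ j, m = j + 2 := ⟨m - 2, by omega⟩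
    have h12 : j + 2 ≤ Q ^ j := by
      have h13 : j + 2 ≤ 2 ^ j := by
        have : ∀ i, i + 2 + 2 ≤ 2 ^ (i + 2) := by
          intro i
          induction i with
          | zero => norm_num
          | succ i ih => rw [show i + 1 + 2 = (i + 2) + 1 by ring, pow_succ]; omega
        have := this (j - 2)
        rwa [show j - 2 + 2 = j by omega] at this
      exact h13.trans (Nat.pow_le_pow_left hQ2 j)
    have h14 : (j + 2) * (Q ^ 2 - 1) ≤ Q ^ j * (Q ^ 2 - 1) := Nat.mul_le_mul_right _ h12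
    have h15 : Q ^ j * (Q ^ 2 - 1) + Q ^ j = Q ^ (j + 2) := by
      rw [pow_add]
      have : Q ^ 2 - 1 + 1 = Q ^ 2 := by (clear * - hQ21; omega)
      calc Q ^ j * (Q ^ 2 - 1) + Q ^ j = Q ^ j * (Q ^ 2 - 1 + 1) := by ring
        _ = _ := by rw [this]
    omega
  case psp m q =>
    exfalso
    obtain ⟨h5, h6⟩ : m = n ∧ n ≤ n - 1 := hO
    omega
  case oodd m q =>
    exfalso
    obtain ⟨h5, h6⟩ : m = n ∧ n ≤ n - 1 := hO
    omega
  case psu m q =>
    exfalso
    obtain ⟨h5, h6⟩ : m = 4 ∧ n = 3 := hO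
    omega
  case oplus m q =>
    exfalso
    obtain ⟨h5, h6⟩ : m = n + 1 ∧ n - 1 = n + 1 := hO
    omega
  case ominus m q =>
    obtain ⟨rfl, -⟩ : m = n ∧ n - 1 ≤ n - 1 := hO
    have hq : q = p ^ f₁ := hfl
    have h5 : f₁ * (2 * m) = f * (2 * m) := h1
    rw [hq, Nat.eq_of_mul_eq_mul_right (by omega) h5]
  case f4 q =>
    exfalso
    obtain ⟨h5, h6⟩ : n = 3 ∧ n - 1 = 4 := hO
    omega
  case te6 q =>
    exfalso
    obtain ⟨h5, h6⟩ : n = 3 ∧ n - 1 = 4 := hO
    omega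
  all_goals exact absurd hO not_false

end Cfsg.Agent.H358.Cyc
end

-- part: H358/Cyc/CharP2
section
/-!
# Cyclic primes, same characteristic (helper358, for S3679 and S3561): the rows of `H264.FKS.CharP2` with `HSN`
-/

set_option autoImplicit false

namespace Cfsg.Agent.H358.Cyc

open Cfsg.Agent.OrdDiv Cfsg.Agent.H436 Cfsg.Agent.H915.GN Cfsg.Agent.H264.GN Cfsg.Agent.H264.FKS

variable {p f c : ℕ} {g : Grp}

/-- **`T = Ω^+_{2n}(q)`, `n ≥ 4`.** -/
theorem cp_oplus (hp : p.Prime) (hf : 1 ≤ f) {n : ℕ} (hn : 4 ≤ n)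
    (hex1 : ¬ (p = 2 ∧ f * (2 * (n - 1)) = 6)) (hex2 : ¬ (p = 2 ∧ f * (2 * (n - 2)) = 6)) (hg : Cond g)
    (hch : HasChar p g) (hc : den g * c = num g)
    (hdvd : c ∣ (p ^ f) ^ (n * (n - 1)) * (((p ^ f) ^ n - 1) * prB (p ^ f) (n - 1)))
    (hs1 : HSN p f (2 * (n - 1)) g c) (hs2 : HSN p f (2 * (n - 2)) g c)
    (hs3 : n % 2 = 1 → HSN p f n g c) (hs4 : n % 2 = 0 → HSN p f (n - 1) g c) :
    g = .oplus n (p ^ f) ∨ (n % 2 = 0 ∧ (g = .psl (n - 1) (p ^ (2 * f)) ∨ g = .psp (n - 1) (p ^ f) ∨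
      g = .oodd (n - 1) (p ^ f))) := by
  obtain ⟨f₁, hf₁, hfl, hK, hY⟩ := kd_all hp hg hch hc
  have hT := td_oplus hp hf (by omega) hdvd
  have hfn : 1 * (2 * (n - 1)) ≤ f * (2 * (n - 1)) := Nat.mul_le_mul_right _ hf
  have hfn' : 1 * (2 * (n - 2)) ≤ f * (2 * (n - 2)) := Nat.mul_le_mul_right _ hf
  have hM2 := two_le_Mg hg hch
  have hb := f1_le hp hf₁ hT hK hY hM2 (by omega)
  obtain ⟨h1, h2, h3, h4⟩ := comp hp hf hf₁ hT hK (by omega) hex1 (fun s hs => hs1.big hp hf hf₁ hfl hb hs) hY (by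
    intro hp2 h6 h5
    omega)
  have hA : 2 * ag g ≤ n * Mg g := by
    have h5 : (n - 1) * (2 * ag g) ≤ (n - 1) * (n * Mg g) := by
      calc (n - 1) * (2 * ag g) = ag g * (2 * (n - 1)) := by ring
        _ ≤ n * (n - 1) * Mg g := h2
        _ = (n - 1) * (n * Mg g) := by ring
    exact Nat.le_of_mul_le_mul_left h5 (by omega)
  have hO := caseA (N := n - 1) (ρ := n) (by omega) (by omega) hg hch hA (fun x hx => hK.le hx) (by
    obtain ⟨x, hx, hx2⟩ := h3 (2 * (n - 2)) (by omega) hex2 fun s hs => hs2.big hp hf hf₁ hfl (f1_le' hM2 h1 (by omega)) hs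
    refine ⟨x, hx, ?_⟩
    rw [mul_assoc, mul_assoc] at hx2
    exact Nat.dvd_of_mul_dvd_mul_left (by norm_num) hx2)
  have hq2 : 2 ≤ p ^ f := (hp.two_le).trans (Nat.le_self_pow (by omega) _)
  cases g
  case psl m q =>
    obtain rfl : m = n - 1 := hO
    have hq : q = p ^ f₁ := hfl
    have h5 : f₁ * (n - 1) = f * (2 * (n - 1)) := h1
    have h6 : f₁ = 2 * f := Nat.eq_of_mul_eq_mul_right (show 0 < n - 1 by (clear * - hn hs3 hs4; omega)) (by rw [h5]; ring)
    rcases Nat.mod_two_eq_zero_or_one n with h0 | h0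
    · exact Or.inr ⟨h0, Or.inl (by rw [hq, h6])⟩
    · exfalso
      obtain ⟨s, hs, hs'⟩ := ex_primN hp hf hf₁ (by omega) h0 hc hfl (by omega) (hs3 h0)
      have h7 : s ∣ glN (n - 1) q := hs'
      rw [hq, h6, mul_comm 2 f, pow_mul] at h7
      exact not_dvd_glN_odd hs h0 (by (clear * - hn hs3 hs4 h0; omega)) h7
  case psp m q =>
    obtain ⟨rfl, -⟩ : m = n - 1 ∧ n - 1 ≤ n := hO
    have hq : q = p ^ f₁ := hfl
    have h5 : f₁ * (2 * (n - 1)) = f * (2 * (n - 1)) := h1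
    have h6 := Nat.eq_of_mul_eq_mul_right (by (clear * - hn hs3 hs4; omega)) h5
    rcases Nat.mod_two_eq_zero_or_one n with h0 | h0
    · exact Or.inr ⟨h0, Or.inr (Or.inl (by rw [hq, h6]))⟩
    · exfalso
      obtain ⟨s, hs, hs'⟩ := ex_primN hp hf hf₁ (by omega) h0 hc hfl (by omega) (hs3 h0)
      have h7 : s ∣ q ^ ((n - 1) ^ 2) * prB q (n - 1) := hs'
      rw [hq, h6] at h7
      exact not_dvd_prB_odd hs h0 (by (clear * - hn hs3 hs4 h0; omega)) h7
  case oodd m q =>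
    obtain ⟨rfl, -⟩ : m = n - 1 ∧ n - 1 ≤ n := hO
    have hq : q = p ^ f₁ := hfl
    have h5 : f₁ * (2 * (n - 1)) = f * (2 * (n - 1)) := h1
    have h6 := Nat.eq_of_mul_eq_mul_right (by (clear * - hn hs3 hs4; omega)) h5
    rcases Nat.mod_two_eq_zero_or_one n with h0 | h0
    · exact Or.inr ⟨h0, Or.inr (Or.inr (by rw [hq, h6]))⟩
    · exfalso
      obtain ⟨s, hs, hs'⟩ := ex_primN hp hf hf₁ (by omega) h0 hc hfl (by omega) (hs3 h0)
      have h7 : s ∣ q ^ ((n - 1) ^ 2) * prB q (n - 1) := hs'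
      rw [hq, h6] at h7
      exact not_dvd_prB_odd hs h0 (by (clear * - hn hs3 hs4 h0; omega)) h7
  case psu m q =>
    exfalso
    obtain ⟨rfl, h6⟩ : m = 4 ∧ n - 1 = 3 := hO
    obtain rfl : n = 4 := by (clear * - h6; omega)
    have hq : q = p ^ f₁ := hfl
    have h5 : f₁ * 6 = f * 6 := h1
    have h7 : f₁ = f := by omega
    obtain ⟨s, hs, hs'⟩ := ex_primN hp hf hf₁ (by norm_num) (by norm_num) hc hfl (by omega) (hs4 (by norm_num))
    have h8 : s ∣ q ^ (4 * (4 - 1) / 2) * prU q 4 := hs'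
    rw [hq, h7] at h8
    refine not_dvd_psu_odd hs (by norm_num) (by norm_num) (fun i hi1 hi2 hi3 hi4 => ?_) h8
    interval_cases i <;> omega
  case oplus m q =>
    obtain ⟨h5, -⟩ : m = n - 1 + 1 ∧ n = n - 1 + 1 := hO
    obtain rfl : m = n := by (clear * - hn hs3 hs4 h5; omega)
    have hq : q = p ^ f₁ := hfl
    have h5 : f₁ * (2 * (m - 1)) = f * (2 * (m - 1)) := h1
    exact Or.inl (by rw [hq, Nat.eq_of_mul_eq_mul_right (by omega) h5])
  case ominus m q =>
    exfalso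
    obtain ⟨hm4, -⟩ := hg
    obtain ⟨rfl, -⟩ : m = n - 1 ∧ n - 1 - 1 ≤ n := hO
    have hq : q = p ^ f₁ := hfl
    have h5 : f₁ * (2 * (n - 1)) = f * (2 * (n - 1)) := h1
    have h6 := Nat.eq_of_mul_eq_mul_right (by omega) h5
    rcases Nat.mod_two_eq_zero_or_one n with h0 | h0
    · obtain ⟨s, hs, hs'⟩ := ex_primN hp hf hf₁ (by omega) (by (clear * - hn h0; omega)) hc hfl (by omega) (hs4 h0)
      have h7 : s ∣ q ^ ((n - 1) * (n - 1 - 1)) * ((q ^ (n - 1) + 1) * prB q (n - 1 - 1)) := hs'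
      rw [hq, h6] at h7
      exact not_dvd_ominus_odd hs (by (clear * - hn h0; omega)) (by omega) h7
    · obtain ⟨s, hs, hs'⟩ := ex_primN hp hf hf₁ (by omega) h0 hc hfl (by omega) (hs3 h0)
      have h7 : s ∣ q ^ ((n - 1) * (n - 1 - 1)) * ((q ^ (n - 1) + 1) * prB q (n - 1 - 1)) := hs'
      rw [hq, h6, mul_left_comm] at h7
      rcases hs.prime.dvd_mul.1 h7 with h8 | h8
      · exact not_dvd_add_odd hs h0 (by omega) _ h8
      · exact not_dvd_prB_odd hs h0 (by omega) h8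
  case f4 q =>
    exfalso
    obtain ⟨h5, h6⟩ : n - 1 = 3 ∧ n = 4 := hO
    subst h6
    have hq : q = p ^ f₁ := hfl
    have h7 : f₁ * 12 = f * 6 := h1
    have h8 : f = 2 * f₁ := by omega
    have h9 : 1 * c = q ^ 24 * ((q ^ 2 - 1) * (q ^ 6 - 1) * (q ^ 8 - 1) * (q ^ 12 - 1)) := hc
    have h10 : prB (p ^ f) (4 - 1) = ((p ^ f) ^ 2 - 1) * ((p ^ f) ^ 4 - 1) * ((p ^ f) ^ 6 - 1) := by
      rw [prB_eq, Finset.prod_range_succ, Finset.prod_range_succ, Finset.prod_range_succ, Finset.prod_range_zero,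
        one_mul]
    obtain ⟨x, hx⟩ : ∃ x, x = q ^ 2 := ⟨_, rfl⟩
    have hx2 : p ^ f = x := by rw [hx, hq, h8, ← pow_mul, mul_comm]
    rw [hx2] at h10 hdvd
    rw [h10] at hdvd
    rw [one_mul, show q ^ 24 = x ^ 12 by rw [hx]; ring, show q ^ 6 = x ^ 3 by rw [hx]; ring,
      show q ^ 8 = x ^ 4 by rw [hx]; ring, show q ^ 12 = x ^ 6 by rw [hx]; ring, ← hx] at h9
    rw [h9] at hdvd
    have hx3 : 2 ≤ x := hx2 ▸ hq2
    have hpos : ∀ k, 1 ≤ k → 0 < x ^ k - 1 := fun k hk => by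
      have : 1 < x ^ k := Nat.one_lt_pow (by omega) (by omega)
      omega
    have h11 : (x ^ 12 * (x ^ 4 - 1) * (x ^ 6 - 1)) * ((x - 1) * (x ^ 3 - 1)) ∣
        (x ^ 12 * (x ^ 4 - 1) * (x ^ 6 - 1)) * ((x ^ 2 - 1) * (x ^ 4 - 1)) := by
      obtain ⟨k, hk⟩ := hdvd
      refine ⟨k, ?_⟩
      calc (x ^ 12 * (x ^ 4 - 1) * (x ^ 6 - 1)) * ((x ^ 2 - 1) * (x ^ 4 - 1)) =
          x ^ (4 * (4 - 1)) * ((x ^ 4 - 1) * ((x ^ 2 - 1) * (x ^ 4 - 1) * (x ^ 6 - 1))) := by
            norm_num only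
            ring
        _ = _ := hk
        _ = _ := by ring
    have h12 := Nat.dvd_of_mul_dvd_mul_left (Nat.mul_pos (Nat.mul_pos (by positivity) (hpos 4 (by norm_num)))
      (hpos 6 (by norm_num))) h11
    exact f4_dvd hx3 h12
  case te6 q =>
    exfalso
    obtain ⟨h5, h6⟩ : n - 1 = 3 ∧ n = 4 := hO
    subst h6
    obtain ⟨i, ⟨hi1, hi2, -⟩, hi3⟩ := h4 10 (by show (10 : ℕ) ∈ _; decide) (by omega) (by omega)
    have hi4 : 6 * 10 ∣ 18 * i := hi3
    have hi5 : i ≤ 6 := hi2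
    interval_cases i <;> omega
  all_goals exact absurd hO not_false

/-- **`T = PSU_4(q)`, `q ≠ 2`.** -/
theorem cp_psu4 (hp : p.Prime) (hf : 1 ≤ f) (hex1 : ¬ (p = 2 ∧ f * 6 = 6)) (hg : Cond g)
    (hch : HasChar p g) (hc : den g * c = num g)
    (hdvd : c ∣ (p ^ f) ^ (4 * (4 - 1) / 2) * prU (p ^ f) 4)
    (hs1 : HSN p f 6 g c) (hs2 : HSN p f 4 g c) :
    g = .psu 4 (p ^ f) := by
  obtain ⟨f₁, hf₁, hfl, hK, hY⟩ := kd_all hp hg hch hc
  have hT := td_psu hp hf hdvd
  have hM2 := two_le_Mg hg hch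
  have hb : f₁ ≤ f * 6 := f1_le hp hf₁ hT hK hY hM2 (show 3 ≤ f * 6 by omega)
  obtain ⟨h1, h2, h3, h4⟩ := comp hp hf hf₁ hT hK (show 3 ≤ f * 6 by omega) hex1
    (fun s hs => hs1.big hp hf hf₁ hfl hb hs) hY (by
    intro hp2 h6 h5
    have : f * 6 ≤ 5 := h5
    omega)
  have h1' : f₁ * Mg g = f * 6 := h1
  have h2' : ag g * 6 ≤ 6 * Mg g := h2
  have hA : 2 * ag g ≤ 2 * Mg g := by omega
  have hO := caseA (N := 3) (ρ := 2) (by omega) (by omega) hg hch hA (fun x hx => hK.le hx) (by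
    obtain ⟨x, hx, hx2⟩ := h3 4 (by omega) (by omega) fun s hs => hs2.big hp hf hf₁ hfl (f1_le' hM2 h1' (by omega)) hs
    refine ⟨x, hx, ?_⟩
    have hx3 : 4 * Mg g ∣ 6 * x := hx2
    refine Nat.dvd_of_mul_dvd_mul_left (show 0 < 2 by norm_num) ?_
    obtain ⟨k, hk⟩ := hx3
    exact ⟨k, by linarith only [hk]⟩)
  have hq2 : 2 ≤ p ^ f := (hp.two_le).trans (Nat.le_self_pow (by omega) _)
  cases g
  case psl m q =>
    exfalso
    obtain rfl : m = 3 := hO
    have hq : q = p ^ f₁ := hfl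
    have h5 : f₁ * 3 = f * 6 := h1
    have h6 : f₁ = 2 * f := by omega
    obtain ⟨s, hs⟩ := exists_prim hq2 (e := 3) (by omega) (by omega)
    have hQ : q = (p ^ f) ^ 2 := by rw [hq, h6, mul_comm 2 f, pow_mul]
    -- `s ∣ c`
    have h7 : s ∣ Nat.gcd 3 (q - 1) * (q - 1) * c := by
      have : Nat.gcd 3 (q - 1) * (q - 1) * c = glN 3 q := hc
      rw [this, glN_eq, hQ]
      refine Dvd.dvd.mul_left ?_ _
      refine Dvd.dvd.trans ?_ (Finset.dvd_prod_of_mem (fun j => ((p ^ f) ^ 2) ^ (j + 1) - 1)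
        (Finset.mem_range.2 (show 2 < 3 by norm_num)))
      show s ∣ ((p ^ f) ^ 2) ^ (2 + 1) - 1
      rw [← pow_mul]
      exact hs.dvd (by norm_num)
    have h8 : ¬ s ∣ q - 1 := by
      rw [hQ, hs.dvd_iff]
      norm_num
    have h9 : s ∣ c := by
      rcases hs.prime.dvd_mul.1 h7 with h | h
      · rcases hs.prime.dvd_mul.1 h with h | h
        · exact absurd (h.trans (Nat.gcd_dvd_right _ _)) h8
        · exact absurd h h8
      · exact h
    refine not_dvd_psu_odd hs (by norm_num) (by norm_num) (fun i hi1 hi2 hi3 hi4 => ?_) (h9.trans hdvd)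
    interval_cases i <;> omega
  case psp m q =>
    exfalso
    obtain ⟨-, h5⟩ : m = 3 ∧ 3 ≤ 2 := hO
    omega
  case oodd m q =>
    exfalso
    obtain ⟨-, h5⟩ : m = 3 ∧ 3 ≤ 2 := hO
    omega
  case psu m q =>
    obtain ⟨rfl, -⟩ : m = 4 ∧ 3 = 3 := hO
    have hq : q = p ^ f₁ := hfl
    have h5 : f₁ * 6 = f * 6 := h1
    rw [hq, show f₁ = f by omega]
  case oplus m q =>
    exfalso
    obtain ⟨-, h5⟩ : m = 3 + 1 ∧ 2 = 3 + 1 := hO
    omega
  case ominus m q =>
    exfalso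
    obtain ⟨hm4, -⟩ := hg
    obtain ⟨h5, -⟩ : m = 3 ∧ 3 - 1 ≤ 2 := hO
    omega
  case f4 q =>
    exfalso
    obtain ⟨-, h5⟩ : 3 = 3 ∧ 2 = 4 := hO
    omega
  case te6 q =>
    exfalso
    obtain ⟨-, h5⟩ : 3 = 3 ∧ 2 = 4 := hO
    omega
  all_goals exact absurd hO not_false

/-- **`T = PSU_n(q)`, `n ≥ 5`.** -/
theorem cp_psu (hp : p.Prime) (hf : 1 ≤ f) {n N : ℕ} (hn : 5 ≤ n) (hN : N = if n % 2 = 0 then n - 1 else n)
    (hex2 : ¬ (p = 2 ∧ f * (2 * (N - 2)) = 6)) (hg : Cond g)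
    (hch : HasChar p g) (hc : den g * c = num g)
    (hdvd : c ∣ (p ^ f) ^ (n * (n - 1) / 2) * prU (p ^ f) n)
    (hs1 : HSN p f (2 * N) g c) (hs2 : HSN p f (2 * (N - 2)) g c)
    (hs3 : n % 4 = 0 → HSN p f n g c) (hs4 : n % 4 = 2 → HSN p f (n / 2) g c) :
    g = .psu n (p ^ f) := by
  obtain ⟨f₁, hf₁, hfl, hK, hY⟩ := kd_all hp hg hch hc
  have hT := td_psu hp hf hdvd
  rw [← hN] at hT
  have hN5 : 5 ≤ N := by rw [hN]; split_ifs <;> omega
  have hNo : N % 2 = 1 := by rw [hN]; split_ifs <;> omega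
  have hfn : 1 * (2 * N) ≤ f * (2 * N) := Nat.mul_le_mul_right _ hf
  have hfn' : 1 * (2 * (N - 2)) ≤ f * (2 * (N - 2)) := Nat.mul_le_mul_right _ hf
  have hM2 := two_le_Mg hg hch
  have hb := f1_le hp hf₁ hT hK hY hM2 (by omega)
  obtain ⟨h1, h2, h3, h4⟩ := comp hp hf hf₁ hT hK (by omega) (by omega) (fun s hs => hs1.big hp hf hf₁ hfl hb hs) hY (by
    intro hp2 h6 h5
    omega)
  have hh := half n
  have hB : 4 * ag g ≤ (if n % 2 = 0 then n else n - 1) * Mg g := by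
    have h5 : N * (4 * ag g) ≤ N * ((if n % 2 = 0 then n else n - 1) * Mg g) := by
      calc N * (4 * ag g) = 2 * (ag g * (2 * N)) := by ring
        _ ≤ 2 * (n * (n - 1) / 2 * Mg g) := Nat.mul_le_mul_left _ h2
        _ = (2 * (n * (n - 1) / 2)) * Mg g := by ring
        _ = n * (n - 1) * Mg g := by rw [← hh]
        _ = N * ((if n % 2 = 0 then n else n - 1) * Mg g) := by
          rw [hN]
          split_ifs <;> ring
    exact Nat.le_of_mul_le_mul_left h5 (by omega)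
  have hO := caseB (N := N) (ρ := if n % 2 = 0 then n else n - 1) hN5 hNo (by rw [hN]; split_ifs <;> omega) hg hch hB
    (fun x hx => hK.le hx) (by
    obtain ⟨x, hx, hx2⟩ := h3 (2 * (N - 2)) (by (clear * - hN5 hfn'; omega)) hex2 fun s hs => hs2.big hp hf hf₁ hfl (f1_le' hM2 h1 (by (clear * - hN5; omega))) hs
    refine ⟨x, hx, ?_⟩
    rw [mul_assoc, mul_assoc] at hx2
    exact Nat.dvd_of_mul_dvd_mul_left (by norm_num) hx2)
  have hq2 : 2 ≤ p ^ f := (hp.two_le).trans (Nat.le_self_pow (by omega) _)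
  cases g
  case psu m q =>
    have hO' : m = N ∨ (m = N + 1 ∧ (if n % 2 = 0 then n else n - 1) = N + 1) := hO
    have hq : q = p ^ f₁ := hfl
    have h5 : f₁ * (2 * (if m % 2 = 0 then m - 1 else m)) = f * (2 * N) := h1
    have h6 : (if m % 2 = 0 then m - 1 else m) = N := by
      rcases hO' with h | ⟨h, -⟩
      · rw [if_neg (by omega)]
        exact h
      · rw [if_pos (by (clear * - hNo h; omega))]
        (clear * - h; omega)
    rw [h6] at h5
    have h7 : f₁ = f := Nat.eq_of_mul_eq_mul_right (by omega) h5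
    rw [h7] at hq
    suffices hmn : m = n by rw [hq, hmn]
    rcases Nat.mod_two_eq_zero_or_one n with h0 | h0
    · rw [if_pos h0] at hN hO'
      rcases hO' with h | ⟨h, -⟩
      · exfalso
        have h8 : c ∣ q ^ (m * (m - 1) / 2) * prU q m := by
          have : den (.psu m q) * c = q ^ (m * (m - 1) / 2) * prU q m := hc
          rw [← this]
          exact Dvd.intro_left _ rfl
        rw [hq] at h8
        rcases (show n % 4 = 0 ∨ n % 4 = 2 by (clear * - h0; omega)) with h9 | h9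
        · have hfn2 : 1 * n ≤ f * n := Nat.mul_le_mul_right _ hf
          obtain ⟨s, hs0⟩ := exists_prim hp.two_le (e := f * n) (by omega) (by (clear * - hn h9 hfn2; omega))
          have hs := prim_pow hf hs0
          have h11 := lt_of_prim hs0
          have h12 : f * 1 ≤ f * n := Nat.mul_le_mul_left _ (by omega)
          have h10 := ((hs3 h9).mem hp hf hf₁ hfl hs (by omega) (by omega)).trans h8
          rw [← pow_one (p ^ f)] at h10
          obtain ⟨i, hi, hi2⟩ := exp_psu hs h10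
          rw [one_mul] at hi2
          rcases hi with ⟨hi3, hi4, -⟩ | ⟨j, rfl, hj, hj2⟩
          · have := Nat.le_of_dvd (by omega) hi2
            (clear * - hN hNo h hi4 this; omega)
          · obtain ⟨k, hk⟩ := hi2
            rcases Nat.lt_or_ge k 2 with h11 | h11
            · interval_cases k <;> omega
            · have : n * 2 ≤ n * k := Nat.mul_le_mul_left _ h11
              (clear * - hN h hj hj2 hk this; omega)
        · obtain ⟨s, hs, hs''⟩ := ex_primN hp hf hf₁ (e := n / 2) (by omega) (by omega) hc hfl (by omega) (hs4 h9)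
          have hs3' : s ∣ q ^ (m * (m - 1) / 2) * prU q m := hs''
          rw [hq] at hs3'
          refine not_dvd_psu_odd hs (by omega) (by omega) (fun i hi1 hi2 hi3 hi4 => ?_) hs3'
          obtain ⟨k, hk⟩ := hi4
          rcases Nat.lt_or_ge k 2 with h11 | h11
          · interval_cases k <;> omega
          · have : n / 2 * 2 ≤ n / 2 * k := Nat.mul_le_mul_left _ h11
            (clear * - hN h h9 hi2 hk this; omega)
      · (clear * - hN hN5 h; omega)
    · rw [if_neg (by (clear * - h0; omega))] at hN hO'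
      rcases hO' with h | ⟨h, h8⟩
      · (clear * - hN h; omega)
      · (clear * - hN h8; omega)
  all_goals exact absurd hO not_false

end Cfsg.Agent.H358.Cyc
end

-- part: H358/Cyc/CharP3
section
/-!
# Cyclic primes, same characteristic (helper358, for S3679 and S3561): `PSU_6(q)` and `PΩ^+_8(q)`
-/

set_option autoImplicit false

namespace Cfsg.Agent.H358.Cyc

open Cfsg.Agent.OrdDiv Cfsg.Agent.H436 Cfsg.Agent.H915.GN Cfsg.Agent.H264.GN Cfsg.Agent.H264.FKS

variable {p f c : ℕ} {g : Grp}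

theorem Mg_eq_two (hg : Cond g) (hch : HasChar p g) (h : Mg g = 2) : ∃ q, g = .psl 2 q := by
  cases g
  case psl m q =>
    obtain rfl : m = 2 := h
    exact ⟨q, rfl⟩
  case psp m q =>
    obtain ⟨hm, -, -⟩ := hg
    have h' : 2 * m = 2 := h
    omega
  case psu m q =>
    obtain ⟨hm, -, -⟩ := hg
    have h' : 2 * (if m % 2 = 0 then m - 1 else m) = 2 := h
    (first | (lia; done) | (split_ifs at h' <;> omega))
  case oodd m q =>
    obtain ⟨hm, -, -⟩ := hg
    have h' : 2 * m = 2 := h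
    omega
  case oplus m q =>
    obtain ⟨hm, -⟩ := hg
    have h' : 2 * (m - 1) = 2 := h
    omega
  case ominus m q =>
    obtain ⟨hm, -⟩ := hg
    have h' : 2 * m = 2 := h
    omega
  case g2 q => exact absurd (show (6 : ℕ) = 2 from h) (by norm_num)
  case f4 q => exact absurd (show (12 : ℕ) = 2 from h) (by norm_num)
  case e6 q => exact absurd (show (12 : ℕ) = 2 from h) (by norm_num)
  case e7 q => exact absurd (show (18 : ℕ) = 2 from h) (by norm_num)
  case e8 q => exact absurd (show (30 : ℕ) = 2 from h) (by norm_num)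
  case te6 q => exact absurd (show (18 : ℕ) = 2 from h) (by norm_num)
  case td4 q => exact absurd (show (12 : ℕ) = 2 from h) (by norm_num)
  case sz q => exact absurd (show (4 : ℕ) = 2 from h) (by norm_num)
  case ree q => exact absurd (show (6 : ℕ) = 2 from h) (by norm_num)
  case tf4 q => exact absurd (show (12 : ℕ) = 2 from h) (by norm_num)
  all_goals exact absurd hch not_false

/-- a prime of order `3` modulo `q` does not divide `|PSL_2(q^k)|`, `3 ∤ k`, `3 ∤ 2 k` -/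
theorem not_dvd_psl2 {q s k : ℕ} (hs : Prim q 3 s) (hk : ¬ 3 ∣ k) : ¬ s ∣ glN 2 (q ^ k) := by
  intro h
  rw [glN_eq] at h
  rcases hs.prime.dvd_mul.1 h with h1 | h1
  · rw [← pow_mul] at h1
    exact hs.not_dvd_pow _ h1
  · rw [Prime.dvd_finsetProd_iff hs.prime.prime] at h1
    obtain ⟨i, hi, hd⟩ := h1
    rw [Finset.mem_range] at hi
    rw [← pow_mul, hs.dvd_iff] at hd
    have : i = 0 ∨ i = 1 := by omega
    rcases this with rfl | rfl
    · exact hk (by simpa using hd)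
    · have h2 : Nat.Coprime 3 (1 + 1) := by norm_num
      exact hk (h2.dvd_of_dvd_mul_right hd)

theorem exists_prim3 (hp : p.Prime) (hf : 1 ≤ f) : ∃ s, Prim (p ^ f) 3 s ∧ ¬ s ∣ f ∧ 3 * f < s ∨
    (p = 2 ∧ f = 2 ∧ s = 7 ∧ Prim (p ^ f) 3 s) := by
  by_cases h6 : p = 2 ∧ f * 3 = 6
  · obtain ⟨rfl, h6⟩ := h6
    obtain rfl : f = 2 := by omega
    exact ⟨7, Or.inr ⟨rfl, rfl, rfl, by norm_num; exact prim_four_three⟩⟩
  · obtain ⟨s, hs'⟩ := exists_prim hp.two_le (e := f * 3) (by omega) h6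
    refine ⟨s, Or.inl ⟨prim_pow hf hs', fun hd => ?_, ?_⟩⟩
    · have := Nat.le_of_dvd (by omega) hd
      have := lt_of_prim hs'
      omega
    · have := lt_of_prim hs'
      omega

/-- **`T = PSU_6(q)`**, exponents 10, 4, 3. -/
theorem cp_psu6 (hp : p.Prime) (hf : 1 ≤ f) (hg : Cond g) (hch : HasChar p g) (hc : den g * c = num g)
    (hdvd : c ∣ (p ^ f) ^ (6 * (6 - 1) / 2) * prU (p ^ f) 6)
    (hs1 : HSN p f 10 g c) (hs2 : HSN p f 4 g c) (hs3 : HSN p f 3 g c) :
    g = .psu 6 (p ^ f) := by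
  obtain ⟨f₁, hf₁, hfl, hK, hY⟩ := kd_all hp hg hch hc
  have hT := td_psu hp hf hdvd
  have hM2 := two_le_Mg hg hch
  have hb : f₁ ≤ f * 10 := f1_le hp hf₁ hT hK hY hM2 (show 3 ≤ f * 10 by omega)
  obtain ⟨h1, h2, h3, h4⟩ := comp hp hf hf₁ hT hK (show 3 ≤ f * 10 by omega)
    (fun h => by
      have h' : f * 10 = 6 := h.2
      omega)
    (fun s hs => hs1.big hp hf hf₁ hfl hb hs) hY (by
    intro hp2 h6 h5
    have : f * 10 ≤ 5 := h5
    omega)
  have h1' : f₁ * Mg g = f * 10 := h1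
  have h2' : ag g * 10 ≤ 15 * Mg g := h2
  have hA : 2 * ag g ≤ 3 * Mg g := by omega
  by_cases hM : Mg g = 2
  · exfalso
    obtain ⟨q, rfl⟩ := Mg_eq_two hg hch hM
    have h5 : f₁ = 5 * f := by rw [hM] at h1'; omega
    have hq : q = p ^ f₁ := hfl
    have hq' : q = (p ^ f) ^ 5 := by rw [hq, h5, mul_comm 5 f, pow_mul]
    -- a prime of order three
    obtain ⟨s, hs | ⟨rfl, rfl, rfl, hs⟩⟩ := exists_prim3 hp hf
    · obtain ⟨hs, hsf, hlt⟩ := hs
      have h6 : s ∣ c := hs3.mem' hp hfl hs hsf (fun hd => by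
        rw [h5] at hd
        rcases hs.prime.dvd_mul.1 hd with h7 | h7
        · have h8 : s = 5 := (Nat.prime_dvd_prime_iff_eq hs.prime Nat.prime_five).1 h7
          have h9 := prim_dvd_sub hs
          rw [h8] at h9
          norm_num at h9
        · exact hsf h7)
      have h7 : s ∣ den (.psl 2 q) * c := h6.mul_left _
      rw [hc, hq'] at h7
      exact not_dvd_psl2 hs (by norm_num) h7
    · have h6 : 7 ∣ c := hs3.mem' hp hfl hs (by norm_num) (by rw [h5]; norm_num)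
      have h7 : 7 ∣ den (.psl 2 q) * c := h6.mul_left _
      rw [hc, hq'] at h7
      exact not_dvd_psl2 hs (by norm_num) h7
  · have hM3 : 3 ≤ Mg g := by omega
    have hle : f₁ ≤ f * 4 := by
      have : f₁ * 3 ≤ f₁ * Mg g := Nat.mul_le_mul_left _ hM3
      omega
    obtain ⟨x, hx, hx2⟩ := h3 4 (by omega) (by omega) fun s hs => hs2.big hp hf hf₁ hfl hle hs
    have hx3 : 4 * Mg g ∣ 10 * x := hx2
    obtain ⟨hx4, hx5⟩ := hK.le hx
    have h5M : 5 ∣ Mg g := by
      obtain ⟨k, hk⟩ := hx3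
      have hk2 : k ≤ 2 := by
        by_contra hcon
        push Not at hcon
        have : 4 * Mg g * 3 ≤ 4 * Mg g * k := Nat.mul_le_mul_left _ hcon
        omega
      interval_cases k <;> omega
    cases g
    case psl m q =>
      exfalso
      obtain ⟨hm, -, -⟩ := hg
      have h5 : 5 ∣ m := h5M
      have h6 : 2 * (m * (m - 1) / 2) ≤ 3 * m := hA
      rw [two_half] at h6
      have h7 : m - 1 ≤ 3 := by
        rw [mul_comm 3] at h6
        exact Nat.le_of_mul_le_mul_left h6 (by omega)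
      omega
    case psp m q =>
      exfalso
      obtain ⟨hm, -, -⟩ := hg
      have h5 : 5 ∣ 2 * m := h5M
      have h6 : 2 * m ^ 2 ≤ 3 * (2 * m) := hA
      have h7 : m ≤ 3 := by nlinarith only [h6]
      omega
    case oodd m q =>
      exfalso
      obtain ⟨hm, -, -⟩ := hg
      have h5 : 5 ∣ 2 * m := h5M
      have h6 : 2 * m ^ 2 ≤ 3 * (2 * m) := hA
      have h7 : m ≤ 3 := by nlinarith only [h6]
      omega
    case psu m q =>
      obtain ⟨hm, -, -⟩ := hg
      have h5 : 5 ∣ 2 * (if m % 2 = 0 then m - 1 else m) := h5M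
      have h6 : 2 * (m * (m - 1) / 2) ≤ 3 * (2 * (if m % 2 = 0 then m - 1 else m)) := hA
      have h8 : f₁ * (2 * (if m % 2 = 0 then m - 1 else m)) = f * 10 := h1'
      have hq : q = p ^ f₁ := hfl
      rw [two_half] at h6
      by_cases h0 : m % 2 = 0
      · rw [if_pos h0] at h5 h6 h8
        have h7 : m ≤ 6 := by
          have : (m - 1) * m ≤ (m - 1) * 6 := by linarith only [h6]
          exact Nat.le_of_mul_le_mul_left this (by (clear * - hm; omega))
        obtain rfl : m = 6 := by (clear * - hm h5 h7; omega)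
        rw [hq, show f₁ = f by omega]
      · exfalso
        rw [if_neg h0] at h5 h6 h8
        have h7 : m - 1 ≤ 6 := by
          have : m * (m - 1) ≤ m * 6 := by linarith only [h6]
          exact Nat.le_of_mul_le_mul_left this (by omega)
        obtain rfl : m = 5 := by (clear * - hm h5 h7; omega)
        have h9 : f₁ = f := by omega
        obtain ⟨s, hs, hs'⟩ := ex_primN hp hf hf₁ (by norm_num) (by norm_num) hc hfl (by omega) hs3
        have h10 : s ∣ q ^ (5 * (5 - 1) / 2) * prU q 5 := hs'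
        rw [hq, h9] at h10
        refine not_dvd_psu_odd hs (by norm_num) (by norm_num) (fun i hi1 hi2 hi3 hi4 => ?_) h10
        interval_cases i <;> omega
    case oplus m q =>
      exfalso
      obtain ⟨hm, -⟩ := hg
      have h6 : 2 * (m * (m - 1)) ≤ 3 * (2 * (m - 1)) := hA
      have h7 : m ≤ 3 := by
        have : (m - 1) * m ≤ (m - 1) * 3 := by linarith only [h6]
        exact Nat.le_of_mul_le_mul_left this (by omega)
      omega
    case ominus m q =>
      exfalso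
      obtain ⟨hm, -⟩ := hg
      have h5 : 5 ∣ 2 * m := h5M
      have h6 : 2 * (m * (m - 1)) ≤ 3 * (2 * m) := hA
      have h7 : m - 1 ≤ 3 := by
        have : m * (m - 1) ≤ m * 3 := by linarith only [h6]
        exact Nat.le_of_mul_le_mul_left this (by omega)
      omega
    case g2 q => exact absurd (show 5 ∣ 6 from h5M) (by norm_num)
    case f4 q => exact absurd (show 5 ∣ 12 from h5M) (by norm_num)
    case e6 q => exact absurd (show 5 ∣ 12 from h5M) (by norm_num)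
    case e7 q => exact absurd (show 5 ∣ 18 from h5M) (by norm_num)
    case e8 q => exact absurd (show 2 * 120 ≤ 3 * 30 from hA) (by norm_num)
    case te6 q => exact absurd (show 5 ∣ 18 from h5M) (by norm_num)
    case td4 q => exact absurd (show 5 ∣ 12 from h5M) (by norm_num)
    case sz q => exact absurd (show 5 ∣ 4 from h5M) (by norm_num)
    case ree q => exact absurd (show 5 ∣ 6 from h5M) (by norm_num)
    case tf4 q => exact absurd (show 5 ∣ 12 from h5M) (by norm_num)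
    all_goals exact absurd hch not_false

theorem le_six {x k : ℤ} (hx : 2 ≤ x) (h : (x ^ 3 - 1) * k = 2 * (x ^ 6 * ((x ^ 4 - 1) * (x ^ 4 - 1) * (x ^ 2 - 1)))) :
    x ^ 2 + x + 1 ≤ 6 := by
  have h2 : (x - 1) * ((x ^ 2 + x + 1) * k) = (x - 1) * (2 * x ^ 6 * (x ^ 4 - 1) ^ 2 * (x + 1)) := by
    linear_combination h
  have h3 := mul_left_cancel₀ (show x - 1 ≠ 0 by omega) h2
  have h4 : (x ^ 2 + x + 1) ∣ 6 := by
    refine ⟨k - ((-6)*x^0 + (6)*x^1 + (-6)*x^3 + (6)*x^4 + (-4)*x^6 + (6)*x^7 + (-2)*x^8 + (-4)*x^9 + (2)*x^10 +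
      (-2)*x^11 + (2)*x^13), ?_⟩
    linear_combination -h3
  exact Int.le_of_dvd (by norm_num) h4

theorem td4_false {x k : ℤ} (hx : 2 ≤ x)
    (h : x ^ 6 * ((x - 1) * (x ^ 3 - 1) * (x ^ 4 + x ^ 2 + 1)) * k =
      x ^ 12 * ((x ^ 4 - 1) * ((x ^ 2 - 1) * (x ^ 4 - 1) * (x ^ 6 - 1)))) : False := by
  have h2 : (x ^ 6 * (x - 1) * (x ^ 3 - 1) * (x ^ 2 - x + 1)) * ((x ^ 2 + x + 1) * k) =
      (x ^ 6 * (x - 1) * (x ^ 3 - 1) * (x ^ 2 - x + 1)) * (x ^ 6 * (x ^ 4 - 1) ^ 2 * (x + 1) ^ 2) := by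
    linear_combination h
  have hne : x ^ 6 * (x - 1) * (x ^ 3 - 1) * (x ^ 2 - x + 1) ≠ 0 := by
    have h1 : 0 < x ^ 6 := by positivity
    have h2 : 0 < x - 1 := by omega
    have h3 : 0 < x ^ 3 - 1 := by nlinarith only [hx, _root_.sq_nonneg (x + 1 : ℤ)]
    have h4 : 0 < x ^ 2 - x + 1 := by nlinarith only [hx]
    (clear * - hx h2 h3 h4; positivity)
  have h3 := mul_left_cancel₀ hne h2
  have h4 : (x ^ 2 + x + 1) ∣ 3 := by
    refine ⟨((3)*x^0 + (-3)*x^1 + (3)*x^3 + (-3)*x^4 + (3)*x^6 + (-2)*x^7 + (1)*x^8 + (2)*x^9 + (-3)*x^10 + (-1)*x^11 + (-1)*x^13 + (1)*x^14 + (1)*x^15) - x * k, ?_⟩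
    linear_combination x * h3
  have h5 := Int.le_of_dvd (by norm_num) h4
  nlinarith only [hx, h5]


theorem prB_three (x : ℕ) : prB x (4 - 1) = (x ^ 2 - 1) * (x ^ 4 - 1) * (x ^ 6 - 1) := by
  rw [prB_eq, Finset.prod_range_succ, Finset.prod_range_succ, Finset.prod_range_succ, Finset.prod_range_zero,
    one_mul]

/-- `PSp_4(q^(3/2))` -/
theorem psp2_false {x q D c : ℕ} (hx : 4 ≤ x) (hq : q ^ 2 = x ^ 3) (hD : D ∣ 2) (hc : D * c = q ^ (2 ^ 2) * prB q 2)
    (hdvd : c ∣ x ^ (4 * (4 - 1)) * ((x ^ 4 - 1) * prB x (4 - 1))) : False := by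
  rw [prB_three] at hdvd
  have h1 : prB q 2 = (q ^ 2 - 1) * (q ^ 4 - 1) := by
    rw [prB_eq, Finset.prod_range_succ, Finset.prod_range_succ, Finset.prod_range_zero, one_mul]
  have h2 : q ^ (2 ^ 2) = x ^ 6 := by
    calc q ^ (2 ^ 2) = (q ^ 2) ^ 2 := by ring
      _ = x ^ 6 := by rw [hq]; ring
  have h2' : q ^ 4 = x ^ 6 := by
    calc q ^ 4 = (q ^ 2) ^ 2 := by ring
      _ = x ^ 6 := by rw [hq]; ring
  rw [h1, h2, hq, h2'] at hc
  obtain ⟨t, ht⟩ := hD
  obtain ⟨k, hk⟩ := hdvd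
  have e2 : 1 ≤ x ^ 2 := Nat.one_le_pow _ _ (by omega)
  have e3 : 1 ≤ x ^ 3 := Nat.one_le_pow _ _ (by omega)
  have e4 : 1 ≤ x ^ 4 := Nat.one_le_pow _ _ (by omega)
  have e6 : 1 ≤ x ^ 6 := Nat.one_le_pow _ _ (by omega)
  zify [e2, e3, e4, e6] at hc hk ht
  have hx' : (4 : ℤ) ≤ x := by exact_mod_cast hx
  obtain ⟨X, hX⟩ : ∃ X : ℤ, X = x := ⟨_, rfl⟩
  rw [← hX] at hc hk hx'
  have h3 : (X ^ 6 * (X ^ 6 - 1)) * ((X ^ 3 - 1) * (t * k)) =
      (X ^ 6 * (X ^ 6 - 1)) * (2 * (X ^ 6 * ((X ^ 4 - 1) * (X ^ 4 - 1) * (X ^ 2 - 1)))) := by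
    have h4 : (X ^ 6 * (X ^ 6 - 1)) * ((X ^ 3 - 1) * (t * k)) = (D * c) * (t * k) := by rw [hc]; ring
    have h5 : ((D : ℤ) * c) * (t * k) = 2 * (c * k) := by rw [ht]; ring
    rw [h4, h5, ← hk]
    norm_num only
    ring
  have h6 : 0 < X ^ 6 * (X ^ 6 - 1) := by
    have h7 : 0 < X ^ 6 := by positivity
    have h8 : 0 < X ^ 6 - 1 := by linarith only [pow_le_pow_left₀ (by norm_num : (0 : ℤ) ≤ 4) hx' 6]
    (clear * - hx' h8; positivity)
  have h9 := le_six (by omega) (mul_left_cancel₀ h6.ne' h3)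
  nlinarith only [hx', h9]

/-- `3D4(q^(1/2))` -/
theorem td4x_false {x q c : ℕ} (hx : 2 ≤ x) (hq : q ^ 2 = x)
    (hc : 1 * c = q ^ 12 * ((q ^ 2 - 1) * (q ^ 6 - 1) * (q ^ 8 + q ^ 4 + 1)))
    (hdvd : c ∣ x ^ (4 * (4 - 1)) * ((x ^ 4 - 1) * prB x (4 - 1))) : False := by
  rw [prB_three] at hdvd
  have h12 : q ^ 12 = x ^ 6 := by rw [← hq]; ring
  have h6 : q ^ 6 = x ^ 3 := by rw [← hq]; ring
  have h8 : q ^ 8 = x ^ 4 := by rw [← hq]; ring
  have h4 : q ^ 4 = x ^ 2 := by rw [← hq]; ring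
  rw [one_mul, h12, h6, h8, h4, hq] at hc
  obtain ⟨k, hk⟩ := hdvd
  have e1 : 1 ≤ x := by omega
  have e2 : 1 ≤ x ^ 2 := Nat.one_le_pow _ _ (by omega)
  have e3 : 1 ≤ x ^ 3 := Nat.one_le_pow _ _ (by omega)
  have e4 : 1 ≤ x ^ 4 := Nat.one_le_pow _ _ (by omega)
  have e6 : 1 ≤ x ^ 6 := Nat.one_le_pow _ _ (by omega)
  rw [hc] at hk
  zify [e1, e2, e3, e4, e6] at hk
  refine td4_false (x := (x : ℤ)) (k := k) (by exact_mod_cast hx) ?_
  norm_num only at hk
  rw [← hk]

/-- `2F4(q^(1/2))` : a prime of order `3` modulo `q₀` does not divide the order -/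
theorem not_dvd_tf4 {q s : ℕ} (hs : Prim q 3 s) :
    ¬ s ∣ q ^ 12 * ((q - 1) * (q ^ 3 + 1) * (q ^ 4 - 1) * (q ^ 6 + 1)) := by
  intro h
  rcases hs.prime.dvd_mul.1 h with h | h
  · exact hs.not_dvd_pow _ h
  rcases hs.prime.dvd_mul.1 h with h | h
  · rcases hs.prime.dvd_mul.1 h with h | h
    · rcases hs.prime.dvd_mul.1 h with h | h
      · rw [← pow_one q, hs.dvd_iff] at h
        norm_num at h
      · exact not_dvd_add_odd hs (by norm_num) (by norm_num) _ h
    · rw [hs.dvd_iff] at h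
      norm_num at h
  · exact not_dvd_add_odd hs (by norm_num) (by norm_num) _ h

/-- **`T = PΩ^+_8(q)`, `q ≠ 2`**, exponents 6, 3. -/
theorem cp_oplus4 (hp : p.Prime) (hf : 1 ≤ f) (hex1 : ¬ (p = 2 ∧ f * 6 = 6)) (hg : Cond g)
    (hch : HasChar p g) (hc : den g * c = num g)
    (hdvd : c ∣ (p ^ f) ^ (4 * (4 - 1)) * (((p ^ f) ^ 4 - 1) * prB (p ^ f) (4 - 1)))
    (hs1 : HSN p f 6 g c) (hs2 : HSN p f 3 g c) :
    g = .oplus 4 (p ^ f) ∨ g = .oodd 3 (p ^ f) ∨ g = .psp 3 (p ^ f) ∨ g = .g2 (p ^ f) ∨ g = .psl 3 (p ^ (2 * f)) ∨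
      g = .psl 2 (p ^ (3 * f)) ∨ (p ^ f = 4 ∧ g = .sz 8) := by
  obtain ⟨f₁, hf₁, hfl, hK, hY⟩ := kd_all hp hg hch hc
  have hT := td_oplus hp hf (by omega) hdvd
  have hM2 := two_le_Mg hg hch
  have hb : f₁ ≤ f * 6 := f1_le hp hf₁ hT hK hY hM2 (show 3 ≤ f * 6 by omega)
  obtain ⟨h1, h2, h3, h4⟩ := comp hp hf hf₁ hT hK (show 3 ≤ f * 6 by omega) hex1
    (fun s hs => hs1.big hp hf hf₁ hfl hb hs) hY (by
    intro hp2 h6 h5
    have : f * 6 ≤ 5 := h5
    omega)
  have h1' : f₁ * Mg g = f * 6 := h1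
  have h2' : ag g * 6 ≤ 12 * Mg g := h2
  have hA : ag g ≤ 2 * Mg g := by omega
  -- the exponents of `g`
  have h4' : ∀ e, Yg g e → 3 ≤ f₁ * e → f₁ * e ≠ 6 → 6 * e ∣ Mg g * 2 ∨ 6 * e ∣ Mg g * 4 ∨ 6 * e ∣ Mg g * 6 := by
    intro e he he3 he6
    obtain ⟨i, ⟨hi1, hi2, hi3⟩, hi⟩ := h4 e he he3 (fun h => he6 h.2)
    have hi4 : 6 * e ∣ Mg g * i := hi
    have hi5 : i ≤ 6 := hi2
    have : i = 2 ∨ i = 4 ∨ i = 6 := by (clear * - hi1 hi2 hi3; omega)
    rcases this with rfl | rfl | rfl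
    · exact Or.inl hi4
    · exact Or.inr (Or.inl hi4)
    · exact Or.inr (Or.inr hi4)
  have hq2 : 2 ≤ p ^ f := (hp.two_le).trans (Nat.le_self_pow (by omega) _)
  cases g
  case psl m q =>
    obtain ⟨hm, -, -⟩ := hg
    have hq : q = p ^ f₁ := hfl
    have h5 : m * (m - 1) / 2 ≤ 2 * m := hA
    have h6 : m * (m - 1) ≤ 4 * m := by
      have := two_half m
      omega
    have h7 : m - 1 ≤ 4 := by
      rw [mul_comm 4] at h6
      exact Nat.le_of_mul_le_mul_left h6 (by omega)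
    have h8 : f₁ * m = f * 6 := h1'
    have h9 : m = 2 ∨ m = 3 ∨ m = 4 ∨ m = 5 := by omega
    rcases h9 with rfl | rfl | rfl | rfl
    · exact Or.inr (Or.inr (Or.inr (Or.inr (Or.inr (Or.inl (by rw [hq, show f₁ = 3 * f by omega]))))))
    · exact Or.inr (Or.inr (Or.inr (Or.inr (Or.inl (by rw [hq, show f₁ = 2 * f by omega])))))
    · exfalso
      have h10 : 6 * 3 ∣ 4 * 2 ∨ 6 * 3 ∣ 4 * 4 ∨ 6 * 3 ∣ 4 * 6 := h4' 3 ⟨by norm_num, by norm_num⟩ (by omega) (by omega)
      omega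
    · exfalso
      have h10 : 6 * 4 ∣ 5 * 2 ∨ 6 * 4 ∣ 5 * 4 ∨ 6 * 4 ∣ 5 * 6 := h4' 4 ⟨by norm_num, by norm_num⟩ (by omega) (by omega)
      omega
  case psp m q =>
    obtain ⟨hm, -, -⟩ := hg
    have hq : q = p ^ f₁ := hfl
    have h5 : m ^ 2 ≤ 2 * (2 * m) := hA
    have h7 : m ≤ 4 := by nlinarith only [h5]
    have h8 : f₁ * (2 * m) = f * 6 := h1'
    have h9 : m = 2 ∨ m = 3 ∨ m = 4 := by omega
    rcases h9 with rfl | rfl | rfl
    · exfalso
      have hfe : 2 ≤ f := by omega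
      have hx : 4 ≤ p ^ f := by
        calc 4 = 2 ^ 2 := rfl
          _ ≤ p ^ 2 := Nat.pow_le_pow_left hp.two_le 2
          _ ≤ p ^ f := Nat.pow_le_pow_right hp.pos hfe
      refine psp2_false (q := q) hx ?_ (Nat.gcd_dvd_left 2 (q - 1)) hc hdvd
      rw [hq, ← pow_mul, ← pow_mul]
      congr 1
      omega
    · exact Or.inr (Or.inr (Or.inl (by rw [hq, show f₁ = f by omega])))
    · exfalso
      have h10 : 6 * 6 ∣ (2 * 4) * 2 ∨ 6 * 6 ∣ (2 * 4) * 4 ∨ 6 * 6 ∣ (2 * 4) * 6 :=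
        h4' 6 ⟨by norm_num, by norm_num, by norm_num⟩ (by omega) (by omega)
      omega
  case oodd m q =>
    obtain ⟨hm, -, -⟩ := hg
    have hq : q = p ^ f₁ := hfl
    have h5 : m ^ 2 ≤ 2 * (2 * m) := hA
    have h7 : m ≤ 4 := by nlinarith only [h5]
    have h8 : f₁ * (2 * m) = f * 6 := h1'
    have h9 : m = 3 ∨ m = 4 := by omega
    rcases h9 with rfl | rfl
    · exact Or.inr (Or.inl (by rw [hq, show f₁ = f by omega]))
    · exfalso
      have h10 : 6 * 6 ∣ (2 * 4) * 2 ∨ 6 * 6 ∣ (2 * 4) * 4 ∨ 6 * 6 ∣ (2 * 4) * 6 :=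
        h4' 6 ⟨by norm_num, by norm_num, by norm_num⟩ (by omega) (by omega)
      omega
  case psu m q =>
    exfalso
    obtain ⟨hm, -, -⟩ := hg
    have hq : q = p ^ f₁ := hfl
    have h5 : m * (m - 1) / 2 ≤ 2 * (2 * (if m % 2 = 0 then m - 1 else m)) := hA
    have h6 : m * (m - 1) ≤ 8 * (if m % 2 = 0 then m - 1 else m) := by
      have := two_half m
      omega
    have h8 : f₁ * (2 * (if m % 2 = 0 then m - 1 else m)) = f * 6 := h1'
    have h9 : m ≤ 9 := by
      by_cases h0 : m % 2 = 0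
      · rw [if_pos h0] at h6
        have : (m - 1) * m ≤ (m - 1) * 8 := by linarith only [h6]
        have := Nat.le_of_mul_le_mul_left this (by omega)
        omega
      · rw [if_neg h0] at h6
        have : m * (m - 1) ≤ m * 8 := by linarith only [h6]
        have := Nat.le_of_mul_le_mul_left this (by omega)
        omega
    have key : ∀ e, e ∈ [6, 14] → (e = 6 ∨ m = 9) →
        3 ≤ f₁ * e → f₁ * e ≠ 6 → 6 * e ∣ (2 * (if m % 2 = 0 then m - 1 else m)) * 2 ∨
        6 * e ∣ (2 * (if m % 2 = 0 then m - 1 else m)) * 4 ∨ 6 * e ∣ (2 * (if m % 2 = 0 then m - 1 else m)) * 6 := by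
      intro e he hor
      refine h4' e ?_
      show 3 ≤ e ∧ ((e ≤ m ∧ e % 2 = 0) ∨ ∃ j, e = 2 * j ∧ j ≤ m ∧ j % 2 = 1)
      simp only [List.mem_cons, List.not_mem_nil, or_false] at he
      rcases he with rfl | rfl
      · exact ⟨by norm_num, Or.inr ⟨3, rfl, hm, rfl⟩⟩
      · exact ⟨by norm_num, Or.inr ⟨7, rfl, by omega, rfl⟩⟩
    have hex3 : ∀ m', (m' = 3 ∨ m' = 4) → m = m' → f₁ = f → False := by
      intro m' hm' hmm hff
      obtain ⟨s, hs, hs'⟩ := ex_primN hp hf hf₁ (by norm_num) (by norm_num) hc hfl (by omega) hs2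
      have h10 : s ∣ q ^ (m * (m - 1) / 2) * prU q m := hs'
      rw [hq, hff] at h10
      refine not_dvd_psu_odd hs (by norm_num) (by norm_num) (fun i hi1 hi2 hi3 hi4 => ?_) h10
      have : i ≤ 4 := by (clear * - hm' hmm hi2; omega)
      interval_cases i <;> omega
    interval_cases m
    · rw [if_neg (by norm_num)] at h8
      exact hex3 3 (Or.inl rfl) rfl (by omega)
    · rw [if_pos (by norm_num)] at h8
      exact hex3 4 (Or.inr rfl) rfl (by omega)
    · rw [if_neg (by norm_num)] at h8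
      have := key 6 (by decide) (Or.inl rfl) (by omega) (by omega)
      rw [if_neg (by norm_num)] at this
      omega
    · rw [if_pos (by norm_num)] at h8
      have := key 6 (by decide) (Or.inl rfl) (by omega) (by omega)
      rw [if_pos (by norm_num)] at this
      omega
    · rw [if_neg (by norm_num)] at h8
      have := key 6 (by decide) (Or.inl rfl) (by omega) (by omega)
      rw [if_neg (by norm_num)] at this
      omega
    · rw [if_pos (by norm_num)] at h8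
      have := key 6 (by decide) (Or.inl rfl) (by omega) (by omega)
      rw [if_pos (by norm_num)] at this
      omega
    · rw [if_neg (by norm_num)] at h8
      have := key 14 (by decide) (Or.inr rfl) (by omega) (by omega)
      rw [if_neg (by norm_num)] at this
      omega
  case oplus m q =>
    obtain ⟨hm, -⟩ := hg
    have hq : q = p ^ f₁ := hfl
    have h6 : m * (m - 1) ≤ 2 * (2 * (m - 1)) := hA
    have h7 : m ≤ 4 := by
      have : (m - 1) * m ≤ (m - 1) * 4 := by linarith only [h6]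
      exact Nat.le_of_mul_le_mul_left this (by omega)
    obtain rfl : m = 4 := by omega
    have h8 : f₁ * (2 * (4 - 1)) = f * 6 := h1'
    exact Or.inl (by rw [hq, show f₁ = f by omega])
  case ominus m q =>
    exfalso
    obtain ⟨hm, -⟩ := hg
    have hq : q = p ^ f₁ := hfl
    have h6 : m * (m - 1) ≤ 2 * (2 * m) := hA
    have h7 : m - 1 ≤ 4 := by
      have : m * (m - 1) ≤ m * 4 := by linarith only [h6]
      exact Nat.le_of_mul_le_mul_left this (by omega)
    have h8 : f₁ * (2 * m) = f * 6 := h1'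
    have h9 : m = 4 ∨ m = 5 := by omega
    rcases h9 with rfl | rfl
    · have h10 : 6 * 6 ∣ (2 * 4) * 2 ∨ 6 * 6 ∣ (2 * 4) * 4 ∨ 6 * 6 ∣ (2 * 4) * 6 :=
        h4' 6 ⟨by norm_num, by norm_num, by norm_num⟩ (by omega) (by omega)
      omega
    · have h10 : 6 * 6 ∣ (2 * 5) * 2 ∨ 6 * 6 ∣ (2 * 5) * 4 ∨ 6 * 6 ∣ (2 * 5) * 6 :=
        h4' 6 ⟨by norm_num, by norm_num, by norm_num⟩ (by omega) (by omega)
      omega
  case g2 q =>
    have hq : q = p ^ f₁ := hfl
    have h8 : f₁ * 6 = f * 6 := h1'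
    exact Or.inr (Or.inr (Or.inr (Or.inl (by rw [hq, show f₁ = f by omega]))))
  case f4 q =>
    exfalso
    have hq : q = p ^ f₁ := hfl
    have h7 : f₁ * 12 = f * 6 := h1'
    have h8 : f = 2 * f₁ := by omega
    have h9 : 1 * c = q ^ 24 * ((q ^ 2 - 1) * (q ^ 6 - 1) * (q ^ 8 - 1) * (q ^ 12 - 1)) := hc
    obtain ⟨x, hx⟩ : ∃ x, x = q ^ 2 := ⟨_, rfl⟩
    have hx2 : p ^ f = x := by rw [hx, hq, h8, ← pow_mul, mul_comm]
    rw [hx2, prB_three] at hdvd
    rw [one_mul, show q ^ 24 = x ^ 12 by rw [hx]; ring, show q ^ 6 = x ^ 3 by rw [hx]; ring,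
      show q ^ 8 = x ^ 4 by rw [hx]; ring, show q ^ 12 = x ^ 6 by rw [hx]; ring, ← hx] at h9
    rw [h9] at hdvd
    have hx3 : 2 ≤ x := hx2 ▸ hq2
    have hpos : ∀ k, 1 ≤ k → 0 < x ^ k - 1 := fun k hk => by
      have : 1 < x ^ k := Nat.one_lt_pow (by omega) (by omega)
      omega
    have h11 : (x ^ 12 * (x ^ 4 - 1) * (x ^ 6 - 1)) * ((x - 1) * (x ^ 3 - 1)) ∣
        (x ^ 12 * (x ^ 4 - 1) * (x ^ 6 - 1)) * ((x ^ 2 - 1) * (x ^ 4 - 1)) := by
      obtain ⟨k, hk⟩ := hdvd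
      refine ⟨k, ?_⟩
      calc (x ^ 12 * (x ^ 4 - 1) * (x ^ 6 - 1)) * ((x ^ 2 - 1) * (x ^ 4 - 1)) =
          x ^ (4 * (4 - 1)) * ((x ^ 4 - 1) * ((x ^ 2 - 1) * (x ^ 4 - 1) * (x ^ 6 - 1))) := by
            norm_num only
            ring
        _ = _ := hk
        _ = _ := by ring
    have h12 := Nat.dvd_of_mul_dvd_mul_left (Nat.mul_pos (Nat.mul_pos (by positivity) (hpos 4 (by norm_num)))
      (hpos 6 (by norm_num))) h11
    exact f4_dvd hx3 h12
  case e6 q => exact absurd (show 36 ≤ 2 * 12 from hA) (by norm_num)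
  case e7 q => exact absurd (show 63 ≤ 2 * 18 from hA) (by norm_num)
  case e8 q => exact absurd (show 120 ≤ 2 * 30 from hA) (by norm_num)
  case te6 q =>
    exfalso
    have h8 : f₁ * 18 = f * 6 := h1'
    have h10 : 6 * 10 ∣ 18 * 2 ∨ 6 * 10 ∣ 18 * 4 ∨ 6 * 10 ∣ 18 * 6 :=
      h4' 10 (by show 10 ∈ _; decide) (by omega) (by omega)
    omega
  case td4 q =>
    exfalso
    have hq : q = p ^ f₁ := hfl
    have h7 : f₁ * 12 = f * 6 := h1'
    have hx : q ^ 2 = p ^ f := by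
      rw [hq, ← pow_mul]
      congr 1
      omega
    exact td4x_false hq2 hx hc hdvd
  case sz q =>
    have hq : q = p ^ f₁ := hfl
    have h7 : f₁ * 4 = f * 6 := h1'
    obtain ⟨m, hm, hm2⟩ := hg
    have hp2 : p = 2 := by
      have h8 : p ∣ 2 ^ (2 * m + 1) := by
        rw [← hm2, hq]
        exact dvd_pow_self p (by omega)
      exact (Nat.prime_dvd_prime_iff_eq hp Nat.prime_two).1 (hp.dvd_of_dvd_pow h8)
    subst hp2
    have hfm : f₁ = 2 * m + 1 := Nat.pow_right_injective (le_refl 2) (hq.symm.trans hm2)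
    by_cases hf2 : f = 2
    · subst hf2
      right; right; right; right; right; right
      refine ⟨by norm_num, ?_⟩
      rw [hq, show f₁ = 3 by omega]
      norm_num
    · exfalso
      obtain ⟨s, hs⟩ := exists_prim (q := 2) (e := f * 3) le_rfl (by omega) (by (clear * - hf2; omega))
      have hlt := lt_of_prim hs
      have h8 : s ∣ c := hs2.big hp hf hf₁ hfl (by (clear * - h7; omega)) hs
      have h9 : 1 * c = q ^ 2 * ((q - 1) * (q ^ 2 + 1)) := hc
      rw [one_mul] at h9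
      rw [h9, hq] at h8
      rcases hs.prime.dvd_mul.1 h8 with h10 | h10
      · rw [← pow_mul] at h10
        exact hs.not_dvd_pow _ h10
      rcases hs.prime.dvd_mul.1 h10 with h11 | h11
      · rw [hs.dvd_iff] at h11
        have := Nat.le_of_dvd (by omega) h11
        omega
      · rw [← pow_mul, show f₁ * 2 = f * 3 by omega] at h11
        have h12 : s ∣ 2 ^ (f * 3) - 1 := hs.dvd dvd_rfl
        have h13 := Nat.dvd_sub h11 h12
        have h14 : 1 ≤ 2 ^ (f * 3) := Nat.one_le_two_pow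
        rw [show 2 ^ (f * 3) + 1 - (2 ^ (f * 3) - 1) = 2 by omega] at h13
        have := Nat.le_of_dvd (by norm_num) h13
        omega
  case ree q =>
    exfalso
    have hq : q = p ^ f₁ := hfl
    have h7 : f₁ * 6 = f * 6 := h1'
    obtain ⟨s, hs, hs'⟩ := ex_primN hp hf hf₁ (by norm_num) (by norm_num) hc hfl (by omega) hs2
    have h10 : s ∣ q ^ 3 * ((q - 1) * (q ^ 3 + 1)) := hs'
    rw [hq, show f₁ = f by omega] at h10
    rcases hs.prime.dvd_mul.1 h10 with h11 | h11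
    · exact hs.not_dvd_pow _ h11
    rcases hs.prime.dvd_mul.1 h11 with h12 | h12
    · rw [← pow_one (p ^ f), hs.dvd_iff] at h12
      norm_num at h12
    · exact not_dvd_add_odd hs (by norm_num) (by norm_num) _ h12
  case tf4 q =>
    exfalso
    have hq : q = p ^ f₁ := hfl
    have h7 : f₁ * 12 = f * 6 := h1'
    have h8 : f = 2 * f₁ := by omega
    obtain ⟨m, hm, hm2⟩ := hg
    have hp2 : p = 2 := by
      have h8 : p ∣ 2 ^ (2 * m + 1) := by
        rw [← hm2, hq]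
        exact dvd_pow_self p (by omega)
      exact (Nat.prime_dvd_prime_iff_eq hp Nat.prime_two).1 (hp.dvd_of_dvd_pow h8)
    subst hp2
    have hfm : f₁ = 2 * m + 1 := Nat.pow_right_injective (le_refl 2) (hq.symm.trans hm2)
    obtain ⟨s, hs0⟩ := exists_prim (q := 2) (e := f₁ * 3) le_rfl (by omega) (by omega)
    have hs := prim_pow hf₁ hs0
    have hlt := lt_of_prim hs0
    have hs' : Prim (2 ^ f) 3 s := by
      refine ⟨hs.prime, fun k => ?_, fun h => ?_⟩
      · rw [h8, mul_comm 2 f₁, pow_mul, ← pow_mul, hs.dvd_iff]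
        exact ⟨fun h => (show Nat.Coprime 3 2 by norm_num).dvd_of_dvd_mul_left h, fun h => h.mul_left _⟩
      · rw [h8, mul_comm 2 f₁, pow_mul] at h
        exact hs.not_dvd_pow _ h
    have h9 : s ∣ den (.tf4 q) * c := (hs2.mem hp hf hf₁ hfl hs' (by omega) (by omega)).mul_left _
    rw [hc, hq] at h9
    exact not_dvd_tf4 hs h9
  all_goals exact absurd hch not_false

end Cfsg.Agent.H358.Cyc
end

-- part: H358/Cyc/CharP4
section
/-!
# Cyclic primes, same characteristic (helper358, for S3679 and S3561): the small groups `L4(4)`, `L7(2)`, `S8(2)`,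
`Ω8^-(2)`, `Ω10^+(2)`
-/

set_option autoImplicit false

namespace Cfsg.Agent.H358.Cyc

open Cfsg.Agent.OrdDiv Cfsg.Agent.H436 Cfsg.Agent.H915.GN Cfsg.Agent.H264.GN Cfsg.Agent.H264.FKS

variable {p f c f₁ : ℕ} {g : Grp}

theorem prim_two_three : Prim 2 3 7 := by
  have h := prim_four_three
  refine ⟨by norm_num, fun k => ?_, by norm_num⟩
  constructor
  · intro h1
    have h2 : 7 ∣ 4 ^ k - 1 := by
      rw [show (4 : ℕ) = 2 ^ 2 by norm_num, ← pow_mul, mul_comm 2 k, pow_mul]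
      exact h1.trans (by simpa only [_root_.one_pow] using Nat.sub_dvd_pow_sub_pow (2 ^ k) 1 2)
    exact (h.dvd_iff k).1 h2
  · rintro ⟨m, rfl⟩
    rw [pow_mul]
    have := Nat.sub_dvd_pow_sub_pow (2 ^ 3) 1 m
    rw [one_pow] at this
    exact Dvd.dvd.trans (by norm_num) this

/-- the names with `f₁ M = 8`, `p = 2` -/
theorem m_eight (hg : Cond g) (hch : HasChar 2 g) (hf₁ : 1 ≤ f₁) (hfl : fld g = 2 ^ f₁) (h : f₁ * Mg g = 8) :
    g = .psl 2 16 ∨ g = .psl 4 4 ∨ g = .psl 8 2 ∨ g = .psp 2 4 ∨ g = .psp 4 2 ∨ g = .oplus 5 2 ∨ g = .ominus 4 2 := by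
  have hf8 : f₁ ∣ 8 := ⟨_, h.symm⟩
  have hf8' : f₁ ≤ 8 := Nat.le_of_dvd (by norm_num) hf8
  have h18 : f₁ = 1 ∨ f₁ = 2 ∨ f₁ = 4 ∨ f₁ = 8 := by
    interval_cases f₁ <;> (clear * - h; omega)
  cases g
  case psl m q =>
    obtain ⟨hm, -, -⟩ := hg
    have hq : q = 2 ^ f₁ := hfl
    have h' : f₁ * m = 8 := h
    rcases h18 with rfl | rfl | rfl | rfl
    · obtain rfl : m = 8 := by omega
      rw [hq]; norm_num
    · obtain rfl : m = 4 := by omega
      rw [hq]; norm_num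
    · obtain rfl : m = 2 := by omega
      rw [hq]; norm_num
    · omega
  case psp m q =>
    obtain ⟨hm, -, -⟩ := hg
    have hq : q = 2 ^ f₁ := hfl
    have h' : f₁ * (2 * m) = 8 := h
    rcases h18 with rfl | rfl | rfl | rfl
    · obtain rfl : m = 4 := by omega
      rw [hq]; norm_num
    · obtain rfl : m = 2 := by omega
      rw [hq]; norm_num
    · omega
    · omega
  case psu m q =>
    exfalso
    obtain ⟨hm, -, -⟩ := hg
    have h' : f₁ * (2 * (if m % 2 = 0 then m - 1 else m)) = 8 := h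
    split_ifs at h' <;> rcases h18 with rfl | rfl | rfl | rfl <;> omega
  case oodd m q =>
    exfalso
    obtain ⟨hm, ho, -⟩ := hg
    have hq : q = 2 ^ f₁ := hfl
    rw [hq, Nat.odd_pow_iff (by omega)] at ho
    exact absurd ho (by decide)
  case oplus m q =>
    obtain ⟨hm, -⟩ := hg
    have hq : q = 2 ^ f₁ := hfl
    have h' : f₁ * (2 * (m - 1)) = 8 := h
    rcases h18 with rfl | rfl | rfl | rfl
    · obtain rfl : m = 5 := by omega
      rw [hq]; norm_num
    all_goals (clear * - hm h'; omega)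
  case ominus m q =>
    obtain ⟨hm, -⟩ := hg
    have hq : q = 2 ^ f₁ := hfl
    have h' : f₁ * (2 * m) = 8 := h
    rcases h18 with rfl | rfl | rfl | rfl
    · obtain rfl : m = 4 := by omega
      rw [hq]; norm_num
    all_goals omega
  case g2 q =>
    have h' : f₁ * 6 = 8 := h
    omega
  case f4 q =>
    have h' : f₁ * 12 = 8 := h
    omega
  case e6 q =>
    have h' : f₁ * 12 = 8 := h
    omega
  case e7 q =>
    have h' : f₁ * 18 = 8 := h
    omega
  case e8 q =>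
    have h' : f₁ * 30 = 8 := h
    omega
  case te6 q =>
    have h' : f₁ * 18 = 8 := h
    omega
  case td4 q =>
    have h' : f₁ * 12 = 8 := h
    omega
  case sz q =>
    exfalso
    have h' : f₁ * 4 = 8 := h
    obtain ⟨m, hm, hm2⟩ := hg
    have hq : q = 2 ^ f₁ := hfl
    have hfm : f₁ = 2 * m + 1 := Nat.pow_right_injective (le_refl 2) (hq.symm.trans hm2)
    omega
  case ree q =>
    have h' : f₁ * 6 = 8 := h
    omega
  case tf4 q =>
    have h' : f₁ * 12 = 8 := h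
    omega
  all_goals exact absurd hch not_false

theorem num_psl2 : num (.psl 2 16) = 61200 := by
  show glN 2 16 = _
  rw [glN_eq]
  norm_num [Finset.prod_range_succ]

theorem num_psl4 : num (.psl 4 4) = 4 ^ 6 * (3 * 15 * 63 * 255) := by
  show glN 4 4 = _
  rw [glN_eq]
  norm_num [Finset.prod_range_succ]

theorem num_psp2 : num (.psp 2 4) = 4 ^ 4 * (15 * 255) := by
  show 4 ^ (2 ^ 2) * prB 4 2 = _
  rw [prB_eq]
  norm_num [Finset.prod_range_succ]

theorem num_psp4 : num (.psp 4 2) = 2 ^ 16 * (3 * 15 * 63 * 255) := by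
  show 2 ^ (4 ^ 2) * prB 2 4 = _
  rw [prB_eq]
  norm_num [Finset.prod_range_succ]

theorem num_ominus4 : num (.ominus 4 2) = 2 ^ 12 * (17 * (3 * 15 * 63)) := by
  show 2 ^ (4 * (4 - 1)) * ((2 ^ 4 + 1) * prB 2 (4 - 1)) = _
  rw [prB_eq]
  norm_num [Finset.prod_range_succ]

/-- common part: `f M_T = 8`, `p = 2` -/
theorem eight {XT : ℕ → Prop} {aT f MT : ℕ} (hf : 1 ≤ f) (hT : TD 2 f c XT MT aT) (h8 : f * MT = 8) (hg : Cond g)
    (hch : HasChar 2 g) (hc : den g * c = num g) (hs1 : HSN 2 f MT g c) {e s : ℕ} (hs2 : HSN 2 f e g c)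
    (hs : Prim (2 ^ f) e s) (hs7 : 7 ≤ s) (hfs : ¬ s ∣ f) :
    s ∣ c ∧ ag g * MT ≤ aT * Mg g ∧ (g = .psl 2 16 ∨ g = .psl 4 4 ∨ g = .psl 8 2 ∨ g = .psp 2 4 ∨ g = .psp 4 2 ∨
      g = .oplus 5 2 ∨ g = .ominus 4 2) := by
  obtain ⟨f₁, hf₁, hfl, hK, hY⟩ := kd_all Nat.prime_two hg hch hc
  have hM2 := two_le_Mg hg hch
  have hb := f1_le Nat.prime_two hf₁ hT hK hY hM2 (by omega)
  obtain ⟨h1, h2, -, -⟩ := comp Nat.prime_two hf hf₁ hT hK (by omega) (by omega)
    (fun s hs => hs1.big Nat.prime_two hf hf₁ hfl hb hs) hY (by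
    intro hp2 h6 h5
    omega)
  rw [h8] at h1
  refine ⟨hs2.mem' Nat.prime_two hfl hs hfs fun hd => ?_, h2, m_eight hg hch hf₁ hfl h1⟩
  have h3 : f₁ * 2 ≤ f₁ * Mg g := Nat.mul_le_mul_left _ hM2
  have h4 := Nat.le_of_dvd (by omega) hd
  omega

theorem dvd_num {s : ℕ} (hc : den g * c = num g) (h : s ∣ c) : s ∣ num g := by
  rw [← hc]
  exact h.mul_left _

/-- **`T = PSL_n(q)`, `n ≥ 4`, not `L4(2)`, `L6(2)`.** -/
theorem cpl_psl (hp : p.Prime) (hf : 1 ≤ f) {n : ℕ} (hn : 4 ≤ n) (h42 : ¬ (n = 4 ∧ p ^ f = 2))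
    (h62 : ¬ (n = 6 ∧ p ^ f = 2)) (hg : Cond g) (hch : HasChar p g)
    (hc : den g * c = num g) (hdvd : c ∣ glN n (p ^ f)) (hs1 : HSN p f n g c) (hs2 : HSN p f (n - 1) g c) :
    g = .psl n (p ^ f) ∨ ∃ f₁, 2 * f₁ = f ∧ n % 2 = 0 ∧ g = .ominus n (p ^ f₁) := by
  by_cases hex1 : p = 2 ∧ f * n = 6
  · exfalso
    obtain ⟨rfl, h⟩ := hex1
    have hf1 : f = 1 := by
      by_contra h1
      have : 2 * n ≤ f * n := Nat.mul_le_mul_right _ (by omega)
      omega
    subst hf1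
    exact h62 ⟨by omega, by norm_num⟩
  by_cases hex2 : p = 2 ∧ f * (n - 1) = 6
  · obtain ⟨rfl, h⟩ := hex2
    have hf2 : f = 1 ∨ f = 2 := by
      by_contra h1
      have : 3 * (n - 1) ≤ f * (n - 1) := Nat.mul_le_mul_right _ (by omega)
      omega
    rcases hf2 with rfl | rfl
    · -- `L7(2)`
      obtain rfl : n = 7 := by omega
      left
      obtain ⟨f₁, hf₁, hfl, hK, hY⟩ := kd_all hp hg hch hc
      have hT := td_psl hp hf hdvd
      have hM2 := two_le_Mg hg hch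
      have hb := f1_le hp hf₁ hT hK hY hM2 (by omega)
      obtain ⟨h1, -, -, -⟩ := comp hp hf hf₁ hT hK (by omega) hex1
        (fun s hs => hs1.big hp hf hf₁ hfl hb hs) hY (by
        intro hp2 h6 h5
        omega)
      have hM7 : Mg g = 7 ∧ f₁ = 1 := by
        have h2 : f₁ ∣ 7 := ⟨Mg g, by rw [h1]⟩
        rcases (Nat.dvd_prime (by norm_num)).1 h2 with rfl | rfl
        · exact ⟨by omega, rfl⟩
        · omega
      obtain ⟨hM7, rfl⟩ := hM7
      cases g
      case psl m q =>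
        obtain rfl : m = 7 := hM7
        have hq : q = 2 ^ 1 := hfl
        rw [hq]
      case psp m q =>
        have h' : 2 * m = 7 := hM7
        omega
      case psu m q =>
        have h' : 2 * (if m % 2 = 0 then m - 1 else m) = 7 := hM7
        omega
      case oodd m q =>
        have h' : 2 * m = 7 := hM7
        omega
      case oplus m q =>
        have h' : 2 * (m - 1) = 7 := hM7
        omega
      case ominus m q =>
        have h' : 2 * m = 7 := hM7
        omega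
      case g2 q => exact absurd (show (6 : ℕ) = 7 from hM7) (by norm_num)
      case f4 q => exact absurd (show (12 : ℕ) = 7 from hM7) (by norm_num)
      case e6 q => exact absurd (show (12 : ℕ) = 7 from hM7) (by norm_num)
      case e7 q => exact absurd (show (18 : ℕ) = 7 from hM7) (by norm_num)
      case e8 q => exact absurd (show (30 : ℕ) = 7 from hM7) (by norm_num)
      case te6 q => exact absurd (show (18 : ℕ) = 7 from hM7) (by norm_num)
      case td4 q => exact absurd (show (12 : ℕ) = 7 from hM7) (by norm_num)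
      case sz q => exact absurd (show (4 : ℕ) = 7 from hM7) (by norm_num)
      case ree q => exact absurd (show (6 : ℕ) = 7 from hM7) (by norm_num)
      case tf4 q => exact absurd (show (12 : ℕ) = 7 from hM7) (by norm_num)
      all_goals exact absurd hch not_false
    · -- `L4(4)`
      obtain rfl : n = 4 := by omega
      obtain ⟨h7, h2, h3⟩ := eight (by norm_num) (td_psl hp hf hdvd) (by norm_num) hg hch hc hs1 (e := 3) hs2
        (s := 7) (by norm_num; exact prim_four_three) le_rfl (by norm_num)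
      have h7' := dvd_num hc h7
      rcases h3 with rfl | rfl | rfl | rfl | rfl | rfl | rfl
      · rw [num_psl2] at h7'
        norm_num at h7'
      · left; norm_num
      · exact absurd (show 8 * (8 - 1) / 2 * 4 ≤ 4 * (4 - 1) / 2 * 8 from h2) (by norm_num)
      · rw [num_psp2] at h7'
        norm_num at h7'
      · exact absurd (show 4 ^ 2 * 4 ≤ 4 * (4 - 1) / 2 * (2 * 4) from h2) (by norm_num)
      · exact absurd (show 5 * (5 - 1) * 4 ≤ 4 * (4 - 1) / 2 * (2 * (5 - 1)) from h2) (by norm_num)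
      · right
        exact ⟨1, by norm_num, by norm_num, by norm_num⟩
  · exact cp_psl hp hf hn h42 hex1 hex2 hg hch hc hdvd hs1 hs2

/-- **`T = PSp_2n(q)` or `Ω_{2n+1}(q)`, `n ≥ 3`, not `S6(2)`.** -/
theorem cpl_psp (hp : p.Prime) (hf : 1 ≤ f) {n : ℕ} (hn : 3 ≤ n)
    (h32 : ¬ (n = 3 ∧ p ^ f = 2)) (hg : Cond g) (hch : HasChar p g)
    (hc : den g * c = num g) (hdvd : c ∣ (p ^ f) ^ (n ^ 2) * prB (p ^ f) n)
    (hs1 : HSN p f (2 * n) g c) (hs2 : HSN p f (2 * (n - 1)) g c) (hs3 : n = 4 → p ^ f = 2 → HSN p f 3 g c) :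
    g = .psp n (p ^ f) ∨ g = .oodd n (p ^ f) ∨ g = .psl n (p ^ (2 * f)) ∨ g = .ominus n (p ^ f) ∨
      (n = 3 ∧ g = .psu 4 (p ^ f)) := by
  have h2n : f * (2 * n) = 2 * (f * n) := by ring
  by_cases hex1 : p = 2 ∧ f * (2 * n) = 6
  · exfalso
    obtain ⟨rfl, h⟩ := hex1
    have hf1 : f = 1 := by
      by_contra h1
      have : 2 * n ≤ f * n := Nat.mul_le_mul_right _ (by omega)
      omega
    subst hf1
    exact h32 ⟨by omega, by norm_num⟩
  by_cases hex2 : p = 2 ∧ f * (2 * (n - 1)) = 6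
  · obtain ⟨rfl, h⟩ := hex2
    have hf1 : f = 1 := by
      by_contra h1
      have : 2 * (2 * (n - 1)) ≤ f * (2 * (n - 1)) := Nat.mul_le_mul_right _ (by omega)
      omega
    subst hf1
    obtain rfl : n = 4 := by (clear * - h; omega)
    obtain ⟨h7, h2, h3⟩ := eight (by norm_num) (td_psp hp hf hdvd) (by norm_num) hg hch hc hs1 (e := 3)
        (hs3 rfl (by norm_num)) (s := 7) (by norm_num; exact prim_two_three) le_rfl (by norm_num)
    have h7' := dvd_num hc h7
    rcases h3 with rfl | rfl | rfl | rfl | rfl | rfl | rfl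
    · rw [num_psl2] at h7'
      norm_num at h7'
    · right; right; left; norm_num
    · exact absurd (show 8 * (8 - 1) / 2 * (2 * 4) ≤ 4 ^ 2 * 8 from h2) (by norm_num)
    · rw [num_psp2] at h7'
      norm_num at h7'
    · left; norm_num
    · exact absurd (show 5 * (5 - 1) * (2 * 4) ≤ 4 ^ 2 * (2 * (5 - 1)) from h2) (by norm_num)
    · right; right; right; left; norm_num
  · exact cp_psp hp hf hn hex1 hex2 hg hch hc hdvd hs1 hs2

/-- **`T = Ω^-_{2n}(q)`, `n ≥ 4`.** -/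
theorem cpl_ominus (hp : p.Prime) (hf : 1 ≤ f) {n : ℕ} (hn : 4 ≤ n) (hg : Cond g) (hch : HasChar p g)
    (hc : den g * c = num g)
    (hdvd : c ∣ (p ^ f) ^ (n * (n - 1)) * (((p ^ f) ^ n + 1) * prB (p ^ f) (n - 1)))
    (hs1 : HSN p f (2 * n) g c) (hs2 : HSN p f (2 * (n - 1)) g c) (hs3 : n = 4 → p ^ f = 2 → HSN p f 3 g c) :
    g = .ominus n (p ^ f) := by
  by_cases hex2 : p = 2 ∧ f * (2 * (n - 1)) = 6
  · obtain ⟨rfl, h⟩ := hex2
    have hf1 : f = 1 := by
      by_contra h1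
      have : 2 * (2 * (n - 1)) ≤ f * (2 * (n - 1)) := Nat.mul_le_mul_right _ (by omega)
      omega
    subst hf1
    obtain rfl : n = 4 := by omega
    obtain ⟨h7, h2, h3⟩ := eight (by norm_num) (td_ominus hp hf (by norm_num) hdvd) (by norm_num) hg hch hc hs1 (e := 3)
        (hs3 rfl (by norm_num)) (s := 7) (by norm_num; exact prim_two_three) le_rfl (by norm_num)
    have h7' := dvd_num hc h7
    rcases h3 with rfl | rfl | rfl | rfl | rfl | rfl | rfl
    · rw [num_psl2] at h7'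
      norm_num at h7'
    · exfalso
      have h4 : Nat.gcd 4 (4 - 1) * (4 - 1) * c = num (.psl 4 4) := hc
      rw [num_psl4, show Nat.gcd 4 (4 - 1) = 1 by decide] at h4
      have h5 : prB (2 ^ 1) (4 - 1) = 3 * 15 * 63 := by
        rw [prB_eq]
        norm_num [Finset.prod_range_succ]
      rw [h5] at hdvd
      have h6 := Nat.le_of_dvd (by norm_num) hdvd
      norm_num at h6 h4
      omega
    · exact absurd (show 8 * (8 - 1) / 2 * (2 * 4) ≤ 4 * (4 - 1) * 8 from h2) (by norm_num)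
    · rw [num_psp2] at h7'
      norm_num at h7'
    · exact absurd (show 4 ^ 2 * (2 * 4) ≤ 4 * (4 - 1) * (2 * 4) from h2) (by norm_num)
    · exact absurd (show 5 * (5 - 1) * (2 * 4) ≤ 4 * (4 - 1) * (2 * (5 - 1)) from h2) (by norm_num)
    · norm_num
  · exact cp_ominus hp hf hn hex2 hg hch hc hdvd hs1 hs2

/-- **`T = Ω^+_{2n}(q)`, `n ≥ 5`.** -/
theorem cpl_oplus (hp : p.Prime) (hf : 1 ≤ f) {n : ℕ} (hn : 5 ≤ n) (hg : Cond g)
    (hch : HasChar p g) (hc : den g * c = num g)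
    (hdvd : c ∣ (p ^ f) ^ (n * (n - 1)) * (((p ^ f) ^ n - 1) * prB (p ^ f) (n - 1)))
    (hs1 : HSN p f (2 * (n - 1)) g c) (hs2 : HSN p f (2 * (n - 2)) g c)
    (hs3 : n % 2 = 1 → HSN p f n g c) (hs4 : n % 2 = 0 → HSN p f (n - 1) g c) :
    g = .oplus n (p ^ f) ∨ (n % 2 = 0 ∧ (g = .psl (n - 1) (p ^ (2 * f)) ∨ g = .psp (n - 1) (p ^ f) ∨
      g = .oodd (n - 1) (p ^ f))) := by
  have hex1 : ¬ (p = 2 ∧ f * (2 * (n - 1)) = 6) := by
    rintro ⟨-, h⟩
    have : 1 * (2 * (n - 1)) ≤ f * (2 * (n - 1)) := Nat.mul_le_mul_right _ hf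
    omega
  by_cases hex2 : p = 2 ∧ f * (2 * (n - 2)) = 6
  · obtain ⟨rfl, h⟩ := hex2
    have hf1 : f = 1 := by
      by_contra h1
      have : 2 * (2 * (n - 2)) ≤ f * (2 * (n - 2)) := Nat.mul_le_mul_right _ (by omega)
      omega
    subst hf1
    obtain rfl : n = 5 := by (clear * - h; omega)
    obtain ⟨s, hs⟩ := exists_prim (q := 2) (e := 5) le_rfl (by norm_num) (by norm_num)
    have hs31 : s = 31 := by
      have h1 := hs.dvd dvd_rfl
      norm_num at h1
      exact (Nat.prime_dvd_prime_iff_eq hs.prime (by norm_num)).1 h1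
    subst hs31
    obtain ⟨h7, h2, h3⟩ := eight (by norm_num) (td_oplus hp hf (by norm_num) hdvd) (by norm_num) hg hch hc hs1 (e := 5)
        (hs3 (by norm_num)) (s := 31) (by rwa [pow_one]) (by norm_num) (by norm_num)
    have h7' := dvd_num hc h7
    rcases h3 with rfl | rfl | rfl | rfl | rfl | rfl | rfl
    · rw [num_psl2] at h7'
      norm_num at h7'
    · rw [num_psl4] at h7'
      norm_num at h7'
    · exact absurd (show 8 * (8 - 1) / 2 * (2 * (5 - 1)) ≤ 5 * (5 - 1) * 8 from h2) (by norm_num)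
    · rw [num_psp2] at h7'
      norm_num at h7'
    · rw [num_psp4] at h7'
      norm_num at h7'
    · left; norm_num
    · rw [num_ominus4] at h7'
      norm_num at h7'
  · exact cp_oplus hp hf (by omega) hex1 hex2 hg hch hc hdvd hs1 hs2 hs3 hs4

/-- **`T = PSU_n(q)`, `n ≥ 4`, not `U4(2)`, `U5(2)`.** -/
theorem cpl_psu (hp : p.Prime) (hf : 1 ≤ f) {n N : ℕ} (hn : 4 ≤ n) (hN : N = if n % 2 = 0 then n - 1 else n)
    (h42 : ¬ (n = 4 ∧ p ^ f = 2)) (h52 : ¬ (n = 5 ∧ p ^ f = 2)) (hg : Cond g)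
    (hch : HasChar p g) (hc : den g * c = num g)
    (hdvd : c ∣ (p ^ f) ^ (n * (n - 1) / 2) * prU (p ^ f) n)
    (hs1 : HSN p f (2 * N) g c) (hs2 : 5 ≤ n → n ≠ 6 → HSN p f (2 * (N - 2)) g c)
    (hs3 : n % 4 = 0 → HSN p f n g c) (hs4 : n % 4 = 2 → HSN p f (n / 2) g c) (hs5 : n = 6 → HSN p f 4 g c) :
    g = .psu n (p ^ f) := by
  by_cases h4 : n = 4
  · subst h4
    refine cp_psu4 hp hf ?_ hg hch hc hdvd (by rw [hN] at hs1; exact hs1) (hs3 (by norm_num))
    rintro ⟨rfl, h⟩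
    exact h42 ⟨rfl, by rw [show f = 1 by omega, pow_one]⟩
  by_cases h6 : n = 6
  · subst h6
    exact cp_psu6 hp hf hg hch hc hdvd (by rw [hN] at hs1; exact hs1) (hs5 rfl) (hs4 (by norm_num))
  refine cp_psu hp hf (by omega) hN ?_ hg hch hc hdvd hs1 (hs2 (by omega) h6) hs3 hs4
  rintro ⟨rfl, h⟩
  have h3 : 3 ≤ N - 2 := by rw [hN]; (first | (lia; done) | (split_ifs <;> omega))
  have h7 : 1 * (2 * (N - 2)) ≤ f * (2 * (N - 2)) := Nat.mul_le_mul_right _ hf
  have h8 : N = 5 := by omega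
  rw [h8] at h
  refine h52 ⟨?_, by rw [show f = 1 by omega, pow_one]⟩
  rw [hN] at h8
  split_ifs at h8 <;> (clear * - h6 h8; omega)

end Cfsg.Agent.H358.Cyc
end

-- part: H358/Cyc/Rows
section
/-!
# Cyclic primes, same characteristic, group level (helper358, for S3679 and S3561)

`HC p f e M`: all primes `u ∤ f` with `p^f` of order `e` modulo `u` divide `|M|`; `CP p f e T`: these primes are cyclic
primes of `T`; `CP.hc : CP p f e T → ¬ IGap T M → HC p f e M`.

`M` a proper subgroup of the group `T` over `p^f` with a normal non-abelian simple subgroup `S` of Lie type in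
characteristic `p`, named `g`, with trivial centraliser:

* `ig_psl`   : `PSL_n(q)`, `n ≥ 4`, not `L4(2)`, `L6(2)`: exponents `n`, `n - 1`: impossible;
* `ig_psp`   : `PSp_{2n}(q)`, `n ≥ 3`, not `S6(2)`: exponents `2n`, `2(n-1)`, (`n` odd) `n`, (`S8(2)`) `3`:
  `n` even and `g = PΩ^-_{2n}(q)`;
* `ig_oodd`  : `Ω_{2n+1}(q)`, `n ≥ 3`: the same;
* `ig_ominus`: `PΩ^-_{2n}(q)`, `n ≥ 4`: exponents `2n`, `2(n-1)`, (`Ω8^-(2)`) `3`: impossible;
* `ig_oplus` : `PΩ^+_{2n}(q)`, `n ≥ 5`: exponents `2(n-1)`, `2(n-2)`, (`n` odd) `n`, (`n` even) `n-1`: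
  `n` even and `g` in `PSL_{n-1}(q²)`, `PSp_{2n-2}(q)`, `Ω_{2n-1}(q)`;
* `ig_oplus4`: `PΩ^+_8(q)`, `q ≠ 2`: exponents `6`, `3`: `g` in `Ω_7(q)`, `PSp_6(q)`, `G_2(q)`, `PSL_3(q²)`,
  `PSL_2(q³)`, or `q = 4` and `g = Sz(8)`;
* `ig_psu`   : `PSU_n(q)`, `n ≥ 4`, not `U4(2)`, `U5(2)`: impossible.
-/

set_option autoImplicit false

namespace Cfsg.Agent.H358.Cyc

open Cfsg Cfsg.Agent.OrdDiv Cfsg.Agent.H436 Cfsg.Agent.H915.GN Cfsg.Agent.H264.GN Cfsg.Agent.H264.FKS
open Cfsg.Agent.H899.CG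

universe u

variable {p f n : ℕ} {g : Grp}

/-- all primes `u ∤ f` with `p^f` of order `e` modulo `u` divide `|M|` -/
def HC (p f e : ℕ) {T : Type*} [Group T] (M : Subgroup T) : Prop :=
  ∀ u, Prim (p ^ f) e u → ¬ u ∣ f → u ∣ Nat.card M

/-- all primes `u ∤ f` with `p^f` of order `e` modulo `u` are cyclic primes of `T` -/
def CP (p f e : ℕ) (T : Type*) [Group T] : Prop := ∀ u, Prim (p ^ f) e u → ¬ u ∣ f → Cyc T u

theorem CP.hc {e : ℕ} {T : Type*} [Group T] {M : Subgroup T} (h : CP p f e T) (hM : ¬ IGap T M) : HC p f e M :=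
  fun u h1 h2 => dvd_of_not_iGap hM (h u h1 h2)

/-- from the formulation with `NDF` -/
theorem CP.of_ndf {e : ℕ} {T : Type*} [Group T] (hp : p.Prime) (hf : 1 ≤ f)
    (h : ∀ u, Prim (p ^ f) e u → NDF (p ^ f) u → Cyc T u) : CP p f e T :=
  fun u h1 h2 => h u h1 ((ndf_iff hp hf).2 h2)

section

variable {T : Type u} [Group T] [Finite T] {M : Subgroup T}

theorem hsn {e : ℕ} (S : Subgroup M) [S.Normal] [IsSimpleGroup S] (hna : ¬ IsMulCommutative S)
    (hC : Subgroup.centralizer (S : Set M) = ⊥) (hp : p.Prime) (hS : IsNamed g S) (hch : HasChar p g)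
    (he : 3 ≤ e) (h : HC p f e M) : HSN p f e g (Nat.card S) :=
  HSN.of S hna hC hp hS hch he h

theorem ig_psl (hT : IsNamed (.psl n (p ^ f)) T) (hp : p.Prime) (hf : 1 ≤ f) (hn : 4 ≤ n)
    (h42 : ¬ (n = 4 ∧ p ^ f = 2)) (h62 : ¬ (n = 6 ∧ p ^ f = 2)) (h1 : HC p f n M) (h2 : HC p f (n - 1) M)
    (hM : M ≠ ⊤) (S : Subgroup M) [S.Normal] [IsSimpleGroup S] (hna : ¬ IsMulCommutative S)
    (hC : Subgroup.centralizer (S : Set M) = ⊥) (hS : IsNamed g S) (hch : HasChar p g) : False := by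
  rcases cpl_psl hp hf hn h42 h62 hS.cond hch hS.eq (IsNamed.card_dvd hT S)
    (hsn S hna hC hp hS hch (by omega) h1) (hsn S hna hC hp hS hch (by omega) h2) with rfl | ⟨f₁, h3, h4, rfl⟩
  · exact hM (eq_top_of_name hT hS)
  · have hf₁ : 1 ≤ f₁ := by omega
    refine false_of_index hp (par_psl hp hf hT (by omega)) hM (fun hd => ?_) S hna hC
    have h5 := (kd_ominus hp hn hf₁ hS.eq).pp
    have h6 : p ^ (f * (n * (n - 1) / 2)) ∣ Nat.card M := by
      refine Dvd.dvd.trans ?_ (h5.trans (Subgroup.card_subgroup_dvd_card S))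
      refine pow_dvd_pow p ?_
      rw [← h3]
      have := half n
      calc 2 * f₁ * (n * (n - 1) / 2) = f₁ * (2 * (n * (n - 1) / 2)) := by ring
        _ = f₁ * (n * (n - 1)) := by rw [← this]
        _ ≤ _ := le_rfl
    have h7 : p ^ (f * (n * (n - 1) / 2) + 1) ∣ Nat.card T := by
      rw [← M.card_mul_index, pow_succ]
      exact Nat.mul_dvd_mul h6 hd
    have h8 : Nat.card T ∣ glN n (p ^ f) := by
      have : den (.psl n (p ^ f)) * Nat.card T = glN n (p ^ f) := hT.eq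
      rw [← this]
      exact Dvd.intro_left _ rfl
    have := (td_psl hp hf h8).pp h7
    omega

theorem spLikeN (hp : p.Prime) (hf : 1 ≤ f) (hn : 3 ≤ n) (h3 : n % 2 = 1 → HC p f n M) (S : Subgroup M) [S.Normal]
    [IsSimpleGroup S] (hna : ¬ IsMulCommutative S)
    (hC : Subgroup.centralizer (S : Set M) = ⊥) (hS : IsNamed g S) (hch : HasChar p g)
    (h : g = .ominus n (p ^ f) ∨ (n = 3 ∧ g = .psu 4 (p ^ f))) : n % 2 = 0 ∧ g = .ominus n (p ^ f) := by
  rcases h with rfl | ⟨rfl, rfl⟩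
  · refine ⟨?_, rfl⟩
    by_contra h0
    obtain ⟨s, hs1, hs2⟩ := ex_primN (f₁ := f) hp hf hf (by omega) (by omega) hS.eq rfl (by omega)
      (hsn S hna hC hp hS hch (by omega) (h3 (by omega)))
    exact not_dvd_ominus_odd hs1 (by omega) (by omega) hs2
  · exfalso
    obtain ⟨s, hs1, hs2⟩ := ex_primN (f₁ := f) hp hf hf (by omega) (by omega) hS.eq rfl (by omega)
      (hsn S hna hC hp hS hch (by omega) (h3 (by omega)))
    exact not_dvd_psu_odd hs1 (by norm_num) (by norm_num) (fun i hi1 hi2 hi3 hi4 => by interval_cases i <;> omega) hs2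

/-- **`T = PSp_{2n}(q)`, `n ≥ 3`.** -/
theorem ig_psp (hT : IsNamed (.psp n (p ^ f)) T) (hp : p.Prime) (hf : 1 ≤ f) (hn : 3 ≤ n)
    (h32 : ¬ (n = 3 ∧ p ^ f = 2)) (h1 : HC p f (2 * n) M) (h2 : HC p f (2 * (n - 1)) M)
    (h3 : n % 2 = 1 → HC p f n M) (h4 : n = 4 → p ^ f = 2 → HC p f 3 M)
    (hM : M ≠ ⊤) (S : Subgroup M) [S.Normal] [IsSimpleGroup S] (hna : ¬ IsMulCommutative S)
    (hC : Subgroup.centralizer (S : Set M) = ⊥) (hS : IsNamed g S) (hch : HasChar p g) :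
    n % 2 = 0 ∧ g = .ominus n (p ^ f) := by
  rcases cpl_psp hp hf hn h32 hS.cond hch hS.eq (IsNamed.card_dvd hT S)
    (hsn S hna hC hp hS hch (by omega) h1) (hsn S hna hC hp hS hch (by omega) h2)
    (fun h5 h6 => hsn S hna hC hp hS hch (by omega) (h4 h5 h6)) with rfl | rfl | rfl | h | h
  · exact absurd (eq_top_of_name hT hS) hM
  · refine absurd (eq_top_of_card (S := S) ?_) hM
    have h1 : 2 * Nat.card S = (p ^ f) ^ (n ^ 2) * prB (p ^ f) n := hS.eq
    have h2 : Nat.gcd 2 (p ^ f - 1) * Nat.card T = (p ^ f) ^ (n ^ 2) * prB (p ^ f) n := hT.eq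
    have h3 : Nat.gcd 2 (p ^ f - 1) = 2 := Nat.gcd_eq_left (by
      obtain ⟨k, hk⟩ := hS.cond.2.1
      rw [hk]
      exact ⟨k, by omega⟩)
    rw [h3, ← h1] at h2
    exact (Nat.eq_of_mul_eq_mul_left (by norm_num) h2).symm
  · refine (not_psl_psp hp hf hn ?_ hT hS).elim
    rintro ⟨rfl, h⟩
    have hf1 : f = 1 := by
      by_contra h1
      have : 2 * (2 * n) ≤ f * (2 * n) := Nat.mul_le_mul_right _ (by omega)
      omega
    subst hf1
    exact h32 ⟨by omega, by norm_num⟩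
  · exact spLikeN hp hf hn h3 S hna hC hS hch (Or.inl h)
  · exact spLikeN hp hf hn h3 S hna hC hS hch (Or.inr h)

/-- **`T = Ω_{2n+1}(q)`, `n ≥ 3`.** -/
theorem ig_oodd (hT : IsNamed (.oodd n (p ^ f)) T) (hp : p.Prime) (hf : 1 ≤ f) (hn : 3 ≤ n)
    (h1 : HC p f (2 * n) M) (h2 : HC p f (2 * (n - 1)) M) (h3 : n % 2 = 1 → HC p f n M)
    (hM : M ≠ ⊤) (S : Subgroup M) [S.Normal] [IsSimpleGroup S] (hna : ¬ IsMulCommutative S)
    (hC : Subgroup.centralizer (S : Set M) = ⊥) (hS : IsNamed g S) (hch : HasChar p g) :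
    n % 2 = 0 ∧ g = .ominus n (p ^ f) := by
  have hp2 : p ^ f ≠ 2 := by
    intro h
    have := hT.cond.2.1
    rw [h] at this
    exact absurd this (by decide)
  rcases cpl_psp hp hf hn (fun h => hp2 h.2) hS.cond hch hS.eq (IsNamed.card_dvd hT S)
    (hsn S hna hC hp hS hch (by omega) h1) (hsn S hna hC hp hS hch (by omega) h2)
    (fun _ h6 => absurd h6 hp2) with rfl | rfl | rfl | h | h
  · refine absurd (eq_top_of_card (S := S) ?_) hM
    have h1 : 2 * Nat.card T = (p ^ f) ^ (n ^ 2) * prB (p ^ f) n := hT.eq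
    have h2 : Nat.gcd 2 (p ^ f - 1) * Nat.card S = (p ^ f) ^ (n ^ 2) * prB (p ^ f) n := hS.eq
    have h3 : Nat.gcd 2 (p ^ f - 1) = 2 := Nat.gcd_eq_left (by
      obtain ⟨k, hk⟩ := hT.cond.2.1
      rw [hk]
      exact ⟨k, by omega⟩)
    rw [h3, ← h1] at h2
    exact Nat.eq_of_mul_eq_mul_left (by norm_num) h2
  · exact absurd (eq_top_of_name hT hS) hM
  · exact (not_psl_oodd hp hf hn hT hS).elim
  · exact spLikeN hp hf hn h3 S hna hC hS hch (Or.inl h)
  · exact spLikeN hp hf hn h3 S hna hC hS hch (Or.inr h)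

/-- **`T = PΩ^-_{2n}(q)`, `n ≥ 4`.** -/
theorem ig_ominus (hT : IsNamed (.ominus n (p ^ f)) T) (hp : p.Prime) (hf : 1 ≤ f) (hn : 4 ≤ n)
    (h1 : HC p f (2 * n) M) (h2 : HC p f (2 * (n - 1)) M) (h3 : n = 4 → p ^ f = 2 → HC p f 3 M)
    (hM : M ≠ ⊤) (S : Subgroup M) [S.Normal] [IsSimpleGroup S] (hna : ¬ IsMulCommutative S)
    (hC : Subgroup.centralizer (S : Set M) = ⊥) (hS : IsNamed g S) (hch : HasChar p g) : False := by
  obtain rfl := cpl_ominus hp hf hn hS.cond hch hS.eq (IsNamed.card_dvd hT S)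
    (hsn S hna hC hp hS hch (by omega) h1) (hsn S hna hC hp hS hch (by omega) h2)
    (fun h5 h6 => hsn S hna hC hp hS hch (by omega) (h3 h5 h6))
  exact hM (eq_top_of_name hT hS)

/-- **`T = PΩ^+_{2n}(q)`, `n ≥ 5`.** -/
theorem ig_oplus (hT : IsNamed (.oplus n (p ^ f)) T) (hp : p.Prime) (hf : 1 ≤ f) (hn : 5 ≤ n)
    (h1 : HC p f (2 * (n - 1)) M) (h2 : HC p f (2 * (n - 2)) M) (h3 : n % 2 = 1 → HC p f n M)
    (h4 : n % 2 = 0 → HC p f (n - 1) M)
    (hM : M ≠ ⊤) (S : Subgroup M) [S.Normal] [IsSimpleGroup S] (hna : ¬ IsMulCommutative S)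
    (hC : Subgroup.centralizer (S : Set M) = ⊥) (hS : IsNamed g S) (hch : HasChar p g) :
    n % 2 = 0 ∧ (g = .psl (n - 1) (p ^ (2 * f)) ∨ g = .psp (n - 1) (p ^ f) ∨ g = .oodd (n - 1) (p ^ f)) := by
  rcases cpl_oplus hp hf hn hS.cond hch hS.eq (IsNamed.card_dvd hT S)
    (hsn S hna hC hp hS hch (by omega) h1) (hsn S hna hC hp hS hch (by omega) h2)
    (fun h5 => hsn S hna hC hp hS hch (by omega) (h3 h5)) (fun h5 => hsn S hna hC hp hS hch (by omega) (h4 h5))
    with rfl | h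
  · exact absurd (eq_top_of_name hT hS) hM
  · exact h

/-- **`T = PΩ^+_8(q)`, `q ≠ 2`.** -/
theorem ig_oplus4 (hT : IsNamed (.oplus 4 (p ^ f)) T) (hp : p.Prime) (hf : 1 ≤ f) (h42 : p ^ f ≠ 2)
    (h1 : HC p f 6 M) (h2 : HC p f 3 M)
    (hM : M ≠ ⊤) (S : Subgroup M) [S.Normal] [IsSimpleGroup S] (hna : ¬ IsMulCommutative S)
    (hC : Subgroup.centralizer (S : Set M) = ⊥) (hS : IsNamed g S) (hch : HasChar p g) :
    g = .oodd 3 (p ^ f) ∨ g = .psp 3 (p ^ f) ∨ g = .g2 (p ^ f) ∨ g = .psl 3 (p ^ (2 * f)) ∨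
      g = .psl 2 (p ^ (3 * f)) ∨ (p ^ f = 4 ∧ g = .sz 8) := by
  rcases cp_oplus4 hp hf (by
      rintro ⟨rfl, h⟩
      exact h42 (by rw [show f = 1 by omega, pow_one])) hS.cond hch hS.eq (IsNamed.card_dvd hT S)
    (hsn S hna hC hp hS hch (by omega) h1) (hsn S hna hC hp hS hch (by omega) h2) with rfl | h
  · exact absurd (eq_top_of_name hT hS) hM
  · exact h

/-- **`T = PSU_n(q)`, `n ≥ 4`, not `U4(2)`, `U5(2)`.** -/
theorem ig_psu (hT : IsNamed (.psu n (p ^ f)) T) (hp : p.Prime) (hf : 1 ≤ f) {N : ℕ} (hn : 4 ≤ n)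
    (hN : N = if n % 2 = 0 then n - 1 else n) (h42 : ¬ (n = 4 ∧ p ^ f = 2)) (h52 : ¬ (n = 5 ∧ p ^ f = 2))
    (h1 : HC p f (2 * N) M) (h2 : 5 ≤ n → n ≠ 6 → HC p f (2 * (N - 2)) M) (h3 : n % 4 = 0 → HC p f n M)
    (h4 : n % 4 = 2 → HC p f (n / 2) M) (h5 : n = 6 → HC p f 4 M)
    (hM : M ≠ ⊤) (S : Subgroup M) [S.Normal] [IsSimpleGroup S] (hna : ¬ IsMulCommutative S)
    (hC : Subgroup.centralizer (S : Set M) = ⊥) (hS : IsNamed g S) (hch : HasChar p g) : False := by
  have hN3 : 3 ≤ N := by rw [hN]; split_ifs <;> omega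
  obtain rfl := cpl_psu hp hf hn hN h42 h52 hS.cond hch hS.eq (IsNamed.card_dvd hT S)
    (hsn S hna hC hp hS hch (by omega) h1) (fun h6 h7 => hsn S hna hC hp hS hch (by
      have : 5 ≤ N := by rw [hN]; split_ifs <;> omega
      omega) (h2 h6 h7))
    (fun h6 => hsn S hna hC hp hS hch (by omega) (h3 h6)) (fun h6 => hsn S hna hC hp hS hch (by omega) (h4 h6))
    (fun h6 => hsn S hna hC hp hS hch (by omega) (h5 h6))
  exact hM (eq_top_of_name hT hS)

end

end Cfsg.Agent.H358.Cyc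
end
end

-- part: H57/BG/AsDead
section
prune_inst 0x1020310444e20000000005120000000030000000000080000801030202084020800020000000000d420000001000000811000000020000000a000000000000000000c4000300010c000006800084000000000000000000000000000000000000000000000
set_option linter.all false
open scoped Cfsg.Agent.FastGrp

-- part: H57/BG/SpDead
section
/-!
# The special geometric subgroups of `PSp_2m(q)` are dead (S3561, helper57)
-/

set_option autoImplicit false

namespace Cfsg.Agent.H57.BG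

open Module Cfsg Cfsg.Geo Subgroup
open Cfsg.Agent.H262.El (pre)
open Cfsg.Agent.H884.El (PP exists_pp)

universe u

/-- the arithmetic condition on `r` -/
def ROK (q m r : ℕ) : Prop :=
  (2 ≤ orderOf (q : ZMod r) ∧ m ≤ orderOf (q : ZMod r)) ∨ (Odd (orderOf (q : ZMod r)) ∧ m ≤ 2 * orderOf (q : ZMod r))

theorem exists_r {p f m : ℕ} (hp : p.Prime) (hf : 1 ≤ f) (hm : 2 ≤ m) (hme : Even m) (h22 : ¬ (m = 2 ∧ p ^ f = 2))
    (h23 : ¬ (m = 2 ∧ p ^ f = 3)) :
    ∃ r : ℕ, r.Prime ∧ r ≠ 2 ∧ r ≠ p ∧ r ∣ (p ^ f) ^ m - 1 ∧ ¬ r ∣ f ∧ ROK (p ^ f) m r := by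
  have hq1 : 1 ≤ p ^ f := Nat.one_le_pow _ _ hp.pos
  by_cases h6 : p = 2 ∧ f * m = 6
  · obtain ⟨rfl, h6⟩ := h6
    have hfm : (f = 3 ∧ m = 2) ∨ (f = 1 ∧ m = 6) := by
      have hm6 : m ∣ 6 := Dvd.intro_left f h6
      have hle := Nat.le_of_dvd (by norm_num) hm6
      obtain ⟨k, hk⟩ := hme
      have : m = 2 ∨ m = 4 ∨ m = 6 := by omega
      rcases this with rfl | rfl | rfl
      · left; omega
      · omega
      · right; omega
    rcases hfm with ⟨rfl, rfl⟩ | ⟨rfl, rfl⟩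
    · refine ⟨7, by norm_num, by norm_num, by norm_num, by norm_num, by norm_num, Or.inr ?_⟩
      have h1 : orderOf ((2 ^ 3 : ℕ) : ZMod 7) = 1 := by
        rw [orderOf_eq_one_iff]; decide
      rw [h1]
      exact ⟨odd_one, by norm_num⟩
    · refine ⟨7, by norm_num, by norm_num, by norm_num, by norm_num, by norm_num, Or.inr ?_⟩
      have h1 : orderOf ((2 ^ 1 : ℕ) : ZMod 7) = 3 := by
        haveI : Fact (Nat.Prime 3) := ⟨by norm_num⟩
        exact orderOf_eq_prime (by decide) (by decide)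
      rw [h1]
      exact ⟨by decide, by norm_num⟩
  by_cases h3 : 3 ≤ f * m
  · obtain ⟨r, hr⟩ := exists_pp (q := p) (e := f * m) hp.two_le h3 h6
    have hlt := hr.lt (by omega)
    have hq := hr.of_pow (a := f) (d := m) hf
    have hfle : f ≤ f * m := Nat.le_mul_of_pos_right _ (by omega)
    refine ⟨r, hr.prime, by omega, ?_, (hq.dvd_iff hq1 m).2 dvd_rfl, fun h => ?_, Or.inl ?_⟩
    · rintro rfl
      exact hr.not_dvd (by omega) dvd_rfl
    · have := Nat.le_of_dvd (by omega) h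
      omega
    · rw [hq.ord]
      exact ⟨hm, le_rfl⟩
  · have hf1 : f = 1 := by
      by_contra hne
      have : 2 * 2 ≤ f * m := Nat.mul_le_mul (by omega) hm
      omega
    subst hf1
    have hm2 : m = 2 := by omega
    subst hm2
    rw [pow_one] at h22 h23 ⊢
    have hp3 : p ≠ 3 := fun h => h23 ⟨rfl, h⟩
    have hp2' : p ≠ 2 := fun h => h22 ⟨rfl, h⟩
    have hp2 := hp.two_le
    have hpodd : Odd p := hp.odd_of_ne_two hp2'
    by_cases hpow : ∃ k, p + 1 = 2 ^ k
    · obtain ⟨k, hk⟩ := hpow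
      -- `(p - 1) / 2` is odd and larger than one
      have hk3 : 3 ≤ k := by
        by_contra hcon
        have : k = 0 ∨ k = 1 ∨ k = 2 := by omega
        rcases this with rfl | rfl | rfl <;> omega
      obtain ⟨j, rfl⟩ : ∃ j, k = j + 3 := ⟨k - 3, by omega⟩
      have hhalf : p - 1 = 2 * (2 ^ (j + 2) - 1) := by
        have e1 : 2 ^ (j + 3) = 2 * 2 ^ (j + 2) := by rw [pow_succ]; ring
        have e2 : 1 ≤ 2 ^ (j + 2) := Nat.one_le_pow _ _ (by norm_num)
        omega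
      have hodd : Odd (2 ^ (j + 2) - 1) := by
        have e2 : 4 ≤ 2 ^ (j + 2) := by
          calc 4 = 2 ^ 2 := by norm_num
            _ ≤ 2 ^ (j + 2) := Nat.pow_le_pow_right (by norm_num) (by omega)
        refine Nat.Even.sub_odd (by omega) ?_ odd_one
        exact (Nat.even_pow.2 ⟨even_two, by omega⟩)
      have hgt : 2 ^ (j + 2) - 1 ≠ 1 := by
        have e2 : 4 ≤ 2 ^ (j + 2) := by
          calc 4 = 2 ^ 2 := by norm_num
            _ ≤ 2 ^ (j + 2) := Nat.pow_le_pow_right (by norm_num) (by omega)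
        omega
      obtain ⟨r, hr, hrd⟩ := Nat.exists_prime_and_dvd hgt
      have hr2 : r ≠ 2 := by
        rintro rfl
        exact (Nat.not_even_iff_odd.2 hodd) (even_iff_two_dvd.2 hrd)
      have hrp1 : r ∣ p - 1 := by rw [hhalf]; exact hrd.mul_left 2
      have hrp : r ≠ p := by
        rintro rfl
        have := Nat.le_of_dvd (by omega) hrp1
        omega
      have hrF : Fact r.Prime := ⟨hr⟩
      have hord : orderOf (p : ZMod r) = 1 := by
        rw [orderOf_eq_one_iff]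
        have h1 : ((p - 1 : ℕ) : ZMod r) = 0 := (ZMod.natCast_eq_zero_iff _ _).2 hrp1
        rw [Nat.cast_sub (by omega), Nat.cast_one, sub_eq_zero] at h1
        exact h1
      refine ⟨r, hr, hr2, hrp, ?_, ?_, Or.inr ?_⟩
      · have e1 : p ^ 2 - 1 = (p + 1) * (p - 1) := by
          have := Nat.sq_sub_sq p 1
          simpa only [_root_.one_pow] using this
        rw [e1]
        exact hrp1.mul_left _
      · intro h
        exact hr.one_lt.ne' (Nat.dvd_one.1 h)
      · rw [hord]; exact ⟨odd_one, by norm_num⟩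
    · obtain ⟨r, hr, hall, -, hnd⟩ := Cfsg.Agent.Lib.Zsigmondy.exists_primitive (a := p) (n := 2) hp2 le_rfl
        (fun _ => hpow) (by omega)
      have hr2 : r ≠ 2 := by
        rintro rfl
        have h1 := (hall 1).1 (by
          rw [pow_one]
          obtain ⟨t, ht⟩ := hpodd
          exact ⟨t, by (clear * - ht; omega)⟩)
        omega
      have hord : orderOf (p : ZMod r) = 2 := by
        have h1 : ∀ i, r ∣ p ^ i - 1 ↔ orderOf (p : ZMod r) ∣ i := fun i =>
          Cfsg.Agent.Lib.Zsigmondy.dvd_pow_sub_one_iff (by omega) i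
        have h3 := (h1 2).1 ((hall 2).2 dvd_rfl)
        have h4 := (hall (orderOf (p : ZMod r))).1 ((h1 _).2 dvd_rfl)
        exact Nat.dvd_antisymm h3 h4
      refine ⟨r, hr, hr2, ?_, (hall 2).2 dvd_rfl, ?_, Or.inl ?_⟩
      · rintro rfl
        exact hnd dvd_rfl
      · intro h
        exact hr.one_lt.ne' (Nat.dvd_one.1 h)
      · rw [hord]
        exact ⟨le_rfl, le_rfl⟩

variable {F : Type u} [Field F] [Fintype F] {m : ℕ}

theorem index_inn_psp {p f : ℕ} [Fact p.Prime] (hf : 1 ≤ f) (hF : Fintype.card F = p ^ f) (hm : 2 ≤ m)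
    (h22 : m = 2 → 3 ≤ p ^ f) (hc : center (PSp m F) = ⊥) :
    (Inn (PSp m F)).index = (if m = 2 ∧ p = 2 then 2 else 1) * Nat.gcd 2 (p ^ f - 1) * f := by
  haveI : Finite (PSp m F) := Quotient.finite _
  exact index_inn_of_aut hc (Cfsg.Agent.S0814.result p f hf hF m hm h22)

/-- **dead subgroups of `PSp_2m(q)`** -/
theorem dead_psp {p f : ℕ} (hp : p.Prime) (hf : 1 ≤ f) (hF : Fintype.card F = p ^ f) (hm : 2 ≤ m) (hme : Even m)
    (h22 : ¬ (m = 2 ∧ p ^ f = 2)) (h23 : ¬ (m = 2 ∧ p ^ f = 3)) (hc : center (PSp m F) = ⊥) {R : Subgroup (PSp m F)}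
    (hr : ∀ r : ℕ, r.Prime → r ≠ 2 → r ∣ Fintype.card F ^ m - 1 → ¬ r ∣ f → r ∣ R.index)
    (hq : Fintype.card F ^ m ∣ 2 * R.index) : Dead (PSp m F) R := by
  haveI : Finite (PSp m F) := Quotient.finite _
  have hpF : Fact p.Prime := ⟨hp⟩
  have hchar : CharP F p := by
    obtain ⟨ℓ, hchar⟩ := CharP.exists F
    have hl : Fact ℓ.Prime := ⟨CharP.char_is_prime F ℓ⟩
    obtain ⟨m, hm, hcard⟩ := FiniteField.card F ℓ
    rw [hF] at hcard
    have h1 : ℓ ∣ p ^ f := by rw [hcard]; exact dvd_pow_self ℓ m.ne_zero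
    have h3 : ℓ = p := (Nat.prime_dvd_prime_iff_eq hm hp).1 (hm.dvd_of_dvd_pow h1)
    subst h3
    exact hchar
  have hq2 : 2 ≤ p ^ f := by rw [← hF]; exact Fintype.one_lt_card
  have hidx := index_inn_psp hf hF hm (fun h => by
    have : p ^ f ≠ 2 := fun h' => h22 ⟨h, h'⟩
    omega) hc
  obtain ⟨r, hrp, hr2, hrne, hrd, hrf, hok⟩ := exists_r hp hf hm hme h22 h23
  have h0 : (r : F) ≠ 0 := by
    intro h
    exact hrne ((Nat.prime_dvd_prime_iff_eq hp hrp).1 ((CharP.cast_eq_zero_iff F p r).1 h)).symm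
  rw [← hF] at hrd hok
  have hr2' : ¬ r ∣ 2 := fun h => hr2 ((Nat.prime_dvd_prime_iff_eq hrp Nat.prime_two).1 h)
  have hrout : ¬ r ∣ (Inn (PSp m F)).index := by
    rw [hidx]
    intro h
    rcases hrp.dvd_mul.1 h with h1 | h1
    · rcases hrp.dvd_mul.1 h1 with h2 | h2
      · split_ifs at h2
        · exact hr2' h2
        · exact hrp.one_lt.ne' (Nat.dvd_one.1 h2)
      · exact hr2' (h2.trans (Nat.gcd_dvd_left _ _))
    · exact hrf h1
  have hrR := hr r hrp hr2 hrd hrf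
  have hcent : ∀ x y : PSp m F, orderOf x = r → orderOf y = r → x * y = y * x → y ∉ zpowers x →
      ¬ p ∣ Nat.card (centralizer ({x, y} : Set (PSp m F))) := fun x y hx hy hxy hn =>
    not_dvd_cent_psp (by omega) hrp hr2 h0 hok hx hy hxy hn
  have hfm : 2 * f ≤ f * m := by nlinarith only [hm]
  have hlt : f < 2 ^ f := Nat.lt_two_pow_self
  by_cases hp2 : p = 2
  · subst hp2
    have hg : Nat.gcd 2 (2 ^ f - 1) = 1 := by
      have h1 : Odd (2 ^ f - 1) := by
        refine Nat.Even.sub_odd (by omega) ?_ odd_one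
        exact Nat.even_pow.2 ⟨even_two, by omega⟩
      exact (Nat.coprime_two_left.2 h1)
    rw [hF, ← pow_mul] at hq
    obtain ⟨k, hk⟩ : ∃ k, f * m = k + 1 := ⟨f * m - 1, by omega⟩
    rw [hk, pow_succ, mul_comm] at hq
    have hq' : 2 ^ k ∣ R.index := Nat.dvd_of_mul_dvd_mul_left (by norm_num) hq
    refine dead_of_pair hc hrp Nat.prime_two hrR hrout hq' ?_ hcent
    rw [hidx, hg, mul_one]
    by_cases hm2 : m = 2
    · subst hm2
      rw [if_pos ⟨rfl, rfl⟩]
      have hf2 : 2 ≤ f := by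
        by_contra hcon
        have : f = 1 := by omega
        subst this
        exact h22 ⟨rfl, by norm_num⟩
      apply not_pow_dvd_of_lt (by omega)
      have hk' : k = (f - 1) + f := by omega
      rw [hk', pow_add]
      have h4 : 2 ≤ 2 ^ (f - 1) := by
        calc 2 = 2 ^ 1 := by norm_num
          _ ≤ 2 ^ (f - 1) := Nat.pow_le_pow_right (by norm_num) (by omega)
      calc 2 * f < 2 * 2 ^ f := by omega
        _ ≤ 2 ^ (f - 1) * 2 ^ f := Nat.mul_le_mul_right _ h4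
    · rw [if_neg (fun h => hm2 h.1), one_mul]
      apply not_pow_dvd_of_lt (by omega)
      have hk' : f ≤ k := by
        have : 3 * f ≤ f * m := by nlinarith only [show 3 ≤ m by omega]
        omega
      exact hlt.trans_le (Nat.pow_le_pow_right (by norm_num) hk')
  · have hodd : Odd p := hp.odd_of_ne_two hp2
    have hp3 : 3 ≤ p := by have := hp.two_le; omega
    rw [hF, ← pow_mul] at hq
    have hq' : p ^ (f * m) ∣ R.index :=
      (Nat.Coprime.pow_left _ ((Nat.coprime_primes hp Nat.prime_two).2 hp2)).dvd_of_dvd_mul_left hq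
    refine dead_of_pair hc hrp hp hrR hrout hq' ?_ hcent
    rw [hidx, if_neg (fun h => hp2 h.2), one_mul]
    have hg : Nat.gcd 2 (p ^ f - 1) ≤ 2 := Nat.le_of_dvd (by norm_num) (Nat.gcd_dvd_left _ _)
    have hg0 : 0 < Nat.gcd 2 (p ^ f - 1) := Nat.gcd_pos_of_pos_left _ (by norm_num)
    apply not_pow_dvd_of_lt (by positivity)
    calc Nat.gcd 2 (p ^ f - 1) * f ≤ 2 * f := Nat.mul_le_mul_right _ hg
      _ < 2 * 2 ^ f := by omega
      _ ≤ 2 ^ f * 2 ^ f := Nat.mul_le_mul_right _ (by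
          calc 2 = 2 ^ 1 := by norm_num
            _ ≤ 2 ^ f := Nat.pow_le_pow_right (by norm_num) hf)
      _ = 2 ^ (2 * f) := by rw [← pow_add]; congr 1; ring
      _ ≤ p ^ (2 * f) := Nat.pow_le_pow_left (by omega) _
      _ ≤ p ^ (f * m) := Nat.pow_le_pow_right (by omega) hfm

/-- the special geometric alternative of `PSp_2m(q)`: dead, or all prime divisors of `q ^ m + 1` divide the index -/
theorem dead_spec (hm : 2 ≤ m) (h22 : ¬ (m = 2 ∧ Fintype.card F = 2)) (h23 : ¬ (m = 2 ∧ Fintype.card F = 3))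
    (hc : center (PSp m F) = ⊥) {R : Subgroup (PSp m F)} (h : Cfsg.Agent.H262.El.Spec m F (pre R)) :
    Dead (PSp m F) R ∨ ∀ r : ℕ, r.Prime → r ≠ 2 → r ∣ Fintype.card F ^ m + 1 → r ∣ R.index := by
  obtain ⟨p, hch⟩ := CharP.exists F
  obtain ⟨n, hp, hn⟩ := FiniteField.card F p
  rcases h with ⟨hme, hev, Q, hQ, hpol, hle⟩ | ⟨rfl, K, hK, hsa, hle⟩
  · rcases form_index (by omega) hQ hpol hle with h1 | h1
    · right
      intro r hr hr2 hrd
      have h2 : r ∣ 2 * R.index := (hrd.mul_left _).trans h1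
      exact (hr.dvd_mul.1 h2).resolve_left fun h3 => hr2 ((Nat.prime_dvd_prime_iff_eq hr Nat.prime_two).1 h3)
    · left
      rw [hn] at h22 h23
      refine dead_psp hp n.pos hn hm hme h22 h23 hc (fun r hr hr2 hrd _ => ?_) ((dvd_mul_right _ _).trans h1)
      have h2 : r ∣ 2 * R.index := (hrd.mul_left _).trans h1
      exact (hr.dvd_mul.1 h2).resolve_left fun h3 => hr2 ((Nat.prime_dvd_prime_iff_eq hr Nat.prime_two).1 h3)
  · left
    rw [hn] at h22 h23
    exact dead_psp hp n.pos hn hm (by decide) h22 h23 hc (fun r hr hr2 hrd _ => field_index_r hK hsa hle hr hr2 hrd)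
      (field_index_p hK hle)

end Cfsg.Agent.H57.BG
end

-- part: H57/BG/OrthDead
section
/-!
# The stabilisers of nonsingular points in `Ω_{2m+1}(q)` and `PΩ⁺_{2m}(q)`, `m` even (S3561, helper57)

* `dead_plus` : dead;
* `dead_odd` : dead, or all odd prime divisors of `q ^ m + 1` divide the index.
-/

set_option autoImplicit false
set_option linter.unusedSectionVars false

namespace Cfsg.Agent.H57.BG

open Module QuadraticMap Cfsg Cfsg.Geo Subgroup Cfsg.Agent.H951
open Cfsg.Agent.H884.El (pre PP exists_pp lin)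
open Cfsg.Agent.LieClassical Cfsg.Agent.LieClassical.OmegaReindex
open scoped MatrixGroups Matrix

universe u

section Cent

variable {ι : Type} [Fintype ι] [DecidableEq ι] {F : Type u} [Field F] [Fintype F] {Q : QuadraticForm F (ι → F)}

theorem frm_polar (h2 : (2 : F) = 0) (Q : QuadraticForm F (ι → F)) :
    Frm (RingHom.id F) (-1) (fun u v => polar (⇑Q) u v) where
  add_left u v w := by
    have := (polarBilin Q).map_add₂ u v w
    simpa using this
  smul_left a u v := by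
    have := (polarBilin Q).map_smul₂ a u v
    simpa using this
  herm u v := by
    rw [RingHom.id_apply, neg_one_mul, polar_comm]
    have h3 : polar (⇑Q) u v + polar (⇑Q) u v = 0 := by rw [← two_mul, h2, zero_mul]
    exact eq_neg_of_add_eq_zero_left h3
  sigma_sq _ := rfl
  eps_ne := neg_ne_zero.2 one_ne_zero

theorem not_dvd_center {s : ℕ} (hD : H390.Lift.Data Q) (hs : s.Prime) (h : s ≠ 2 ∨ (2 : F) = 0) :
    ¬ s ∣ Nat.card (QuotientGroup.mk' (Subgroup.center (Omega F (⇑Q)))).ker := by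
  rw [QuotientGroup.ker_mk']
  intro hd
  rcases h with h | h
  · have hsF := Fact.mk hs
    obtain ⟨z, hz⟩ := exists_prime_orderOf_dvd_card' s hd
    have h1 := H390.Lift.center_sq hD z z.2
    have h2 : z ^ 2 = 1 := Subtype.ext h1
    have h3 := orderOf_dvd_of_pow_eq_one h2
    rw [hz] at h3
    exact h ((Nat.prime_dvd_prime_iff_eq hs Nat.prime_two).1 h3)
  · have hch : CharP F 2 := CharTwo.of_one_ne_zero_of_two_eq_zero one_ne_zero h
    have h1 := H375.Odd.center_omega hD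
    rw [h1, Subgroup.card_bot] at hd
    exact hs.one_lt.ne' (Nat.dvd_one.1 hd)

theorem not_dvd_cent_orth (hD : H390.Lift.Data Q) {p r : ℕ} [hp : Fact p.Prime] [CharP F p] (hr : r.Prime) (hr2 : r ≠ 2)
    (h0 : (r : F) ≠ 0)
    (he : (2 ≤ orderOf (Fintype.card F : ZMod r) ∧ Fintype.card ι ≤ 2 * orderOf (Fintype.card F : ZMod r) + 1) ∨
      ((2 : F) = 0 ∧ Odd (orderOf (Fintype.card F : ZMod r)) ∧
        Fintype.card ι ≤ 4 * orderOf (Fintype.card F : ZMod r) + 1))
    {x y : POmega F (⇑Q)} (hx : orderOf x = r) (hy : orderOf y = r) (hxy : x * y = y * x) (hn : y ∉ zpowers x) :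
    ¬ p ∣ Nat.card (centralizer ({x, y} : Set (POmega F (⇑Q)))) := by
  have hrF : Fact r.Prime := ⟨hr⟩
  have hK : (QuotientGroup.mk' (Subgroup.center (Omega F (⇑Q)))).ker ≤ Subgroup.center (Omega F (⇑Q)) := by
    rw [QuotientGroup.ker_mk']
  have hrK := not_dvd_center hD hr (Or.inl hr2)
  have hpK : ¬ p ∣ Nat.card (QuotientGroup.mk' (Subgroup.center (Omega F (⇑Q)))).ker := by
    refine not_dvd_center hD hp.1 ?_
    by_cases h : p = 2
    · right
      subst h
      exact_mod_cast CharP.cast_eq_zero F 2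
    · exact Or.inl h
  have hdim : finrank F (ι → F) = Fintype.card ι := finrank_fintype_fun_eq_card F
  rcases he with ⟨h2, hle⟩ | ⟨h2F, hodd, hle⟩
  · refine not_dvd_cent_of (QuotientGroup.mk' _) (QuotientGroup.mk'_surjective _) hK hr h0 hrK hpK
      (H884.Cg.rep (⇑Q)) (H884.Cg.rep_injective _) h2 (by rw [hdim]; exact hle) ?_ hx hy hxy hn
    intro g hg U hU hUf hU0
    have hgr : H884.Cg.rep (⇑Q) g ^ r = 1 := by rw [← map_pow, hg, map_one]
    have h1 := H951.ord_dvd_finrank hgr hU hUf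
    exact Nat.le_of_dvd (Nat.pos_of_ne_zero fun h => hU0 (Submodule.finrank_eq_zero.1 h)) h1
  · refine not_dvd_cent_form (frm_polar h2F Q) ?_ (QuotientGroup.mk' _) (QuotientGroup.mk'_surjective _) hK hr hr2 h0
      hrK hpK (H884.Cg.rep (⇑Q)) (H884.Cg.rep_injective _) ?_ (by rw [hdim]; exact hle) ?_ hx hy hxy hn
    · intro u _ hu
      by_contra hcon
      push Not at hcon
      exact hu (hD.nd.1 u fun v => hcon v trivial)
    · intro g u v
      have hg : ∀ w, Q (H884.Cg.rep (⇑Q) g w) = Q w := fun w => by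
        show Q (Matrix.toLin' _ w) = Q w
        rw [Matrix.toLin'_apply]
        exact Cfsg.Agent.LieClassical.OrthFinite.mem_isometryGroup_iff.1 (g : isometryGroup F (⇑Q)).2 w
      show polar (⇑Q) _ _ = polar (⇑Q) _ _
      rw [polar, polar, ← map_add, hg, hg, hg]
    · intro g hg
      refine noIrr_alt (frm_polar h2F Q) (fun v => ?_) h0 (by rw [← map_pow, hg, map_one]) hodd
      show polar (⇑Q) v v = 0
      rw [polar_self, two_nsmul, ← two_mul, h2F, zero_mul]

end Cent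

/-- the primes -/
theorem exists_r4 {p f m : ℕ} (hp : p.Prime) (hf : 1 ≤ f) (hm : 4 ≤ m) (hme : Even m) :
    ∃ r : ℕ, r.Prime ∧ 5 ≤ r ∧ r ≠ p ∧ r ∣ (p ^ f) ^ m - 1 ∧ ¬ r ∣ f ∧
      ((2 ≤ orderOf ((p ^ f : ℕ) : ZMod r) ∧ m ≤ orderOf ((p ^ f : ℕ) : ZMod r)) ∨
        (p = 2 ∧ Odd (orderOf ((p ^ f : ℕ) : ZMod r)) ∧ m ≤ 2 * orderOf ((p ^ f : ℕ) : ZMod r))) := by
  have hq1 : 1 ≤ p ^ f := Nat.one_le_pow _ _ hp.pos
  by_cases h6 : p = 2 ∧ f * m = 6
  · obtain ⟨rfl, h6⟩ := h6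
    have hfm : f = 1 ∧ m = 6 := by
      have hm6 : m ∣ 6 := Dvd.intro_left f h6
      have hle := Nat.le_of_dvd (by norm_num) hm6
      obtain ⟨k, hk⟩ := hme
      have : m = 4 ∨ m = 6 := by omega
      rcases this with rfl | rfl
      · omega
      · omega
    obtain ⟨rfl, rfl⟩ := hfm
    refine ⟨7, by norm_num, by norm_num, by norm_num, by norm_num, by norm_num, Or.inr ⟨rfl, ?_⟩⟩
    have h1 : orderOf ((2 ^ 1 : ℕ) : ZMod 7) = 3 := by
      haveI : Fact (Nat.Prime 3) := ⟨by norm_num⟩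
      exact orderOf_eq_prime (by decide) (by decide)
    rw [h1]
    exact ⟨by decide, by norm_num⟩
  · have h4 : 4 ≤ f * m := by nlinarith
    obtain ⟨r, hr⟩ := exists_pp (q := p) (e := f * m) hp.two_le (by omega) h6
    have hlt := hr.lt (by omega)
    have hq := hr.of_pow (a := f) (d := m) hf
    have hfle : f ≤ f * m := Nat.le_mul_of_pos_right _ (by omega)
    refine ⟨r, hr.prime, by omega, ?_, (hq.dvd_iff hq1 m).2 dvd_rfl, fun h => ?_, Or.inl ?_⟩
    · rintro rfl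
      exact hr.not_dvd (by omega) dvd_rfl
    · have := Nat.le_of_dvd (by omega) h
      omega
    · rw [hq.ord]
      exact ⟨by omega, le_rfl⟩

section Main

variable {F : Type u} [Field F] [Fintype F] {m : ℕ}

theorem charP_of_card' {p f : ℕ} (hp : p.Prime) (hF : Fintype.card F = p ^ f) : CharP F p := by
  obtain ⟨ℓ, hchar⟩ := CharP.exists F
  have hl : Fact ℓ.Prime := ⟨CharP.char_is_prime F ℓ⟩
  obtain ⟨m, hm, hcard⟩ := FiniteField.card F ℓ
  rw [hF] at hcard
  have h1 : ℓ ∣ p ^ f := by rw [hcard]; exact dvd_pow_self ℓ m.ne_zero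
  have h3 : ℓ = p := (Nat.prime_dvd_prime_iff_eq hm hp).1 (hm.dvd_of_dvd_pow h1)
  subst h3
  exact hchar

theorem dvd_of_dvd_eight {s c i n : ℕ} (hs : s.Prime) (hs2 : s ≠ 2) (h : c ∣ 2 * (i * n)) (hi : i = 2 ∨ i = 4)
    {a : ℕ} (ha : s ^ a ∣ c) : s ^ a ∣ n := by
  have h1 : s ^ a ∣ 8 * n := by
    refine (ha.trans h).trans ?_
    rcases hi with rfl | rfl
    · exact ⟨2, by ring⟩
    · exact ⟨1, by ring⟩
  refine (Nat.Coprime.pow_left a ?_).dvd_of_dvd_mul_left h1
  rw [show (8 : ℕ) = 2 ^ 3 by norm_num]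
  exact Nat.Coprime.pow_right _ ((Nat.coprime_primes hs Nat.prime_two).2 hs2)

/-- **`PΩ⁺_{2m}(q)`, `m` even** -/
theorem dead_plus (hm : 4 ≤ m) (hme : Even m) (hexc : ¬ (m = 4 ∧ Fintype.card F = 2))
    (hc : center (POmega F (quadFormPlus m F)) = ⊥) {M : Subgroup (POmega F (quadFormPlus m F))}
    {v : Fin m ⊕ Fin m → F} (hv : quadFormPlus m F v ≠ 0)
    (hM : pre (quadFormPlus m F) M ≤ subspaceStabilizer (Submodule.span F {v})) :
    Dead (POmega F (quadFormPlus m F)) M := by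
  haveI : Finite (POmega F (quadFormPlus m F)) := Quotient.finite _
  obtain ⟨p, hch⟩ := CharP.exists F
  obtain ⟨n, hp, hn⟩ := FiniteField.card F p
  have hpF : Fact p.Prime := ⟨hp⟩
  have hf1 : 1 ≤ (n : ℕ) := n.pos
  generalize (n : ℕ) = f at hf1 hn
  obtain ⟨r, hrp, hr5, hrne, hrd, hrf, hok⟩ := exists_r4 hp hf1 hm hme
  rw [← hn] at hrd hok
  have h0 : (r : F) ≠ 0 := by
    intro h
    exact hrne ((Nat.prime_dvd_prime_iff_eq hp hrp).1 ((CharP.cast_eq_zero_iff F p r).1 h)).symm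
  have hidx : (Inn (POmega F (quadFormPlus m F))).index =
      (if m = 4 then 3 else 1) * (if p = 2 then 2 else (if Even (m * (p ^ f - 1) / 2) then 8 else 4)) * f :=
    index_inn_of_aut hc (Cfsg.Agent.S0817.result p f hf1 hn m hm)
  have hr2 : r ≠ 2 := by omega
  have hrout : ¬ r ∣ (Inn (POmega F (quadFormPlus m F))).index := by
    rw [hidx]
    intro h
    rcases hrp.dvd_mul.1 h with h1 | h1
    · rcases hrp.dvd_mul.1 h1 with h2 | h2
      · split_ifs at h2
        · have := Nat.le_of_dvd (by norm_num) h2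
          omega
        · exact hrp.one_lt.ne' (Nat.dvd_one.1 h2)
      · have h3 : r ∣ 2 ^ 3 := by
          split_ifs at h2
          · exact h2.trans ⟨4, by norm_num⟩
          · exact h2
          · exact h2.trans ⟨2, by norm_num⟩
        have := Nat.le_of_dvd (by norm_num) (hrp.dvd_of_dvd_pow h3)
        omega
    · exact hrf h1
  have hD := Cfsg.Agent.H884.El.data_plus (F := F) hm
  have hcent : ∀ x y : POmega F (quadFormPlus m F), orderOf x = r → orderOf y = r → x * y = y * x → y ∉ zpowers x →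
      ¬ p ∣ Nat.card (centralizer ({x, y} : Set (POmega F (quadFormPlus m F)))) := by
    have key : ∀ x y : POmega F (⇑(quadPlus m F)), orderOf x = r → orderOf y = r → x * y = y * x → y ∉ zpowers x →
        ¬ p ∣ Nat.card (centralizer ({x, y} : Set (POmega F (⇑(quadPlus m F))))) := fun x y hx hy hxy hn' => by
      refine not_dvd_cent_orth hD hrp hr2 h0 ?_ hx hy hxy hn'
      have hι : Fintype.card (Fin m ⊕ Fin m) = 2 * m := by rw [Fintype.card_sum, Fintype.card_fin]; ring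
      rcases hok with ⟨h1, h2⟩ | ⟨h1, h2, h3⟩
      · left
        exact ⟨h1, by rw [hι]; omega⟩
      · right
        subst h1
        exact ⟨by exact_mod_cast CharP.cast_eq_zero F 2, h2, by rw [hι]; omega⟩
    rw [coe_quadPlus] at key
    exact key
  have hlev : Nat.card {u : Fin m ⊕ Fin m → F // quadFormPlus m F u = quadFormPlus m F v} ∣
        2 * ((Omega F (quadFormPlus m F)).index * M.index) ∧
      ((2 : F) = 0 → Nat.card {u : Fin m ⊕ Fin m → F // quadFormPlus m F u = quadFormPlus m F v} ∣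
        (Omega F (quadFormPlus m F)).index * M.index) := by
    have key : ∀ (M : Subgroup (POmega F (⇑(quadPlus m F)))) (v : Fin m ⊕ Fin m → F), quadPlus m F v ≠ 0 →
        pre (⇑(quadPlus m F)) M ≤ subspaceStabilizer (Submodule.span F {v}) →
        Nat.card {u : Fin m ⊕ Fin m → F // quadPlus m F u = quadPlus m F v} ∣
          2 * ((Omega F (⇑(quadPlus m F))).index * M.index) ∧
        ((2 : F) = 0 → Nat.card {u : Fin m ⊕ Fin m → F // quadPlus m F u = quadPlus m F v} ∣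
          (Omega F (⇑(quadPlus m F))).index * M.index) := fun M v hv hM =>
      ⟨level_dvd _ hD.nd hv hM, fun h2 => level_dvd_two _ h2 hD.nd hv hM⟩
    rw [coe_quadPlus] at key
    exact key M v hv hM
  have hidx' : (Omega F (quadFormPlus m F)).index = 2 ∨ (Omega F (quadFormPlus m F)).index = 4 := by
    have := hD.idx
    rw [coe_quadPlus] at this
    exact this
  rw [plus_level (by omega) hv] at hlev
  have hrM : r ∣ M.index := by
    have := dvd_of_dvd_eight (a := 1) hrp hr2 hlev.1 hidx' (by rw [pow_one]; exact hrd.mul_left _)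
    rwa [pow_one] at this
  have hlt : f < 2 ^ f := Nat.lt_two_pow_self
  by_cases hp2 : p = 2
  · subst hp2
    have h2F : (2 : F) = 0 := by exact_mod_cast CharP.cast_eq_zero F 2
    have h1 : 2 ^ (f * (m - 1)) ∣ 4 * M.index := by
      rw [pow_mul, ← hn]
      refine ((dvd_mul_right _ _).trans (hlev.2 h2F)).trans ?_
      rcases hidx' with h | h <;> rw [h]
      · exact ⟨2, by ring⟩
    obtain ⟨k, hk⟩ : ∃ k, f * (m - 1) = k + 2 := ⟨f * (m - 1) - 2, by
      have : 1 * 3 ≤ f * (m - 1) := Nat.mul_le_mul hf1 (by omega)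
      omega⟩
    rw [hk, pow_add, mul_comm] at h1
    have h2 : 2 ^ k ∣ M.index := Nat.dvd_of_mul_dvd_mul_left (by norm_num) h1
    refine dead_of_pair hc hrp Nat.prime_two hrM hrout h2 ?_ hcent
    rw [hidx, if_pos rfl]
    by_cases hm4 : m = 4
    · subst hm4
      rw [if_pos rfl]
      have hf2 : 2 ≤ f := by
        by_contra hcon
        have hf1' : f = 1 := by omega
        rw [hf1', pow_one] at hn
        exact hexc ⟨rfl, hn⟩
      have hk' : k = (2 * f - 2) + f := by omega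
      apply not_pow_dvd_of_lt (by omega)
      rw [hk', pow_add]
      obtain ⟨g, rfl⟩ : ∃ g, f = g + 2 := ⟨f - 2, by omega⟩
      have h5 : 4 * 2 ^ (g + 2) ≤ 2 ^ (2 * (g + 2) - 2) * 2 ^ (g + 2) := by
        apply Nat.mul_le_mul_right
        calc 4 = 2 ^ 2 := by norm_num
          _ ≤ _ := Nat.pow_le_pow_right (by norm_num) (by omega)
      have h6 : 3 * (g + 2) < 2 * 2 ^ (g + 2) := by
        have h7 : g + 1 ≤ 2 ^ g := Nat.lt_two_pow_self
        have h8 : 2 ^ (g + 2) = 4 * 2 ^ g := by rw [pow_add]; ring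
        omega
      omega
    · rw [if_neg hm4, one_mul]
      have hm6 : 6 ≤ m := by
        obtain ⟨j, hj⟩ := hme
        omega
      have h5 : f * 5 ≤ f * (m - 1) := Nat.mul_le_mul_left _ (by omega)
      apply not_pow_dvd_of_lt (by omega)
      calc 2 * f < 2 * 2 ^ f := by omega
        _ = 2 ^ (f + 1) := by rw [pow_succ]; ring
        _ ≤ 2 ^ k := Nat.pow_le_pow_right (by norm_num) (by omega)
  · have hp3 : 3 ≤ p := by have := hp.two_le; omega
    have h1 : p ^ (f * (m - 1)) ∣ M.index :=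
      dvd_of_dvd_eight hp hp2 hlev.1 hidx' (by rw [pow_mul, ← hn]; exact dvd_mul_right _ _)
    refine dead_of_pair hc hrp hp hrM hrout h1 ?_ hcent
    rw [hidx, if_neg hp2]
    have h2 : (if m = 4 then 3 else 1) * (if Even (m * (p ^ f - 1) / 2) then 8 else 4) * f ≤ 24 * f := by
      apply Nat.mul_le_mul_right
      split_ifs <;> norm_num
    have h3 : 0 < (if m = 4 then 3 else 1) * (if Even (m * (p ^ f - 1) / 2) then 8 else 4) * f := by
      apply Nat.mul_pos _ hf1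
      split_ifs <;> norm_num
    apply not_pow_dvd_of_lt h3
    have h4 : ∀ g : ℕ, 1 ≤ g → 27 * g ≤ 27 ^ g := by
      intro g hg
      induction g, hg using Nat.le_induction with
      | base => norm_num
      | succ g hg ih => rw [pow_succ]; linarith only [hg, ih]
    have h5 := h4 f hf1
    calc _ ≤ 24 * f := h2
      _ < 27 * f := by omega
      _ ≤ 27 ^ f := h5
      _ = 3 ^ (3 * f) := by rw [pow_mul]; norm_num
      _ ≤ p ^ (3 * f) := Nat.pow_le_pow_left hp3 _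
      _ ≤ p ^ (f * (m - 1)) := Nat.pow_le_pow_right (by omega) (by
          rw [mul_comm]
          exact Nat.mul_le_mul_left _ (by omega))

/-- **`Ω_{2m+1}(q)`, `m` even** -/
theorem dead_odd (hm : 3 ≤ m) (hme : Even m) (hodd : Odd (Fintype.card F))
    (hc : center (POmega F (quadFormOdd m F)) = ⊥) {M : Subgroup (POmega F (quadFormOdd m F))}
    {v : Unit ⊕ (Fin m ⊕ Fin m) → F} (hv : quadFormOdd m F v ≠ 0)
    (hM : pre (quadFormOdd m F) M ≤ subspaceStabilizer (Submodule.span F {v})) :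
    Dead (POmega F (quadFormOdd m F)) M ∨
      ∀ r : ℕ, r.Prime → r ≠ 2 → r ∣ Fintype.card F ^ m + 1 → r ∣ M.index := by
  haveI : Finite (POmega F (quadFormOdd m F)) := Quotient.finite _
  obtain ⟨p, hch⟩ := CharP.exists F
  obtain ⟨n, hp, hn⟩ := FiniteField.card F p
  have hpF : Fact p.Prime := ⟨hp⟩
  have hf1 : 1 ≤ (n : ℕ) := n.pos
  generalize (n : ℕ) = f at hf1 hn
  have hm4 : 4 ≤ m := by
    obtain ⟨j, hj⟩ := hme
    omega
  have hpodd : Odd p := by
    rw [hn] at hodd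
    exact Nat.Odd.of_mul_left (m := p) (n := p ^ (f - 1)) (by rw [← pow_succ', Nat.sub_add_cancel hf1]; exact hodd)
  have hp2 : p ≠ 2 := by
    rintro rfl
    exact absurd hpodd (by decide)
  have hp3 : 3 ≤ p := by have := hp.two_le; omega
  have h2F : (2 : F) ≠ 0 := by
    intro h
    have h1 : ((2 : ℕ) : F) = 0 := by exact_mod_cast h
    exact hp2 ((Nat.prime_dvd_prime_iff_eq hp Nat.prime_two).1 ((CharP.cast_eq_zero_iff F p 2).1 h1))
  obtain ⟨r, hrp, hr5, hrne, hrd, hrf, hok⟩ := exists_r4 hp hf1 hm4 hme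
  rw [← hn] at hrd hok
  have h0 : (r : F) ≠ 0 := by
    intro h
    exact hrne ((Nat.prime_dvd_prime_iff_eq hp hrp).1 ((CharP.cast_eq_zero_iff F p r).1 h)).symm
  have hidx : (Inn (POmega F (quadFormOdd m F))).index = 2 * f :=
    index_inn_of_aut hc (Cfsg.Agent.S0816.result p f hf1 hn hpodd m hm)
  have hr2 : r ≠ 2 := by omega
  have hrout : ¬ r ∣ (Inn (POmega F (quadFormOdd m F))).index := by
    rw [hidx]
    intro h
    rcases hrp.dvd_mul.1 h with h1 | h1
    · have := Nat.le_of_dvd (by norm_num) h1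
      omega
    · exact hrf h1
  have hD := Cfsg.Agent.H884.El.data_odd (F := F) hm h2F
  have hcent : ∀ x y : POmega F (quadFormOdd m F), orderOf x = r → orderOf y = r → x * y = y * x → y ∉ zpowers x →
      ¬ p ∣ Nat.card (centralizer ({x, y} : Set (POmega F (quadFormOdd m F)))) := by
    have key : ∀ x y : POmega F (⇑(quadOdd m F)), orderOf x = r → orderOf y = r → x * y = y * x → y ∉ zpowers x →
        ¬ p ∣ Nat.card (centralizer ({x, y} : Set (POmega F (⇑(quadOdd m F))))) := fun x y hx hy hxy hn' => by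
      refine not_dvd_cent_orth hD hrp hr2 h0 ?_ hx hy hxy hn'
      have hι : Fintype.card (Unit ⊕ (Fin m ⊕ Fin m)) = 2 * m + 1 := by
        rw [Fintype.card_sum, Fintype.card_sum, Fintype.card_fin, Fintype.card_unit]; ring
      rcases hok with ⟨h1, h2⟩ | ⟨h1, -, -⟩
      · left
        exact ⟨h1, by rw [hι]; omega⟩
      · exact absurd h1 hp2
    rw [coe_quadOdd] at key
    exact key
  have hlev : Nat.card {u : Unit ⊕ (Fin m ⊕ Fin m) → F // quadFormOdd m F u = quadFormOdd m F v} ∣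
        2 * ((Omega F (quadFormOdd m F)).index * M.index) := by
    have key : ∀ (M : Subgroup (POmega F (⇑(quadOdd m F)))) (v : Unit ⊕ (Fin m ⊕ Fin m) → F), quadOdd m F v ≠ 0 →
        pre (⇑(quadOdd m F)) M ≤ subspaceStabilizer (Submodule.span F {v}) →
        Nat.card {u : Unit ⊕ (Fin m ⊕ Fin m) → F // quadOdd m F u = quadOdd m F v} ∣
          2 * ((Omega F (⇑(quadOdd m F))).index * M.index) := fun M v hv hM =>
      level_dvd _ hD.nd hv hM
    rw [coe_quadOdd] at key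
    exact key M v hv hM
  have hidx' : (Omega F (quadFormOdd m F)).index = 2 ∨ (Omega F (quadFormOdd m F)).index = 4 := by
    have := hD.idx
    rw [coe_quadOdd] at this
    exact this
  rcases odd_level h2F (m := m) hv with h | h
  · left
    rw [h] at hlev
    have hrM : r ∣ M.index := by
      have := dvd_of_dvd_eight (a := 1) hrp hr2 hlev hidx' (by rw [pow_one]; exact hrd.mul_left _)
      rwa [pow_one] at this
    have h1 : p ^ (f * m) ∣ M.index :=
      dvd_of_dvd_eight hp hp2 hlev hidx' (by rw [pow_mul, ← hn]; exact dvd_mul_right _ _)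
    refine dead_of_pair hc hrp hp hrM hrout h1 ?_ hcent
    rw [hidx]
    apply not_pow_dvd_of_lt (by omega)
    have hlt : f < 2 ^ f := Nat.lt_two_pow_self
    calc 2 * f < 2 * 2 ^ f := by omega
      _ = 2 ^ (f + 1) := by rw [pow_succ]; ring
      _ ≤ 2 ^ (f * m) := Nat.pow_le_pow_right (by norm_num) (by nlinarith only [hf1, hm4])
      _ ≤ p ^ (f * m) := Nat.pow_le_pow_left (by omega) _
  · right
    intro s hs hs2 hsd
    rw [h] at hlev
    have := dvd_of_dvd_eight (a := 1) hs hs2 hlev hidx' (by rw [pow_one]; exact hsd.mul_left _)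
    rwa [pow_one] at this

end Main

end Cfsg.Agent.H57.BG
end

-- part: H57/BG/Kills
section
/-!
# The pair `(r, p)` of the groups `PSp_2m(q)`, `Ω_{2m+1}(q)`, `PΩ⁺_2m(q)`, `m ≥ 4` even (S3561, helper57)
-/

set_option autoImplicit false

namespace Cfsg.Agent.H57.BG

open Module Cfsg Cfsg.Geo Subgroup
open Cfsg.Agent.LieClassical.OmegaReindex

universe u

/-- the two divisibility conditions kill -/
def Kills (T : Type u) [Group T] (q m p f : ℕ) : Prop :=
  ∃ r : ℕ, r.Prime ∧ 5 ≤ r ∧ r ≠ p ∧ r ∣ q ^ m - 1 ∧ ¬ r ∣ f ∧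
    ∀ (M : Subgroup T) (k : ℕ), r ∣ M.index → p ^ k ∣ M.index → ¬ p ^ k ∣ (Inn T).index → Dead T M

theorem exists_pow_of_dvd {p N c₀ c₁ i d : ℕ} (hp : p.Prime) (h0 : Nat.Coprime p c₀) (h1 : 0 < c₁) (hd : 0 < d)
    (h : p ^ N ∣ c₀ * c₁ * i) (hlt : c₁ * d < p ^ N) : ∃ k, p ^ k ∣ i ∧ ¬ p ^ k ∣ d := by
  obtain ⟨a, c', hc', rfl⟩ := Nat.exists_eq_pow_mul_and_not_dvd h1.ne' p hp.ne_one
  have hc'0 : 0 < c' := Nat.pos_of_ne_zero fun h => hc' (h ▸ dvd_zero p)
  have hpa : 0 < p ^ a := Nat.pow_pos hp.pos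
  have h2 : p ^ a * d < p ^ N := by
    refine lt_of_le_of_lt ?_ hlt
    calc p ^ a * d = p ^ a * 1 * d := by ring
      _ ≤ p ^ a * c' * d := Nat.mul_le_mul_right _ (Nat.mul_le_mul_left _ hc'0)
  have haN : a ≤ N := by
    by_contra hcon
    have h3 : p ^ N ≤ p ^ a := Nat.pow_le_pow_right hp.pos (by omega)
    have h4 : p ^ a ≤ p ^ a * d := Nat.le_mul_of_pos_right _ hd
    omega
  obtain ⟨k, rfl⟩ := Nat.exists_eq_add_of_le haN
  refine ⟨k, ?_, ?_⟩
  · have h3 : p ^ a * p ^ k ∣ p ^ a * (c₀ * c' * i) := by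
      rw [← pow_add]
      refine h.trans (dvd_of_eq ?_)
      ring
    have h4 := Nat.dvd_of_mul_dvd_mul_left hpa h3
    have h5 : Nat.Coprime (p ^ k) (c₀ * c') :=
      Nat.Coprime.pow_left _ (Nat.Coprime.mul_right h0 ((Nat.Prime.coprime_iff_not_dvd hp).2 hc'))
    exact h5.dvd_of_dvd_mul_left h4
  · intro h3
    have h4 := Nat.le_of_dvd hd h3
    have h5 : p ^ a * p ^ k ≤ p ^ a * d := Nat.mul_le_mul_left _ h4
    rw [← pow_add] at h5
    omega

section Main

variable {F : Type u} [Field F] [Fintype F] {m p f : ℕ}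

theorem kills_psp (hp : p.Prime) (hf : 1 ≤ f) (hF : Fintype.card F = p ^ f) (hm : 4 ≤ m) (hme : Even m)
    (hc : center (PSp m F) = ⊥) : Kills (PSp m F) (Fintype.card F) m p f := by
  have : Finite (PSp m F) := Quotient.finite _
  have hpF : Fact p.Prime := ⟨hp⟩
  have hchar : CharP F p := charP_of_card' hp hF
  have hidx := index_inn_psp hf hF (by omega) (fun h => by omega) hc
  obtain ⟨r, hrp, hr5, hrne, hrd, hrf, hok⟩ := exists_r4 hp hf hm hme
  have h0 : (r : F) ≠ 0 := by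
    intro h
    exact hrne ((Nat.prime_dvd_prime_iff_eq hp hrp).1 ((CharP.cast_eq_zero_iff F p r).1 h)).symm
  rw [← hF] at hrd hok
  have hr2' : ¬ r ∣ 2 := fun h => by
    have := Nat.le_of_dvd (by norm_num) h
    omega
  have hrout : ¬ r ∣ (Inn (PSp m F)).index := by
    rw [hidx]
    intro h
    rcases hrp.dvd_mul.1 h with h1 | h1
    · rcases hrp.dvd_mul.1 h1 with h2 | h2
      · split_ifs at h2
        · exact hr2' h2
        · exact hrp.one_lt.ne' (Nat.dvd_one.1 h2)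
      · exact hr2' (h2.trans (Nat.gcd_dvd_left _ _))
    · exact hrf h1
  refine ⟨r, hrp, hr5, hrne, hrd, hrf, fun M k h1 h2 h3 => ?_⟩
  refine dead_of_pair hc hrp hp h1 hrout h2 h3 fun x y hx hy hxy hn =>
    not_dvd_cent_psp (by omega) hrp (by omega) h0 ?_ hx hy hxy hn
  rcases hok with h | ⟨-, h⟩
  · exact Or.inl h
  · exact Or.inr h

theorem kills_plus (hp : p.Prime) (hf : 1 ≤ f) (hn : Fintype.card F = p ^ f) (hm : 4 ≤ m) (hme : Even m)
    (hc : center (POmega F (quadFormPlus m F)) = ⊥) :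
    Kills (POmega F (quadFormPlus m F)) (Fintype.card F) m p f := by
  have : Finite (POmega F (quadFormPlus m F)) := Quotient.finite _
  have hpF : Fact p.Prime := ⟨hp⟩
  have hchar : CharP F p := charP_of_card' hp hn
  obtain ⟨r, hrp, hr5, hrne, hrd, hrf, hok⟩ := exists_r4 hp hf hm hme
  rw [← hn] at hrd hok
  have h0 : (r : F) ≠ 0 := by
    intro h
    exact hrne ((Nat.prime_dvd_prime_iff_eq hp hrp).1 ((CharP.cast_eq_zero_iff F p r).1 h)).symm
  have hidx : (Inn (POmega F (quadFormPlus m F))).index =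
      (if m = 4 then 3 else 1) * (if p = 2 then 2 else (if Even (m * (p ^ f - 1) / 2) then 8 else 4)) * f :=
    index_inn_of_aut hc (Cfsg.Agent.S0817.result p f hf hn m hm)
  have hr2 : r ≠ 2 := by omega
  have hrout : ¬ r ∣ (Inn (POmega F (quadFormPlus m F))).index := by
    rw [hidx]
    intro h
    rcases hrp.dvd_mul.1 h with h1 | h1
    · rcases hrp.dvd_mul.1 h1 with h2 | h2
      · split_ifs at h2
        · have := Nat.le_of_dvd (by norm_num) h2
          omega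
        · exact hrp.one_lt.ne' (Nat.dvd_one.1 h2)
      · have h3 : r ∣ 2 ^ 3 := by
          split_ifs at h2
          · exact h2.trans ⟨4, by norm_num⟩
          · exact h2
          · exact h2.trans ⟨2, by norm_num⟩
        have := Nat.le_of_dvd (by norm_num) (hrp.dvd_of_dvd_pow h3)
        omega
    · exact hrf h1
  have hD := Cfsg.Agent.H884.El.data_plus (F := F) hm
  have hcent : ∀ x y : POmega F (quadFormPlus m F), orderOf x = r → orderOf y = r → x * y = y * x → y ∉ zpowers x →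
      ¬ p ∣ Nat.card (centralizer ({x, y} : Set (POmega F (quadFormPlus m F)))) := by
    have key : ∀ x y : POmega F (⇑(quadPlus m F)), orderOf x = r → orderOf y = r → x * y = y * x → y ∉ zpowers x →
        ¬ p ∣ Nat.card (centralizer ({x, y} : Set (POmega F (⇑(quadPlus m F))))) := fun x y hx hy hxy hn' => by
      refine not_dvd_cent_orth hD hrp hr2 h0 ?_ hx hy hxy hn'
      have hι : Fintype.card (Fin m ⊕ Fin m) = 2 * m := by rw [Fintype.card_sum, Fintype.card_fin]; ring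
      rcases hok with ⟨h1, h2⟩ | ⟨h1, h2, h3⟩
      · left
        exact ⟨h1, by rw [hι]; omega⟩
      · right
        subst h1
        exact ⟨by exact_mod_cast CharP.cast_eq_zero F 2, h2, by rw [hι]; omega⟩
    rw [coe_quadPlus] at key
    exact key
  exact ⟨r, hrp, hr5, hrne, hrd, hrf, fun M k h1 h2 h3 => dead_of_pair hc hrp hp h1 hrout h2 h3 hcent⟩

theorem kills_odd (hp : p.Prime) (hf : 1 ≤ f) (hn : Fintype.card F = p ^ f) (hp2 : p ≠ 2) (hm : 4 ≤ m) (hme : Even m)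
    (hc : center (POmega F (quadFormOdd m F)) = ⊥) :
    Kills (POmega F (quadFormOdd m F)) (Fintype.card F) m p f := by
  have : Finite (POmega F (quadFormOdd m F)) := Quotient.finite _
  have hpF : Fact p.Prime := ⟨hp⟩
  have hchar : CharP F p := charP_of_card' hp hn
  have hpodd : Odd p := hp.odd_of_ne_two hp2
  have h2F : (2 : F) ≠ 0 := by
    intro h
    have h1 : ((2 : ℕ) : F) = 0 := by exact_mod_cast h
    exact hp2 ((Nat.prime_dvd_prime_iff_eq hp Nat.prime_two).1 ((CharP.cast_eq_zero_iff F p 2).1 h1))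
  obtain ⟨r, hrp, hr5, hrne, hrd, hrf, hok⟩ := exists_r4 hp hf hm hme
  rw [← hn] at hrd hok
  have h0 : (r : F) ≠ 0 := by
    intro h
    exact hrne ((Nat.prime_dvd_prime_iff_eq hp hrp).1 ((CharP.cast_eq_zero_iff F p r).1 h)).symm
  have hidx : (Inn (POmega F (quadFormOdd m F))).index = 2 * f :=
    index_inn_of_aut hc (Cfsg.Agent.S0816.result p f hf hn hpodd m (by omega))
  have hr2 : r ≠ 2 := by omega
  have hrout : ¬ r ∣ (Inn (POmega F (quadFormOdd m F))).index := by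
    rw [hidx]
    intro h
    rcases hrp.dvd_mul.1 h with h1 | h1
    · have := Nat.le_of_dvd (by norm_num) h1
      omega
    · exact hrf h1
  have hD := Cfsg.Agent.H884.El.data_odd (F := F) (m := m) (by omega) h2F
  have hcent : ∀ x y : POmega F (quadFormOdd m F), orderOf x = r → orderOf y = r → x * y = y * x → y ∉ zpowers x →
      ¬ p ∣ Nat.card (centralizer ({x, y} : Set (POmega F (quadFormOdd m F)))) := by
    have key : ∀ x y : POmega F (⇑(quadOdd m F)), orderOf x = r → orderOf y = r → x * y = y * x → y ∉ zpowers x →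
        ¬ p ∣ Nat.card (centralizer ({x, y} : Set (POmega F (⇑(quadOdd m F))))) := fun x y hx hy hxy hn' => by
      refine not_dvd_cent_orth hD hrp hr2 h0 ?_ hx hy hxy hn'
      have hι : Fintype.card (Unit ⊕ (Fin m ⊕ Fin m)) = 2 * m + 1 := by
        rw [Fintype.card_sum, Fintype.card_sum, Fintype.card_fin, Fintype.card_unit]; ring
      rcases hok with ⟨h1, h2⟩ | ⟨h1, -, -⟩
      · left
        exact ⟨h1, by rw [hι]; omega⟩
      · exact absurd h1 hp2
    rw [coe_quadOdd] at key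
    exact key
  exact ⟨r, hrp, hr5, hrne, hrd, hrf, fun M k h1 h2 h3 => dead_of_pair hc hrp hp h1 hrout h2 h3 hcent⟩

end Main

/-- **the socle kills** : `A |T| = |S| B`, `|Aut S| = o |S|` -/
theorem dead_of_socle {T : Type u} [Group T] [Finite T] {q m p f : ℕ} (hp : p.Prime) (hK : Kills T q m p f)
    {M : Subgroup T} {s a A B o c₀ c₁ N : ℕ} (hM : Nat.card M ∣ a) (ha : a = o * s) (hs : 0 < s)
    (hcard : A * Nat.card T = s * B) (hqm : q ^ m - 1 ∣ B) (hpN : p ^ N ∣ B) (hAo : A * o = c₀ * c₁)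
    (hc0 : Nat.Coprime p c₀) (hc1 : 0 < c₁) (hlt : c₁ * (Inn T).index < p ^ N)
    (hro : ∀ r, r.Prime → 5 ≤ r → ¬ r ∣ f → ¬ r ∣ A * o) : Dead T M := by
  have h1 : B ∣ A * o * M.index := by
    have h2 : Nat.card T ∣ o * s * M.index := by
      rw [← M.card_mul_index, ← ha]
      exact Nat.mul_dvd_mul_right hM _
    have h3 : s * B ∣ s * (A * o * M.index) := by
      rw [← hcard]
      refine (Nat.mul_dvd_mul_left A h2).trans (dvd_of_eq ?_)
      ring
    exact Nat.dvd_of_mul_dvd_mul_left hs h3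
  obtain ⟨r, hrp, hr5, -, hrd, hrf, hkill⟩ := hK
  have hr : r ∣ M.index := (hrp.dvd_mul.1 ((hrd.trans hqm).trans h1)).resolve_left (hro r hrp hr5 hrf)
  have hd : 0 < (Inn T).index := by
    have : Finite (MulAut T) := Finite.of_injective (fun e : MulAut T => (e : T → T)) DFunLike.coe_injective
    exact Nat.pos_of_ne_zero index_ne_zero_of_finite
  obtain ⟨k, h4, h5⟩ := exists_pow_of_dvd hp hc0 hc1 hd (i := M.index) (N := N) (by
    rw [← hAo]
    exact hpN.trans h1) hlt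
  exact hkill M k hr h4 h5

end Cfsg.Agent.H57.BG
end

-- part: H57/BG/AsDead
section
/-!
# The almost simple subgroups of classical groups in the same characteristic which are not killed by a cyclic prime
(S3561, helper57)
-/

set_option autoImplicit false

namespace Cfsg.Agent.H57.BG

open Module Cfsg Cfsg.Geo Subgroup Cfsg.Agent.OrdDiv Cfsg.Agent.H436 Cfsg.Agent.H264.FKS Cfsg.Agent.H915.GN
open Cfsg.Agent.H902 Cfsg.Agent.H902.Names
open Cfsg.Agent.LieClassical.OmegaReindex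
open Cfsg.Agent.H364.OutLie (mulaut_congr)

/-- `M` is almost simple with socle named `g` (`H884.Row.AS`) -/
def AS (g : Grp) {T : Type} [Group T] (M : Subgroup T) : Prop :=
  ∃ S : Subgroup M, S.Normal ∧ IsSimpleGroup S ∧ ¬ IsMulCommutative S ∧ Subgroup.centralizer (S : Set M) = ⊥ ∧
    IsNamed g S

theorem not_dvd_two_pow {r k : ℕ} (hr : r.Prime) (h5 : 5 ≤ r) : ¬ r ∣ 2 ^ k := fun h => by
  have := Nat.le_of_dvd (by norm_num) (hr.dvd_of_dvd_pow h)
  omega

theorem gcd_two_eq {a : ℕ} : Nat.gcd 2 a = 1 ∨ Nat.gcd 2 a = 2 := (Nat.dvd_prime Nat.prime_two).1 (Nat.gcd_dvd_left _ _)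

theorem gcd_four_eq {a : ℕ} : Nat.gcd 4 a = 1 ∨ Nat.gcd 4 a = 2 ∨ Nat.gcd 4 a = 4 := by
  have h : Nat.gcd 4 a ∣ 2 ^ 2 := Nat.gcd_dvd_left _ _
  obtain ⟨k, hk, h1⟩ := (Nat.dvd_prime_pow Nat.prime_two).1 h
  rw [h1]
  interval_cases k <;> simp

theorem sq_lt_pow {c b f : ℕ} (hb : 4 ≤ b) (hc : c < b) (hf : 1 ≤ f) : c * f ^ 2 < b ^ f := by
  induction f, hf using Nat.le_induction with
  | base => simpa using hc
  | succ n hn ih =>
    rw [pow_succ]
    have h1 : (n + 1) ^ 2 ≤ 4 * n ^ 2 := by nlinarith only [hn]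
    calc c * (n + 1) ^ 2 ≤ c * (4 * n ^ 2) := Nat.mul_le_mul_left _ h1
      _ = (c * n ^ 2) * 4 := by ring
      _ ≤ (c * n ^ 2) * b := Nat.mul_le_mul_left _ hb
      _ < b ^ n * b := Nat.mul_lt_mul_of_pos_right ih (by omega)

theorem prB_succ (q m : ℕ) : prB q (m + 1) = prB q m * (q ^ (2 * (m + 1)) - 1) := by
  unfold prB
  rw [List.range_succ, List.map_append, List.prod_append]
  simp only [_root_.List.map_cons, _root_.List.map_nil, _root_.List.prod_cons, _root_.List.prod_nil, _root_.mul_one]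

theorem sq_sub_one (q m : ℕ) : q ^ (2 * m) - 1 = (q ^ m + 1) * (q ^ m - 1) := by
  have h := Nat.sq_sub_sq (q ^ m) 1
  rw [one_pow, ← pow_mul, mul_comm m 2] at h
  exact h

theorem dd_g2 {q : ℕ} {X : Art.Sh} {p f : ℕ} (h : IsLie (.g2 q) X p f) : Art.dd X (p ^ f) = 1 := by
  cases h; rfl

theorem dd_sz {q : ℕ} {X : Art.Sh} {p f : ℕ} (h : IsLie (.sz q) X p f) : Art.dd X (p ^ f) = 1 := by
  cases h; rfl

/-! ### the automorphism groups -/

section aut

variable {S : Type} [Group S] {p f m : ℕ}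

theorem aut_psp (hp : p.Prime) (hf : 1 ≤ f) (hm : 3 ≤ m) (h : Real (.psp m (p ^ f)) S) :
    Nat.card (MulAut S) = Nat.gcd 2 (p ^ f - 1) * f * Nat.card S := by
  obtain ⟨F, _, _, hF, ⟨e⟩⟩ := h
  have : Fact p.Prime := ⟨hp⟩
  have h1 := Cfsg.Agent.S0814.result p f hf hF m (by omega) (by omega)
  rw [if_neg (by omega), one_mul] at h1
  rw [mulaut_congr e, h1, Nat.card_congr e.toEquiv]

theorem aut_oodd (hp : p.Prime) (hf : 1 ≤ f) (hm : 3 ≤ m) (hodd : Odd p) (h : Real (.oodd m (p ^ f)) S) :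
    Nat.card (MulAut S) = 2 * f * Nat.card S := by
  obtain ⟨F, _, _, hF, ⟨e⟩⟩ := h
  have : Fact p.Prime := ⟨hp⟩
  rw [mulaut_congr e, Cfsg.Agent.S0816.result p f hf hF hodd m hm, Nat.card_congr e.toEquiv]

theorem aut_ominus (hp : p.Prime) (hf : 1 ≤ f) (hm : 4 ≤ m) (h : Real (.ominus m (p ^ f)) S) :
    Nat.card (MulAut S) = (if p = 2 then 2 else (if Even (m * (p ^ f - 1) / 2) then 4 else 8)) * f * Nat.card S := by
  obtain ⟨F, _, _, a, b, hF, hab, ⟨e⟩⟩ := h
  have : Fact p.Prime := ⟨hp⟩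
  rw [mulaut_congr e, Cfsg.Agent.S0818.result p f hf hF m hm a b hab, Nat.card_congr e.toEquiv]

/-- the general bound -/
theorem aut_gen [Finite S] [IsSimpleGroup S] (hna : ¬ IsMulCommutative S) {g : Grp} (hp : p.Prime) (hn : IsNamed g S)
    (hch : HasChar p g) {d e : ℕ} (hd : ∀ X f, IsLie g X p f → Art.dd X (p ^ f) = d) (he : fld g = p ^ e) :
    ∃ c, Nat.card (MulAut S) = c * e * Nat.card S ∧ c ∣ 24 * d ∧ (p = 2 → c ∣ 6 * d) := by
  obtain ⟨X, f, h1, h2, h3⟩ := exists_lie hp hn hch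
  obtain ⟨c, h4, h5, h6⟩ := Cfsg.Agent.H364.OutLie.card_out (fun h => hna ⟨⟨h⟩⟩) h1 hn.real h2
  rw [he] at h3
  obtain rfl := Nat.pow_right_injective hp.two_le h3
  rw [hd X e h1] at h5 h6
  exact ⟨c, by rw [← H934.OutB.card_out_mul S hna, h4], h5, h6⟩

end aut

section main

variable {F : Type} [Field F] [Fintype F] {m p f : ℕ}

theorem out_plus_le (hp : p.Prime) (hf : 1 ≤ f) (hF : Fintype.card F = p ^ f) (hm : 4 ≤ m)
    (hc : center (POmega F (quadFormPlus m F)) = ⊥) :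
    (Inn (POmega F (quadFormPlus m F))).index ≤ (if p = 2 then 6 else 24) * f := by
  have : Finite (POmega F (quadFormPlus m F)) := Quotient.finite _
  have hpF : Fact p.Prime := ⟨hp⟩
  rw [index_inn_of_aut hc (Cfsg.Agent.S0817.result p f hf hF m hm)]
  apply Nat.mul_le_mul_right
  split_ifs <;> norm_num

/-- **`PΩ⁻_2m(q)` in `PSp_2m(q)`** -/
theorem dead_psp_ominus (hm : 4 ≤ m) (hme : Even m) (hc : center (PSp m F) = ⊥) {M : Subgroup (PSp m F)}
    (hT : IsNamed (.psp m (Fintype.card F)) (PSp m F)) (h : AS (.ominus m (Fintype.card F)) M) :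
    Dead (PSp m F) M := by
  have : Finite (PSp m F) := Quotient.finite _
  obtain ⟨p, f, hp, hf, hF⟩ := (isPrimePow_nat_iff _).1 (Fintype.isPrimePow_card_of_field (α := F))
  rw [← hF] at h
  have hF' := hF.symm
  have hpF : Fact p.Prime := ⟨hp⟩
  obtain ⟨S, hSn, hSs, hna, hC, hS⟩ := h
  have h1 := hS.eq
  have h2 := hT.eq
  rw [← hF] at h2
  change Nat.gcd 4 ((p ^ f) ^ m + 1) * Nat.card S =
    (p ^ f) ^ (m * (m - 1)) * (((p ^ f) ^ m + 1) * prB (p ^ f) (m - 1)) at h1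
  change Nat.gcd 2 (p ^ f - 1) * Nat.card (PSp m F) = (p ^ f) ^ (m ^ 2) * prB (p ^ f) m at h2
  have haut := aut_ominus hp hf hm hS.real
  have hidx := index_inn_psp hf hF' (by omega) (fun h => by omega) hc
  rw [if_neg (by omega), one_mul] at hidx
  obtain ⟨o, ho⟩ : ∃ o, o = (if p = 2 then 2 else (if Even (m * (p ^ f - 1) / 2) then 4 else 8)) := ⟨_, rfl⟩
  rw [← ho] at haut
  have hf2 : 2 * f ^ 2 < 16 ^ f := sq_lt_pow (by norm_num) (by norm_num) hf
  have hf3 : 2 * f ^ 2 < p ^ (f * m) := by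
    refine hf2.trans_le ?_
    calc 16 ^ f = 2 ^ (f * 4) := by rw [mul_comm, pow_mul]; norm_num
      _ ≤ p ^ (f * 4) := Nat.pow_le_pow_left hp.two_le _
      _ ≤ p ^ (f * m) := Nat.pow_le_pow_right hp.pos (Nat.mul_le_mul_left _ hm)
  have hcard : Nat.gcd 2 (p ^ f - 1) * Nat.card (PSp m F) =
      Nat.card S * ((p ^ f) ^ m * ((p ^ f) ^ m - 1) * Nat.gcd 4 ((p ^ f) ^ m + 1)) := by
    rw [h2]
    calc (p ^ f) ^ (m ^ 2) * prB (p ^ f) m = (p ^ f) ^ m * ((p ^ f) ^ m - 1) *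
          ((p ^ f) ^ (m * (m - 1)) * (((p ^ f) ^ m + 1) * prB (p ^ f) (m - 1))) := by
          obtain ⟨j, rfl⟩ : ∃ j, m = j + 1 := ⟨m - 1, by omega⟩
          rw [prB_succ, sq_sub_one, Nat.add_sub_cancel, show (j + 1) ^ 2 = (j + 1) + (j + 1) * j by ring, pow_add]
          ring
      _ = _ := by rw [← h1]; ring
  have hK := kills_psp hp hf hF' hm hme hc
  rw [hF'] at hK
  have hdvd := dvd_aut S hC
  by_cases hp2 : p = 2
  · have hA : Nat.gcd 2 (p ^ f - 1) = 1 := by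
      have h3 : Odd (2 ^ f - 1) :=
        Nat.Even.sub_odd (Nat.one_le_pow _ _ (by norm_num)) (Nat.even_pow.2 ⟨even_two, by omega⟩) odd_one
      rw [hp2]
      exact Nat.coprime_two_left.2 h3
    rw [if_pos hp2] at ho
    subst ho
    rw [hA] at hcard hidx
    refine dead_of_socle hp hK hdvd haut Nat.card_pos hcard ⟨(p ^ f) ^ m * Nat.gcd 4 ((p ^ f) ^ m + 1), by ring⟩
      (N := f * m) (by rw [pow_mul, mul_assoc]; exact dvd_mul_right _ _) (c₀ := 1) (c₁ := 2 * f) (by ring)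
      (Nat.coprime_one_right p) (by omega) (by rw [hidx]; calc 2 * f * (1 * f) = 2 * f ^ 2 := by ring
                                                     _ < _ := hf3) ?_
    intro r hr h5 hrf hd
    rw [one_mul] at hd
    rcases hr.dvd_mul.1 hd with h | h
    · exact not_dvd_two_pow (k := 1) hr h5 h
    · exact hrf h
  · have hodd : Odd p := hp.odd_of_ne_two hp2
    rw [if_neg hp2] at ho
    have ho2 : ∃ k, o = 2 ^ k := by
      rw [ho]
      split_ifs
      · exact ⟨2, rfl⟩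
      · exact ⟨3, rfl⟩
    obtain ⟨k, hk⟩ := ho2
    obtain ⟨j, hj⟩ : ∃ j, Nat.gcd 2 (p ^ f - 1) = 2 ^ j := by
      rcases gcd_two_eq (a := p ^ f - 1) with h | h
      · exact ⟨0, h⟩
      · exact ⟨1, h⟩
    have hle : Nat.gcd 2 (p ^ f - 1) ≤ 2 := Nat.le_of_dvd (by norm_num) (Nat.gcd_dvd_left _ _)
    refine dead_of_socle hp hK hdvd haut Nat.card_pos hcard ⟨(p ^ f) ^ m * Nat.gcd 4 ((p ^ f) ^ m + 1), by ring⟩
      (N := f * m) (by rw [pow_mul, mul_assoc]; exact dvd_mul_right _ _) (c₀ := 2 ^ j * 2 ^ k) (c₁ := f) (by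
        rw [hj, hk]; ring) ?_ (by omega) ?_ ?_
    · have h3 : Nat.Coprime p 2 := Nat.coprime_two_right.2 hodd
      exact Nat.Coprime.mul_right (Nat.Coprime.pow_right _ h3) (Nat.Coprime.pow_right _ h3)
    · rw [hidx]
      calc f * (Nat.gcd 2 (p ^ f - 1) * f) ≤ f * (2 * f) := Nat.mul_le_mul_left _ (Nat.mul_le_mul_right _ hle)
        _ = 2 * f ^ 2 := by ring
        _ < _ := hf3
    · intro r hr h5 hrf hd
      rw [hj, hk] at hd
      rcases hr.dvd_mul.1 hd with h | h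
      · exact not_dvd_two_pow hr h5 h
      · rcases hr.dvd_mul.1 h with h | h
        · exact not_dvd_two_pow hr h5 h
        · exact hrf h

/-- **`PΩ⁻_2m(q)` in `Ω_{2m+1}(q)`** -/
theorem dead_odd_ominus (hm : 4 ≤ m) (hme : Even m) (hodd : Odd (Fintype.card F))
    (hc : center (POmega F (quadFormOdd m F)) = ⊥) {M : Subgroup (POmega F (quadFormOdd m F))}
    (hT : IsNamed (.oodd m (Fintype.card F)) (POmega F (quadFormOdd m F))) (h : AS (.ominus m (Fintype.card F)) M) :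
    Dead (POmega F (quadFormOdd m F)) M := by
  have : Finite (POmega F (quadFormOdd m F)) := Quotient.finite _
  obtain ⟨p, f, hp, hf, hF⟩ := (isPrimePow_nat_iff _).1 (Fintype.isPrimePow_card_of_field (α := F))
  rw [← hF] at h
  have hF' := hF.symm
  have hpF : Fact p.Prime := ⟨hp⟩
  obtain ⟨S, hSn, hSs, hna, hC, hS⟩ := h
  have h1 := hS.eq
  have h2 := hT.eq
  rw [← hF] at h2
  change Nat.gcd 4 ((p ^ f) ^ m + 1) * Nat.card S =
    (p ^ f) ^ (m * (m - 1)) * (((p ^ f) ^ m + 1) * prB (p ^ f) (m - 1)) at h1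
  change 2 * Nat.card (POmega F (quadFormOdd m F)) = (p ^ f) ^ (m ^ 2) * prB (p ^ f) m at h2
  have haut := aut_ominus hp hf hm hS.real
  have hoddp : Odd p := by
    rw [hF'] at hodd
    exact Nat.Odd.of_mul_left (m := p) (n := p ^ (f - 1)) (by
      rw [← pow_succ', Nat.sub_add_cancel (by omega)]; exact hodd)
  have hp2 : p ≠ 2 := by
    rintro rfl
    exact absurd hoddp (by decide)
  have hidx : (Inn (POmega F (quadFormOdd m F))).index = 2 * f :=
    index_inn_of_aut hc (Cfsg.Agent.S0816.result p f hf hF' hoddp m (by omega))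
  have hf2 : 2 * f ^ 2 < 16 ^ f := sq_lt_pow (by norm_num) (by norm_num) hf
  have hf3 : 2 * f ^ 2 < p ^ (f * m) := by
    refine hf2.trans_le ?_
    calc 16 ^ f = 2 ^ (f * 4) := by rw [mul_comm, pow_mul]; norm_num
      _ ≤ p ^ (f * 4) := Nat.pow_le_pow_left hp.two_le _
      _ ≤ p ^ (f * m) := Nat.pow_le_pow_right hp.pos (Nat.mul_le_mul_left _ hm)
  have hcard : 2 * Nat.card (POmega F (quadFormOdd m F)) =
      Nat.card S * ((p ^ f) ^ m * ((p ^ f) ^ m - 1) * Nat.gcd 4 ((p ^ f) ^ m + 1)) := by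
    rw [h2]
    calc (p ^ f) ^ (m ^ 2) * prB (p ^ f) m = (p ^ f) ^ m * ((p ^ f) ^ m - 1) *
          ((p ^ f) ^ (m * (m - 1)) * (((p ^ f) ^ m + 1) * prB (p ^ f) (m - 1))) := by
          obtain ⟨j, rfl⟩ : ∃ j, m = j + 1 := ⟨m - 1, by omega⟩
          rw [prB_succ, sq_sub_one, Nat.add_sub_cancel, show (j + 1) ^ 2 = (j + 1) + (j + 1) * j by ring, pow_add]
          ring
      _ = _ := by rw [← h1]; ring
  have hK := kills_odd hp hf hF' hp2 hm hme hc
  rw [hF'] at hK
  have hdvd := dvd_aut S hC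
  rw [if_neg hp2] at haut
  obtain ⟨k, hk⟩ : ∃ k, (if Even (m * (p ^ f - 1) / 2) then 4 else 8) = 2 ^ k := by
    split_ifs
    · exact ⟨2, rfl⟩
    · exact ⟨3, rfl⟩
  rw [hk] at haut
  refine dead_of_socle hp hK hdvd haut Nat.card_pos hcard ⟨(p ^ f) ^ m * Nat.gcd 4 ((p ^ f) ^ m + 1), by ring⟩
    (N := f * m) (by rw [pow_mul, mul_assoc]; exact dvd_mul_right _ _) (c₀ := 2 * 2 ^ k) (c₁ := f) (by ring) ?_
    (by omega) ?_ ?_
  · have h3 : Nat.Coprime p 2 := Nat.coprime_two_right.2 hoddp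
    exact Nat.Coprime.mul_right h3 (Nat.Coprime.pow_right _ h3)
  · rw [hidx]
    calc f * (2 * f) = 2 * f ^ 2 := by ring
      _ < _ := hf3
  · intro r hr h5 hrf hd
    rcases hr.dvd_mul.1 hd with h | h
    · exact not_dvd_two_pow (k := 1) hr h5 h
    · rcases hr.dvd_mul.1 h with h | h
      · exact not_dvd_two_pow hr h5 h
      · exact hrf h

theorem cop_gcd_four (hp : p.Prime) {a : ℕ} (h : p = 2 → Odd a) : Nat.Coprime p (Nat.gcd 4 a) := by
  by_cases hp2 : p = 2
  · subst hp2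
    have h1 : Nat.gcd 4 a = 1 := by
      have : Nat.Coprime 4 a := by
        rw [show (4 : ℕ) = 2 ^ 2 by norm_num]
        exact Nat.Coprime.pow_left _ (Nat.coprime_two_left.2 (h rfl))
      exact this
    rw [h1]
    exact Nat.coprime_one_right _
  · have h3 : Nat.Coprime p 2 := Nat.coprime_two_right.2 (hp.odd_of_ne_two hp2)
    rcases gcd_four_eq (a := a) with h | h | h <;> rw [h]
    · exact Nat.coprime_one_right _
    · exact h3
    · exact (Nat.Coprime.pow_right 2 h3)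

theorem cop_gcd_two (hp : p.Prime) {a : ℕ} (h : p = 2 → Odd a) : Nat.Coprime p (Nat.gcd 2 a) := by
  by_cases hp2 : p = 2
  · subst hp2
    have h1 : Nat.gcd 2 a = 1 := Nat.coprime_two_left.2 (h rfl)
    rw [h1]
    exact Nat.coprime_one_right _
  · have h3 : Nat.Coprime p 2 := Nat.coprime_two_right.2 (hp.odd_of_ne_two hp2)
    rcases gcd_two_eq (a := a) with h | h <;> rw [h]
    · exact Nat.coprime_one_right _
    · exact h3

theorem odd_pow_sub_one (hf : 1 ≤ f) {k : ℕ} (hk : 1 ≤ k) : Odd ((2 ^ f) ^ k - 1) := by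
  rw [← pow_mul]
  exact Nat.Even.sub_odd (Nat.one_le_pow _ _ (by norm_num))
    (Nat.even_pow.2 ⟨even_two, (Nat.mul_pos hf hk).ne'⟩) odd_one

theorem gcd_four_pow {a : ℕ} : ∃ k, Nat.gcd 4 a = 2 ^ k := by
  rcases gcd_four_eq (a := a) with h | h | h
  · exact ⟨0, h⟩
  · exact ⟨1, h⟩
  · exact ⟨2, h⟩

theorem gcd_two_pow {a : ℕ} : ∃ k, Nat.gcd 2 a = 2 ^ k := by
  rcases gcd_two_eq (a := a) with h | h
  · exact ⟨0, h⟩
  · exact ⟨1, h⟩

/-- **`PSp_{2m-2}(q)`, `Ω_{2m-1}(q)` in `PΩ⁺_2m(q)`** -/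
theorem dead_plus_psp (hm : 4 ≤ m) (hme : Even m)
    (hc : center (POmega F (quadFormPlus m F)) = ⊥) {M : Subgroup (POmega F (quadFormPlus m F))}
    (hT : IsNamed (.oplus m (Fintype.card F)) (POmega F (quadFormPlus m F)))
    (h : AS (.psp (m - 1) (Fintype.card F)) M ∨ AS (.oodd (m - 1) (Fintype.card F)) M) :
    Dead (POmega F (quadFormPlus m F)) M := by
  have : Finite (POmega F (quadFormPlus m F)) := Quotient.finite _
  obtain ⟨p, f, hp, hf, hF⟩ := (isPrimePow_nat_iff _).1 (Fintype.isPrimePow_card_of_field (α := F))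
  rw [← hF] at h
  have hF' := hF.symm
  have hpF : Fact p.Prime := ⟨hp⟩
  have h2 := hT.eq
  rw [← hF] at h2
  change Nat.gcd 4 ((p ^ f) ^ m - 1) * Nat.card (POmega F (quadFormPlus m F)) =
    (p ^ f) ^ (m * (m - 1)) * (((p ^ f) ^ m - 1) * prB (p ^ f) (m - 1)) at h2
  have hidx := out_plus_le hp hf hF' hm hc
  have hK := kills_plus hp hf hF' hm hme hc
  rw [hF'] at hK
  have hlt : f * (Inn (POmega F (quadFormPlus m F))).index < p ^ (f * (m - 1)) := by
    have h3 : p ^ (f * 3) ≤ p ^ (f * (m - 1)) := Nat.pow_le_pow_right hp.pos (Nat.mul_le_mul_left _ (by omega))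
    refine lt_of_lt_of_le ?_ h3
    refine (Nat.mul_le_mul_left f hidx).trans_lt ?_
    by_cases hp2 : p = 2
    · rw [if_pos hp2, hp2]
      calc f * (6 * f) = 6 * f ^ 2 := by ring
        _ < 8 ^ f := sq_lt_pow (by norm_num) (by norm_num) hf
        _ = 2 ^ (f * 3) := by rw [mul_comm, pow_mul]; norm_num
    · rw [if_neg hp2]
      have hp3 : 3 ≤ p := by have := hp.two_le; omega
      calc f * (24 * f) = 24 * f ^ 2 := by ring
        _ < 27 ^ f := sq_lt_pow (by norm_num) (by norm_num) hf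
        _ = 3 ^ (f * 3) := by rw [mul_comm, pow_mul]; norm_num
        _ ≤ p ^ (f * 3) := Nat.pow_le_pow_left hp3 _
  obtain ⟨i, hi⟩ := gcd_four_pow (a := (p ^ f) ^ m - 1)
  have hc4 : Nat.Coprime p (Nat.gcd 4 ((p ^ f) ^ m - 1)) := cop_gcd_four hp (fun h => by
    rw [h]; exact odd_pow_sub_one hf (by omega))
  have hexp : m * (m - 1) = (m - 1) ^ 2 + (m - 1) := by
    obtain ⟨j, rfl⟩ : ∃ j, m = j + 1 := ⟨m - 1, by omega⟩
    rw [Nat.add_sub_cancel]
    ring
  rcases h with ⟨S, hSn, hSs, hna, hC, hS⟩ | ⟨S, hSn, hSs, hna, hC, hS⟩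
  · have h1 := hS.eq
    change Nat.gcd 2 (p ^ f - 1) * Nat.card S = (p ^ f) ^ ((m - 1) ^ 2) * prB (p ^ f) (m - 1) at h1
    have haut := aut_psp hp hf (by omega) hS.real
    have hdvd := dvd_aut S hC
    obtain ⟨j, hj⟩ := gcd_two_pow (a := p ^ f - 1)
    have hc2 : Nat.Coprime p (Nat.gcd 2 (p ^ f - 1)) := cop_gcd_two hp (fun h => by
      rw [h, ← pow_one (2 ^ f)]; exact odd_pow_sub_one hf le_rfl)
    refine dead_of_socle hp hK hdvd haut Nat.card_pos (A := Nat.gcd 4 ((p ^ f) ^ m - 1))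
      (B := (p ^ f) ^ (m - 1) * ((p ^ f) ^ m - 1) * Nat.gcd 2 (p ^ f - 1)) ?_
      ⟨(p ^ f) ^ (m - 1) * Nat.gcd 2 (p ^ f - 1), by ring⟩
      (N := f * (m - 1)) (by rw [pow_mul, mul_assoc]; exact dvd_mul_right _ _)
      (c₀ := Nat.gcd 4 ((p ^ f) ^ m - 1) * Nat.gcd 2 (p ^ f - 1)) (c₁ := f) (by ring)
      (Nat.Coprime.mul_right hc4 hc2) (by omega) hlt ?_
    · rw [h2, hexp, pow_add]
      calc _ = (p ^ f) ^ (m - 1) * ((p ^ f) ^ m - 1) * ((p ^ f) ^ ((m - 1) ^ 2) * prB (p ^ f) (m - 1)) := by ring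
        _ = _ := by rw [← h1]; ring
    · intro r hr h5 hrf hd
      rw [hi, hj] at hd
      rcases hr.dvd_mul.1 hd with h | h
      · exact not_dvd_two_pow hr h5 h
      · rcases hr.dvd_mul.1 h with h | h
        · exact not_dvd_two_pow hr h5 h
        · exact hrf h
  · have h1 := hS.eq
    change 2 * Nat.card S = (p ^ f) ^ ((m - 1) ^ 2) * prB (p ^ f) (m - 1) at h1
    have hoddp : Odd p := by
      have hodd : Odd (p ^ f) := hS.cond.2.1
      exact Nat.Odd.of_mul_left (m := p) (n := p ^ (f - 1)) (by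
        rw [← pow_succ', Nat.sub_add_cancel (by omega)]; exact hodd)
    have haut := aut_oodd hp hf (by omega) hoddp hS.real
    have hdvd := dvd_aut S hC
    refine dead_of_socle hp hK hdvd haut Nat.card_pos (A := Nat.gcd 4 ((p ^ f) ^ m - 1))
      (B := (p ^ f) ^ (m - 1) * ((p ^ f) ^ m - 1) * 2) ?_
      ⟨(p ^ f) ^ (m - 1) * 2, by ring⟩
      (N := f * (m - 1)) (by rw [pow_mul, mul_assoc]; exact dvd_mul_right _ _)
      (c₀ := Nat.gcd 4 ((p ^ f) ^ m - 1) * 2) (c₁ := f) (by ring)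
      (Nat.Coprime.mul_right hc4 (Nat.coprime_two_right.2 hoddp)) (by omega) hlt ?_
    · rw [h2, hexp, pow_add]
      calc _ = (p ^ f) ^ (m - 1) * ((p ^ f) ^ m - 1) * ((p ^ f) ^ ((m - 1) ^ 2) * prB (p ^ f) (m - 1)) := by ring
        _ = _ := by rw [← h1]; ring
    · intro r hr h5 hrf hd
      rw [hi] at hd
      rcases hr.dvd_mul.1 hd with h | h
      · exact not_dvd_two_pow hr h5 h
      · rcases hr.dvd_mul.1 h with h | h
        · exact not_dvd_two_pow (k := 1) hr h5 h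
        · exact hrf h

theorem not_dvd_twentyfour {r c d : ℕ} (hr : r.Prime) (h5 : 5 ≤ r) (h : c ∣ 24 * 2 ^ d) : ¬ r ∣ c := by
  intro h1
  have h2 : r ∣ 3 * 2 ^ (d + 3) := (h1.trans h).trans (dvd_of_eq (by rw [pow_add]; ring))
  rcases hr.dvd_mul.1 h2 with h | h
  · have := Nat.le_of_dvd (by norm_num) h
    omega
  · exact not_dvd_two_pow hr h5 h

/-- **`G_2(q)` in `PΩ⁺_8(q)`** -/
theorem dead_plus_g2 (hc : center (POmega F (quadFormPlus 4 F)) = ⊥) {M : Subgroup (POmega F (quadFormPlus 4 F))}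
    (hT : IsNamed (.oplus 4 (Fintype.card F)) (POmega F (quadFormPlus 4 F)))
    (h : AS (.g2 (Fintype.card F)) M) : Dead (POmega F (quadFormPlus 4 F)) M := by
  have : Finite (POmega F (quadFormPlus 4 F)) := Quotient.finite _
  obtain ⟨p, f, hp, hf, hF⟩ := (isPrimePow_nat_iff _).1 (Fintype.isPrimePow_card_of_field (α := F))
  rw [← hF] at h
  have hF' := hF.symm
  have hpF : Fact p.Prime := ⟨hp⟩
  have h2 := hT.eq
  rw [← hF] at h2
  change Nat.gcd 4 ((p ^ f) ^ 4 - 1) * Nat.card (POmega F (quadFormPlus 4 F)) =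
    (p ^ f) ^ (4 * (4 - 1)) * (((p ^ f) ^ 4 - 1) * prB (p ^ f) (4 - 1)) at h2
  have hidx := out_plus_le hp hf hF' le_rfl hc
  have hK := kills_plus hp hf hF' le_rfl (by decide) hc
  rw [hF'] at hK
  obtain ⟨i, hi⟩ := gcd_four_pow (a := (p ^ f) ^ 4 - 1)
  have hc4 : Nat.Coprime p (Nat.gcd 4 ((p ^ f) ^ 4 - 1)) := cop_gcd_four hp (fun h => by
    rw [h]; exact odd_pow_sub_one hf (by omega))
  obtain ⟨S, hSn, hSs, hna, hC, hS⟩ := h
  have h1 := hS.eq
  change 1 * Nat.card S = (p ^ f) ^ 6 * (((p ^ f) ^ 2 - 1) * ((p ^ f) ^ 6 - 1)) at h1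
  obtain ⟨c, haut, hcd, hc2⟩ := aut_gen (d := 1) (e := f) hna hp hS ⟨f, rfl⟩ (fun X g h => dd_g2 h) rfl
  rw [mul_one] at hcd hc2
  have hcpos : 0 < c := Nat.pos_of_dvd_of_pos hcd (by norm_num)
  have hdvd := dvd_aut S hC
  have hprB : prB (p ^ f) 3 = ((p ^ f) ^ 2 - 1) * ((p ^ f) ^ 4 - 1) * ((p ^ f) ^ 6 - 1) := by
    simp only [prB_succ]
    unfold prB
    simp only [_root_.List.range_zero, _root_.List.map_nil, _root_.List.prod_nil, _root_.zero_add, _root_.mul_one, _root_.one_mul, _root_.Nat.reduceAdd, _root_.Nat.reduceMul]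
  refine dead_of_socle hp hK hdvd haut Nat.card_pos (A := Nat.gcd 4 ((p ^ f) ^ 4 - 1))
    (B := (p ^ f) ^ 6 * (((p ^ f) ^ 4 - 1) * ((p ^ f) ^ 4 - 1))) ?_
    ⟨(p ^ f) ^ 6 * ((p ^ f) ^ 4 - 1), by ring⟩
    (N := f * 6) (by rw [pow_mul]; exact dvd_mul_right _ _)
    (c₀ := Nat.gcd 4 ((p ^ f) ^ 4 - 1)) (c₁ := c * f) (by ring) hc4 (Nat.mul_pos hcpos (by omega)) ?_ ?_
  · rw [h2, show 4 - 1 = 3 by rfl, hprB]
    calc _ = (p ^ f) ^ 6 * (((p ^ f) ^ 4 - 1) * ((p ^ f) ^ 4 - 1)) *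
          ((p ^ f) ^ 6 * (((p ^ f) ^ 2 - 1) * ((p ^ f) ^ 6 - 1))) := by ring
      _ = _ := by rw [← h1]; ring
  · by_cases hp2 : p = 2
    · rw [if_pos hp2] at hidx
      have h3 := Nat.le_of_dvd (by norm_num) (hc2 hp2)
      calc c * f * (Inn (POmega F (quadFormPlus 4 F))).index ≤ 6 * f * (6 * f) :=
            Nat.mul_le_mul (Nat.mul_le_mul_right _ h3) hidx
        _ = 36 * f ^ 2 := by ring
        _ < 64 ^ f := sq_lt_pow (by norm_num) (by norm_num) hf
        _ = p ^ (f * 6) := by rw [hp2, mul_comm, pow_mul]; norm_num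
    · rw [if_neg hp2] at hidx
      have h3 := Nat.le_of_dvd (by norm_num) hcd
      have hp3 : 3 ≤ p := by have := hp.two_le; omega
      calc c * f * (Inn (POmega F (quadFormPlus 4 F))).index ≤ 24 * f * (24 * f) :=
            Nat.mul_le_mul (Nat.mul_le_mul_right _ h3) hidx
        _ = 576 * f ^ 2 := by ring
        _ < 729 ^ f := sq_lt_pow (by norm_num) (by norm_num) hf
        _ = 3 ^ (f * 6) := by rw [mul_comm, pow_mul]; norm_num
        _ ≤ p ^ (f * 6) := Nat.pow_le_pow_left hp3 _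
  · intro r hr h5 hrf hd
    rw [hi] at hd
    rcases hr.dvd_mul.1 hd with h | h
    · exact not_dvd_two_pow hr h5 h
    · rcases hr.dvd_mul.1 h with h | h
      · exact not_dvd_twentyfour (d := 0) hr h5 hcd h
      · exact hrf h

/-- **`PSL_2(q³)` in `PΩ⁺_8(q)`** -/
theorem dead_plus_psl (hc : center (POmega F (quadFormPlus 4 F)) = ⊥) {M : Subgroup (POmega F (quadFormPlus 4 F))}
    (hT : IsNamed (.oplus 4 (Fintype.card F)) (POmega F (quadFormPlus 4 F)))
    (h : AS (.psl 2 (Fintype.card F ^ 3)) M) : Dead (POmega F (quadFormPlus 4 F)) M := by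
  have : Finite (POmega F (quadFormPlus 4 F)) := Quotient.finite _
  obtain ⟨p, f, hp, hf, hF⟩ := (isPrimePow_nat_iff _).1 (Fintype.isPrimePow_card_of_field (α := F))
  rw [← hF] at h
  have hF' := hF.symm
  have hpF : Fact p.Prime := ⟨hp⟩
  have h2 := hT.eq
  rw [← hF] at h2
  change Nat.gcd 4 ((p ^ f) ^ 4 - 1) * Nat.card (POmega F (quadFormPlus 4 F)) =
    (p ^ f) ^ (4 * (4 - 1)) * (((p ^ f) ^ 4 - 1) * prB (p ^ f) (4 - 1)) at h2
  have hidx := out_plus_le hp hf hF' le_rfl hc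
  have hK := kills_plus hp hf hF' le_rfl (by decide) hc
  rw [hF'] at hK
  obtain ⟨i, hi⟩ := gcd_four_pow (a := (p ^ f) ^ 4 - 1)
  have hc4 : Nat.Coprime p (Nat.gcd 4 ((p ^ f) ^ 4 - 1)) := cop_gcd_four hp (fun h => by
    rw [h]; exact odd_pow_sub_one hf (by omega))
  obtain ⟨S, hSn, hSs, hna, hC, hS⟩ := h
  have h1 := hS.eq
  change Nat.gcd 2 ((p ^ f) ^ 3 - 1) * ((p ^ f) ^ 3 - 1) * Nat.card S = glN 2 ((p ^ f) ^ 3) at h1
  have hq3 : 2 ≤ (p ^ f) ^ 3 := by
    rw [← pow_mul]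
    calc 2 = 2 ^ 1 := by norm_num
      _ ≤ p ^ 1 := Nat.pow_le_pow_left hp.two_le _
      _ ≤ p ^ (f * 3) := Nat.pow_le_pow_right hp.pos (by omega)
  have h1' : Nat.gcd 2 ((p ^ f) ^ 3 - 1) * Nat.card S = (p ^ f) ^ 3 * ((p ^ f) ^ 6 - 1) := by
    have h3 : glN 2 ((p ^ f) ^ 3) = ((p ^ f) ^ 3 - 1) * ((p ^ f) ^ 3 * ((p ^ f) ^ 6 - 1)) := by
      unfold glN
      have e1 : (p ^ f) ^ 6 = ((p ^ f) ^ 3) ^ 2 := by rw [← pow_mul (p ^ f) 3 2]
      have e2 : ((p ^ f) ^ 3) ^ 2 - (p ^ f) ^ 3 = (p ^ f) ^ 3 * ((p ^ f) ^ 3 - 1) := by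
        rw [Nat.mul_sub, mul_one, sq]
      rw [List.range_succ, List.range_one]
      simp only [List.map_append, List.map_cons, List.map_nil, List.prod_append, List.prod_cons, List.prod_nil,
        pow_zero, pow_one, mul_one]
      rw [e2, e1]
      ring
    rw [h3] at h1
    have h4 : ((p ^ f) ^ 3 - 1) * (Nat.gcd 2 ((p ^ f) ^ 3 - 1) * Nat.card S) =
        ((p ^ f) ^ 3 - 1) * ((p ^ f) ^ 3 * ((p ^ f) ^ 6 - 1)) := by rw [← h1]; ring
    exact Nat.eq_of_mul_eq_mul_left (by omega) h4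
  obtain ⟨j, hj⟩ := gcd_two_pow (a := (p ^ f) ^ 3 - 1)
  have hj1 : Nat.gcd 2 ((p ^ f) ^ 3 - 1) ≤ 2 := Nat.le_of_dvd (by norm_num) (Nat.gcd_dvd_left _ _)
  obtain ⟨c, haut, hcd, hc2⟩ := aut_gen (d := Nat.gcd 2 ((p ^ f) ^ 3 - 1)) (e := f * 3) hna hp hS
    ⟨f * 3, by rw [pow_mul]⟩ (fun X g h => H349.BG.dd_psl h) (by rw [pow_mul]; rfl)
  have hcpos : 0 < c := Nat.pos_of_dvd_of_pos hcd (by rw [hj]; positivity)
  have hdvd := dvd_aut S hC
  have hprB : prB (p ^ f) 3 = ((p ^ f) ^ 2 - 1) * ((p ^ f) ^ 4 - 1) * ((p ^ f) ^ 6 - 1) := by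
    simp only [prB_succ]
    unfold prB
    simp only [_root_.List.range_zero, _root_.List.map_nil, _root_.List.prod_nil, _root_.zero_add, _root_.mul_one, _root_.one_mul, _root_.Nat.reduceAdd, _root_.Nat.reduceMul]
  refine dead_of_socle hp hK hdvd haut Nat.card_pos (A := Nat.gcd 4 ((p ^ f) ^ 4 - 1))
    (B := (p ^ f) ^ 9 * (((p ^ f) ^ 4 - 1) * ((p ^ f) ^ 4 - 1) * ((p ^ f) ^ 2 - 1) * Nat.gcd 2 ((p ^ f) ^ 3 - 1))) ?_
    ⟨(p ^ f) ^ 9 * (((p ^ f) ^ 4 - 1) * ((p ^ f) ^ 2 - 1) * Nat.gcd 2 ((p ^ f) ^ 3 - 1)), by ring⟩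
    (N := f * 9) (by rw [pow_mul]; exact dvd_mul_right _ _)
    (c₀ := Nat.gcd 4 ((p ^ f) ^ 4 - 1)) (c₁ := c * (f * 3)) (by ring) hc4 (Nat.mul_pos hcpos (by omega)) ?_ ?_
  · rw [h2, show 4 - 1 = 3 by rfl, hprB]
    calc _ = (p ^ f) ^ 9 * (((p ^ f) ^ 4 - 1) * ((p ^ f) ^ 4 - 1) * ((p ^ f) ^ 2 - 1)) *
          ((p ^ f) ^ 3 * ((p ^ f) ^ 6 - 1)) := by ring
      _ = _ := by rw [← h1']; ring
  · by_cases hp2 : p = 2
    · rw [if_pos hp2] at hidx
      have hg1 : Nat.gcd 2 ((p ^ f) ^ 3 - 1) = 1 := by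
        rw [hp2]
        exact Nat.coprime_two_left.2 (odd_pow_sub_one hf (by norm_num))
      rw [hg1] at hc2
      have h3 := Nat.le_of_dvd (by norm_num) (hc2 hp2)
      calc c * (f * 3) * (Inn (POmega F (quadFormPlus 4 F))).index ≤ 6 * 1 * (f * 3) * (6 * f) :=
            Nat.mul_le_mul (Nat.mul_le_mul_right _ h3) hidx
        _ = 108 * f ^ 2 := by ring
        _ < 512 ^ f := sq_lt_pow (by norm_num) (by norm_num) hf
        _ = p ^ (f * 9) := by rw [hp2, mul_comm, pow_mul]; norm_num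
    · rw [if_neg hp2] at hidx
      have h3 : c ≤ 48 := (Nat.le_of_dvd (by rw [hj]; positivity) hcd).trans (by omega)
      have hp3 : 3 ≤ p := by have := hp.two_le; omega
      calc c * (f * 3) * (Inn (POmega F (quadFormPlus 4 F))).index ≤ 48 * (f * 3) * (24 * f) :=
            Nat.mul_le_mul (Nat.mul_le_mul_right _ h3) hidx
        _ = 3456 * f ^ 2 := by ring
        _ < 19683 ^ f := sq_lt_pow (by norm_num) (by norm_num) hf
        _ = 3 ^ (f * 9) := by rw [mul_comm, pow_mul]; norm_num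
        _ ≤ p ^ (f * 9) := Nat.pow_le_pow_left hp3 _
  · intro r hr h5 hrf hd
    rw [hi] at hd
    rcases hr.dvd_mul.1 hd with h | h
    · exact not_dvd_two_pow hr h5 h
    · rcases hr.dvd_mul.1 h with h | h
      · rw [hj] at hcd
        exact not_dvd_twentyfour hr h5 hcd h
      · rcases hr.dvd_mul.1 h with h | h
        · exact hrf h
        · have := Nat.le_of_dvd (by norm_num) h
          omega

/-- **`Sz(8)` in `PΩ⁺_8(4)`** -/
theorem dead_plus_sz {T : Type} [Group T] [Finite T] [IsSimpleGroup T] (hnaT : ¬ ∀ x y : T, x * y = y * x)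
    {M : Subgroup T} (hT : IsNamed (.oplus 4 4) T) (h : AS (.sz 8) M) : Dead T M := by
  obtain ⟨S, hSn, hSs, hna, hC, hS⟩ := h
  have h1 : Nat.card (Cfsg.Out T) ≤ 24 * 1 * 2 := by
    refine H349.BG.out_le hnaT Nat.prime_two hT ⟨2, by norm_num⟩ (fun X f h => ?_) one_ne_zero (by rfl)
    rw [H349.BG.dd_oplus h]; norm_num
  have h3 : Nat.card T = 67010895544320000 := by
    rw [hT.ord]; decide +kernel
  have h4 : Nat.card S = 29120 := by
    rw [hS.ord]; decide +kernel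
  obtain ⟨c, haut, hcd, -⟩ := aut_gen (d := 1) (e := 3) hna Nat.prime_two hS ⟨3, by norm_num⟩
    (fun X g h => dd_sz h) (by rfl)
  have hcle := Nat.le_of_dvd (by norm_num) hcd
  have h5 := dvd_aut S hC
  rw [haut, h4] at h5
  have hc0 : 0 < c := Nat.pos_of_dvd_of_pos hcd (by norm_num)
  have h6 : Nat.card M ≤ 24 * 1 * 3 * 29120 :=
    (Nat.le_of_dvd (by positivity) h5).trans (Nat.mul_le_mul_right _ (Nat.mul_le_mul_right _ hcle))
  refine dead_of_index (center_eq_bot hnaT) ?_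
  have h7 := M.card_mul_index
  rw [h3] at h7
  have h8 : 30000000000 ≤ M.index := by
    by_contra hcon
    have h9 : Nat.card M * M.index ≤ (24 * 1 * 3 * 29120) * 29999999999 := Nat.mul_le_mul h6 (by omega)
    omega
  rw [h3]
  have h10 : (H57.BG.Inn T).index ≤ 48 := h1
  calc 67010895544320000 * (H57.BG.Inn T).index ≤ 67010895544320000 * 48 := Nat.mul_le_mul_left _ h10
    _ < 30000000000 ^ 2 := by norm_num
    _ ≤ M.index ^ 2 := Nat.pow_le_pow_left h8 2

end main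

end Cfsg.Agent.H57.BG
end
end

-- part: H57/BG/Pair
section
set_option linter.all false
open scoped Cfsg.Agent.FastGrp

/-!
# Abelian regular subgroups of almost simple primitive groups: a pair of non-adjacent primes (S3561, helper57)

The engine of `Cfsg.Agent.H257.El.Eng` for a proper subgroup `R` of `T` with `r ∣ |R|`, `r ∥ |T|`:

* `not_both` : if `chkPair n l r s = true` and `T` has no element of order `r s` then `r ∣ |R|`, `s ∣ |R|` is impossible;
* `row_of_pair` : hence `Row T` if `r ∥ |T|`, `s ∥ |T|`;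
* `exists_name` : the possible names for the top of `R`;
* `row_of_names` : `Row T` if for every possible name `g` no two squares of primes divide `|T| / |g|`.
-/

set_option autoImplicit false

namespace Cfsg.Agent.H57.BG

open Subgroup
open Cfsg.Agent.OrdDiv
open Cfsg.Agent.H257.El (Known okPow okPow_spec okPair okG surv Top exists_top card_quot_mul chkPair noOrd_of_noComm
  noOrd_of_cent noOrd_congr)

universe u

variable {T : Type u} [Group T]

/-- The situation. -/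
structure Sit (T : Type u) [Group T] (n : ℕ) (l : List (ℕ × ℕ)) (r : ℕ) (R : Subgroup T) : Prop where
  tab : OrderTable.{u}
  known : Known.{u}
  card : Nat.card T = n
  valid : OrdDiv.valid l n = true
  prime : r.Prime
  sq : ¬ r ^ 2 ∣ n
  ne : R ≠ ⊤
  dvd : r ∣ Nat.card R

namespace Sit

variable {n : ℕ} {l : List (ℕ × ℕ)} {r : ℕ} {R : Subgroup T} [Finite T]

omit [Finite T] in
theorem dvd_n (S : Sit T n l r R) : Nat.card R ∣ n := by
  rw [← S.card]
  exact Subgroup.card_subgroup_dvd_card R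

omit [Finite T] in
theorem sqR (S : Sit T n l r R) : ¬ r ^ 2 ∣ Nat.card R := fun h => S.sq (h.trans S.dvd_n)

theorem card_lt (S : Sit T n l r R) : Nat.card R < n := by
  rw [← S.card]
  refine lt_of_le_of_ne (Nat.le_of_dvd Nat.card_pos (Subgroup.card_subgroup_dvd_card R)) fun h => S.ne ?_
  exact Subgroup.eq_top_of_card_eq R h

theorem exists_top (S : Sit T n l r R) :
    ∃ (O : Subgroup R) (_ : O.Normal) (N : Subgroup (R ⧸ O)), Top R r O N :=
  H257.El.exists_top S.prime S.dvd S.sqR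

omit [Finite T] in
theorem noR {k : ℕ} (hno : ∀ z : T, orderOf z ≠ k) (z : R) : orderOf z ≠ k := by
  rw [← Subgroup.orderOf_coe]
  exact hno z

variable {O : Subgroup R} [O.Normal] {N : Subgroup (R ⧸ O)}

theorem dvd_simple (S : Sit T n l r R) (h : Top R r O N) {s : ℕ} (hs : s.Prime)
    (hno : ∀ z : T, orderOf z ≠ r * s) (hok : okPair n l r s = true) (hsR : s ∣ Nat.card R) : s ∣ Nat.card N := by
  unfold okPair at hok
  rw [Bool.and_eq_true, Bool.and_eq_true, Bool.and_eq_true] at hok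
  obtain ⟨⟨⟨h1, h2⟩, h3⟩, h4⟩ := hok
  have h1' : r ≠ s := by simpa using h1
  have h2' : ¬ s ∣ r - 1 := by
    intro hd
    rw [Nat.mod_eq_zero_of_dvd hd] at h2
    exact absurd h2 (by decide)
  exact h.dvd_simple hs h1' (noR hno) (fun _ hb hd => okPow_spec S.valid h4 hs hb (hd.trans S.dvd_n)) h2' hsR

theorem pow_dvd (S : Sit T n l r R) (h : Top R r O N) {s k : ℕ} (hs : s.Prime)
    (hno : ∀ z : T, orderOf z ≠ r * s) (hok : okPair n l r s = true) (hk : s ^ k ∣ Nat.card R) :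
    s ^ k ∣ Nat.card N := by
  unfold okPair at hok
  rw [Bool.and_eq_true, Bool.and_eq_true, Bool.and_eq_true] at hok
  obtain ⟨⟨⟨h1, h2⟩, h3⟩, h4⟩ := hok
  have h1' : r ≠ s := by simpa using h1
  have h2' : ¬ s ∣ r - 1 := by
    intro hd
    rw [Nat.mod_eq_zero_of_dvd hd] at h2
    exact absurd h2 (by decide)
  exact h.pow_dvd_iff hs h1' (noR hno) (fun _ hb hd => okPow_spec S.valid h4 hs hb (hd.trans S.dvd_n)) h2' hk

theorem card_dvd_R (_ : Top R r O N) : Nat.card N ∣ Nat.card R := by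
  refine (Subgroup.card_subgroup_dvd_card N).trans ?_
  rw [← card_quot_mul O]
  exact dvd_mul_right _ _

/-- a non-commutative `N` is in the list -/
theorem exists_surv (S : Sit T n l r R) (h : Top R r O N) (hna : ¬ ∀ a b : N, a * b = b * a) (ss : List ℕ)
    (hss : ∀ s ∈ ss, s ∣ Nat.card N) : ∃ g ∈ surv n l r ss, Real g N ∧ Nat.card N = ordN g := by
  have hsim := h.simple
  have hNR : Nat.card N ∣ Nat.card R := card_dvd_R h
  have hNn : Nat.card N ∣ n := hNR.trans S.dvd_n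
  obtain ⟨g, hg, hr, hc⟩ := exists_good S.tab (S.known N) hna S.valid hNn
  refine ⟨g, List.mem_filter.2 ⟨hg, ?_⟩, hr, hc⟩
  unfold okG
  rw [Bool.and_eq_true, Bool.and_eq_true, List.all_eq_true]
  refine ⟨⟨?_, ?_⟩, fun s hs => ?_⟩
  · rw [← hc, Nat.mod_eq_zero_of_dvd h.dvd]; rfl
  · rw [← hc]
    have h1 : Nat.card N ≤ Nat.card R := Nat.le_of_dvd Nat.card_pos hNR
    have h2 := S.card_lt
    have h3 : Nat.card N ≠ n := by omega
    simpa using h3
  · rw [← hc, Nat.mod_eq_zero_of_dvd (hss s hs)]; rfl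

end Sit

/-- **the possible names**: `r ∥ |T|` divides `|R|`, and for `s ∈ ss` (at least one): `s ∣ |R|`, no elements of order
`r s` -/
theorem exists_name [Finite T] (tab : OrderTable.{u}) (known : Known.{u}) {n : ℕ} {l : List (ℕ × ℕ)} {r : ℕ}
    (hn : Nat.card T = n) (hv : OrdDiv.valid l n = true) (hr : r.Prime) (hr2 : ¬ r ^ 2 ∣ n) (ss : List ℕ)
    (hne : ss ≠ []) (hno : ∀ s ∈ ss, s.Prime ∧ (∀ z : T, orderOf z ≠ r * s) ∧ okPair n l r s = true)
    {R : Subgroup T} (hR : R ≠ ⊤) (hrR : r ∣ Nat.card R) (hsR : ∀ s ∈ ss, s ∣ Nat.card R) :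
    ∃ (O : Subgroup R) (_ : O.Normal) (N : Subgroup (R ⧸ O)), Top R r O N ∧ ∃ g ∈ surv n l r ss, Real g N ∧
      Nat.card N = ordN g ∧ ordN g ∣ Nat.card R := by
  have S : Sit T n l r R := ⟨tab, known, hn, hv, hr, hr2, hR, hrR⟩
  obtain ⟨O, hO, N, h⟩ := S.exists_top
  obtain ⟨s, hs⟩ := List.exists_mem_of_ne_nil _ hne
  have h6 : ∀ s ∈ ss, s ∣ Nat.card N := fun s hs =>
    S.dvd_simple h (hno s hs).1 (hno s hs).2.1 (hno s hs).2.2 (hsR s hs)
  have hrs : r ≠ s := by
    have h4 := (hno s hs).2.2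
    unfold okPair at h4
    rw [Bool.and_eq_true, Bool.and_eq_true, Bool.and_eq_true] at h4
    simpa using h4.1.1.1
  obtain ⟨g, hg, hr, hc⟩ := S.exists_surv h (H257.El.Sit.not_comm_of_dvd h (hno s hs).1 hrs (h6 s hs)) ss h6
  exact ⟨O, hO, N, h, g, hg, hr, hc, hc ▸ Sit.card_dvd_R h⟩

/-- **two non-adjacent primes do not both divide the order of a proper subgroup** -/
theorem not_both [Finite T] (tab : OrderTable.{u}) (known : Known.{u}) {n : ℕ} {l : List (ℕ × ℕ)} {r s : ℕ}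
    (hn : Nat.card T = n) (hr : r.Prime) (hs : s.Prime) (hno : ∀ z : T, orderOf z ≠ r * s)
    (hchk : chkPair n l r s = true) {R : Subgroup T} (hR : R ≠ ⊤) (hrR : r ∣ Nat.card R)
    (hsR : s ∣ Nat.card R) : False := by
  unfold chkPair at hchk
  rw [Bool.and_eq_true, Bool.and_eq_true, Bool.and_eq_true, Bool.and_eq_true] at hchk
  obtain ⟨⟨⟨⟨h1, h2⟩, h3⟩, h4⟩, h5⟩ := hchk
  obtain ⟨O, hO, N, -, g, hg, -⟩ := exists_name tab known hn h1 hr (fun h => by
    rw [Nat.mod_eq_zero_of_dvd h] at h3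
    exact absurd h3 (by decide)) [s] (by simp) (fun t ht => by
      rw [List.mem_singleton] at ht
      subst ht
      exact ⟨hs, hno, h4⟩) hR hrR (fun t ht => by
      rw [List.mem_singleton] at ht
      subst ht
      exact hsR)
  rw [List.isEmpty_iff] at h5
  rw [h5] at hg
  simp at hg

/-- **Row**, for a pair of non-adjacent primes dividing `|T|` exactly once -/
theorem row_of_pair [Finite T] (tab : OrderTable.{u}) (known : Known.{u}) {n : ℕ} {l : List (ℕ × ℕ)} {r s : ℕ}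
    (hn : Nat.card T = n) (hr : r.Prime) (hs : s.Prime) (hno : ∀ z : T, orderOf z ≠ r * s)
    (hchk : chkPair n l r s = true) (hrn : r ∣ n) (hr2 : ¬ r ^ 2 ∣ n) (hsn : s ∣ n) (hs2 : ¬ s ^ 2 ∣ n) : Row T := by
  intro A L h
  exact not_both tab known hn hr hs hno hchk h.proper
    (h.dvd_card_of_sq hr (by rwa [hn]) (by rwa [hn])) (h.dvd_card_of_sq hs (by rwa [hn]) (by rwa [hn]))

/-- at most one square of a prime divides `k` (`l` the factorisation of a multiple of `k`) -/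
def oneSq (l : List (ℕ × ℕ)) (k : ℕ) : Bool :=
  l.all fun x => l.all fun y => (x.1 == y.1) || (k % x.1 ^ 2 != 0) || (k % y.1 ^ 2 != 0)

theorem Reg.false_of_oneSq [Finite T] {A : Subgroup (MulAut T)} {L : Subgroup T} (h : Reg A L) {n k : ℕ}
    {l : List (ℕ × ℕ)} (hn : Nat.card T = n) (hv : OrdDiv.valid l n = true) (hk : L.index ∣ k)
    (hl : oneSq l k = true) : False := by
  obtain ⟨r, s, hr, hs, hrs, hr2, hs2⟩ := h.exists_two_primes
  have hd : L.index ∣ n := by rw [← hn]; exact Subgroup.index_dvd_card L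
  obtain ⟨k1, hk1, -⟩ := OrdDiv.exists_pair hv hr (j := 1) le_rfl
    ((pow_dvd_pow r one_le_two).trans (hr2.trans hd))
  obtain ⟨k2, hk2, -⟩ := OrdDiv.exists_pair hv hs (j := 1) le_rfl
    ((pow_dvd_pow s one_le_two).trans (hs2.trans hd))
  unfold oneSq at hl
  rw [List.all_eq_true] at hl
  have h1 := hl _ hk1
  rw [List.all_eq_true] at h1
  have h2 := h1 _ hk2
  rw [Bool.or_eq_true, Bool.or_eq_true] at h2
  rcases h2 with (h2 | h2) | h2
  · exact hrs (by simpa using h2)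
  · rw [Nat.mod_eq_zero_of_dvd (hr2.trans hk)] at h2
    exact absurd h2 (by decide)
  · rw [Nat.mod_eq_zero_of_dvd (hs2.trans hk)] at h2
    exact absurd h2 (by decide)

/-- **the possible names for `L`** (`ss` non-empty, all primes in `ss` and `r` exactly once in `|T|`) -/
theorem Reg.exists_name [Finite T] {A : Subgroup (MulAut T)} {L : Subgroup T} (h : Reg A L)
    (tab : OrderTable.{u}) (known : Known.{u}) {n : ℕ} {l : List (ℕ × ℕ)} {r : ℕ}
    (hn : Nat.card T = n) (hv : OrdDiv.valid l n = true) (hr : r.Prime) (hrn : r ∣ n) (hr2 : ¬ r ^ 2 ∣ n)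
    (ss : List ℕ) (hne : ss ≠ [])
    (hno : ∀ s ∈ ss, s.Prime ∧ (s ∣ n ∧ ¬ s ^ 2 ∣ n) ∧ (∀ z : T, orderOf z ≠ r * s) ∧ okPair n l r s = true) :
    ∃ (O : Subgroup L) (_ : O.Normal) (N : Subgroup (L ⧸ O)), Top L r O N ∧ ∃ g ∈ surv n l r ss, Real g N ∧
      Nat.card N = ordN g ∧ ordN g ∣ Nat.card L ∧ L.index ∣ n / ordN g := by
  obtain ⟨O, hO, N, h1, g, hg, h2, h3, h4⟩ := BG.exists_name tab known hn hv hr hr2 ss hne
    (fun s hs => ⟨(hno s hs).1, (hno s hs).2.2⟩) h.proper (h.dvd_card_of_sq hr (by rwa [hn]) (by rwa [hn]))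
    (fun s hs => h.dvd_card_of_sq (hno s hs).1 (by rw [hn]; exact (hno s hs).2.1.1)
      (by rw [hn]; exact (hno s hs).2.1.2))
  refine ⟨O, hO, N, h1, g, hg, h2, h3, h4, ?_⟩
  have hpos : 0 < ordN g := by rw [← h3]; exact Nat.card_pos
  rw [← hn, ← L.card_mul_index]
  obtain ⟨c, hc⟩ := h4
  rw [hc, mul_assoc, Nat.mul_div_cancel_left _ hpos]
  exact dvd_mul_left _ _

/-- the check of `row_of_names` -/
def chkNames (n : ℕ) (l : List (ℕ × ℕ)) (r : ℕ) (ss : List ℕ) : Bool :=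
  OrdDiv.valid l n && (n % r == 0) && (n % r ^ 2 != 0) && (ss.all fun s => okPair n l r s && (n % s ^ 2 != 0)) &&
    (surv n l r ss).all fun g => oneSq l (n / ordN g)

/-- **Row**, if all the possible names have nearly square free index -/
theorem row_of_names [Finite T] (tab : OrderTable.{u}) (known : Known.{u}) {n : ℕ} {l : List (ℕ × ℕ)} {r : ℕ}
    (hn : Nat.card T = n) (hr : r.Prime) (ss : List ℕ) (hne : ss ≠ [])
    (hno : ∀ s ∈ ss, s.Prime ∧ (∀ z : T, orderOf z ≠ r * s)) (hchk : chkNames n l r ss = true) : Row T := by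
  intro A L h
  unfold chkNames at hchk
  rw [Bool.and_eq_true, Bool.and_eq_true, Bool.and_eq_true, Bool.and_eq_true, List.all_eq_true,
    List.all_eq_true] at hchk
  obtain ⟨⟨⟨⟨h1, h2⟩, h3⟩, h4⟩, h5⟩ := hchk
  obtain ⟨O, hO, N, -, g, hg, -, -, -, hd⟩ := h.exists_name tab known hn h1 hr
    (Nat.dvd_of_mod_eq_zero (by simpa using h2)) (fun h => by
      rw [Nat.mod_eq_zero_of_dvd h] at h3
      exact absurd h3 (by decide)) ss hne (fun s hs => by
      have h6 := h4 s hs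
      rw [Bool.and_eq_true] at h6
      refine ⟨(hno s hs).1, ⟨?_, fun h => ?_⟩, (hno s hs).2, h6.1⟩
      · have h7 := h6.1
        unfold okPair at h7
        rw [Bool.and_eq_true, Bool.and_eq_true, Bool.and_eq_true] at h7
        exact Nat.dvd_of_mod_eq_zero (by simpa using h7.1.2)
      · have h7 := h6.2
        rw [Nat.mod_eq_zero_of_dvd h] at h7
        exact absurd h7 (by decide))
  exact h.false_of_oneSq hn h1 hd (h5 g hg)

end Cfsg.Agent.H57.BG
end

-- part: H567/BGr/Tools_mg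
section
set_option linter.all false
open scoped Cfsg.Agent.FastGrp

-- part: H567/BGr/Tools
section
/-!
# S3561, rows of sporadic groups: tools (helper567)

* `center_spor` : trivial centre;
* `index_inn` : `|Out|` is 1 or 2 for the sporadic groups;
* `sq_two_three` : if 2 and 3 are the only primes whose square divides `|T|` then 4 and 9 divide `|T : L|`;
* `exists_invol` : an involution in `inner A`.
-/

set_option autoImplicit false

namespace Cfsg.Agent.H567.BGr

open Subgroup Cfsg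
open Cfsg.Agent.H57.BG

universe u

variable {T : Type u} [Group T]

theorem center_spor (h : IsSporadicGroup T) {n : ℕ} (hn : Nat.card T = n) (hn1 : ¬ n.Prime) : center T = ⊥ := by
  have hs : IsSimpleGroup T := H123.SporSimple.spor_simple h
  rcases (inferInstance : (center T).Normal).eq_bot_or_eq_top with h1 | h1
  · exact h1
  · exfalso
    apply hn1
    rw [← hn]
    have hc : ∀ a b : T, a * b = b * a := fun a b => mem_center_iff.1 (h1 ▸ mem_top b : b ∈ center T) a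
    let _ : CommGroup T := { ‹Group T› with mul_comm := hc }
    exact IsSimpleGroup.prime_card (α := T)

theorem index_inn (h : IsSporadicGroup T) [Finite T] : (Inn T).index = 1 ∨ (Inn T).index = 2 := by
  have h1 : (Inn T).index ≤ 2 := H489.card_out_sporadic h
  have h2 : (Inn T).index ≠ 0 := Subgroup.index_ne_zero_of_finite
  omega

theorem sq_two_three [Finite T] {A : Subgroup (MulAut T)} {L : Subgroup T} (h : Reg A L) {n N : ℕ}
    (hn : Nat.card T = n) (hN : n < N ^ 2) (hn0 : 0 < n)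
    (hc : ∀ r < N, 2 ≤ r → n % r ^ 2 = 0 → r % 2 = 0 ∨ r % 3 = 0) :
    2 ^ 2 ∣ L.index ∧ 3 ^ 2 ∣ L.index := by
  have key : ∀ r : ℕ, r.Prime → r ^ 2 ∣ L.index → r = 2 ∨ r = 3 := by
    intro r hr hd
    have h1 : r ^ 2 ∣ n := by
      rw [← hn]
      exact hd.trans (Subgroup.index_dvd_card L)
    have h2 : r < N := by
      by_contra hge
      push Not at hge
      have h3 := Nat.le_of_dvd hn0 h1
      have h4 : N ^ 2 ≤ r ^ 2 := Nat.pow_le_pow_left hge 2
      omega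
    rcases hc r h2 hr.two_le (Nat.mod_eq_zero_of_dvd h1) with h3 | h3
    · exact Or.inl ((Nat.prime_dvd_prime_iff_eq Nat.prime_two hr).1 (Nat.dvd_of_mod_eq_zero h3)).symm
    · exact Or.inr ((Nat.prime_dvd_prime_iff_eq Nat.prime_three hr).1 (Nat.dvd_of_mod_eq_zero h3)).symm
  obtain ⟨r, s, hr, hs, hrs, hr2, hs2⟩ := h.exists_two_primes
  rcases key r hr hr2 with h1 | h1 <;> rcases key s hs hs2 with h2 | h2
  · exact absurd (h1.trans h2.symm) hrs
  · rw [h1] at hr2
    rw [h2] at hs2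
    exact ⟨hr2, hs2⟩
  · rw [h1] at hr2
    rw [h2] at hs2
    exact ⟨hs2, hr2⟩
  · exact absurd (h1.trans h2.symm) hrs

/-- If the index is divisible by 4 and by `m`, then some involution `z` has `m ∣ 2 |C(z)|`. -/
theorem exists_invol [Finite T] {A : Subgroup (MulAut T)} {L : Subgroup T} (h : Reg A L) (hs : IsSporadicGroup T)
    (hc : center T = ⊥) (h4 : 2 ^ 2 ∣ L.index) {m : ℕ} (hm : m ∣ L.index) :
    ∃ z : T, orderOf z = 2 ∧ m ∣ 2 * Nat.card (centralizer ({z} : Set T)) := by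
  have h1 := index_inn hs
  obtain ⟨z, hz, hz2⟩ := h.exists_inner hc Nat.prime_two h4 (by rcases h1 with h1 | h1 <;> rw [h1] <;> norm_num)
  refine ⟨z, hz2, hm.trans ((h.index_dvd_cent hc (X := {z}) (by simpa using hz)).trans ?_)⟩
  rw [mul_comm]
  exact Nat.mul_dvd_mul (by rcases h1 with h1 | h1 <;> rw [h1] <;> norm_num) dvd_rfl

end Cfsg.Agent.H567.BGr
end

-- part: H451/BG/Tool
section
/-!
# Abelian regular subgroups of almost simple primitive groups (S3561, helper451): tools for the sporadic rows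
-/

set_option autoImplicit false

namespace Cfsg.Agent.H451.BG

open Subgroup
open Cfsg.Agent.OrdDiv
open Cfsg.Agent.H57.BG
open Cfsg.Agent.H257.El (Known okPow okPow_spec okPair okG surv Top exists_top card_quot_mul chkPair noOrd_of_noComm
  noOrd_of_cent noOrd_congr)

universe u v

/-- `|Out|` under isomorphisms -/
theorem inn_index_congr {S : Type u} {S' : Type v} [Group S] [Group S'] (e : S ≃* S') :
    (Inn S).index = (Inn S').index := by
  have h : (Inn S).map (MulAut.congr e : MulAut S →* MulAut S') = Inn S' := by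
    ext x
    constructor
    · rintro ⟨_, ⟨s, rfl⟩, rfl⟩
      exact ⟨e s, (congr_conj e s).symm⟩
    · rintro ⟨s, rfl⟩
      exact ⟨MulAut.conj (e.symm s), ⟨e.symm s, rfl⟩, by
        rw [show ((MulAut.congr e : MulAut S →* MulAut S') (MulAut.conj (e.symm s))) =
          MulAut.congr e (MulAut.conj (e.symm s)) from rfl, congr_conj, e.apply_symm_apply]⟩
  rw [← h]
  exact (Subgroup.index_map_equiv _ (MulAut.congr e)).symm

theorem center_congr {S : Type u} {S' : Type v} [Group S] [Group S'] (e : S ≃* S') (h : center S' = ⊥) :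
    center S = ⊥ := by
  rw [Subgroup.eq_bot_iff_forall]
  intro x hx
  have h1 : e x ∈ center S' := by
    rw [mem_center_iff] at hx ⊢
    intro y
    obtain ⟨y, rfl⟩ := e.surjective y
    rw [← map_mul, ← map_mul, hx y]
  rw [h, mem_bot] at h1
  exact e.injective (h1.trans (map_one e).symm)

theorem cent_congr {S : Type u} {S' : Type v} [Group S] [Group S'] (e : S ≃* S') (x : S) :
    Nat.card (centralizer ({x} : Set S)) = Nat.card (centralizer ({e x} : Set S')) := by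
  refine Nat.card_congr (Equiv.subtypeEquiv e.toEquiv fun y => ?_)
  rw [mem_centralizer_singleton_iff]
  change _ ↔ e y ∈ centralizer ({e x} : Set S')
  rw [mem_centralizer_singleton_iff, ← map_mul, ← map_mul]
  exact e.injective.eq_iff.symm

/-- the exponents -/
theorem pow_dvd_of {p a c m i : ℕ} (hp : p.Prime) (hm0 : m ≠ 0) (h : p ^ (a + c) ∣ m * i) (hm : ¬ p ^ (a + 1) ∣ m) :
    p ^ c ∣ i := by
  obtain ⟨j, m', hm', rfl⟩ := Nat.exists_eq_pow_mul_and_not_dvd hm0 p hp.one_lt.ne'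
  have hj : j ≤ a := by
    by_contra hcon
    exact hm ((pow_dvd_pow p (by omega)).trans (dvd_mul_right _ _))
  have h1 : p ^ j * p ^ c ∣ p ^ j * (m' * i) := by
    rw [← pow_add, ← mul_assoc]
    exact (pow_dvd_pow p (by omega)).trans h
  have h2 := Nat.dvd_of_mul_dvd_mul_left (pow_pos hp.pos _) h1
  exact (Nat.Coprime.pow_left c ((Nat.Prime.coprime_iff_not_dvd hp).2 hm')).dvd_of_dvd_mul_left h2

/-- the order of a subgroup has the same `s`-part as the simple group at its top; so the index is divisible by `s ^ c` -/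
theorem Reg.pow_dvd_index {T : Type u} [Group T] [Finite T] {A : Subgroup (MulAut T)} {L : Subgroup T} (h : Reg A L)
    (tab : OrderTable.{u}) (known : Known.{u}) {n : ℕ} {l : List (ℕ × ℕ)} {r : ℕ}
    (hn : Nat.card T = n) (hv : OrdDiv.valid l n = true) (hr : r.Prime) (hrn : r ∣ n) (hr2 : ¬ r ^ 2 ∣ n)
    {O : Subgroup L} [O.Normal] {N : Subgroup (L ⧸ O)} (hT : Top L r O N) {s a c : ℕ} (hs : s.Prime)
    (hno : ∀ z : T, orderOf z ≠ r * s) (hok : okPair n l r s = true) (hk : s ^ (a + c) ∣ n)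
    (hN : ¬ s ^ (a + 1) ∣ Nat.card N) : s ^ c ∣ L.index := by
  have S : Sit T n l r L := ⟨tab, known, hn, hv, hr, hr2, h.proper, h.dvd_card_of_sq hr (by rwa [hn]) (by rwa [hn])⟩
  refine pow_dvd_of (m := Nat.card L) hs Nat.card_pos.ne' (a := a) ?_ fun h1 => hN ?_
  · rw [L.card_mul_index, hn]
    exact hk
  · exact S.pow_dvd hT hs hno hok h1

/-- an element of the top lifts -/
theorem exists_orderOf {T : Type u} [Group T] [Finite T] {L : Subgroup T} {O : Subgroup L} [O.Normal]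
    {N : Subgroup (L ⧸ O)} {k : ℕ} (h : ∃ x : N, orderOf x = k) : ∃ z : T, orderOf z = k := by
  obtain ⟨x, hx⟩ := h
  obtain ⟨y, hy⟩ := QuotientGroup.mk'_surjective O (x : L ⧸ O)
  have h1 : orderOf (x : L ⧸ O) ∣ orderOf y := by
    rw [← hy]
    exact orderOf_map_dvd _ _
  rw [Subgroup.orderOf_coe, hx] at h1
  obtain ⟨m, hm⟩ := h1
  have h0 : 0 < orderOf y := orderOf_pos y
  have hm0 : m ≠ 0 := by
    rintro rfl
    rw [mul_zero] at hm
    omega
  refine ⟨((y ^ m : L) : T), ?_⟩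
  rw [Subgroup.orderOf_coe, orderOf_pow_of_dvd hm0 (by rw [hm]; exact dvd_mul_left _ _), hm,
    Nat.mul_div_cancel _ (Nat.pos_of_ne_zero hm0)]

/-- the check of `row_conway` -/
def chkC (n : ℕ) (l : List (ℕ × ℕ)) (b : ℕ) : Bool :=
  OrdDiv.valid l n && (n % 23 == 0) && (n % 23 ^ 2 != 0) && (n % 7 == 0) && (n % 7 ^ 2 != 0) && okPair n l 23 7 &&
    okPair n l 23 5 && okPair n l 23 3 && (n % 5 ^ 3 == 0) && (n % 3 ^ (b + 2) == 0) &&
    (surv n l 23 [7]).all fun g => (ordN g % 5 ^ 2 != 0) && (ordN g % 3 ^ (b + 1) != 0)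

/-- **Row**, the Conway groups `Co2`, `Co3` -/
theorem row_conway {T : Type u} [Group T] [Finite T] (tab : OrderTable.{u}) (known : Known.{u}) {n b : ℕ}
    {l : List (ℕ × ℕ)} (hn : Nat.card T = n) (hc : center T = ⊥) (hout : (Inn T).index = 1)
    (h23 : ∀ x : T, orderOf x = 23 → Nat.card (centralizer ({x} : Set T)) = 23)
    (h5 : ∀ x : T, orderOf x = 5 → ¬ 9 ∣ Nat.card (centralizer ({x} : Set T))) (hchk : chkC n l b = true) :
    Row T := by
  intro A L h
  unfold chkC at hchk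
  simp only [Bool.and_eq_true, beq_iff_eq, bne_iff_ne, ne_eq, List.all_eq_true] at hchk
  obtain ⟨⟨⟨⟨⟨⟨⟨⟨⟨⟨c1, c2⟩, c3⟩, c4⟩, c5⟩, c6⟩, c7⟩, c8⟩, c9⟩, c10⟩, c11⟩ := hchk
  have p23 : Nat.Prime 23 := by norm_num
  have p7 : Nat.Prime 7 := by norm_num
  have p5 : Nat.Prime 5 := by norm_num
  have p3 : Nat.Prime 3 := by norm_num
  have d23 : 23 ∣ n := Nat.dvd_of_mod_eq_zero c2
  have e23 : ¬ 23 ^ 2 ∣ n := fun h => c3 (Nat.mod_eq_zero_of_dvd h)
  obtain ⟨O, hO, N, hT, g, hg, -, hgN, -, -⟩ := h.exists_name tab known hn c1 p23 d23 e23 [7] (by simp) (by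
    intro s hs
    rw [List.mem_singleton] at hs
    subst hs
    exact ⟨p7, ⟨Nat.dvd_of_mod_eq_zero c4, fun h => c5 (Nat.mod_eq_zero_of_dvd h)⟩,
      noOrd_of_cent p23 h23 p7 (by norm_num), c6⟩)
  obtain ⟨g1, g2⟩ := c11 g hg
  have i5 : 5 ^ 2 ∣ L.index := Reg.pow_dvd_index h tab known hn c1 p23 d23 e23 hT (a := 1) (c := 2) p5
    (noOrd_of_cent p23 h23 p5 (by norm_num)) c7 (Nat.dvd_of_mod_eq_zero c9) fun h => g1 (by
      rw [hgN] at h
      exact Nat.mod_eq_zero_of_dvd h)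
  have i3 : 3 ^ 2 ∣ L.index := Reg.pow_dvd_index h tab known hn c1 p23 d23 e23 hT (a := b) (c := 2) p3
    (noOrd_of_cent p23 h23 p3 (by norm_num)) c8 (Nat.dvd_of_mod_eq_zero c10) fun h => g2 (by
      rw [hgN] at h
      exact Nat.mod_eq_zero_of_dvd h)
  obtain ⟨z, hz, hzo⟩ := h.exists_inner hc (p := 5) (k := 2) p5 i5 (by rw [hout]; norm_num)
  have h1 := h.index_dvd_cent hc (X := {z}) (by simpa using hz)
  rw [hout, mul_one] at h1
  exact h5 z hzo ((show (9 : ℕ) = 3 ^ 2 by norm_num) ▸ i3.trans h1)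

end Cfsg.Agent.H451.BG
end
end

-- part: H567/BGr/SuzRow_mg
section
set_option linter.all false
open scoped Cfsg.Agent.FastGrp

-- part: H567/BGr/SuzRow
section
/-!
# S3561: the row of the Suzuki sporadic group (helper567)

A proper subgroup of order divisible by 11 and 13 has a section `A13`, with elements of order 35.
-/

set_option autoImplicit false

namespace Cfsg.Agent.H567.BGr

open Subgroup Cfsg
open Cfsg.Agent.OrdDiv
open Cfsg.Agent.H57.BG
open Cfsg.Agent.H257.El (Known okPair surv chkPair noOrd_of_noComm noOrd_of_cent noOrd_congr)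

universe u

/-- `A13` has an element of order 35. -/
theorem alt_thirteen : ∃ z : alternatingGroup (Fin 13), orderOf z = 5 * 7 := by
  let c : Equiv.Perm (Fin 13) := c[0, 1, 2, 3, 4] * c[5, 6, 7, 8, 9, 10, 11]
  have hc : c ∈ alternatingGroup (Fin 13) := by
    rw [Equiv.Perm.mem_alternatingGroup]
    decide +kernel
  refine ⟨⟨c, hc⟩, ?_⟩
  rw [Subgroup.orderOf_mk]
  refine orderOf_eq_of_pow_and_pow_div_prime (by norm_num) (by decide +kernel) ?_
  intro p hp hd
  rcases (Nat.Prime.dvd_mul hp).1 hd with h | h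
  · rw [(Nat.prime_dvd_prime_iff_eq hp (by norm_num)).1 h]
    decide +kernel
  · rw [(Nat.prime_dvd_prime_iff_eq hp (by norm_num)).1 h]
    decide +kernel

theorem surv_suz : surv 448345497600 [(2, 13), (3, 7), (5, 2), (7, 1), (11, 1), (13, 1)] 13 [11] = [Grp.alt 13] := by
  decide +kernel

theorem row_suz (tab : OrderTable.{u}) (known : Known.{u}) {T : Type u} [Group T] (h : Spor.IsoSuz T) : Row T := by
  have hn := NotCT.Orders.suz h
  have : Finite T := Nat.finite_of_card_ne_zero (by rw [hn]; norm_num)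
  obtain ⟨e⟩ := id h
  have : Finite Spor.Suz := Finite.of_equiv _ e.toEquiv
  intro A L hr
  obtain ⟨O, hO, N, htop, g, hg, hreal, -, -, -⟩ := hr.exists_name tab known
    (l := [(2, 13), (3, 7), (5, 2), (7, 1), (11, 1), (13, 1)]) (r := 13) hn (by decide +kernel) (by norm_num)
    (by norm_num) (by norm_num) [11] (by simp) (fun s hs => by
      rw [List.mem_singleton] at hs
      subst hs
      refine ⟨by norm_num, ⟨by norm_num, by norm_num⟩, ?_, by decide +kernel⟩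
      exact noOrd_congr e (noOrd_of_cent (by norm_num) (fun x hx => H153.Zeros.card_cent_suz hx)
        (by norm_num) (by norm_num)))
  rw [surv_suz, List.mem_singleton] at hg
  subst hg
  obtain ⟨φ⟩ := hreal
  obtain ⟨z, hz⟩ := alt_thirteen
  obtain ⟨w, hw⟩ := H257.El.Sit.exists_orderOf (T := T) (R := L) (O := O) (N := N) (k := 5 * 7)
    ⟨φ.symm z, by rw [MulEquiv.orderOf_eq, hz]⟩
  exact H361.Alt.SuzF.no_35 h w hw

end Cfsg.Agent.H567.BGr
end

-- part: H451/BG/Fi22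
section
/-!
# Abelian regular subgroups of almost simple primitive groups (S3561, helper451): `Fi22`
-/

set_option autoImplicit false
set_option maxRecDepth 100000

namespace Cfsg.Agent.H451.BG

open Subgroup Cfsg
open Cfsg.Agent.OrdDiv
open Cfsg.Agent.H57.BG
open Cfsg.Agent.H257.El (Known noOrd_of_noComm noOrd_congr surv Top)
open Cfsg.Agent.LThreeFi22 Cfsg.Agent.LThreeFi22.Inst

universe u v

/-- no element of order 35 -/
theorem no35_fi22 {K : Type v} [Group K] (e : K ≃* Spor.Fi22) (z : K) : orderOf z ≠ 35 := by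
  intro hz
  have C := Inst.ctx e
  have hfin : Finite K := Nat.finite_of_card_ne_zero (by rw [C.card]; norm_num)
  set T : Set K := Cfsg.Agent.KFacts.FiTT.TK e with hT
  have hu : orderOf (z ^ 7) = 5 := by
    rw [orderOf_pow_of_dvd (by norm_num) (by rw [hz]; norm_num), hz]
  have hv : orderOf (z ^ 5) = 7 := by
    rw [orderOf_pow_of_dvd (by norm_num) (by rw [hz]; norm_num), hz]
  have huv : z ^ 5 * z ^ 7 = z ^ 7 * z ^ 5 := ((Commute.refl z).pow_pow 5 7).eq
  generalize z ^ 7 = u at hu huv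
  generalize z ^ 5 = v at hv huv
  have hu5 : u ^ 5 = 1 := by rw [← hu, pow_orderOf_eq_one]
  have hu1 : u ≠ 1 := by rintro rfl; rw [orderOf_one] at hu; norm_num at hu
  have hv7 : v ^ 7 = 1 := by rw [← hv, pow_orderOf_eq_one]
  have hv1 : v ≠ 1 := by rintro rfl; rw [orderOf_one] at hv; norm_num at hv
  obtain ⟨d0, hd0, hd0'⟩ := C.ex5 u hu5 hu1
  have h10 := (C.five_far hu5 hu1 (d := d0) ⟨hd0, hd0'⟩).1
  have key : ∀ S : Set K, (∀ s ∈ S, v * s * v⁻¹ ∈ S) → ¬ 7 ∣ S.ncard → ∃ s ∈ S, v * s = s * v := by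
    intro S hS h7
    by_contra hcon
    push Not at hcon
    apply h7
    have h := fix_modEq (r := 7) (by norm_num) hv7 (S := S) hS
    have h4 : {s | s ∈ S ∧ v * s = s * v} = ∅ := by
      rw [Set.eq_empty_iff_forall_notMem]
      rintro s ⟨hs, hs3⟩
      exact hcon s hs hs3
    rw [h4, Set.ncard_empty] at h
    exact (Nat.modEq_zero_iff_dvd).1 h
  obtain ⟨d, hd, hvd⟩ := key (Fx T u) (fun s hs => C.fx_conj huv hs) (by rw [h10]; norm_num)
  have h3 := C.five_link hu5 hu1 hd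
  obtain ⟨c, ⟨hc, hcd, hdc⟩, hvc⟩ := key {c | c ∈ Fx T u ∧ c ≠ d ∧ d * c = c * d} (by
    rintro c ⟨hc, hcd, hdc⟩
    refine ⟨C.fx_conj huv hc, fun h => hcd ?_, conj_of_comm hvd hdc⟩
    have h4 : v * c = d * v := mul_inv_eq_iff_eq_mul.1 h
    rw [← hvd] at h4
    exact mul_left_cancel h4) (by rw [h3]; norm_num)
  exact C.iso7 7 (Or.inl rfl) v hv7 hv1 d hd.1 hvd c hc.1 hcd hdc hvc

/-- an element of order 35 in `A₁₃` -/
theorem exists35 : ∃ x : ↥(alternatingGroup (Fin 13)), orderOf x = 35 := by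
  let s : Equiv.Perm (Fin 13) := (List.formPerm [0, 1, 2, 3, 4]) * (List.formPerm [5, 6, 7, 8, 9, 10, 11])
  have hs : Equiv.Perm.sign s = 1 := by decide +kernel
  refine ⟨⟨s, hs⟩, ?_⟩
  rw [← Subgroup.orderOf_coe]
  change orderOf s = 35
  have h1 : s ^ 35 = 1 := by decide +kernel
  have h2 : s ^ 5 ≠ 1 := by decide +kernel
  have h3 : s ^ 7 ≠ 1 := by decide +kernel
  have h4 : orderOf s ∣ 35 := orderOf_dvd_of_pow_eq_one h1
  have h5 : orderOf s ∈ Nat.divisors 35 := Nat.mem_divisors.2 ⟨h4, by norm_num⟩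
  rw [show Nat.divisors 35 = {1, 5, 7, 35} by decide +kernel] at h5
  simp only [Finset.mem_insert, Finset.mem_singleton] at h5
  rcases h5 with h5 | h5 | h5 | h5
  · exfalso
    apply h2
    rw [orderOf_eq_one_iff.1 h5, one_pow]
  · exact absurd (by rw [← h5, pow_orderOf_eq_one]) h2
  · exact absurd (by rw [← h5, pow_orderOf_eq_one]) h3
  · exact h5

theorem surv_fi22 : surv 64561751654400 [(2, 17), (3, 9), (5, 2), (7, 1), (11, 1), (13, 1)] 13 [11] =
    [.alt 13, .suz] := by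
  decide +kernel

theorem row_fi22 (tab : OrderTable.{u}) (known : Known.{u}) {T : Type u} [Group T] (h : Spor.IsoFi22 T) :
    Row T := by
  have hn := NotCT.Orders.fi22 h
  have : Finite T := Nat.finite_of_card_ne_zero (by rw [hn]; norm_num)
  obtain ⟨e⟩ := h
  intro A L hr
  have p13 : Nat.Prime 13 := by norm_num
  have p11 : Nat.Prime 11 := by norm_num
  have no143 : ∀ z : T, orderOf z ≠ 13 * 11 := noOrd_of_noComm p13 p11 fun x y hx hy hxy => by
    have h1 := PreUniqCo.FiTwentyTwo.thirteen e hx hxy.symm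
    have h2 := orderOf_dvd_of_pow_eq_one h1
    rw [hy] at h2
    norm_num at h2
  obtain ⟨O, hO, N, hT, g, hg, hreal, hgN, hgL, hidx⟩ := hr.exists_name tab known (r := 13)
    (l := [(2, 17), (3, 9), (5, 2), (7, 1), (11, 1), (13, 1)]) hn (by decide +kernel) p13 (by norm_num) (by norm_num)
    [11] (by simp) (by
      intro s hs
      rw [List.mem_singleton] at hs
      subst hs
      exact ⟨p11, ⟨by norm_num, by norm_num⟩, no143, by decide +kernel⟩)
  rw [surv_fi22] at hg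
  simp only [List.mem_cons, List.not_mem_nil, or_false] at hg
  rcases hg with rfl | rfl
  · obtain ⟨f⟩ := hreal
    obtain ⟨x, hx⟩ := exists35
    obtain ⟨z, hz⟩ := exists_orderOf (N := N) ⟨f.symm x, (MulEquiv.orderOf_eq f.symm x).trans hx⟩
    exact no35_fi22 e z hz
  · have h1 := (H867.SporMI.fi22.congr e.symm).index L hr.proper
    have h2 : L.index ≤ 144 := Nat.le_of_dvd (by norm_num) (hidx.trans (by decide +kernel))
    omega

end Cfsg.Agent.H451.BG
end
end
end
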